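import Mathlib.AlgebraicGeometry.ProjectiveSpectrum.Functor
import Mathlib.AlgebraicGeometry.Morphisms.ClosedImmersion
import Mathlib.AlgebraicGeometry.Properties
import Mathlib.RingTheory.GradedAlgebra.Radical

/-!
Generalities on `Proj.map` for rings graded by arbitrary `AddSubgroupClass` families
(generalizing `Groth.Agent.H18.ProjMap` and `Groth.Agent.H22.ProjIso`, which are stated for
`Submodule`-gradings).
-/

set_option autoImplicit false
universe u

open AlgebraicGeometry HomogeneousLocalization CategoryTheory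
open scoped HomogeneousIdeal

namespace Groth.Agent.H41.ProjGen

section

variable {A B σ τ : Type u} [CommRing A] [SetLike σ A] [AddSubgroupClass σ A]
  [CommRing B] [SetLike τ B] [AddSubgroupClass τ B]
  {𝒜 : ℕ → σ} {ℬ : ℕ → τ} [GradedRing 𝒜] [GradedRing ℬ]

/-- A surjective graded ring hom is surjective on every graded piece. -/
theorem gradedRingHom_surjective_on_pieces (φ : 𝒜 →+*ᵍ ℬ) (hsurj : Function.Surjective φ)
    (i : ℕ) (b : B) (hb : b ∈ ℬ i) : ∃ a ∈ 𝒜 i, φ a = b := by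
  obtain ⟨a', rfl⟩ := hsurj b
  refine ⟨DirectSum.decompose 𝒜 a' i, Subtype.prop _, ?_⟩
  rw [GradedRingHom.map_directSumDecompose, DirectSum.decompose_of_mem_same ℬ hb]

/-- For a surjective graded ring hom, the induced maps on degree-zero localizations are
surjective. -/
theorem awayMap_surjective (φ : 𝒜 →+*ᵍ ℬ) (hsurj : Function.Surjective φ)
    {d : ℕ} {s : A} (hs : s ∈ 𝒜 d) : Function.Surjective (Away.map φ s) := by
  intro x
  obtain ⟨n, b, hb, rfl⟩ := Away.mk_surjective ℬ (Graded.map_mem φ hs) x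
  obtain ⟨a, ha, rfl⟩ := gradedRingHom_surjective_on_pieces φ hsurj _ b hb
  exact ⟨Away.mk 𝒜 hs n a ha, Away.map_mk φ s hs n a ha⟩

/-- The chart square of `Proj.map` is cartesian. -/
theorem isPullback_awayι_map (φ : 𝒜 →+*ᵍ ℬ) (hφ : ℬ₊ ≤ 𝒜₊.map φ)
    {d : ℕ} (hd : 0 < d) {s : A} (hs : s ∈ 𝒜 d) :
    IsPullback (Spec.map (CommRingCat.ofHom (Away.map φ s)))
      (Proj.awayι ℬ (φ s) (Graded.map_mem φ hs) hd)
      (Proj.awayι 𝒜 s hs hd) (Proj.map φ hφ) :=
  IsOpenImmersion.isPullback _ _ _ _ (Proj.awayι_comp_map φ hφ hd s hs)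
    (by rw [Proj.opensRange_awayι, Proj.opensRange_awayι, Proj.map_preimage_basicOpen])

/-- A property of morphisms respecting isomorphisms holds for `Proj.map` pulled back to a chart
of the target as soon as it holds for `Spec` of the map of degree-zero localizations. -/
theorem pullbackHom_affineOpenCover_of (P : MorphismProperty Scheme.{u}) [P.RespectsIso]
    (φ : 𝒜 →+*ᵍ ℬ) (hφ : ℬ₊ ≤ 𝒜₊.map φ)
    (i : (Proj.affineOpenCover 𝒜).openCover.I₀)
    (h : P (Spec.map (CommRingCat.ofHom (Away.map φ (i.2 : A))))) :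
    P ((Proj.affineOpenCover 𝒜).openCover.pullbackHom (Proj.map φ hφ) i) := by
  have hpb := (isPullback_awayι_map φ hφ i.1.2 i.2.2).flip
  change P (Limits.pullback.snd (Proj.map φ hφ) ((Proj.affineOpenCover 𝒜).openCover.f i))
  have e : hpb.isoPullback.hom ≫
      Limits.pullback.snd (Proj.map φ hφ) (Proj.awayι 𝒜 (i.2 : A) i.2.2 i.1.2) =
      Spec.map (CommRingCat.ofHom (Away.map φ (i.2 : A))) := hpb.isoPullback_hom_snd
  rw [← e] at h
  exact (P.cancel_left_of_respectsIso hpb.isoPullback.hom _).mp h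

/-- A property local at the target holds for `Proj.map φ` as soon as it holds for all
`Spec.map (Away.map φ s)`. -/
theorem projMap_of_forall_away (P : MorphismProperty Scheme.{u}) [IsZariskiLocalAtTarget P]
    (φ : 𝒜 →+*ᵍ ℬ) (hφ : ℬ₊ ≤ 𝒜₊.map φ)
    (h : ∀ (d : ℕ) (_ : 0 < d) (s : A) (_ : s ∈ 𝒜 d),
      P (Spec.map (CommRingCat.ofHom (Away.map φ s)))) :
    P (Proj.map φ hφ) := by
  rw [IsZariskiLocalAtTarget.iff_of_openCover (P := P) (Proj.affineOpenCover 𝒜).openCover]
  intro i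
  exact pullbackHom_affineOpenCover_of P φ hφ i (h _ i.1.2 _ i.2.2)

theorem mul_pow_mem_add_smul {d : ℕ} {f : A} (hf : f ∈ 𝒜 d) (n k : ℕ) (x : A)
    (hx : x ∈ 𝒜 (n • d)) : x * f ^ k ∈ 𝒜 ((n + k) • d) := by
  have := SetLike.mul_mem_graded hx (SetLike.pow_mem_graded k hf)
  rwa [show n • d + k • d = (n + k) • d by simp [add_mul]] at this

/-- `x / f^n = (x * f^k) / f^(n+k)` in the degree-zero localization. -/
theorem away_mk_eq_mk_add {d : ℕ} {f : A} (hf : f ∈ 𝒜 d) (n k : ℕ) (x : A) (hx : x ∈ 𝒜 (n • d)) :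
    Away.mk 𝒜 hf n x hx = Away.mk 𝒜 hf (n + k) (x * f ^ k) (mul_pow_mem_add_smul hf n k x hx) := by
  apply HomogeneousLocalization.val_injective
  rw [Away.val_mk, Away.val_mk, Localization.mk_eq_mk_iff, Localization.r_iff_exists]
  refine ⟨1, ?_⟩
  simp only [OneMemClass.coe_one, one_mul]
  ring

/-- A graded ring homomorphism that is bijective in degrees `≥ n₀` induces bijections on
degree-zero localizations at homogeneous elements of positive degree. -/
theorem awayMap_bijective_of_bijOn_ge (φ : 𝒜 →+*ᵍ ℬ) (n₀ : ℕ)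
    (hbij : ∀ n : ℕ, n₀ ≤ n → Set.BijOn φ (𝒜 n) (ℬ n))
    {d : ℕ} (hd : 0 < d) {s : A} (hs : s ∈ 𝒜 d) : Function.Bijective (Away.map φ s) := by
  constructor
  · rw [injective_iff_map_eq_zero]
    intro x hx
    obtain ⟨n, b, hb, rfl⟩ := Away.mk_surjective 𝒜 hs x
    rw [Away.map_mk] at hx
    have hx' := congrArg HomogeneousLocalization.val hx
    rw [Away.val_mk, HomogeneousLocalization.val_zero, Localization.mk_eq_mk',
      IsLocalization.mk'_eq_zero_iff] at hx'
    obtain ⟨⟨_, k, rfl⟩, hk⟩ := hx'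
    dsimp only at hk
    have hdeg : s ^ (k + n₀) * b ∈ 𝒜 ((k + n₀) • d + n • d) :=
      SetLike.mul_mem_graded (SetLike.pow_mem_graded _ hs) hb
    have hge : n₀ ≤ (k + n₀) • d + n • d := by
      have : n₀ * 1 ≤ (k + n₀) * d := Nat.mul_le_mul (by omega) hd
      simp only [smul_eq_mul]
      omega
    have hzero : φ (s ^ (k + n₀) * b) = φ 0 := by
      rw [map_zero, map_mul, map_pow, pow_add, mul_comm (φ s ^ k), mul_assoc, hk, mul_zero]
    have h0 := (hbij _ hge).injOn hdeg (zero_mem _) hzero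
    apply HomogeneousLocalization.val_injective
    rw [Away.val_mk, HomogeneousLocalization.val_zero, Localization.mk_eq_mk',
      IsLocalization.mk'_eq_zero_iff]
    exact ⟨⟨s ^ (k + n₀), k + n₀, rfl⟩, h0⟩
  · intro x
    obtain ⟨n, a, ha, rfl⟩ := Away.mk_surjective ℬ (Graded.map_mem φ hs) x
    have ha' := mul_pow_mem_add_smul (Graded.map_mem φ hs) n n₀ a ha
    have hge : n₀ ≤ (n + n₀) • d := by
      have : n₀ * 1 ≤ (n + n₀) * d := Nat.mul_le_mul (by omega) hd
      simp only [smul_eq_mul]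
      omega
    obtain ⟨b, hb, hba⟩ := (hbij _ hge).surjOn ha'
    refine ⟨Away.mk 𝒜 hs (n + n₀) b hb, ?_⟩
    rw [Away.map_mk, away_mk_eq_mk_add (Graded.map_mem φ hs) n n₀ a ha]
    congr 1

theorem isIso_projMap_of_bijOn_ge (φ : 𝒜 →+*ᵍ ℬ) (n₀ : ℕ)
    (hbij : ∀ n : ℕ, n₀ ≤ n → Set.BijOn φ (𝒜 n) (ℬ n)) (hφ : ℬ₊ ≤ 𝒜₊.map φ) :
    CategoryTheory.IsIso (Proj.map φ hφ) := by
  change CategoryTheory.MorphismProperty.isomorphisms Scheme.{u} (Proj.map φ hφ)
  apply projMap_of_forall_away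
  intro d hd s hs
  have hb := awayMap_bijective_of_bijOn_ge φ n₀ hbij hd hs
  have : CategoryTheory.IsIso (CommRingCat.ofHom (Away.map φ s)) := by
    rw [CategoryTheory.ConcreteCategory.isIso_iff_bijective]
    exact hb
  change CategoryTheory.IsIso (Spec.map (CommRingCat.ofHom (Away.map φ s)))
  infer_instance

theorem isClosedImmersion_projMap_of_surjective (φ : 𝒜 →+*ᵍ ℬ)
    (hsurj : Function.Surjective φ) (hφ : ℬ₊ ≤ 𝒜₊.map φ) :
    IsClosedImmersion (Proj.map φ hφ) := by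
  apply projMap_of_forall_away @IsClosedImmersion
  intro d hd s hs
  exact IsClosedImmersion.spec_of_surjective _ (awayMap_surjective φ hsurj hs)

set_option backward.isDefEq.respectTransparency false in
@[reassoc]
theorem map_toSpecZero (f : 𝒜 →+*ᵍ ℬ) (hf : ℬ₊ ≤ 𝒜₊.map f) :
    Proj.map f hf ≫ Proj.toSpecZero 𝒜 =
      Proj.toSpecZero ℬ ≫ Spec.map (CommRingCat.ofHom f.gradedZeroRingHom) := by
  refine (Proj.mapAffineOpenCover f hf).openCover.hom_ext _ _ fun s => ?_
  simp only [Scheme.AffineOpenCover.openCover_f, Proj.mapAffineOpenCover_f,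
    Proj.awayι_comp_map_assoc f hf s.1.2 _ s.2.2, Proj.awayι_toSpecZero,
    Proj.awayι_toSpecZero_assoc, ← Spec.map_comp]
  congr 1
  ext x
  simp [fromZeroRingHom, Away.map, HomogeneousLocalization.map_mk]

/-- If the ideal generated by the `f i` contains all `𝒜 n` for `n ≥ n₀`, then the `D₊(f i)` cover
`Proj 𝒜`. -/
theorem iSup_basicOpen_eq_top_of_eventually {ι : Type*} (f : ι → A) (n₀ : ℕ)
    (hf : ∀ n, n₀ ≤ n → (𝒜 n : Set A) ⊆ (Ideal.span (Set.range f) : Set A)) :
    ⨆ i, Proj.basicOpen 𝒜 (f i) = ⊤ := by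
  classical
  refine top_le_iff.mp fun x _ ↦ TopologicalSpace.Opens.mem_iSup.mpr ?_
  by_contra! H
  simp only [Proj.mem_basicOpen, Decidable.not_not] at H
  have hspan : Ideal.span (Set.range f) ≤ x.asHomogeneousIdeal.toIdeal := by
    rwa [Ideal.span_le, Set.range_subset_iff]
  refine x.not_irrelevant_le ?_
  rw [HomogeneousIdeal.irrelevant_le]
  intro k hk t ht
  have h1 : t ^ n₀ ∈ 𝒜 (n₀ • k) := SetLike.pow_mem_graded n₀ ht
  have h2 : t ^ n₀ ∈ x.asHomogeneousIdeal.toIdeal := by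
    apply hspan
    refine hf (n₀ • k) ?_ h1
    rw [smul_eq_mul]
    exact Nat.le_mul_of_pos_right _ hk
  exact x.isPrime.mem_of_pow_mem _ h2

theorem away_mk_eq_zero_iff {d : ℕ} {f : A} (hf : f ∈ 𝒜 d) (n : ℕ) (a : A)
    (ha : a ∈ 𝒜 (n • d)) :
    Away.mk 𝒜 hf n a ha = 0 ↔ ∃ m : ℕ, f ^ m * a = 0 := by
  rw [HomogeneousLocalization.ext_iff_val, Away.val_mk, val_zero, Localization.mk_eq_mk',
    IsLocalization.mk'_eq_zero_iff]
  constructor
  · rintro ⟨⟨_, m, rfl⟩, hm⟩
    exact ⟨m, hm⟩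
  · rintro ⟨m, hm⟩
    exact ⟨⟨_, m, rfl⟩, hm⟩

theorem isReduced_away (hred : ∀ f ∈ (𝒜₊).toIdeal, IsNilpotent f → f = 0)
    {d : ℕ} (hd : 0 < d) {f : A} (hf : f ∈ 𝒜 d) : IsReduced (Away 𝒜 f) := by
  constructor
  intro x hx
  obtain ⟨n, a, ha, rfl⟩ := Away.mk_surjective 𝒜 hf x
  obtain ⟨k, hk⟩ := hx
  have h1 : ∃ m : ℕ, f ^ m * a ^ k = 0 := by
    have := congrArg HomogeneousLocalization.val hk
    rw [val_pow, Away.val_mk, val_zero, Localization.mk_pow, Localization.mk_eq_mk',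
      IsLocalization.mk'_eq_zero_iff] at this
    obtain ⟨⟨_, m, rfl⟩, hm⟩ := this
    exact ⟨m, hm⟩
  obtain ⟨m, hm⟩ := h1
  have hfa : f * a = 0 := by
    apply hred
    · exact Ideal.mul_mem_right _ _ (HomogeneousIdeal.mem_irrelevant_of_mem 𝒜 hd hf)
    · refine ⟨m + k, ?_⟩
      calc (f * a) ^ (m + k) = f ^ k * a ^ m * (f ^ m * a ^ k) := by ring
        _ = 0 := by rw [hm, mul_zero]
  rw [away_mk_eq_zero_iff]
  exact ⟨1, by simpa using hfa⟩

theorem isReduced_proj (hred : ∀ f ∈ (𝒜₊).toIdeal, IsNilpotent f → f = 0) :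
    AlgebraicGeometry.IsReduced (Proj 𝒜) := by
  have : ∀ i, AlgebraicGeometry.IsReduced ((Proj.affineOpenCover 𝒜).openCover.X i) := by
    intro i
    have := isReduced_away hred i.1.2 i.2.2
    change AlgebraicGeometry.IsReduced (Spec (CommRingCat.of (Away 𝒜 (i.2 : A))))
    infer_instance
  exact IsReduced.of_openCover _ (Proj.affineOpenCover 𝒜).openCover

theorem irreducibleSpace_projectiveSpectrum [IsDomain A] (h : (𝒜₊).toIdeal ≠ ⊥) :
    IrreducibleSpace (ProjectiveSpectrum 𝒜) := by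
  let η : ProjectiveSpectrum 𝒜 := ⟨⊥, by
    rw [HomogeneousIdeal.toIdeal_bot]; exact Ideal.isPrime_bot, by
    intro hle
    apply h
    rw [eq_bot_iff]
    exact hle⟩
  rw [irreducibleSpace_def]
  have : closure ({η} : Set (ProjectiveSpectrum 𝒜)) = ⊤ := by
    rw [Set.top_eq_univ, Set.eq_univ_iff_forall]
    intro y
    rw [← ProjectiveSpectrum.le_iff_mem_closure]
    change (⊥ : HomogeneousIdeal 𝒜) ≤ y.asHomogeneousIdeal
    exact bot_le
  rw [← this]
  exact isIrreducible_singleton.closure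

/-- `Proj` of a graded domain with nonzero irrelevant ideal is irreducible. -/
theorem irreducibleSpace_proj [IsDomain A] (h : (𝒜₊).toIdeal ≠ ⊥) :
    IrreducibleSpace (Proj 𝒜) :=
  irreducibleSpace_projectiveSpectrum h

theorem nontrivial_away_of_not_isNilpotent {x : A} (hnil : ¬ IsNilpotent x) :
    Nontrivial (Away 𝒜 x) := by
  rw [← not_subsingleton_iff_nontrivial]
  intro hsub
  have h10 : (1 : Away 𝒜 x) = 0 := Subsingleton.elim _ _
  have h := congrArg HomogeneousLocalization.val h10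
  rw [HomogeneousLocalization.val_one, HomogeneousLocalization.val_zero] at h
  have : Subsingleton (Localization (Submonoid.powers x)) := subsingleton_of_zero_eq_one h.symm
  rw [IsLocalization.subsingleton_iff (M := Submonoid.powers x)] at this
  obtain ⟨m, hm⟩ := this
  exact hnil ⟨m, hm⟩

theorem basicOpen_nonempty_of_not_isNilpotent {x : A} {d : ℕ} (hx : x ∈ 𝒜 d) (hd : 0 < d)
    (hnil : ¬ IsNilpotent x) : ((Proj.basicOpen 𝒜 x : (Proj 𝒜).Opens) : Set (Proj 𝒜)).Nonempty := by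
  have := nontrivial_away_of_not_isNilpotent (𝒜 := 𝒜) hnil
  obtain ⟨z⟩ : Nonempty (Spec (CommRingCat.of (Away 𝒜 x))) := inferInstance
  rw [← Proj.opensRange_awayι 𝒜 x hx hd]
  exact ⟨_, ⟨z, rfl⟩⟩

theorem isDomain_of_irreducibleSpace_proj [IrreducibleSpace (Proj 𝒜)]
    (hred : ∀ f ∈ (𝒜₊).toIdeal, IsNilpotent f → f = 0)
    (h00 : ∀ x ∈ 𝒜 0, ∀ y ∈ 𝒜 0, x * y = 0 → x = 0 ∨ y = 0)
    (h0j : ∀ x ∈ 𝒜 0, ∀ (j : ℕ), 0 < j → ∀ y ∈ 𝒜 j, y ≠ 0 → x * y = 0 → x = 0) :
    IsDomain A := by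
  have hbot : (⊥ : Ideal A).IsPrime := by
    apply (Ideal.IsHomogeneous.bot 𝒜).isPrime_of_homogeneous_mem_or_mem
    · obtain ⟨q⟩ : Nonempty (Proj 𝒜) := inferInstance
      intro h
      have : (1 : A) ∈ (⊥ : Ideal A) := by rw [h]; trivial
      have h1 : (1 : A) = 0 := by simpa using this
      apply q.isPrime.ne_top
      rw [Ideal.eq_top_iff_one, h1]
      exact zero_mem _
    · rintro x y ⟨i, hx⟩ ⟨j, hy⟩ hxy
      rw [Ideal.mem_bot] at hxy
      simp only [Ideal.mem_bot]
      rcases Nat.eq_zero_or_pos i with rfl | hi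
      · rcases Nat.eq_zero_or_pos j with rfl | hj
        · exact h00 x hx y hy hxy
        · by_cases hy0 : y = 0
          · exact Or.inr hy0
          · exact Or.inl (h0j x hx j hj y hy hy0 hxy)
      · rcases Nat.eq_zero_or_pos j with rfl | hj
        · by_cases hx0 : x = 0
          · exact Or.inl hx0
          · exact Or.inr (h0j y hy i hi x hx hx0 (by rw [mul_comm]; exact hxy))
        · by_contra hcon
          push Not at hcon
          obtain ⟨hx0, hy0⟩ := hcon
          have hxn : ¬ IsNilpotent x := fun hn =>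
            hx0 (hred x (HomogeneousIdeal.mem_irrelevant_of_mem 𝒜 hi hx) hn)
          have hyn : ¬ IsNilpotent y := fun hn =>
            hy0 (hred y (HomogeneousIdeal.mem_irrelevant_of_mem 𝒜 hj hy) hn)
          have h1 := basicOpen_nonempty_of_not_isNilpotent hx hi hxn
          have h2 := basicOpen_nonempty_of_not_isNilpotent hy hj hyn
          have h3 := nonempty_preirreducible_inter (Proj.basicOpen 𝒜 x).isOpen
            (Proj.basicOpen 𝒜 y).isOpen h1 h2
          have h4 : Proj.basicOpen 𝒜 (x * y) = ⊥ := by rw [hxy]; exact Proj.basicOpen_zero 𝒜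
          rw [Proj.basicOpen_mul] at h4
          obtain ⟨z, hz⟩ := h3
          have : z ∈ (Proj.basicOpen 𝒜 x ⊓ Proj.basicOpen 𝒜 y : (Proj 𝒜).Opens) := hz
          rw [h4] at this
          exact this
  exact IsDomain.of_bot_isPrime A

end

section

variable {A B σ τ : Type u} [CommRing A] [SetLike σ A] [AddSubgroupClass σ A]
  [CommRing B] [SetLike τ B] [AddSubgroupClass τ B]
  {𝒜 : ℕ → σ} {ℬ : ℕ → τ} [GradedRing 𝒜] [GradedRing ℬ]

/-- For a graded ring hom surjective onto all pieces of degree `≥ n₀`, the induced maps on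
degree-zero localizations at homogeneous elements of positive degree are surjective. -/
theorem awayMap_surjective_of_surjOn_ge (φ : 𝒜 →+*ᵍ ℬ) (n₀ : ℕ)
    (hsurj : ∀ n : ℕ, n₀ ≤ n → ∀ b ∈ ℬ n, ∃ a ∈ 𝒜 n, φ a = b)
    {d : ℕ} (hd : 0 < d) {s : A} (hs : s ∈ 𝒜 d) : Function.Surjective (Away.map φ s) := by
  intro x
  obtain ⟨n, a, ha, rfl⟩ := Away.mk_surjective ℬ (Graded.map_mem φ hs) x
  have ha' := mul_pow_mem_add_smul (Graded.map_mem φ hs) n n₀ a ha
  have hge : n₀ ≤ (n + n₀) • d := by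
    have : n₀ * 1 ≤ (n + n₀) * d := Nat.mul_le_mul (by omega) hd
    simp only [smul_eq_mul]
    omega
  obtain ⟨b, hb, hba⟩ := hsurj _ hge _ ha'
  refine ⟨Away.mk 𝒜 hs (n + n₀) b hb, ?_⟩
  rw [Away.map_mk, away_mk_eq_mk_add (Graded.map_mem φ hs) n n₀ a ha]
  congr 1

theorem isClosedImmersion_projMap_of_surjOn_ge (φ : 𝒜 →+*ᵍ ℬ) (n₀ : ℕ)
    (hsurj : ∀ n : ℕ, n₀ ≤ n → ∀ b ∈ ℬ n, ∃ a ∈ 𝒜 n, φ a = b) (hφ : ℬ₊ ≤ 𝒜₊.map φ) :
    IsClosedImmersion (Proj.map φ hφ) := by
  apply projMap_of_forall_away @IsClosedImmersion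
  intro d hd s hs
  exact IsClosedImmersion.spec_of_surjective _ (awayMap_surjective_of_surjOn_ge φ n₀ hsurj hd hs)

/-- If the range of a graded ring hom contains `ℬ n`, then `ℬ n` is the image of `𝒜 n`. -/
theorem exists_mem_of_mem_range (φ : 𝒜 →+*ᵍ ℬ) {n : ℕ} {b : B} (hb : b ∈ ℬ n)
    (h : b ∈ Set.range φ) : ∃ a ∈ 𝒜 n, φ a = b := by
  obtain ⟨a', rfl⟩ := h
  refine ⟨DirectSum.decompose 𝒜 a' n, Subtype.prop _, ?_⟩
  rw [GradedRingHom.map_directSumDecompose, DirectSum.decompose_of_mem_same ℬ hb]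

end

section gen

variable {A σ : Type u} [CommRing A] [SetLike σ A] [AddSubgroupClass σ A]
  {𝒜 : ℕ → σ} [GradedRing 𝒜]

/-- In a graded ring generated by its pieces of degree `0` and `1`, every subring containing the
degree one piece contains all pieces of positive degree. -/
theorem le_subring_of_genDegOne
    (hgen : Subring.closure ((𝒜 0 : Set A) ∪ (𝒜 1 : Set A)) = ⊤)
    (R' : Subring A) (h1 : ∀ x ∈ 𝒜 1, x ∈ R') : ∀ n : ℕ, 1 ≤ n → ∀ x ∈ 𝒜 n, x ∈ R' := by
  classical
  -- `N n` : the additive subgroup of elements `y` of `R' ∩ 𝒜 n` with `𝒜 0 * y ⊆ R'`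
  let Q : ℕ → A → Prop := fun n y => ∀ c ∈ 𝒜 0, c * y ∈ R'
  have key : ∀ x : A, ∀ n : ℕ, 1 ≤ n → Q n (DirectSum.decompose 𝒜 x n : A) := by
    intro x
    have hx : x ∈ Subring.closure ((𝒜 0 : Set A) ∪ (𝒜 1 : Set A)) := by rw [hgen]; trivial
    induction hx using Subring.closure_induction with
    | mem x hx =>
      intro n hn c hc
      rcases hx with hx | hx
      · rw [DirectSum.decompose_of_mem_ne 𝒜 hx (by omega), mul_zero]; exact zero_mem _
      · by_cases hn1 : n = 1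
        · subst hn1
          rw [DirectSum.decompose_of_mem_same 𝒜 hx]
          apply h1
          have := SetLike.mul_mem_graded hc hx
          rwa [zero_add] at this
        · rw [DirectSum.decompose_of_mem_ne 𝒜 hx (Ne.symm hn1), mul_zero]; exact zero_mem _
    | zero => intro n _ c _; simp
    | one =>
      intro n hn c _
      rw [DirectSum.decompose_of_mem_ne 𝒜 (SetLike.GradedOne.one_mem) (by omega), mul_zero]
      exact zero_mem _
    | add x y _ _ hx hy =>
      intro n hn c hc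
      rw [DirectSum.decompose_add, DirectSum.add_apply, AddMemClass.coe_add, mul_add]
      exact add_mem (hx n hn c hc) (hy n hn c hc)
    | neg x _ hx =>
      intro n hn c hc
      rw [DirectSum.decompose_neg]
      have : ((-(DirectSum.decompose 𝒜 x)) n : A) = -((DirectSum.decompose 𝒜 x) n : A) := rfl
      rw [this, mul_neg]
      exact neg_mem (hx n hn c hc)
    | mul x y _ _ hx hy =>
      intro n hn c hc
      rw [DirectSum.decompose_mul, DirectSum.coe_mul_apply_eq_sum_antidiagonal, Finset.mul_sum]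
      refine Subring.sum_mem _ ?_
      rintro ⟨i, j⟩ hij
      rw [Finset.mem_antidiagonal] at hij
      simp only at hij ⊢
      have h1' : (1 : A) ∈ 𝒜 0 := SetLike.GradedOne.one_mem
      rcases Nat.eq_zero_or_pos i with rfl | hi
      · have hj : j = n := by omega
        subst hj
        rw [← mul_assoc]
        refine hy j hn _ ?_
        have := SetLike.mul_mem_graded hc (SetLike.coe_mem (DirectSum.decompose 𝒜 x 0))
        rwa [zero_add] at this
      rcases Nat.eq_zero_or_pos j with rfl | hj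
      · have hi' : i = n := by omega
        subst hi'
        rw [mul_comm ((DirectSum.decompose 𝒜 x i : A)), ← mul_assoc]
        refine hx i hn _ ?_
        have := SetLike.mul_mem_graded hc (SetLike.coe_mem (DirectSum.decompose 𝒜 y 0))
        rwa [zero_add] at this
      · rw [← mul_assoc]
        have hxi := hx i hi c hc
        have hyj := hy j hj 1 h1'
        rw [one_mul] at hyj
        exact mul_mem hxi hyj
  intro n hn x hx
  have := key x n hn 1 SetLike.GradedOne.one_mem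
  rwa [one_mul, DirectSum.decompose_of_mem_same 𝒜 hx] at this

end gen
end Groth.Agent.H41.ProjGen
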