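import Mathlib.AlgebraicGeometry.ProjectiveSpectrum.Topology
import Mathlib.RingTheory.GradedAlgebra.Homogeneous.Ideal

/-!
# Rings generated in degrees `0, 1`: a relevant prime misses some element of degree one (helper41)
-/

set_option autoImplicit false
universe u

open scoped HomogeneousIdeal

namespace Groth.Agent.H41.GenDegOne

variable {A σ : Type u} [CommRing A] [SetLike σ A] [AddSubgroupClass σ A]
  {𝒜 : ℕ → σ} [GradedRing 𝒜]
  (hgen : Subring.closure ((𝒜 0 : Set A) ∪ (𝒜 1 : Set A)) = ⊤)

include hgen in
theorem irrelevant_le_span_degOne : (𝒜₊).toIdeal ≤ Ideal.span ((𝒜 1 : Set A)) := by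
  classical
  have key : ∀ x : A, ∀ n : ℕ, 1 ≤ n → (DirectSum.decompose 𝒜 x n : A) ∈ Ideal.span ((𝒜 1 : Set A)) := by
    intro x
    have hx : x ∈ Subring.closure ((𝒜 0 : Set A) ∪ (𝒜 1 : Set A)) := by rw [hgen]; trivial
    induction hx using Subring.closure_induction with
    | mem x hx =>
      intro n hn
      rcases hx with hx | hx
      · rw [DirectSum.decompose_of_mem_ne 𝒜 hx (by omega)]; exact zero_mem _
      · by_cases h1 : n = 1
        · subst h1
          rw [DirectSum.decompose_of_mem_same 𝒜 hx]
          exact Ideal.subset_span hx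
        · rw [DirectSum.decompose_of_mem_ne 𝒜 hx (Ne.symm h1)]; exact zero_mem _
    | zero => intro n _; simp
    | one =>
      intro n hn
      rw [DirectSum.decompose_of_mem_ne 𝒜 (SetLike.GradedOne.one_mem) (by omega)]
      exact zero_mem _
    | add x y _ _ hx hy =>
      intro n hn
      rw [DirectSum.decompose_add, DirectSum.add_apply, AddMemClass.coe_add]
      exact add_mem (hx n hn) (hy n hn)
    | neg x _ hx =>
      intro n hn
      rw [DirectSum.decompose_neg]
      have : ((-(DirectSum.decompose 𝒜 x)) n : A) = -((DirectSum.decompose 𝒜 x) n : A) := rfl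
      rw [this]
      exact neg_mem (hx n hn)
    | mul x y _ _ hx hy =>
      intro n hn
      rw [DirectSum.decompose_mul, DirectSum.coe_mul_apply_eq_sum_antidiagonal]
      refine Ideal.sum_mem _ ?_
      rintro ⟨i, j⟩ hij
      rw [Finset.mem_antidiagonal] at hij
      simp only at hij ⊢
      rcases Nat.eq_zero_or_pos i with rfl | hi
      · exact Ideal.mul_mem_left _ _ (hy j (by omega))
      · exact Ideal.mul_mem_right _ _ (hx i hi)
  rw [HomogeneousIdeal.toIdeal_irrelevant_le]
  intro k hk x hx
  have := key x k hk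
  rwa [DirectSum.decompose_of_mem_same 𝒜 hx] at this

include hgen in
theorem exists_degOne_notMem (y : ProjectiveSpectrum 𝒜) :
    ∃ g : A, g ∈ 𝒜 1 ∧ g ∉ y.asHomogeneousIdeal := by
  by_contra hcon
  push Not at hcon
  apply y.not_irrelevant_le
  intro x hx
  have h1 : x ∈ Ideal.span ((𝒜 1 : Set A)) := irrelevant_le_span_degOne hgen hx
  have h2 : Ideal.span ((𝒜 1 : Set A)) ≤ y.asHomogeneousIdeal.toIdeal :=
    Ideal.span_le.mpr fun g hg => hcon g hg
  exact h2 h1

end Groth.Agent.H41.GenDegOne
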