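import Groth.Agent.H41.ProjFT
import Mathlib.RingTheory.MvPolynomial.Homogeneous
import Mathlib.AlgebraicGeometry.Morphisms.Proper

/-!
# `Proj 𝒜 → Spec R₀` is proper when `𝒜` is generated in degrees `0, 1` and `𝒜 1` is a finitely generated
`R₀`-module (helper41)

`Proj 𝒜` is a closed subscheme of a projective space over `R₀`.
-/

set_option autoImplicit false
universe u

open AlgebraicGeometry HomogeneousLocalization CategoryTheory
open scoped HomogeneousIdeal

namespace Groth.Agent.H41.ProjProper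

attribute [local instance] MvPolynomial.gradedAlgebra

variable {A σ : Type u} [CommRing A] [SetLike σ A] [AddSubgroupClass σ A]
  {𝒜 : ℕ → σ} [GradedRing 𝒜]
  {R₀ : Type u} [CommRing R₀] [Algebra R₀ A]
  (halg : ∀ r : R₀, algebraMap R₀ A r ∈ 𝒜 0)
  (T : Finset A) (hT : ∀ t ∈ T, t ∈ 𝒜 1)
  (hspan : ∀ x ∈ 𝒜 1, x ∈ Submodule.span R₀ (T : Set A))
  (hgen : Subring.closure ((𝒜 0 : Set A) ∪ (𝒜 1 : Set A)) = ⊤)

/-- the polynomial ring on `T` mapping to `A` -/
noncomputable def π : MvPolynomial T R₀ →ₐ[R₀] A := MvPolynomial.aeval (fun t : T => (t : A))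

include halg hT in
theorem π_mem {n : ℕ} {q : MvPolynomial T R₀}
    (hq : q ∈ MvPolynomial.homogeneousSubmodule T R₀ n) : π (R₀ := R₀) T q ∈ 𝒜 n := by
  classical
  rw [← MvPolynomial.support_sum_monomial_coeff q, map_sum]
  refine sum_mem fun d hd => ?_
  rw [π, MvPolynomial.aeval_monomial]
  have h1 : algebraMap R₀ A (MvPolynomial.coeff d q) ∈ 𝒜 0 := halg _
  have h2 : (d.prod fun (i : T) k => (i : A) ^ k) ∈ 𝒜 (∑ i ∈ d.support, d i • 1) :=
    SetLike.prod_pow_mem_graded 𝒜 (fun _ => 1) (fun i : T => (i : A)) (fun i => d i)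
      (fun i _ => hT i i.2)
  have h3 : ∑ i ∈ d.support, d i • 1 = n := by
    have := hq (MvPolynomial.mem_support_iff.1 hd)
    simpa [Finsupp.weight_apply, Finsupp.sum] using this
  have := SetLike.mul_mem_graded h1 h2
  rwa [zero_add, h3] at this

/-- the graded ring homomorphism from the polynomial ring -/
noncomputable def Φ : (MvPolynomial.homogeneousSubmodule T R₀) →+*ᵍ 𝒜 :=
  { (π (R₀ := R₀) T).toRingHom with map_mem := fun hq => π_mem halg T hT hq }

theorem Φ_apply (q : MvPolynomial T R₀) : Φ halg T hT q = π (R₀ := R₀) T q := rfl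

theorem le_map_one : Submodule.span R₀ (T : Set A) ≤
    Submodule.map (π (R₀ := R₀) T).toLinearMap (MvPolynomial.homogeneousSubmodule T R₀ 1) := by
  rw [Submodule.span_le]
  intro t ht
  exact ⟨MvPolynomial.X ⟨t, ht⟩, MvPolynomial.isHomogeneous_X R₀ _, by simp [π]⟩

include halg hT hspan hgen in
theorem surjOn (n : ℕ) (hn : 1 ≤ n) (x : A) (hx : x ∈ 𝒜 n) :
    ∃ q ∈ MvPolynomial.homogeneousSubmodule T R₀ n, Φ halg T hT q = x := by
  have h1 := ProjFT.mem_pow_of_mem_deg halg T hT hspan hgen n hn x hx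
  have h2 : Submodule.span R₀ (T : Set A) ^ n ≤
      Submodule.map (π (R₀ := R₀) T).toLinearMap (MvPolynomial.homogeneousSubmodule T R₀ n) := by
    rw [← MvPolynomial.homogeneousSubmodule_one_pow, Submodule.map_pow]
    exact pow_le_pow_left' (le_map_one T) n
  obtain ⟨q, hq, hqx⟩ := h2 h1
  exact ⟨q, hq, hqx⟩

include hspan hgen in
theorem irr_le : 𝒜₊ ≤ (MvPolynomial.homogeneousSubmodule T R₀)₊.map (Φ halg T hT) := by
  change (𝒜₊).toIdeal ≤ _
  rw [HomogeneousIdeal.toIdeal_irrelevant_le]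
  intro k hk x hx
  obtain ⟨q, hq, rfl⟩ := surjOn halg T hT hspan hgen k hk x hx
  exact Ideal.mem_map_of_mem _ (HomogeneousIdeal.mem_irrelevant_of_mem _ hk hq)

include hspan hgen in
theorem isClosedImmersion :
    IsClosedImmersion (Proj.map (Φ halg T hT) (irr_le halg T hT hspan hgen)) :=
  ProjGen.isClosedImmersion_projMap_of_surjOn_ge (Φ halg T hT) 1
    (fun n hn b hb => surjOn halg T hT hspan hgen n hn b hb) _

/-- the scalars in degree zero of the polynomial ring -/
noncomputable def ρ : R₀ →+* (MvPolynomial.homogeneousSubmodule T R₀ 0) :=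
  algebraMap R₀ (MvPolynomial.homogeneousSubmodule T R₀ 0)

theorem ρ_surjective : Function.Surjective (ρ (R₀ := R₀) T) := by
  rintro ⟨q, hq⟩
  rw [MvPolynomial.homogeneousSubmodule_zero, Submodule.mem_one] at hq
  obtain ⟨r, rfl⟩ := hq
  exact ⟨r, Subtype.ext rfl⟩

instance : Algebra.FiniteType (MvPolynomial.homogeneousSubmodule T R₀ 0) (MvPolynomial T R₀) := by
  have : Algebra.FiniteType R₀ (MvPolynomial T R₀) := inferInstance
  haveI : IsScalarTower R₀ (MvPolynomial.homogeneousSubmodule T R₀ 0) (MvPolynomial T R₀) :=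
    ⟨fun r x y => by
      change (r • (x : MvPolynomial T R₀)) * y = r • ((x : MvPolynomial T R₀) * y)
      rw [smul_mul_assoc]⟩
  exact Algebra.FiniteType.of_restrictScalars_finiteType R₀ _ _

include halg hT hspan hgen in
theorem isProper_toSpecZero_comp (ψ : R₀ →+* 𝒜 0) (hψ : ∀ r, (ψ r : A) = algebraMap R₀ A r) :
    IsProper (Proj.toSpecZero 𝒜 ≫ Spec.map (CommRingCat.ofHom ψ)) := by
  have hψ' : ψ = (Φ halg T hT).gradedZeroRingHom.comp (ρ (R₀ := R₀) T) := by
    ext r
    rw [hψ]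
    change _ = π (R₀ := R₀) T (algebraMap R₀ (MvPolynomial T R₀) r)
    rw [AlgHom.commutes]
  have h1 := ProjGen.map_toSpecZero (Φ halg T hT) (irr_le halg T hT hspan hgen)
  have h2 : Proj.toSpecZero 𝒜 ≫ Spec.map (CommRingCat.ofHom ψ) =
      Proj.map (Φ halg T hT) (irr_le halg T hT hspan hgen) ≫
        Proj.toSpecZero (MvPolynomial.homogeneousSubmodule T R₀) ≫
          Spec.map (CommRingCat.ofHom (ρ (R₀ := R₀) T)) := by
    rw [← Category.assoc, h1, Category.assoc, ← Spec.map_comp, hψ']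
    rfl
  rw [h2]
  haveI := isClosedImmersion halg T hT hspan hgen
  haveI : IsClosedImmersion (Spec.map (CommRingCat.ofHom (ρ (R₀ := R₀) T))) :=
    IsClosedImmersion.spec_of_surjective _ (ρ_surjective T)
  infer_instance

end Groth.Agent.H41.ProjProper
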