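import Mathlib.AlgebraicGeometry.Cover.Directed

/-!
The cover of `X` by preimages of affine opens of `Y` under `f : X ⟶ Y` is locally directed;
gluing morphisms along it.
-/

set_option autoImplicit false
universe u
open CategoryTheory CategoryTheory.Limits AlgebraicGeometry Opposite TopologicalSpace

namespace Groth.Agent.H41.Glue

variable {X Y : Scheme.{u}} (f : X ⟶ Y)

open TopologicalSpace.Opens in
/-- The open cover of `X` by the preimages of the affine opens of `Y`. -/
@[simps I₀ X f]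
noncomputable def preimageCover : X.OpenCover where
  I₀ := Y.affineOpens
  X U := (f ⁻¹ᵁ (U : Y.Opens) : X.Opens)
  f U := (f ⁻¹ᵁ (U : Y.Opens)).ι
  mem₀ := by
    rw [Scheme.presieve₀_mem_precoverage_iff]
    refine ⟨fun x ↦ ?_, inferInstance⟩
    obtain ⟨U, hU, hxU, -⟩ := isBasis_iff_nbhd.mp Y.isBasis_affineOpens (mem_top (f x))
    exact ⟨⟨U, hU⟩, by simpa using hxU⟩

instance : Preorder (preimageCover f).I₀ := inferInstanceAs <| Preorder Y.affineOpens

set_option backward.isDefEq.respectTransparency false in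
set_option backward.defeqAttrib.useBackward true in
noncomputable instance : Scheme.Cover.LocallyDirected (preimageCover f) where
  trans {U V} hUV := X.homOfLE (f.preimage_mono (leOfHom hUV))
  trans_id U := by
    rw [← cancel_mono ((preimageCover f).f U)]
    simp
  trans_comp hij hjk := by
    rw [← cancel_mono ((preimageCover f).f _)]
    simp
  w hij := by simp
  directed {U V} x := by
    let y : X := (pullback.fst ((preimageCover f).f U) ((preimageCover f).f V) ≫
      (preimageCover f).f U) x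
    have hyU : f y ∈ (U.1 : Y.Opens) := by
      have : y ∈ ((preimageCover f).f U).opensRange :=
        ⟨pullback.fst ((preimageCover f).f U) ((preimageCover f).f V) x, rfl⟩
      simpa using this
    have hyV : f y ∈ (V.1 : Y.Opens) := by
      have : y ∈ ((preimageCover f).f V).opensRange := by
        refine ⟨pullback.snd ((preimageCover f).f U) ((preimageCover f).f V) x, ?_⟩
        rw [← Scheme.Hom.comp_apply, ← pullback.condition]
      simpa using this
    obtain ⟨W, hW, hyW, hWUV⟩ := (Opens.isBasis_iff_nbhd.mp Y.isBasis_affineOpens)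
      (show f y ∈ ((U.1 : Y.Opens) ⊓ (V.1 : Y.Opens)) from ⟨hyU, hyV⟩)
    refine ⟨⟨W, hW⟩, homOfLE (hWUV.trans inf_le_left), homOfLE (hWUV.trans inf_le_right),
      ⟨y, hyW⟩, ?_⟩
    apply (pullback.fst ((preimageCover f).f U) ((preimageCover f).f V) ≫
      (preimageCover f).f U).isOpenEmbedding.injective
    rw [← Scheme.Hom.comp_apply, pullback.lift_fst_assoc]
    simp [y]
  property_trans {U V} hUV := by infer_instance

/-- Glue morphisms defined on the preimages of affine opens. -/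
noncomputable def glue {Z : Scheme.{u}} (g : ∀ U : Y.affineOpens, (f ⁻¹ᵁ (U : Y.Opens) : Scheme) ⟶ Z)
    (h : ∀ (U V : Y.affineOpens) (hUV : U ≤ V),
      X.homOfLE (f.preimage_mono hUV) ≫ g V = g U) : X ⟶ Z :=
  (preimageCover f).glueMorphismsOfLocallyDirected g (fun {U V} hUV => h U V (leOfHom hUV))

theorem ι_glue {Z : Scheme.{u}} (g : ∀ U : Y.affineOpens, (f ⁻¹ᵁ (U : Y.Opens) : Scheme) ⟶ Z)
    (h : ∀ (U V : Y.affineOpens) (hUV : U ≤ V),
      X.homOfLE (f.preimage_mono hUV) ≫ g V = g U) (U : Y.affineOpens) :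
    (f ⁻¹ᵁ (U : Y.Opens)).ι ≫ glue f g h = g U :=
  (preimageCover f).map_glueMorphismsOfLocallyDirected g
    (fun {U V} hUV => h U V (leOfHom hUV)) U

theorem hom_ext {Z : Scheme.{u}} {a b : X ⟶ Z}
    (h : ∀ U : Y.affineOpens, (f ⁻¹ᵁ (U : Y.Opens)).ι ≫ a = (f ⁻¹ᵁ (U : Y.Opens)).ι ≫ b) :
    a = b :=
  (preimageCover f).hom_ext _ _ h

/-- Two morphisms out of `f⁻¹(U)` (U affine) agree if they agree on the `f⁻¹(W)` for `W` ranging
over a family of opens `≤ U` covering `U`. -/
theorem hom_ext_of_cover {Z : Scheme.{u}} (U : Y.Opens) {ι : Type u} (W : ι → Y.Opens)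
    (hWU : ∀ i, W i ≤ U) (hcov : ∀ y ∈ U, ∃ i, y ∈ W i)
    {a b : (f ⁻¹ᵁ U : Scheme) ⟶ Z}
    (h : ∀ i, X.homOfLE (f.preimage_mono (hWU i)) ≫ a = X.homOfLE (f.preimage_mono (hWU i)) ≫ b) :
    a = b := by
  let 𝒱 : Scheme.OpenCover.{u} (f ⁻¹ᵁ U : Scheme) :=
    { I₀ := ι
      X := fun i => (f ⁻¹ᵁ (W i) : X.Opens)
      f := fun i => X.homOfLE (f.preimage_mono (hWU i))
      mem₀ := by
        rw [Scheme.presieve₀_mem_precoverage_iff]
        refine ⟨fun x ↦ ?_, inferInstance⟩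
        obtain ⟨i, hi⟩ := hcov (f x.1) x.2
        refine ⟨i, ⟨⟨x.1, hi⟩, ?_⟩⟩
        apply (f ⁻¹ᵁ U).ι.isOpenEmbedding.injective
        rw [← Scheme.Hom.comp_apply, Scheme.homOfLE_ι]
        rfl }
  exact 𝒱.hom_ext _ _ h

/-- Gluing morphisms `f⁻¹(U) ⟶ Z` (`U` affine open in `Y`) which are compatible with restriction to
basic opens. -/
theorem existsUnique_glue_of_basicOpen {Z : Scheme.{u}}
    (g : ∀ (U : Y.Opens) (_ : IsAffineOpen U), (f ⁻¹ᵁ U : Scheme) ⟶ Z)
    (hg : ∀ (U : Y.Opens) (hU : IsAffineOpen U) (r : Γ(Y, U)),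
      X.homOfLE (f.preimage_mono (Y.basicOpen_le r)) ≫ g U hU =
        g (Y.basicOpen r) (hU.basicOpen r)) :
    ∃! h : X ⟶ Z, ∀ (U : Y.Opens) (hU : IsAffineOpen U), (f ⁻¹ᵁ U).ι ≫ h = g U hU := by
  -- independence of the presentation of an open
  have hgeq : ∀ (W W' : Y.Opens) (hW : IsAffineOpen W) (hW' : IsAffineOpen W') (e : W = W'),
      g W hW = (X.isoOfEq (congrArg (fun V => f ⁻¹ᵁ V) e)).hom ≫ g W' hW' := by
    intro W W' hW hW' e
    subst e
    simp
  have key : ∀ (U V : Y.affineOpens) (hUV : U ≤ V),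
      X.homOfLE (f.preimage_mono hUV) ≫ g V V.2 = g U U.2 := by
    intro U V hUV
    -- index: pairs (r, s) with basicOpen r = basicOpen s
    let ι := {rs : Γ(Y, (U : Y.Opens)) × Γ(Y, (V : Y.Opens)) // Y.basicOpen rs.1 = Y.basicOpen rs.2}
    refine hom_ext_of_cover f (U : Y.Opens) (ι := ι) (fun i => Y.basicOpen i.1.1)
      (fun i => Y.basicOpen_le _) ?_ ?_
    · intro y hy
      obtain ⟨r, s, hrs, hyr⟩ := exists_basicOpen_le_affine_inter U.2 V.2 y ⟨hy, hUV hy⟩
      exact ⟨⟨(r, s), hrs⟩, hyr⟩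
    · rintro ⟨⟨r, s⟩, hrs⟩
      dsimp only
      rw [hg (U : Y.Opens) U.2 r, ← Category.assoc, X.homOfLE_homOfLE]
      rw [hgeq (Y.basicOpen r) (Y.basicOpen s) (U.2.basicOpen r) (V.2.basicOpen s) hrs,
        ← hg (V : Y.Opens) V.2 s, ← Category.assoc]
      congr 1
      rw [← cancel_mono (f ⁻¹ᵁ (V : Y.Opens)).ι]
      simp
  refine ⟨glue f (fun U => g U U.2) key, fun U hU => ι_glue f _ key ⟨U, hU⟩, ?_⟩
  intro h' hh'
  apply hom_ext f
  intro U
  rw [hh' U U.2, ι_glue f _ key U]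

end Groth.Agent.H41.Glue
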