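import Mathlib.Topology.Irreducible
import Mathlib.Topology.Sets.Opens

set_option autoImplicit false

namespace Groth.Agent.H41.Topo

open TopologicalSpace

/-- A space covered by a nonempty family of irreducible open subsets, such that any two members
contain a common third one, is irreducible. -/
theorem irreducibleSpace_of_directed_cover {X ι : Type*} [TopologicalSpace X] [Nonempty ι]
    (O : ι → Opens X) (hcov : ∀ x : X, ∃ i, x ∈ O i)
    (hirr : ∀ i, IsIrreducible (O i : Set X))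
    (hdir : ∀ i j, ∃ k, O k ≤ O i ⊓ O j) : IrreducibleSpace X := by
  have hpre : PreirreducibleSpace X := by
    apply PreirreducibleSpace.of_forall_nonempty_inter
    rintro u v hu hv ⟨x, hx⟩ ⟨y, hy⟩
    obtain ⟨i, hi⟩ := hcov x
    obtain ⟨j, hj⟩ := hcov y
    obtain ⟨k, hk⟩ := hdir i j
    obtain ⟨z, hz⟩ := (hirr k).nonempty
    have hki : (O k : Set X) ⊆ O i := fun w hw => (hk hw).1
    have hkj : (O k : Set X) ⊆ O j := fun w hw => (hk hw).2
    obtain ⟨z₁, -, hz₁u, hz₁k⟩ := (hirr i).isPreirreducible u (O k) hu (O k).isOpen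
      ⟨x, hi, hx⟩ ⟨z, hki hz, hz⟩
    obtain ⟨z₂, -, hz₂v, hz₂k⟩ := (hirr j).isPreirreducible v (O k) hv (O k).isOpen
      ⟨y, hj, hy⟩ ⟨z, hkj hz, hz⟩
    obtain ⟨w, -, hwu, hwv⟩ := (hirr k).isPreirreducible u v hu hv ⟨z₁, hz₁k, hz₁u⟩
      ⟨z₂, hz₂k, hz₂v⟩
    exact ⟨w, hwu, hwv⟩
  obtain ⟨i⟩ := ‹Nonempty ι›
  obtain ⟨z, -⟩ := (hirr i).nonempty
  exact { toPreirreducibleSpace := hpre, toNonempty := ⟨z⟩ }

end Groth.Agent.H41.Topo
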