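import Groth.Prelude.Def_RelProj
import Groth.Agent.H41.ProjGen
import Groth.Agent.H41.Topo
import Groth.Agent.H41.Glue
import Mathlib.AlgebraicGeometry.Morphisms.UnderlyingMap

/-!
Basic API for the relative `Proj` predicate `RelProj.IsRelProj` and `RelProj.IsRelProjMap`.
-/

set_option autoImplicit false
universe u
open CategoryTheory CategoryTheory.Limits AlgebraicGeometry Opposite TopologicalSpace
  HomogeneousLocalization
open scoped HomogeneousIdeal

namespace Groth.Agent.H41.RelProj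

open Groth.Agent.H41.ProjGen

section single

variable {Y P : Scheme.{u}} (𝒮 : RelProj.QCGrAlg Y) (p : P ⟶ Y)
    (chart : ∀ (U : Y.Opens) (hU : IsAffineOpen U),
      (((p ⁻¹ᵁ U : P.Opens) : Scheme.{u}) ≅ Proj (𝒮.deg U hU)))
    (hP : RelProj.IsRelProj 𝒮 p chart)

include hP in
theorem restrict_eq (U : Y.Opens) (hU : IsAffineOpen U) :
    p ∣_ U =
      (chart U hU).hom ≫ Proj.toSpecZero (𝒮.deg U hU) ≫ Spec.map (𝒮.strZero U hU) ≫
        hU.isoSpec.inv := by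
  have h1 := hP.chart_over U hU
  have h2 : p ∣_ U ≫ U.ι = (p ⁻¹ᵁ U).ι ≫ p := morphismRestrict_ι p U
  have h3 : hU.fromSpec = hU.isoSpec.inv ≫ U.ι := by
    simp [IsAffineOpen.isoSpec_inv_ι]
  rw [← cancel_mono U.ι, h2, ← h1, h3]
  simp only [Category.assoc]

include hP in
/-- A property local at the target holds for `p` iff it holds chartwise for
`Proj 𝒮(U) ⟶ Spec 𝒮(U)₀ ⟶ Spec O(U)`. -/
theorem relProj_iff (Q : MorphismProperty Scheme.{u}) [IsZariskiLocalAtTarget Q] :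
    Q p ↔ ∀ (U : Y.Opens) (hU : IsAffineOpen U),
      Q (Proj.toSpecZero (𝒮.deg U hU) ≫ Spec.map (𝒮.strZero U hU)) := by
  rw [IsZariskiLocalAtTarget.iff_of_iSup_eq_top (P := Q)
      (fun i : Y.affineOpens => (i : Y.Opens)) (iSup_affineOpens_eq_top Y)]
  have key : ∀ (U : Y.Opens) (hU : IsAffineOpen U), Q (p ∣_ U) ↔
      Q (Proj.toSpecZero (𝒮.deg U hU) ≫ Spec.map (𝒮.strZero U hU)) := by
    intro U hU
    rw [restrict_eq 𝒮 p chart hP U hU, Q.cancel_left_of_respectsIso, ← Category.assoc,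
      Q.cancel_right_of_respectsIso]
  exact ⟨fun H U hU => (key U hU).1 (H ⟨U, hU⟩), fun H U => (key U U.2).2 (H U U.2)⟩

/-- The open cover of `P` by the preimages of the affine opens of `Y`. -/
noncomputable def chartCover : P.OpenCover :=
  P.openCoverOfIsOpenCover (fun U : Y.affineOpens => p ⁻¹ᵁ (U : Y.Opens)) (by
    apply IsOpenCover.mk
    rw [← Scheme.Hom.preimage_iSup, iSup_affineOpens_eq_top, Scheme.Hom.preimage_top])

omit hP in
include chart in
theorem isReduced_of_forall_chart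
    (h : ∀ (U : Y.Opens) (hU : IsAffineOpen U), IsReduced (Proj (𝒮.deg U hU))) : IsReduced P := by
  have : ∀ i, IsReduced ((chartCover p).X i) := by
    intro (U : Y.affineOpens)
    have := h U U.2
    exact isReduced_of_isOpenImmersion (chart U U.2).hom
  exact IsReduced.of_openCover _ (chartCover p)

omit hP in
include chart in
theorem isReduced_of_forall_chart'
    (h : ∀ (U : Y.Opens) (hU : IsAffineOpen U), (U : Set Y).Nonempty →
      IsReduced (Proj (𝒮.deg U hU))) : IsReduced P := by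
  let ι := {U : Y.affineOpens // ((U : Y.Opens) : Set Y).Nonempty}
  have hcov : IsOpenCover (fun U : ι => p ⁻¹ᵁ ((U : Y.affineOpens) : Y.Opens)) := by
    apply IsOpenCover.mk
    rw [eq_top_iff]
    intro x _
    obtain ⟨U, hU, hyU, -⟩ := (Opens.isBasis_iff_nbhd.mp Y.isBasis_affineOpens)
      (show p.base x ∈ (⊤ : Y.Opens) from trivial)
    exact Opens.mem_iSup.2 ⟨⟨⟨U, hU⟩, ⟨_, hyU⟩⟩, hyU⟩
  have : ∀ i, IsReduced ((P.openCoverOfIsOpenCover _ hcov).X i) := by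
    rintro ⟨⟨U, hU⟩, hne⟩
    have := h U hU hne
    exact isReduced_of_isOpenImmersion (chart U hU).hom
  exact IsReduced.of_openCover _ (P.openCoverOfIsOpenCover _ hcov)

omit hP in
include chart in
theorem isIrreducible_preimage (U : Y.Opens) (hU : IsAffineOpen U)
    [IrreducibleSpace (Proj (𝒮.deg U hU))] :
    IsIrreducible ((p ⁻¹ᵁ U : P.Opens) : Set P) := by
  have h1 : IsIrreducible (Set.univ : Set (Proj (𝒮.deg U hU))) :=
    IrreducibleSpace.isIrreducible_univ _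
  have h2 := h1.image ((chart U hU).inv ≫ (p ⁻¹ᵁ U).ι).base
    (Scheme.Hom.continuous _).continuousOn
  rw [Set.image_univ] at h2
  have h3 : ((chart U hU).inv ≫ (p ⁻¹ᵁ U).ι).opensRange = p ⁻¹ᵁ U :=
    (Scheme.Hom.opensRange_comp_of_isIso _ _).trans (p ⁻¹ᵁ U).opensRange_ι
  rw [← h3]
  exact h2

omit hP in
include chart in
/-- If `Y` is irreducible and all `Proj 𝒮(U)` over nonempty affine opens are irreducible, then `P` is
irreducible. -/
theorem irreducibleSpace_of_forall_chart [IrreducibleSpace Y]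
    (h : ∀ (U : Y.Opens) (hU : IsAffineOpen U), (U : Set Y).Nonempty →
      IrreducibleSpace (Proj (𝒮.deg U hU))) : IrreducibleSpace P := by
  let ι := {U : Y.affineOpens // ((U : Y.Opens) : Set Y).Nonempty}
  have hne : Nonempty ι := by
    obtain ⟨y⟩ := (inferInstance : Nonempty Y)
    obtain ⟨U, hU, hyU, -⟩ := (Opens.isBasis_iff_nbhd.mp Y.isBasis_affineOpens)
      (show y ∈ (⊤ : Y.Opens) from trivial)
    exact ⟨⟨⟨U, hU⟩, ⟨y, hyU⟩⟩⟩
  refine Topo.irreducibleSpace_of_directed_cover (ι := ι)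
    (fun U => p ⁻¹ᵁ ((U : Y.affineOpens) : Y.Opens)) ?_ ?_ ?_
  · intro x
    obtain ⟨U, hU, hyU, -⟩ := (Opens.isBasis_iff_nbhd.mp Y.isBasis_affineOpens)
      (show p.base x ∈ (⊤ : Y.Opens) from trivial)
    exact ⟨⟨⟨U, hU⟩, ⟨_, hyU⟩⟩, hyU⟩
  · rintro ⟨⟨U, hU⟩, hne⟩
    have := h U hU hne
    exact isIrreducible_preimage 𝒮 p chart U hU
  · rintro ⟨⟨U, hU⟩, hneU⟩ ⟨⟨V, hV⟩, hneV⟩
    obtain ⟨y, hyU, hyV⟩ := nonempty_preirreducible_inter U.isOpen V.isOpen hneU hneV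
    obtain ⟨W, hW, hyW, hWUV⟩ := (Opens.isBasis_iff_nbhd.mp Y.isBasis_affineOpens)
      (show y ∈ (U ⊓ V : Y.Opens) from ⟨hyU, hyV⟩)
    refine ⟨⟨⟨W, hW⟩, ⟨y, hyW⟩⟩, ?_⟩
    intro x hx
    exact ⟨(hWUV hx).1, (hWUV hx).2⟩

omit hP in
include chart in
/-- If all `Proj 𝒮(U)` over nonempty affine opens are nonempty, `p` is dominant. -/
theorem denseRange_of_forall_chart
    (h : ∀ (U : Y.Opens) (hU : IsAffineOpen U), (U : Set Y).Nonempty →
      Nonempty (Proj (𝒮.deg U hU))) : DenseRange p.base := by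
  rw [DenseRange, dense_iff_inter_open]
  rintro V hV ⟨y, hy⟩
  obtain ⟨U, hU, hyU, hUV⟩ := (Opens.isBasis_iff_nbhd.mp Y.isBasis_affineOpens)
    (show y ∈ (⟨V, hV⟩ : Y.Opens) from hy)
  obtain ⟨z⟩ := h U hU ⟨y, hyU⟩
  let x : (p ⁻¹ᵁ U : P.Opens) := (chart U hU).inv.base z
  exact ⟨p.base x.1, hUV x.2, ⟨x.1, rfl⟩⟩

include hP in
theorem awayι_chart_comp (U : Y.Opens) (hU : IsAffineOpen U) {j : ℕ} (hj : 0 < j)
    {y : 𝒮.presheaf.obj (op U)} (hy : y ∈ 𝒮.deg U hU j) :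
    Proj.awayι (𝒮.deg U hU) y hy hj ≫ (chart U hU).inv ≫ (p ⁻¹ᵁ U).ι ≫ p =
      Spec.map (𝒮.strZero U hU ≫
        CommRingCat.ofHom (fromZeroRingHom (𝒮.deg U hU) (Submonoid.powers y))) ≫ hU.fromSpec := by
  have h1 : (chart U hU).inv ≫ (p ⁻¹ᵁ U).ι ≫ p =
      Proj.toSpecZero (𝒮.deg U hU) ≫ Spec.map (𝒮.strZero U hU) ≫ hU.fromSpec := by
    rw [Iso.inv_comp_eq]; exact (hP.chart_over U hU).symm
  rw [h1, Proj.awayι_toSpecZero_assoc, ← Spec.map_comp_assoc]

include hP in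
theorem strZero_away_injective [IsIntegral P] [IsIntegral Y] (hdom : DenseRange p.base)
    (U : Y.Opens) (hU : IsAffineOpen U) (hne : (U : Set Y).Nonempty) {j : ℕ} (hj : 0 < j)
    {y : 𝒮.presheaf.obj (op U)} (hy : y ∈ 𝒮.deg U hU j) (hnil : ¬ IsNilpotent y) :
    Function.Injective ((fromZeroRingHom (𝒮.deg U hU) (Submonoid.powers y)).comp
      (𝒮.strZero U hU).hom) := by
  have hneP : ((p ⁻¹ᵁ U : P.Opens) : Set P).Nonempty := by
    obtain ⟨_, hyU, ⟨x, rfl⟩⟩ := hdom.inter_open_nonempty U U.isOpen hne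
    exact ⟨x, hyU⟩
  have : Nonempty (Proj (𝒮.deg U hU)) := by
    obtain ⟨x, hx⟩ := hneP
    exact ⟨(chart U hU).hom.base ⟨x, hx⟩⟩
  have : IsIntegral (Proj (𝒮.deg U hU)) :=
    isIntegral_of_isOpenImmersion ((chart U hU).inv ≫ (p ⁻¹ᵁ U).ι)
  have := nontrivial_away_of_not_isNilpotent (𝒜 := 𝒮.deg U hU) hnil
  have : IsDominant (Proj.awayι (𝒮.deg U hU) y hy hj) :=
    ⟨IsOpenMap.denseRange_of_isPreirreducibleSpace _
      (Proj.awayι (𝒮.deg U hU) y hy hj).isOpenEmbedding.isOpenMap⟩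
  have : IsDominant (p ⁻¹ᵁ U).ι :=
    Opens.isDominant_ι ((p ⁻¹ᵁ U).isOpen.dense hneP)
  have : IsDominant p := ⟨hdom⟩
  have hdomg : IsDominant (Spec.map (𝒮.strZero U hU ≫
        CommRingCat.ofHom (fromZeroRingHom (𝒮.deg U hU) (Submonoid.powers y))) ≫ hU.fromSpec) := by
    rw [← awayι_chart_comp 𝒮 p chart hP U hU hj hy]
    infer_instance
  have hdomg' := IsDominant.of_comp_of_isOpenImmersion _ hU.fromSpec (H := hdomg)
  have hdr := hdomg'.denseRange
  have : Nonempty U := hne.to_subtype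
  have hker := (PrimeSpectrum.denseRange_comap_iff_ker_le_nilRadical
    ((fromZeroRingHom (𝒮.deg U hU) (Submonoid.powers y)).comp (𝒮.strZero U hU).hom)).1 hdr
  rw [RingHom.injective_iff_ker_eq_bot, eq_bot_iff]
  refine hker.trans ?_
  rw [nilradical_eq_zero, Ideal.zero_eq_bot]

end single

section rel

variable {Y : Scheme.{u}} {𝒜 ℬ : RelProj.QCGrAlg Y} (φ : 𝒜.toQCAlg ⟶ ℬ.toQCAlg)
  (hφ : RelProj.IsGradedHom φ)
  (hirr : ∀ (U : Y.Opens) (hU : IsAffineOpen U),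
      (ℬ.deg U hU)₊ ≤ ((𝒜.deg U hU)₊).map (RelProj.gradedHomAt φ hφ U hU))
  {PA PB : Scheme.{u}} {pA : PA ⟶ Y} {pB : PB ⟶ Y}
  (chartA : ∀ (U : Y.Opens) (hU : IsAffineOpen U),
    (((pA ⁻¹ᵁ U : PA.Opens) : Scheme.{u}) ≅ Proj (𝒜.deg U hU)))
  (chartB : ∀ (U : Y.Opens) (hU : IsAffineOpen U),
    (((pB ⁻¹ᵁ U : PB.Opens) : Scheme.{u}) ≅ Proj (ℬ.deg U hU)))
  (hA : RelProj.IsRelProj 𝒜 pA chartA) (hB : RelProj.IsRelProj ℬ pB chartB)
  (h : PB ⟶ PA) (hh : RelProj.IsRelProjMap φ hφ hirr chartA chartB h)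

include hA hB hh in
/-- The morphism of relative `Proj`s induced by a graded homomorphism is a morphism over the
base. -/
theorem relProjMap_comp : h ≫ pA = pB := by
  have key : ∀ (U : Y.Opens) (hU : IsAffineOpen U),
      (pB ⁻¹ᵁ U).ι ≫ h ≫ pA = (pB ⁻¹ᵁ U).ι ≫ pB := by
    intro U hU
    rw [← Category.assoc, hh U hU, Category.assoc, Category.assoc, Category.assoc,
      ← hA.chart_over U hU, Iso.inv_hom_id_assoc, ← hB.chart_over U hU, map_toSpecZero_assoc,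
      ← Spec.map_comp_assoc]
    congr 4
    ext r
    have := congrArg (fun f => (f.app (op (U : Y.Opens))).hom r) φ.comm
    exact this
  have hcov : IsOpenCover (fun U : Y.affineOpens => pB ⁻¹ᵁ (U : Y.Opens)) := by
    apply IsOpenCover.mk
    rw [← Scheme.Hom.preimage_iSup, iSup_affineOpens_eq_top, Scheme.Hom.preimage_top]
  refine (PB.openCoverOfIsOpenCover _ hcov).hom_ext _ _ fun (U : Y.affineOpens) => ?_
  exact key U U.2

include hA hB hh in
theorem relProjMap_preimage (U : Y.Opens) : h ⁻¹ᵁ (pA ⁻¹ᵁ U) = pB ⁻¹ᵁ U := by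
  rw [← Scheme.Hom.comp_preimage, relProjMap_comp φ hφ hirr chartA chartB hA hB h hh]

include hA hB hh in
theorem relProjMap_restrict (U : Y.Opens) (hU : IsAffineOpen U) :
    h ∣_ (pA ⁻¹ᵁ U) =
      (PB.isoOfEq (relProjMap_preimage φ hφ hirr chartA chartB hA hB h hh U)).hom ≫
        (chartB U hU).hom ≫ Proj.map (RelProj.gradedHomAt φ hφ U hU) (hirr U hU) ≫
          (chartA U hU).inv := by
  rw [← cancel_mono (pA ⁻¹ᵁ U).ι, morphismRestrict_ι]
  simp only [Category.assoc]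
  rw [← hh U hU, Scheme.isoOfEq_hom_ι_assoc]

include hA hB hh in
/-- A property local at the target holds for the induced morphism of relative `Proj`s iff it
holds for `Proj.map` of `φ(U)` over all affine opens `U`. -/
theorem relProjMap_iff (P : MorphismProperty Scheme.{u}) [IsZariskiLocalAtTarget P] :
    P h ↔ ∀ (U : Y.Opens) (hU : IsAffineOpen U),
      P (Proj.map (RelProj.gradedHomAt φ hφ U hU) (hirr U hU)) := by
  have hcov : ⨆ U : Y.affineOpens, pA ⁻¹ᵁ (U : Y.Opens) = ⊤ := by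
    rw [← Scheme.Hom.preimage_iSup, iSup_affineOpens_eq_top, Scheme.Hom.preimage_top]
  rw [IsZariskiLocalAtTarget.iff_of_iSup_eq_top (P := P) _ hcov]
  have key : ∀ (U : Y.Opens) (hU : IsAffineOpen U), P (h ∣_ (pA ⁻¹ᵁ U)) ↔
      P (Proj.map (RelProj.gradedHomAt φ hφ U hU) (hirr U hU)) := by
    intro U hU
    rw [relProjMap_restrict φ hφ hirr chartA chartB hA hB h hh U hU,
      P.cancel_left_of_respectsIso, P.cancel_left_of_respectsIso,
      P.cancel_right_of_respectsIso]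
  constructor
  · intro H U hU
    exact (key U hU).1 (H ⟨U, hU⟩)
  · intro H U
    exact (key U U.2).2 (H U U.2)

theorem projMap_congr {A B σ τ : Type u} [CommRing A] [SetLike σ A] [AddSubgroupClass σ A]
    [CommRing B] [SetLike τ B] [AddSubgroupClass τ B]
    {𝒜 : ℕ → σ} {ℬ : ℕ → τ} [GradedRing 𝒜] [GradedRing ℬ]
    {f f' : 𝒜 →+*ᵍ ℬ} (e : f = f') (hf : ℬ₊ ≤ 𝒜₊.map f) (hf' : ℬ₊ ≤ 𝒜₊.map f') :
    Proj.map f hf = Proj.map f' hf' := by
  subst e; rfl

include hA hB in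
theorem existsUnique_relProjMap :
    ∃! h : PB ⟶ PA, RelProj.IsRelProjMap φ hφ hirr chartA chartB h := by
  apply Glue.existsUnique_glue_of_basicOpen pB
    (fun U hU => (chartB U hU).hom ≫ Proj.map (RelProj.gradedHomAt φ hφ U hU) (hirr U hU) ≫
      (chartA U hU).inv ≫ (pA ⁻¹ᵁ U).ι)
  intro U hU r
  have hW := hU.basicOpen r
  have hcomm : (ℬ.res hU hW (Y.basicOpen_le r)).comp (RelProj.gradedHomAt φ hφ U hU) =
      (RelProj.gradedHomAt φ hφ (Y.basicOpen r) hW).comp (𝒜.res hU hW (Y.basicOpen_le r)) := by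
    ext x
    have := congrArg (fun f => f.hom x) (φ.hom.naturality (homOfLE (Y.basicOpen_le r)).op)
    exact this.symm
  have h1 : Proj.map (ℬ.res hU hW (Y.basicOpen_le r)) (ℬ.irrelevant_le_map U hU r) ≫
      Proj.map (RelProj.gradedHomAt φ hφ U hU) (hirr U hU) =
      Proj.map (RelProj.gradedHomAt φ hφ (Y.basicOpen r) hW) (hirr _ hW) ≫
        Proj.map (𝒜.res hU hW (Y.basicOpen_le r)) (𝒜.irrelevant_le_map U hU r) := by
    rw [← Proj.map_comp, ← Proj.map_comp]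
    exact projMap_congr hcomm _ _
  have h2 : Proj.map (𝒜.res hU hW (Y.basicOpen_le r)) (𝒜.irrelevant_le_map U hU r) ≫
      (chartA U hU).inv = (chartA (Y.basicOpen r) hW).inv ≫
        PA.homOfLE (pA.preimage_mono (Y.basicOpen_le r)) := by
    rw [Iso.eq_inv_comp, ← Category.assoc, Iso.comp_inv_eq]
    exact (hA.chart_res U hU r).symm
  rw [← Category.assoc, hB.chart_res U hU r, Category.assoc, reassoc_of% h1, reassoc_of% h2,
    Scheme.homOfLE_ι]

end rel

section uniq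

variable {Y P P' : Scheme.{u}} (𝒮 : RelProj.QCGrAlg Y) (p : P ⟶ Y)
    (chart : ∀ (U : Y.Opens) (hU : IsAffineOpen U),
      (((p ⁻¹ᵁ U : P.Opens) : Scheme.{u}) ≅ Proj (𝒮.deg U hU)))
    (hP : RelProj.IsRelProj 𝒮 p chart) (p' : P' ⟶ Y)
    (chart' : ∀ (U : Y.Opens) (hU : IsAffineOpen U),
      (((p' ⁻¹ᵁ U : P'.Opens) : Scheme.{u}) ≅ Proj (𝒮.deg U hU)))
    (hP' : RelProj.IsRelProj 𝒮 p' chart')

include hP hP' in
theorem existsUnique_chartMap :
    ∃! e : P ⟶ P', ∀ (U : Y.Opens) (hU : IsAffineOpen U),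
        (p ⁻¹ᵁ U).ι ≫ e = (chart U hU).hom ≫ (chart' U hU).inv ≫ (p' ⁻¹ᵁ U).ι := by
  apply Glue.existsUnique_glue_of_basicOpen p
    (fun U hU => (chart U hU).hom ≫ (chart' U hU).inv ≫ (p' ⁻¹ᵁ U).ι)
  intro U hU r
  have hW := hU.basicOpen r
  have h2 : Proj.map (𝒮.res hU hW (Y.basicOpen_le r)) (𝒮.irrelevant_le_map U hU r) ≫
      (chart' U hU).inv = (chart' (Y.basicOpen r) hW).inv ≫
        P'.homOfLE (p'.preimage_mono (Y.basicOpen_le r)) := by
    rw [Iso.eq_inv_comp, ← Category.assoc, Iso.comp_inv_eq]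
    exact (hP'.chart_res U hU r).symm
  rw [← Category.assoc, hP.chart_res U hU r, Category.assoc, reassoc_of% h2, Scheme.homOfLE_ι]

include hP hP' in
theorem chartMap_isIso_and_comp (e : P ⟶ P')
    (he : ∀ (U : Y.Opens) (hU : IsAffineOpen U),
        (p ⁻¹ᵁ U).ι ≫ e = (chart U hU).hom ≫ (chart' U hU).inv ≫ (p' ⁻¹ᵁ U).ι) :
    IsIso e ∧ e ≫ p' = p := by
  obtain ⟨e', he', -⟩ := existsUnique_chartMap 𝒮 p' chart' hP' p chart hP
  have h1 : e ≫ e' = 𝟙 P := by
    apply Glue.hom_ext p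
    intro U
    rw [← Category.assoc, he U U.2, Category.assoc, Category.assoc, he' U U.2]
    simp
  have h2 : e' ≫ e = 𝟙 P' := by
    apply Glue.hom_ext p'
    intro U
    rw [← Category.assoc, he' U U.2, Category.assoc, Category.assoc, he U U.2]
    simp
  refine ⟨⟨e', h1, h2⟩, ?_⟩
  apply Glue.hom_ext p
  intro U
  rw [← Category.assoc, he U U.2, Category.assoc, Category.assoc, ← hP'.chart_over U U.2,
    Iso.inv_hom_id_assoc, hP.chart_over U U.2]

end uniq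
end Groth.Agent.H41.RelProj
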