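import Groth.Agent.H41.RelTwistTriv

/-!
# The restriction of `O_P(n)` to a chart is the pullback of `O(n)` along the chart isomorphism (helper41)
-/

set_option autoImplicit false
universe u

open CategoryTheory AlgebraicGeometry TopologicalSpace Opposite

namespace Groth.Agent.H41.RelTwistChartIso

open Groth.Agent.H41.RelTwistTriv Scheme.Modules

variable {Y P : Scheme.{u}} (𝒮 : RelProj.QCGrAlg Y) (p : P ⟶ Y)
  (chart : ∀ (U : Y.Opens) (hU : IsAffineOpen U),
    (((p ⁻¹ᵁ U : P.Opens) : Scheme.{u}) ≅ Proj (𝒮.deg U hU)))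
  (n : ℤ) (L : P.Modules)
  (lam : ∀ (U : Y.Opens) (hU : IsAffineOpen U),
    L ⟶ (Scheme.Modules.pushforward (RelProj.emb p chart U hU)).obj (GrTwist.twist (𝒮.deg U hU) n))
  (hL : RelProj.IsRelTwist 𝒮 p chart n L lam) (U : Y.Opens) (hU : IsAffineOpen U)

include hL in
/-- the restriction of `O_P(n)` along the chart immersion is `O(n)` -/
theorem nonempty_restrict_emb_iso :
    Nonempty (L.restrict (RelProj.emb p chart U hU) ≅ GrTwist.twist (𝒮.deg U hU) n) := by
  have h1 : IsIso ((restrictFunctor (RelProj.emb p chart U hU)).map (lam U hU)) := by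
    rw [Scheme.Modules.Hom.isIso_iff_isIso_app]
    intro W'
    rw [ConcreteCategory.isIso_iff_bijective]
    have hle : (RelProj.emb p chart U hU) ''ᵁ W' ≤ p ⁻¹ᵁ U := by
      rw [← opensRange_emb 𝒮 p chart U hU]
      exact Scheme.Hom.image_le_opensRange _ _
    exact hL.bijective U hU _ hle
  exact ⟨asIso ((restrictFunctor (RelProj.emb p chart U hU)).map (lam U hU)) ≪≫
    asIso ((restrictAdjunction (RelProj.emb p chart U hU)).counit.app (GrTwist.twist (𝒮.deg U hU) n))⟩

include hL in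
/-- the restriction of `O_P(n)` to `p⁻¹(U)` is the pullback of `O(n)` along the chart isomorphism -/
theorem nonempty_restrict_iso_pullback_chart :
    Nonempty (L.restrict (p ⁻¹ᵁ U).ι ≅
      (Scheme.Modules.pullback (chart U hU).hom).obj (GrTwist.twist (𝒮.deg U hU) n)) := by
  obtain ⟨e⟩ := nonempty_restrict_emb_iso 𝒮 p chart n L lam hL U hU
  set c := chart U hU with hc
  set N := L.restrict (p ⁻¹ᵁ U).ι with hN
  -- `N.restrict c.inv ≅ O(n)`
  have e1 : N.restrict c.inv ≅ GrTwist.twist (𝒮.deg U hU) n :=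
    ((restrictFunctorComp c.inv (p ⁻¹ᵁ U).ι).app L).symm ≪≫ e
  -- `N ≅ c.hom^* c.inv^* N`
  have e2 : N ≅ (Scheme.Modules.pullback c.hom).obj ((Scheme.Modules.pullback c.inv).obj N) :=
    ((pullbackId _).app N).symm ≪≫ ((pullbackCongr c.hom_inv_id).app N).symm ≪≫
      ((pullbackComp c.hom c.inv).app N).symm
  exact ⟨e2 ≪≫ (Scheme.Modules.pullback c.hom).mapIso
    (((restrictFunctorIsoPullback c.inv).app N).symm ≪≫ e1)⟩

end Groth.Agent.H41.RelTwistChartIso
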