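import Groth.Agent.H41.GrTwistTriv
import Groth.Agent.H18.STL.Basic

/-!
# The comparison of twisting sheaves along a degree-zero localization is bijective on sections (helper41)

For `ψ : 𝒜 → ℬ` exhibiting `ℬ` as the localization of `𝒜` away from a degree-zero element `c`, the canonical map
`GrTwist.comap ψ : O_{Proj 𝒜}(n) ⟶ (Proj.map ψ)_* O_{Proj ℬ}(n)` is bijective on sections over every open contained in the
image of `Proj ℬ`.
-/

set_option autoImplicit false
set_option linter.style.haveILetI false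
set_option linter.unusedSectionVars false
universe u

open CategoryTheory CategoryTheory.Limits AlgebraicGeometry TopologicalSpace Opposite
open scoped HomogeneousIdeal

namespace Groth.Agent.H41.GrTwistLoc

open Groth.Agent.H18 Groth.Agent.H41.GrTwistTriv

variable {A σ : Type u} [CommRing A] [SetLike σ A] [AddSubgroupClass σ A] {𝒜 : ℕ → σ} [GradedRing 𝒜]
variable {B τ : Type u} [CommRing B] [SetLike τ B] [AddSubgroupClass τ B] {ℬ : ℕ → τ} [GradedRing ℬ]
variable (ψ : 𝒜 →+*ᵍ ℬ) (hψ : ℬ₊ ≤ (𝒜₊).map ψ) (c : A) (hc : c ∈ 𝒜 0)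
  (hloc : @IsLocalization.Away A _ c B _ ψ.toRingHom.toAlgebra)

include hloc in
theorem isUnit_map : IsUnit (ψ c) := by
  letI := ψ.toRingHom.toAlgebra
  exact IsLocalization.Away.algebraMap_isUnit (S := B) c

include hloc in
theorem map_notMem (y : ProjectiveSpectrum ℬ) (k : ℕ) : ψ c ^ k ∉ y.asHomogeneousIdeal := fun h =>
  y.isPrime.ne_top (Ideal.eq_top_of_isUnit_mem _ h ((isUnit_map ψ c hloc).pow k))

include hloc in
theorem exists_lift (b : B) : ∃ (a : A) (k : ℕ), b * ψ c ^ k = ψ a := by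
  letI := ψ.toRingHom.toAlgebra
  obtain ⟨⟨x, s, hs⟩, hxs⟩ := IsLocalization.surj (Submonoid.powers c) b
  obtain ⟨k, rfl⟩ := (Submonoid.mem_powers_iff _ _).mp hs
  refine ⟨x, k, ?_⟩
  have : b * ψ (c ^ k) = ψ x := hxs
  rwa [map_pow] at this

include hloc hc in
theorem exists_lift_homogeneous {i : ℕ} {b : B} (hb : b ∈ ℬ i) :
    ∃ (a : A) (k : ℕ), a ∈ 𝒜 i ∧ b * ψ c ^ k = ψ a := by
  classical
  obtain ⟨x, k, hx⟩ := exists_lift ψ c hloc b
  have hc0 : ψ c ^ k ∈ ℬ 0 := SetLike.pow_mem_graded k (ψ.map_mem hc)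
  have hbi : b * ψ c ^ k ∈ ℬ i := by
    simpa only [add_zero] using SetLike.mul_mem_graded (A := ℬ) hb hc0
  refine ⟨(DirectSum.decompose 𝒜 x i : A), k, SetLike.coe_mem _, ?_⟩
  rw [GradedRingHom.map_directSumDecompose, ← hx, DirectSum.decompose_of_mem_same _ hbi]

include hloc in
theorem map_eq_zero {a : A} (h : ψ a = 0) : ∃ m : ℕ, c ^ m * a = 0 := by
  letI := ψ.toRingHom.toAlgebra
  have h' : algebraMap A B a = algebraMap A B 0 := by
    rw [map_zero]; exact h
  obtain ⟨⟨_, m, rfl⟩, hm⟩ := (IsLocalization.eq_iff_exists (Submonoid.powers c) B).mp h'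
  exact ⟨m, by simpa using hm⟩

include hloc in
/-- the map of localizations `A_x → B_y` is injective -/
theorem locMap_injective (y : ProjectiveSpectrum ℬ) : Function.Injective (GrTwist.locMap ψ hψ y) := by
  rw [injective_iff_map_eq_zero]
  intro q hq
  induction q using Localization.induction_on with
  | H as =>
    obtain ⟨a, s⟩ := as
    rw [GrTwist.locMap_mk, Localization.mk_eq_mk', IsLocalization.mk'_eq_zero_iff] at hq
    obtain ⟨⟨t, ht⟩, hta⟩ := hq
    obtain ⟨t', k, ht'⟩ := exists_lift ψ c hloc t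
    have h1 : ψ (t' * a) = 0 := by
      rw [map_mul, ← ht', mul_right_comm]
      change t * ψ a = 0 at hta
      rw [hta, zero_mul]
    obtain ⟨m, hm⟩ := map_eq_zero ψ c hloc h1
    have hcx : c ^ m ∉ (ProjectiveSpectrum.comap ψ hψ y).asHomogeneousIdeal := by
      intro h
      have : ψ (c ^ m) ∈ y.asHomogeneousIdeal := h
      rw [map_pow] at this
      exact map_notMem ψ c hloc y m this
    have htx : t' ∉ (ProjectiveSpectrum.comap ψ hψ y).asHomogeneousIdeal := by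
      intro h
      have h2 : ψ t' ∈ y.asHomogeneousIdeal := h
      rw [← ht'] at h2
      exact (y.isPrime.mem_or_mem h2).elim ht (map_notMem ψ c hloc y k)
    rw [Localization.mk_eq_mk', IsLocalization.mk'_eq_zero_iff]
    refine ⟨⟨c ^ m * t', fun h => ((ProjectiveSpectrum.comap ψ hψ y).isPrime.mem_or_mem h).elim hcx htx⟩, ?_⟩
    change c ^ m * t' * a = 0
    rw [mul_assoc]
    exact hm

theorem app_mres {X : Scheme.{u}} {M N : X.Modules} (φ : M ⟶ N) {W W' : X.Opens} (h : W' ≤ W)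
    (x : Γ(M, W)) : φ.app W' (mres M h x) = mres N h (φ.app W x) := by
  have hnat := φ.mapPresheaf.naturality (homOfLE h).op
  exact ConcreteCategory.congr_hom hnat x

include hloc in
/-- injectivity of the comparison on sections over opens in the image -/
theorem comap_app_injective (n : ℤ) (V : (Proj 𝒜).Opens)
    (hV : ∀ x : ProjectiveSpectrum 𝒜, x ∈ V →
      ∃ y : ProjectiveSpectrum ℬ, ProjectiveSpectrum.comap ψ hψ y = x) :
    Function.Injective ((GrTwist.comap ψ hψ n).app V) := by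
  intro s s' h
  apply twist_sect_ext
  rintro ⟨x, hx⟩
  obtain ⟨y, rfl⟩ := hV x hx
  have h1 := congrArg (fun t : Γ((Scheme.Modules.pushforward (Proj.map ψ hψ)).obj
      (GrTwist.twist ℬ n), V) => GrTwist.val (V := Proj.map ψ hψ ⁻¹ᵁ V) t ⟨y, hx⟩) h
  exact locMap_injective ψ hψ c hloc y h1

include hloc hc in
theorem exists_local_preimage (n : ℤ) (V : (Proj 𝒜).Opens)
    (hV : ∀ x : ProjectiveSpectrum 𝒜, x ∈ V →
      ∃ y : ProjectiveSpectrum ℬ, ProjectiveSpectrum.comap ψ hψ y = x)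
    (t : Γ((Scheme.Modules.pushforward (Proj.map ψ hψ)).obj (GrTwist.twist ℬ n), V))
    (x : ProjectiveSpectrum 𝒜) (hx : x ∈ V) :
    ∃ (Vx : (Proj 𝒜).Opens) (hle : Vx ≤ V) (σ : Γ(GrTwist.twist 𝒜 n, Vx)), x ∈ Vx ∧
      (GrTwist.comap ψ hψ n).app Vx σ = mres _ hle t := by
  obtain ⟨y, rfl⟩ := hV x hx
  let t' : GrTwist.sectN (𝒜 := ℬ) n (op (Proj.map ψ hψ ⁻¹ᵁ V)) := t
  rcases t'.2 ⟨y, hx⟩ with ⟨V', hyV', iV, i, j, ⟨b, hb⟩, ⟨f, hf⟩, nin, cond, heq⟩
  replace cond : (i : ℤ) = j + n ∨ b = 0 := cond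
  obtain ⟨_, ⟨g, rfl⟩, hyg, hgV'⟩ := (ProjectiveSpectrum.isTopologicalBasis_basic_opens
    ℬ).exists_subset_of_mem_open (show y ∈ V'.1 from hyV') V'.2
  obtain ⟨a', m, ha'⟩ := exists_lift ψ c hloc g
  obtain ⟨a, k, hai, ha⟩ := exists_lift_homogeneous ψ c hc hloc hb
  obtain ⟨e, l, hej, he⟩ := exists_lift_homogeneous ψ c hc hloc hf
  -- facts about points of the small open
  have hpt : ∀ z : ProjectiveSpectrum ℬ,
      a' ∉ (ProjectiveSpectrum.comap ψ hψ z).asHomogeneousIdeal → z ∈ V' := by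
    intro z hz
    apply hgV'
    change g ∉ z.asHomogeneousIdeal
    intro hgz
    apply hz
    change ψ a' ∈ z.asHomogeneousIdeal
    rw [← ha']
    exact Ideal.mul_mem_right _ _ hgz
  have hya' : a' ∉ (ProjectiveSpectrum.comap ψ hψ y).asHomogeneousIdeal := by
    intro h
    have h1 : ψ a' ∈ y.asHomogeneousIdeal := h
    rw [← ha'] at h1
    exact (y.isPrime.mem_or_mem h1).elim hyg (map_notMem ψ c hloc y m)
  have hden : ∀ z : ProjectiveSpectrum ℬ, z ∈ V' →
      e * c ^ k ∉ (ProjectiveSpectrum.comap ψ hψ z).asHomogeneousIdeal := by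
    intro z hz h
    have h1 : ψ (e * c ^ k) ∈ z.asHomogeneousIdeal := h
    rw [map_mul, map_pow, ← he] at h1
    rcases z.isPrime.mem_or_mem h1 with h2 | h2
    · rcases z.isPrime.mem_or_mem h2 with h3 | h3
      · exact nin ⟨z, hz⟩ h3
      · exact map_notMem ψ c hloc z l h3
    · exact map_notMem ψ c hloc z k h2
  have hacl : a * c ^ l ∈ 𝒜 i := by
    simpa using SetLike.mul_mem_graded hai (SetLike.pow_mem_graded l hc)
  have heck : e * c ^ k ∈ 𝒜 j := by
    simpa using SetLike.mul_mem_graded hej (SetLike.pow_mem_graded k hc)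
  have hVx : ∀ z' : ProjectiveSpectrum 𝒜, z' ∈ V ⊓ Proj.basicOpen 𝒜 a' →
      e * c ^ k ∉ z'.asHomogeneousIdeal := by
    intro z' hz'
    obtain ⟨z, rfl⟩ := hV z' hz'.1
    exact hden z (hpt z ((Proj.mem_basicOpen _ _ _).mp hz'.2))
  have hval : ∀ (z : ProjectiveSpectrum ℬ) (hz : z ∈ Proj.map ψ hψ ⁻¹ᵁ (V ⊓ Proj.basicOpen 𝒜 a')),
      ((t'.1 ⟨z, hz.1⟩ : GrTwist.twistAt ℬ n z) : GrTwist.Loc ℬ z) =
        Localization.mk b ⟨f, nin ⟨z, hpt z ((Proj.mem_basicOpen _ _ _).mp hz.2)⟩⟩ :=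
    fun z hz => heq ⟨z, hpt z ((Proj.mem_basicOpen _ _ _).mp hz.2)⟩
  refine ⟨V ⊓ Proj.basicOpen 𝒜 a', inf_le_left, ?_⟩
  rcases cond with hij | hb0
  · refine ⟨fracTw 𝒜 hacl heck hij _ hVx, ⟨hx, (Proj.mem_basicOpen _ _ _).mpr hya'⟩, ?_⟩
    apply twist_sect_ext
    rintro ⟨z, hz⟩
    refine Eq.trans ?_ (hval z hz).symm
    refine (GrTwist.locMap_mk ψ hψ z _ _).trans ?_
    rw [Localization.mk_eq_mk_iff]
    apply Localization.r_of_eq
    change f * ψ (a * c ^ l) = ψ (e * c ^ k) * b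
    rw [map_mul, map_mul, map_pow, map_pow, ← ha, ← he]
    ring
  · refine ⟨0, ⟨hx, (Proj.mem_basicOpen _ _ _).mpr hya'⟩, ?_⟩
    rw [map_zero]
    apply twist_sect_ext
    rintro ⟨z, hz⟩
    refine Eq.trans ?_ (hval z hz).symm
    rw [hb0, Localization.mk_zero]
    rfl

include hloc hc in
/-- surjectivity of the comparison on sections over opens in the image -/
theorem comap_app_surjective (n : ℤ) (V : (Proj 𝒜).Opens)
    (hV : ∀ x : ProjectiveSpectrum 𝒜, x ∈ V →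
      ∃ y : ProjectiveSpectrum ℬ, ProjectiveSpectrum.comap ψ hψ y = x) :
    Function.Surjective ((GrTwist.comap ψ hψ n).app V) := by
  intro t
  have hex := fun x : ↥V => exists_local_preimage ψ hψ c hc hloc n V hV t x.1 x.2
  choose Vx hle σ hxV hσ using hex
  have hcompat : ∀ x x' : ↥V,
      mres (GrTwist.twist 𝒜 n) (inf_le_left : Vx x ⊓ Vx x' ≤ Vx x) (σ x) =
        mres (GrTwist.twist 𝒜 n) (inf_le_right : Vx x ⊓ Vx x' ≤ Vx x') (σ x') := by
    intro x x'
    apply comap_app_injective ψ hψ c hloc n (Vx x ⊓ Vx x') (fun z hz => hV z (hle x hz.1))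
    rw [app_mres, app_mres, hσ x, hσ x', mres_mres, mres_mres]
  obtain ⟨s, hs⟩ := STL.exists_glue (GrTwist.twist 𝒜 n) (fun x : ↥V => Vx x) V hle
    (fun z hz => ⟨⟨z, hz⟩, hxV ⟨z, hz⟩⟩) σ hcompat
  refine ⟨s, ?_⟩
  refine modules_eq_of_locally_eq _ _ _ fun z hz => ⟨Vx ⟨z, hz⟩, hle _, hxV _, ?_⟩
  rw [← app_mres, hs, hσ]

include hloc hc in
theorem comap_app_bijective (n : ℤ) (V : (Proj 𝒜).Opens)
    (hV : ∀ x : ProjectiveSpectrum 𝒜, x ∈ V →
      ∃ y : ProjectiveSpectrum ℬ, ProjectiveSpectrum.comap ψ hψ y = x) :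
    Function.Bijective ((GrTwist.comap ψ hψ n).app V) :=
  ⟨comap_app_injective ψ hψ c hloc n V hV, comap_app_surjective ψ hψ c hc hloc n V hV⟩

end Groth.Agent.H41.GrTwistLoc
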