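import Groth.Agent.H41.GrTwistTriv
import Groth.Prelude.Def_RelProj2

/-!
# Local trivializations of the relative twisting sheaves `O_P(n)` by nowhere vanishing fractions (helper41)
-/

set_option autoImplicit false
universe u

open CategoryTheory CategoryTheory.Limits AlgebraicGeometry TopologicalSpace Opposite

namespace Groth.Agent.H41.RelTwistTriv

open Groth.Agent.H18 Groth.Agent.H41.GrTwistTriv

theorem pushforward_smul {X Y : Scheme.{u}} (f : X ⟶ Y) (M : X.Modules) (U : Y.Opens) (r : Γ(Y, U))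
    (m : Γ((Scheme.Modules.pushforward f).obj M, U)) :
    r • m = ((f.app U r : Γ(X, f ⁻¹ᵁ U)) • (show Γ(M, f ⁻¹ᵁ U) from m) : Γ(M, f ⁻¹ᵁ U)) := rfl

theorem app_mres {X : Scheme.{u}} {M N : X.Modules} (φ : M ⟶ N) {W W' : X.Opens} (h : W' ≤ W)
    (x : Γ(M, W)) : φ.app W' (mres M h x) = mres N h (φ.app W x) := by
  have hnat := φ.mapPresheaf.naturality (homOfLE h).op
  exact ConcreteCategory.congr_hom hnat x

variable {Y P : Scheme.{u}} (𝒮 : RelProj.QCGrAlg Y) (p : P ⟶ Y)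
  (chart : ∀ (U : Y.Opens) (hU : IsAffineOpen U),
    (((p ⁻¹ᵁ U : P.Opens) : Scheme.{u}) ≅ Proj (𝒮.deg U hU)))
  (n : ℤ) (L : P.Modules)
  (lam : ∀ (U : Y.Opens) (hU : IsAffineOpen U),
    L ⟶ (Scheme.Modules.pushforward (RelProj.emb p chart U hU)).obj (GrTwist.twist (𝒮.deg U hU) n))
  (hL : RelProj.IsRelTwist 𝒮 p chart n L lam)
  (U : Y.Opens) (hU : IsAffineOpen U)

theorem opensRange_emb : (RelProj.emb p chart U hU).opensRange = p ⁻¹ᵁ U := by
  unfold RelProj.emb
  rw [Scheme.Hom.opensRange_comp_of_isIso, Scheme.Opens.opensRange_ι]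

theorem bijective_emb_app (W : P.Opens) (hW : W ≤ p ⁻¹ᵁ U) :
    Function.Bijective ((RelProj.emb p chart U hU).app W) := by
  have : IsIso ((RelProj.emb p chart U hU).app W) :=
    Scheme.Hom.isIso_app _ W (by rw [opensRange_emb]; exact hW)
  exact ConcreteCategory.bijective_of_isIso _

variable {i j : ℕ} {a b : 𝒮.presheaf.obj (op U)} (ha : a ∈ 𝒮.deg U hU i) (hb : b ∈ 𝒮.deg U hU j)
  (he : (i : ℤ) = j + n) (W : P.Opens) (hW : W ≤ p ⁻¹ᵁ U)
  (hWa : ∀ x : ProjectiveSpectrum (𝒮.deg U hU), x ∈ (RelProj.emb p chart U hU) ⁻¹ᵁ W →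
    a ∉ x.asHomogeneousIdeal)
  (hWb : ∀ x : ProjectiveSpectrum (𝒮.deg U hU), x ∈ (RelProj.emb p chart U hU) ⁻¹ᵁ W →
    b ∉ x.asHomogeneousIdeal)

include hL hW in
/-- The section of `O_P(n)` over `W` reading `a / b` on the chart over `U`. -/
theorem exists_section :
    ∃ σ : Γ(L, W), (lam U hU).app W σ =
      fracTw (𝒮.deg U hU) ha hb he ((RelProj.emb p chart U hU) ⁻¹ᵁ W) hWb :=
  (hL.bijective U hU W hW).2 _

include hL hW hWa in
/-- A section of `O_P(n)` reading `a / b` (nowhere vanishing) on the chart over `U` freely generates. -/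
theorem bijective_smul_of_lam_eq (σ : Γ(L, W))
    (hσ : (lam U hU).app W σ = fracTw (𝒮.deg U hU) ha hb he ((RelProj.emb p chart U hU) ⁻¹ᵁ W) hWb)
    (W' : P.Opens) (hW' : W' ≤ W) :
    Function.Bijective (fun r : Γ(P, W') => r • mres L hW' σ) := by
  have hle : (RelProj.emb p chart U hU) ⁻¹ᵁ W' ≤ (RelProj.emb p chart U hU) ⁻¹ᵁ W :=
    (RelProj.emb p chart U hU).preimage_mono hW'
  have hlam := hL.bijective U hU W' (hW'.trans hW)
  have hemb := bijective_emb_app 𝒮 p chart U hU W' (hW'.trans hW)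
  have hτ : (lam U hU).app W' (mres L hW' σ) =
      fracTw (𝒮.deg U hU) ha hb he ((RelProj.emb p chart U hU) ⁻¹ᵁ W') (fun x hx => hWb x (hle hx)) := by
    rw [app_mres, hσ]
    rfl
  have hfr : Function.Bijective (fun r : Γ(Proj (𝒮.deg U hU), (RelProj.emb p chart U hU) ⁻¹ᵁ W') =>
      r • fracTw (𝒮.deg U hU) ha hb he ((RelProj.emb p chart U hU) ⁻¹ᵁ W')
        (fun x hx => hWb x (hle hx))) :=
    ⟨smul_fracTw_injective (𝒮.deg U hU) ha hb he _ (fun x hx => hWa x (hle hx)) (fun x hx => hWb x (hle hx)),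
      smul_fracTw_surjective (𝒮.deg U hU) ha hb he _ (fun x hx => hWa x (hle hx)) (fun x hx => hWb x (hle hx))⟩
  have hcomp : ((lam U hU).app W' : Γ(L, W') → _) ∘ (fun r : Γ(P, W') => r • mres L hW' σ) =
      (fun r : Γ(Proj (𝒮.deg U hU), (RelProj.emb p chart U hU) ⁻¹ᵁ W') =>
        r • fracTw (𝒮.deg U hU) ha hb he ((RelProj.emb p chart U hU) ⁻¹ᵁ W')
          (fun x hx => hWb x (hle hx))) ∘ ((RelProj.emb p chart U hU).app W' : Γ(P, W') → _) := by
    funext r
    change (lam U hU).app W' (r • mres L hW' σ) = _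
    rw [Scheme.Modules.Hom.app_smul, hτ]
    rfl
  have h1 : Function.Bijective (((lam U hU).app W' : Γ(L, W') → _) ∘
      (fun r : Γ(P, W') => r • mres L hW' σ)) := by
    rw [hcomp]
    exact hfr.comp hemb
  exact (Function.Bijective.of_comp_iff' hlam _).mp h1

include hL hW hWa ha hb he hWb in
/-- `O_P(n)` is trivial over an open on which a fraction `a / b` of degree `n` is nowhere vanishing. -/
theorem nonempty_restrict_iso :
    Nonempty (L.restrict W.ι ≅ Coh.structureModule (W : Scheme.{u})) := by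
  obtain ⟨σ, hσ⟩ := exists_section 𝒮 p chart n L lam hL U hU ha hb he W hW hWb
  exact nonempty_restrict_iso_unit L W σ fun W' hW' =>
    bijective_smul_of_lam_eq 𝒮 p chart n L lam hL U hU ha hb he W hW hWa hWb σ hσ W' hW'

end Groth.Agent.H41.RelTwistTriv
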