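import Groth.Agent.H41.ChartLimit
import Groth.Agent.H41.GrTwistLoc
import Groth.Agent.H41.RelTwistTriv

/-!
# Existence of the twisting sheaves `O_P(n)` on a relative `Proj` (helper41)
-/

set_option autoImplicit false
set_option linter.unusedSectionVars false
universe u

open CategoryTheory CategoryTheory.Limits AlgebraicGeometry TopologicalSpace Opposite
open scoped HomogeneousIdeal

namespace Groth.Agent.H41.RelTwistExists

open Groth.Agent.H18 Groth.Agent.H41.GrTwistTriv Groth.Agent.H41.ChartLimit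
  Groth.Agent.H41.RelTwistTriv

section ring

variable {A σ : Type u} [CommRing A] [SetLike σ A] [AddSubgroupClass σ A] {𝒜 : ℕ → σ} [GradedRing 𝒜]
variable {B τ : Type u} [CommRing B] [SetLike τ B] [AddSubgroupClass τ B] {ℬ : ℕ → τ} [GradedRing ℬ]
variable {C ρ : Type u} [CommRing C] [SetLike ρ C] [AddSubgroupClass ρ C] {𝒞 : ℕ → ρ} [GradedRing 𝒞]

theorem locMap_id_val (ψ : 𝒜 →+*ᵍ 𝒜) (hψ : 𝒜₊ ≤ (𝒜₊).map ψ) (hid : ∀ a : A, ψ a = a) {n : ℤ}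
    {V : Opens (ProjectiveSpectrum.top 𝒜)} (s : GrTwist.sectN (𝒜 := 𝒜) n (op V))
    (y : ProjectiveSpectrum 𝒜) (hy : ProjectiveSpectrum.comap ψ hψ y ∈ V) (hy' : y ∈ V) :
    GrTwist.locMap ψ hψ y (s.1 ⟨_, hy⟩).1 = (s.1 ⟨y, hy'⟩).1 := by
  have heq : ProjectiveSpectrum.comap ψ hψ y = y := by
    apply ProjectiveSpectrum.ext
    apply HomogeneousIdeal.ext
    ext a
    change ψ a ∈ y.asHomogeneousIdeal ↔ a ∈ y.asHomogeneousIdeal
    rw [hid]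
  rcases s.2 ⟨y, hy'⟩ with ⟨W, m, iWV, i, j, a, b, hb, -, h_frac⟩
  have m' : ProjectiveSpectrum.comap ψ hψ y ∈ W := heq.symm ▸ m
  have e₁ := h_frac ⟨_, m'⟩
  have e₂ := h_frac ⟨_, m⟩
  change (s.1 ⟨_, hy⟩).1 = _ at e₁
  change (s.1 ⟨y, hy'⟩).1 = _ at e₂
  rw [e₁, e₂, GrTwist.locMap_mk]
  congr 1
  · exact hid a
  · exact Subtype.ext (hid b)

theorem locMap_comp_val (ψ₁ : 𝒜 →+*ᵍ ℬ) (h₁ : ℬ₊ ≤ (𝒜₊).map ψ₁) (ψ₂ : ℬ →+*ᵍ 𝒞)
    (h₂ : 𝒞₊ ≤ (ℬ₊).map ψ₂) (ψ₃ : 𝒜 →+*ᵍ 𝒞) (h₃ : 𝒞₊ ≤ (𝒜₊).map ψ₃)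
    (hc : ∀ a : A, ψ₂ (ψ₁ a) = ψ₃ a) {n : ℤ}
    {V : Opens (ProjectiveSpectrum.top 𝒜)} (s : GrTwist.sectN (𝒜 := 𝒜) n (op V))
    (y : ProjectiveSpectrum 𝒞)
    (hz₁ : ProjectiveSpectrum.comap ψ₁ h₁ (ProjectiveSpectrum.comap ψ₂ h₂ y) ∈ V)
    (hz₃ : ProjectiveSpectrum.comap ψ₃ h₃ y ∈ V) :
    GrTwist.locMap ψ₂ h₂ y (GrTwist.locMap ψ₁ h₁ (ProjectiveSpectrum.comap ψ₂ h₂ y)
        (s.1 ⟨_, hz₁⟩).1) =
      GrTwist.locMap ψ₃ h₃ y (s.1 ⟨_, hz₃⟩).1 := by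
  have heq : ProjectiveSpectrum.comap ψ₁ h₁ (ProjectiveSpectrum.comap ψ₂ h₂ y) =
      ProjectiveSpectrum.comap ψ₃ h₃ y := by
    apply ProjectiveSpectrum.ext
    apply HomogeneousIdeal.ext
    ext a
    change ψ₂ (ψ₁ a) ∈ y.asHomogeneousIdeal ↔ ψ₃ a ∈ y.asHomogeneousIdeal
    rw [hc]
  rcases s.2 ⟨_, hz₁⟩ with ⟨W, m, iWV, i, j, a, b, hb, -, h_frac⟩
  have m' : ProjectiveSpectrum.comap ψ₃ h₃ y ∈ W := heq ▸ m
  have e₁ := h_frac ⟨_, m⟩
  have e₂ := h_frac ⟨_, m'⟩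
  change (s.1 ⟨_, hz₁⟩).1 = _ at e₁
  change (s.1 ⟨_, hz₃⟩).1 = _ at e₂
  rw [e₁, e₂, GrTwist.locMap_mk, GrTwist.locMap_mk, GrTwist.locMap_mk]
  congr 1
  · exact hc a
  · exact Subtype.ext (hc b)

end ring

theorem mres_bijective_of_le {X : Scheme.{u}} (T : X.Modules) {V V' : X.Opens} (h : V' ≤ V)
    (h' : V ≤ V') : Function.Bijective (mres T h) := by
  obtain rfl : V = V' := le_antisymm h' h
  have : (mres T h : Γ(T, V) → Γ(T, V)) = id := by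
    funext x
    exact mres_self T h x
  rw [this]
  exact Function.bijective_id

variable {Y P : Scheme.{u}} (𝒮 : RelProj.QCGrAlg Y) (p : P ⟶ Y)
  (chart : ∀ (U : Y.Opens) (hU : IsAffineOpen U),
    (((p ⁻¹ᵁ U : P.Opens) : Scheme.{u}) ≅ Proj (𝒮.deg U hU)))
  (hP : RelProj.IsRelProj 𝒮 p chart) (n : ℤ)

/-- the restriction map of `𝒮` from an affine open to a basic open of it -/
noncomputable abbrev resAB (a b : AffOpen Y) (h : a ≤ b) : 𝒮.deg a.U a.hU →+*ᵍ 𝒮.deg b.U b.hU :=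
  𝒮.res a.hU b.hU (IsBasicIn.le h)

theorem irrelevant_le_map_aux (U : Y.Opens) (hU : IsAffineOpen U) (V : Y.Opens)
    (hV : IsAffineOpen V) (h : IsBasicIn V U) :
    (𝒮.deg V hV)₊ ≤ ((𝒮.deg U hU)₊).map (𝒮.res hU hV (IsBasicIn.le h)) := by
  obtain ⟨r, rfl⟩ := h
  exact 𝒮.irrelevant_le_map U hU r

theorem irrelevant_le_map' (a b : AffOpen Y) (h : a ≤ b) :
    (𝒮.deg b.U b.hU)₊ ≤ ((𝒮.deg a.U a.hU)₊).map (resAB 𝒮 a b h) :=
  irrelevant_le_map_aux 𝒮 a.U a.hU b.U b.hU h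

include hP in
theorem map_res_emb_aux (U : Y.Opens) (hU : IsAffineOpen U) (V : Y.Opens)
    (hV : IsAffineOpen V) (h : IsBasicIn V U) :
    Proj.map (𝒮.res hU hV (IsBasicIn.le h)) (irrelevant_le_map_aux 𝒮 U hU V hV h) ≫
        RelProj.emb p chart U hU =
      RelProj.emb p chart V hV := by
  obtain ⟨r, rfl⟩ := h
  exact RelProj.map_res_emb hP U hU r

include hP in
theorem map_res_emb' (a b : AffOpen Y) (h : a ≤ b) :
    Proj.map (resAB 𝒮 a b h) (irrelevant_le_map' 𝒮 a b h) ≫ RelProj.emb p chart a.U a.hU =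
      RelProj.emb p chart b.U b.hU :=
  map_res_emb_aux 𝒮 p chart hP a.U a.hU b.U b.hU h

theorem exists_isLocalization_aux (U : Y.Opens) (hU : IsAffineOpen U) (V : Y.Opens)
    (hV : IsAffineOpen V) (h : IsBasicIn V U) :
    ∃ c : 𝒮.presheaf.obj (op U), c ∈ 𝒮.deg U hU 0 ∧
      @IsLocalization.Away _ _ c (𝒮.presheaf.obj (op V)) _
        (𝒮.res hU hV (IsBasicIn.le h)).toRingHom.toAlgebra := by
  obtain ⟨r, rfl⟩ := h
  exact ⟨(𝒮.str.app (op U)).hom r, 𝒮.str_mem U hU r, 𝒮.isQC U hU r⟩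

theorem exists_isLocalization (a b : AffOpen Y) (h : a ≤ b) :
    ∃ c : 𝒮.presheaf.obj (op a.U), c ∈ 𝒮.deg a.U a.hU 0 ∧
      @IsLocalization.Away _ _ c (𝒮.presheaf.obj (op b.U)) _ (resAB 𝒮 a b h).toRingHom.toAlgebra :=
  exists_isLocalization_aux 𝒮 a.U a.hU b.U b.hU h

/-- the chart modules -/
noncomputable abbrev E (a : AffOpen Y) : P.Modules :=
  (Scheme.Modules.pushforward (RelProj.emb p chart a.U a.hU)).obj (GrTwist.twist (𝒮.deg a.U a.hU) n)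

/-- the transition maps -/
noncomputable def rho (a b : AffOpen Y) (h : a ≤ b) : E 𝒮 p chart n a ⟶ E 𝒮 p chart n b :=
  (Scheme.Modules.pushforward (RelProj.emb p chart a.U a.hU)).map
      (GrTwist.comap (resAB 𝒮 a b h) (irrelevant_le_map' 𝒮 a b h) n) ≫
    (Scheme.Modules.pushforwardComp (Proj.map (resAB 𝒮 a b h) (irrelevant_le_map' 𝒮 a b h))
      (RelProj.emb p chart a.U a.hU)).hom.app _ ≫
    (Scheme.Modules.pushforwardCongr (map_res_emb' 𝒮 p chart hP a b h)).hom.app _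

theorem rho_val (a b : AffOpen Y) (h : a ≤ b) (W : P.Opens) (t : Γ(E 𝒮 p chart n a, W))
    (y : ProjectiveSpectrum (𝒮.deg b.U b.hU))
    (hy : (RelProj.emb p chart b.U b.hU).base y ∈ W)
    (hy' : (RelProj.emb p chart a.U a.hU).base (ProjectiveSpectrum.comap (resAB 𝒮 a b h)
      (irrelevant_le_map' 𝒮 a b h) y) ∈ W) :
    GrTwist.val (V := RelProj.emb p chart b.U b.hU ⁻¹ᵁ W)
        ((rho 𝒮 p chart hP n a b h).app W t) ⟨y, hy⟩ =
      GrTwist.locMap (resAB 𝒮 a b h) (irrelevant_le_map' 𝒮 a b h) y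
        (GrTwist.val (V := RelProj.emb p chart a.U a.hU ⁻¹ᵁ W) t ⟨_, hy'⟩) := rfl

include hP in
theorem emb_comap_mem (a b : AffOpen Y) (h : a ≤ b) (W : P.Opens)
    (y : ProjectiveSpectrum (𝒮.deg b.U b.hU)) (hy : (RelProj.emb p chart b.U b.hU).base y ∈ W) :
    (RelProj.emb p chart a.U a.hU).base (ProjectiveSpectrum.comap (resAB 𝒮 a b h)
      (irrelevant_le_map' 𝒮 a b h) y) ∈ W := by
  have e := map_res_emb' 𝒮 p chart hP a b h
  have e' := congrArg (fun f => f.base y) e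
  change (RelProj.emb p chart a.U a.hU).base ((Proj.map (resAB 𝒮 a b h)
    (irrelevant_le_map' 𝒮 a b h)).base y) = _ at e'
  have e'' : (Proj.map (resAB 𝒮 a b h) (irrelevant_le_map' 𝒮 a b h)).base y =
      ProjectiveSpectrum.comap (resAB 𝒮 a b h) (irrelevant_le_map' 𝒮 a b h) y := rfl
  rw [← e'', e']
  exact hy

/-- the diagram of chart modules -/
noncomputable def Φ : AffOpen Y ⥤ P.Modules where
  obj a := E 𝒮 p chart n a
  map {a b} f := rho 𝒮 p chart hP n a b (leOfHom f)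
  map_id a := by
    ext W t
    refine GrTwistTriv.twist_sect_ext _ n (RelProj.emb p chart a.U a.hU ⁻¹ᵁ W) _ _ (fun z => ?_)
    have hz' := emb_comap_mem 𝒮 p chart hP a a (leOfHom (𝟙 a)) W z.1 z.2
    refine (rho_val 𝒮 p chart hP n a a (leOfHom (𝟙 a)) W t z.1 z.2 hz').trans ?_
    exact locMap_id_val _ _ (fun x => by
      change (𝒮.presheaf.map (homOfLE _).op).hom x = x
      have : (homOfLE (IsBasicIn.le (leOfHom (𝟙 a)))).op = 𝟙 (op a.U) := Subsingleton.elim _ _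
      rw [this, CategoryTheory.Functor.map_id]
      rfl) _ z.1 hz' z.2
  map_comp {a b c} f g := by
    ext W t
    refine GrTwistTriv.twist_sect_ext _ n (RelProj.emb p chart c.U c.hU ⁻¹ᵁ W) _ _ (fun z => ?_)
    have hab : a ≤ b := leOfHom f
    have hbc : b ≤ c := leOfHom g
    have hac : a ≤ c := leOfHom (f ≫ g)
    have hz₃ := emb_comap_mem 𝒮 p chart hP a c hac W z.1 z.2
    have hz₂ := emb_comap_mem 𝒮 p chart hP b c hbc W z.1 z.2
    have hz₁ := emb_comap_mem 𝒮 p chart hP a b hab W _ hz₂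
    refine (rho_val 𝒮 p chart hP n a c hac W t z.1 z.2 hz₃).trans ?_
    refine Eq.trans ?_ (rho_val 𝒮 p chart hP n b c hbc W
      ((rho 𝒮 p chart hP n a b hab).app W t) z.1 z.2 hz₂).symm
    refine Eq.trans ?_ (congrArg (GrTwist.locMap (resAB 𝒮 b c hbc) (irrelevant_le_map' 𝒮 b c hbc) z.1)
      (rho_val 𝒮 p chart hP n a b hab W t _ hz₂ hz₁)).symm
    refine (locMap_comp_val (resAB 𝒮 a b hab) (irrelevant_le_map' 𝒮 a b hab) (resAB 𝒮 b c hbc)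
      (irrelevant_le_map' 𝒮 b c hbc) (resAB 𝒮 a c hac) (irrelevant_le_map' 𝒮 a c hac)
      (fun x => ?_) _ z.1 hz₁ hz₃).symm
    change (𝒮.presheaf.map (homOfLE _).op).hom ((𝒮.presheaf.map (homOfLE _).op).hom x) =
      (𝒮.presheaf.map (homOfLE _).op).hom x
    have : (homOfLE (IsBasicIn.le hac)).op =
        (homOfLE (IsBasicIn.le hab)).op ≫ (homOfLE (IsBasicIn.le hbc)).op := Subsingleton.elim _ _
    rw [this, CategoryTheory.Functor.map_comp]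
    rfl

theorem emb_mem' (a : AffOpen Y) (z : Proj (𝒮.deg a.U a.hU)) :
    (RelProj.emb p chart a.U a.hU).base z ∈ p ⁻¹ᵁ a.U := by
  rw [← opensRange_emb 𝒮 p chart a.U a.hU]
  exact ⟨z, rfl⟩

theorem Φ_hsupp (a : AffOpen Y) (W : P.Opens) :
    Function.Bijective (mres ((Φ 𝒮 p chart hP n).obj a) (inf_le_left : W ⊓ p ⁻¹ᵁ a.U ≤ W)) := by
  have h' : RelProj.emb p chart a.U a.hU ⁻¹ᵁ W ≤ RelProj.emb p chart a.U a.hU ⁻¹ᵁ (W ⊓ p ⁻¹ᵁ a.U) :=
    fun z hz => ⟨hz, emb_mem' 𝒮 p chart a z⟩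
  have h : RelProj.emb p chart a.U a.hU ⁻¹ᵁ (W ⊓ p ⁻¹ᵁ a.U) ≤ RelProj.emb p chart a.U a.hU ⁻¹ᵁ W :=
    fun z hz => hz.1
  exact mres_bijective_of_le (GrTwist.twist (𝒮.deg a.U a.hU) n) h h'

include hP in
theorem exists_comap_eq (a b : AffOpen Y) (h : a ≤ b) (W : P.Opens) (hW : W ≤ p ⁻¹ᵁ b.U)
    (x : ProjectiveSpectrum (𝒮.deg a.U a.hU))
    (hx : x ∈ RelProj.emb p chart a.U a.hU ⁻¹ᵁ W) :
    ∃ y : ProjectiveSpectrum (𝒮.deg b.U b.hU),
      ProjectiveSpectrum.comap (resAB 𝒮 a b h) (irrelevant_le_map' 𝒮 a b h) y = x := by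
  have hx' : (RelProj.emb p chart a.U a.hU).base x ∈ p ⁻¹ᵁ b.U := hW hx
  rw [← opensRange_emb 𝒮 p chart b.U b.hU] at hx'
  obtain ⟨y, hy⟩ := hx'
  refine ⟨y, ?_⟩
  have e := map_res_emb' 𝒮 p chart hP a b h
  have e' := congrArg (fun f => f.base y) e
  change (RelProj.emb p chart a.U a.hU).base ((Proj.map (resAB 𝒮 a b h)
    (irrelevant_le_map' 𝒮 a b h)).base y) = _ at e'
  have hinj : Function.Injective (RelProj.emb p chart a.U a.hU).base :=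
    (RelProj.emb p chart a.U a.hU).isOpenEmbedding.injective
  exact hinj (e'.trans hy)

theorem Φ_hbij (a b : AffOpen Y) (h : a ≤ b) (W : P.Opens) (hW : W ≤ p ⁻¹ᵁ b.U) :
    Function.Bijective (((Φ 𝒮 p chart hP n).map (homOfLE h)).app W) := by
  obtain ⟨c, hc, hloc⟩ := exists_isLocalization 𝒮 a b h
  have h1 := GrTwistLoc.comap_app_bijective (resAB 𝒮 a b h) (irrelevant_le_map' 𝒮 a b h) c hc hloc n
    (RelProj.emb p chart a.U a.hU ⁻¹ᵁ W) (fun x hx => exists_comap_eq 𝒮 p chart hP a b h W hW x hx)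
  have h2 : Function.Bijective (((Scheme.Modules.pushforwardComp (Proj.map (resAB 𝒮 a b h)
      (irrelevant_le_map' 𝒮 a b h)) (RelProj.emb p chart a.U a.hU)).hom.app
        (GrTwist.twist (𝒮.deg b.U b.hU) n)).app W) :=
    ConcreteCategory.bijective_of_isIso _
  have h3 : Function.Bijective (((Scheme.Modules.pushforwardCongr
      (map_res_emb' 𝒮 p chart hP a b h)).hom.app (GrTwist.twist (𝒮.deg b.U b.hU) n)).app W) :=
    ConcreteCategory.bijective_of_isIso _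
  exact h3.comp (h2.comp h1)

/-- the glued module -/
noncomputable def L : P.Modules := limit (Φ 𝒮 p chart hP n)

/-- the chart identifications -/
noncomputable def lam (U : Y.Opens) (hU : IsAffineOpen U) :
    L 𝒮 p chart hP n ⟶
      (Scheme.Modules.pushforward (RelProj.emb p chart U hU)).obj (GrTwist.twist (𝒮.deg U hU) n) :=
  limit.π (Φ 𝒮 p chart hP n) ⟨U, hU⟩

theorem isRelTwist : RelProj.IsRelTwist 𝒮 p chart n (L 𝒮 p chart hP n) (lam 𝒮 p chart hP n) where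
  bijective U hU W hW :=
    limit_π_app_bijective p (Φ 𝒮 p chart hP n) (Φ_hsupp 𝒮 p chart hP n) (Φ_hbij 𝒮 p chart hP n)
      ⟨U, hU⟩ W hW
  compat U hU r W s y hy hy' := by
    have hab : (⟨U, hU⟩ : AffOpen Y) ≤ ⟨Y.basicOpen r, hU.basicOpen r⟩ := ⟨r, rfl⟩
    have hw := limit_w_app (Φ 𝒮 p chart hP n) W (homOfLE hab) s
    have hv := rho_val 𝒮 p chart hP n ⟨U, hU⟩ ⟨Y.basicOpen r, hU.basicOpen r⟩ hab W
      ((limit.π (Φ 𝒮 p chart hP n) ⟨U, hU⟩).app W s) y hy hy'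
    refine Eq.trans ?_ hv
    exact congrArg (fun t : Γ(E 𝒮 p chart n ⟨Y.basicOpen r, hU.basicOpen r⟩, W) =>
      GrTwist.val (V := RelProj.emb p chart (Y.basicOpen r) (hU.basicOpen r) ⁻¹ᵁ W) t ⟨y, hy⟩) hw.symm

end Groth.Agent.H41.RelTwistExists
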