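import Groth.Agent.H41.ProjGen
import Mathlib.AlgebraicGeometry.ProjectiveSpectrum.Proper
import Mathlib.AlgebraicGeometry.Morphisms.FiniteType

/-!
`Proj 𝒜 → Spec R₀` is of finite type when `𝒜` is generated in degrees `0, 1` and `𝒜 1` is a finitely
generated `R₀`-module.
-/

set_option autoImplicit false
universe u

open AlgebraicGeometry HomogeneousLocalization CategoryTheory
open scoped HomogeneousIdeal

namespace Groth.Agent.H41.ProjFT

section alg

variable {A σ : Type u} [CommRing A] [SetLike σ A] [AddSubgroupClass σ A]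
  {𝒜 : ℕ → σ} [GradedRing 𝒜]
  {R₀ : Type u} [CommRing R₀] [Algebra R₀ A]
  (halg : ∀ r : R₀, algebraMap R₀ A r ∈ 𝒜 0)
  (T : Finset A) (hT : ∀ t ∈ T, t ∈ 𝒜 1)
  (hspan : ∀ x ∈ 𝒜 1, x ∈ Submodule.span R₀ (T : Set A))
  (hgen : Subring.closure ((𝒜 0 : Set A) ∪ (𝒜 1 : Set A)) = ⊤)

include halg hT in
lemma span_le_deg_one : ∀ x ∈ Submodule.span R₀ (T : Set A), x ∈ 𝒜 1 := by
  intro x hx
  induction hx using Submodule.span_induction with
  | mem x hx => exact hT x hx
  | zero => exact zero_mem _
  | add x y _ _ hx hy => exact add_mem hx hy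
  | smul r x _ hx =>
    rw [Algebra.smul_def]
    have := SetLike.mul_mem_graded (halg r) hx
    rwa [zero_add] at this

include halg hT hspan in
lemma zero_mul_mem_pow {c : A} (hc : c ∈ 𝒜 0) :
    ∀ n : ℕ, 1 ≤ n → ∀ y ∈ Submodule.span R₀ (T : Set A) ^ n,
      c * y ∈ Submodule.span R₀ (T : Set A) ^ n := by
  intro n hn y hy
  obtain ⟨m, rfl⟩ : ∃ m, n = m + 1 := ⟨n - 1, by omega⟩
  rw [pow_succ'] at hy ⊢
  induction hy using Submodule.mul_induction_on' with
  | mem_mul_mem u hu v hv =>
    rw [← mul_assoc]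
    refine Submodule.mul_mem_mul (hspan _ ?_) hv
    have := SetLike.mul_mem_graded hc (span_le_deg_one halg T hT u hu)
    rwa [zero_add] at this
  | add x _ y _ hx hy => rw [mul_add]; exact add_mem hx hy

include halg hT hspan hgen in
lemma mem_pow_of_mem_deg : ∀ n : ℕ, 1 ≤ n → ∀ x ∈ 𝒜 n,
    x ∈ Submodule.span R₀ (T : Set A) ^ n := by
  classical
  set M := Submodule.span R₀ (T : Set A) with hM
  have key : ∀ x : A, ∀ n : ℕ, 1 ≤ n → (DirectSum.decompose 𝒜 x n : A) ∈ M ^ n := by
    intro x
    have hx : x ∈ Subring.closure ((𝒜 0 : Set A) ∪ (𝒜 1 : Set A)) := by rw [hgen]; trivial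
    induction hx using Subring.closure_induction with
    | mem x hx =>
      intro n hn
      rcases hx with hx | hx
      · rw [DirectSum.decompose_of_mem_ne 𝒜 hx (by omega)]; exact zero_mem _
      · by_cases h1 : n = 1
        · subst h1
          rw [DirectSum.decompose_of_mem_same 𝒜 hx, pow_one]
          exact hspan x hx
        · rw [DirectSum.decompose_of_mem_ne 𝒜 hx (Ne.symm h1)]; exact zero_mem _
    | zero => intro n _; simp
    | one =>
      intro n hn
      rw [DirectSum.decompose_of_mem_ne 𝒜 (SetLike.GradedOne.one_mem) (by omega)]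
      exact zero_mem _
    | add x y _ _ hx hy =>
      intro n hn
      rw [DirectSum.decompose_add, DirectSum.add_apply, AddMemClass.coe_add]
      exact add_mem (hx n hn) (hy n hn)
    | neg x _ hx =>
      intro n hn
      rw [DirectSum.decompose_neg]
      have : ((-(DirectSum.decompose 𝒜 x)) n : A) = -((DirectSum.decompose 𝒜 x) n : A) := rfl
      rw [this]
      exact neg_mem (hx n hn)
    | mul x y _ _ hx hy =>
      intro n hn
      rw [DirectSum.decompose_mul, DirectSum.coe_mul_apply_eq_sum_antidiagonal]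
      refine Submodule.sum_mem _ ?_
      rintro ⟨i, j⟩ hij
      rw [Finset.mem_antidiagonal] at hij
      simp only at hij ⊢
      rcases Nat.eq_zero_or_pos i with rfl | hi
      · have hj : j = n := by omega
        subst hj
        exact zero_mul_mem_pow halg T hT hspan (SetLike.coe_mem _) j hn _ (hy j hn)
      rcases Nat.eq_zero_or_pos j with rfl | hj
      · have hi' : i = n := by omega
        subst hi'
        rw [mul_comm]
        exact zero_mul_mem_pow halg T hT hspan (SetLike.coe_mem _) i hn _ (hx i hn)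
      · rw [← hij, pow_add]
        exact Submodule.mul_mem_mul (hx i hi) (hy j hj)
  intro n hn x hx
  have := key x n hn
  rwa [DirectSum.decompose_of_mem_same 𝒜 hx] at this

include halg hT hspan hgen in
lemma irrelevant_le_span : (𝒜₊).toIdeal ≤ Ideal.span (T : Set A) := by
  rw [HomogeneousIdeal.toIdeal_irrelevant_le]
  intro k hk x hx
  have h1 := mem_pow_of_mem_deg halg T hT hspan hgen k hk x hx
  obtain ⟨m, rfl⟩ : ∃ m, k = m + 1 := ⟨k - 1, by omega⟩
  rw [pow_succ] at h1
  change x ∈ Ideal.span (T : Set A)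
  have hM : ∀ v ∈ Submodule.span R₀ (T : Set A), v ∈ Ideal.span (T : Set A) := by
    intro v hv
    induction hv using Submodule.span_induction with
    | mem x hx => exact Ideal.subset_span hx
    | zero => exact zero_mem _
    | add x y _ _ hx hy => exact add_mem hx hy
    | smul r x _ hx => rw [Algebra.smul_def]; exact Ideal.mul_mem_left _ _ hx
  have hMM : ∀ y ∈ Submodule.span R₀ (T : Set A) ^ m * Submodule.span R₀ (T : Set A),
      y ∈ Ideal.span (T : Set A) := by
    intro y hy
    induction hy using Submodule.mul_induction_on' with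
    | mem_mul_mem u _ v hv => exact Ideal.mul_mem_left _ _ (hM v hv)
    | add x _ y _ hx hy => exact add_mem hx hy
  exact hMM x h1

end alg

section away

variable {A σ : Type u} [CommRing A] [SetLike σ A] [AddSubgroupClass σ A]
  {𝒜 : ℕ → σ} [GradedRing 𝒜]
  {R₀ : Type u} [CommRing R₀] [Algebra R₀ A]
  (halg : ∀ r : R₀, algebraMap R₀ A r ∈ 𝒜 0)
  (T : Finset A) (hT : ∀ t ∈ T, t ∈ 𝒜 1)
  (hspan : ∀ x ∈ 𝒜 1, x ∈ Submodule.span R₀ (T : Set A))
  (hgen : Subring.closure ((𝒜 0 : Set A) ∪ (𝒜 1 : Set A)) = ⊤)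
  (ψ : R₀ →+* 𝒜 0) (hψ : ∀ r, (ψ r : A) = algebraMap R₀ A r)
  {t : A} (ht : t ∈ 𝒜 1)

omit [CommRing A] [AddSubgroupClass σ A] [GradedRing 𝒜] in
lemma mem_one_smul_one {s : A} (hs : s ∈ 𝒜 1) : s ∈ 𝒜 (1 • 1) := by simpa using hs

/-- `t ^ n` as an element of `Submonoid.powers t`. -/
def pw (t : A) (n : ℕ) : Submonoid.powers t := ⟨t ^ n, n, rfl⟩

/-- The generators `s / t`, `s ∈ T`, of `Away 𝒜 t`. -/
noncomputable def gens : Set (Away 𝒜 t) :=
  Set.range (fun s : T => Away.mk 𝒜 ht 1 (s : A) (mem_one_smul_one (hT s s.2)))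

lemma gens_finite : (gens T hT ht).Finite := Set.finite_range _

lemma val_away_mk (n : ℕ) (a : A) (ha : a ∈ 𝒜 (n • 1)) :
    algebraMap (Away 𝒜 t) (Localization (Submonoid.powers t)) (Away.mk 𝒜 ht n a ha) =
      Localization.mk a (pw t n) := by
  rw [HomogeneousLocalization.algebraMap_apply, Away.val_mk]
  rfl

include halg hspan hgen hψ in
lemma away_mem_closure (x : Away 𝒜 t) :
    x ∈ Subring.closure (Set.range ((fromZeroRingHom 𝒜 (Submonoid.powers t)).comp ψ) ∪
      gens T hT ht) := by
  set S := Set.range ((fromZeroRingHom 𝒜 (Submonoid.powers t)).comp ψ) ∪ gens T hT ht with hS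
  set M := Submodule.span R₀ (T : Set A) with hM
  let L := Localization (Submonoid.powers t)
  let f : Away 𝒜 t →+* L := algebraMap (Away 𝒜 t) L
  let W' : Subring L := Subring.closure (Set.range (algebraMap R₀ L) ∪
    Set.range (fun s : T => (Localization.mk (s : A) (pw t 1) : L)))
  -- Step A
  have hM1 : ∀ m ∈ M, (Localization.mk m (pw t 1) : L) ∈ W' := by
    intro m hm
    induction hm using Submodule.span_induction with
    | mem s hs => exact Subring.subset_closure (Or.inr ⟨⟨s, hs⟩, rfl⟩)
    | zero => rw [Localization.mk_zero]; exact zero_mem _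
    | add x y _ _ hx hy => rw [← Localization.add_mk_self]; exact add_mem hx hy
    | smul r x _ hx =>
      rw [← Localization.smul_mk, Algebra.smul_def]
      exact mul_mem (Subring.subset_closure (Or.inl ⟨r, rfl⟩)) hx
  have stepA : ∀ (n : ℕ) (a : A), a ∈ M ^ n → (Localization.mk a (pw t n) : L) ∈ W' := by
    intro n a ha
    induction ha using Submodule.pow_induction_on_left' with
    | algebraMap r =>
      have : (Localization.mk (algebraMap R₀ A r) (pw t 0) : L) = algebraMap R₀ L r := by
        rw [IsScalarTower.algebraMap_apply R₀ A L, ← Localization.mk_one_eq_algebraMap]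
        congr 1
        exact Subtype.ext (pow_zero t)
      rw [this]
      exact Subring.subset_closure (Or.inl ⟨r, rfl⟩)
    | add x y i _ _ hx hy => rw [← Localization.add_mk_self]; exact add_mem hx hy
    | mem_mul m hm i x _ hx =>
      have : (Localization.mk (m * x) (pw t (i + 1)) : L) =
          Localization.mk m (pw t 1) * Localization.mk x (pw t i) := by
        rw [Localization.mk_mul]
        congr 1
        exact Subtype.ext (by simp [pw, pow_succ, mul_comm])
      rw [this]
      exact mul_mem (hM1 m hm) hx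
  -- Step B
  have stepB : W' ≤ (Subring.closure S).map f := by
    rw [Subring.closure_le]
    rintro _ (⟨r, rfl⟩ | ⟨s, rfl⟩)
    · refine ⟨(fromZeroRingHom 𝒜 (Submonoid.powers t)) (ψ r),
        Subring.subset_closure (Or.inl ⟨r, rfl⟩), ?_⟩
      change algebraMap (Away 𝒜 t) L (fromZeroRingHom 𝒜 (Submonoid.powers t) (ψ r)) = _
      rw [HomogeneousLocalization.algebraMap_apply, IsScalarTower.algebraMap_apply R₀ A L,
        ← Localization.mk_one_eq_algebraMap, ← hψ r]
      rfl
    · refine ⟨Away.mk 𝒜 ht 1 (s : A) (mem_one_smul_one (hT s s.2)),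
        Subring.subset_closure (Or.inr ⟨s, rfl⟩), ?_⟩
      exact val_away_mk ht 1 _ _
  -- Step C
  obtain ⟨n, a, ha, rfl⟩ := Away.mk_surjective 𝒜 ht x
  rw [ProjGen.away_mk_eq_mk_add ht n 1 a ha]
  have ha1 : a * t ^ 1 ∈ 𝒜 (n + 1) := by
    have := ProjGen.mul_pow_mem_add_smul ht n 1 a ha
    simpa using this
  have hmem := mem_pow_of_mem_deg halg T hT hspan hgen (n + 1) (by omega) _ ha1
  obtain ⟨w, hw, hwx⟩ := stepB (stepA (n + 1) _ hmem)
  have : w = Away.mk 𝒜 ht (n + 1) (a * t ^ 1) (ProjGen.mul_pow_mem_add_smul ht n 1 a ha) := by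
    apply HomogeneousLocalization.val_injective
    rw [← HomogeneousLocalization.algebraMap_apply, ← HomogeneousLocalization.algebraMap_apply,
      val_away_mk]
    exact hwx
  rw [← this]; exact hw

include halg hT hspan hgen hψ ht in
lemma finiteType_away :
    ((fromZeroRingHom 𝒜 (Submonoid.powers t)).comp ψ).FiniteType := by
  let _ := ((fromZeroRingHom 𝒜 (Submonoid.powers t)).comp ψ).toAlgebra
  change Algebra.FiniteType R₀ (Away 𝒜 t)
  refine ⟨⟨(gens_finite T hT ht).toFinset, ?_⟩⟩
  rw [Set.Finite.coe_toFinset, eq_top_iff]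
  intro x _
  have := away_mem_closure halg T hT hspan hgen ψ hψ ht x
  rw [← Subalgebra.mem_toSubring, Algebra.adjoin_eq_ring_closure]
  exact this

set_option backward.isDefEq.respectTransparency.types false in
include halg hT hspan hgen hψ in
theorem locallyOfFiniteType_toSpecZero_comp :
    LocallyOfFiniteType (Proj.toSpecZero 𝒜 ≫ Spec.map (CommRingCat.ofHom ψ)) := by
  have hcov : ⨆ i : T, Proj.basicOpen 𝒜 (i : A) = ⊤ :=
    Proj.iSup_basicOpen_eq_top 𝒜 (ι := T) (↑)
      (by simpa using irrelevant_le_span halg T hT hspan hgen)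
  rw [IsZariskiLocalAtSource.iff_of_iSup_eq_top (P := @LocallyOfFiniteType) _ hcov]
  intro i
  rw [← MorphismProperty.cancel_left_of_respectsIso (P := @LocallyOfFiniteType)
    (Proj.basicOpenIsoSpec 𝒜 (i : A) (hT _ i.2) Nat.one_pos).inv, ← Category.assoc,
    ← Category.assoc, ← Proj.awayι, Proj.awayι_toSpecZero, ← Spec.map_comp,
    HasRingHomProperty.Spec_iff (P := @LocallyOfFiniteType)]
  exact finiteType_away halg T hT hspan hgen ψ hψ (hT _ i.2)

set_option backward.isDefEq.respectTransparency.types false in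
include halg hT hspan hgen in
theorem compactSpace_proj : CompactSpace (Proj 𝒜) := by
  have hcov : ⨆ i : T, Proj.basicOpen 𝒜 (i : A) = ⊤ :=
    Proj.iSup_basicOpen_eq_top 𝒜 (ι := T) (↑)
      (by simpa using irrelevant_le_span halg T hT hspan hgen)
  have H (i : T) : IsCompact (Proj.basicOpen 𝒜 (i : A)).1 := by
    rw [← Proj.opensRange_awayι _ _ (hT _ i.2) Nat.one_pos]
    exact isCompact_range (Proj.awayι _ _ (hT _ i.2) Nat.one_pos).continuous
  have := congr($(hcov).1)
  simp only [TopologicalSpace.Opens.iSup_mk, TopologicalSpace.Opens.carrier_eq_coe,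
    TopologicalSpace.Opens.coe_mk, TopologicalSpace.Opens.coe_top] at this
  rw [← isCompact_univ_iff, ← this]
  exact isCompact_iUnion H

include halg hT hspan hgen in
theorem quasiCompact_toSpecZero_comp :
    QuasiCompact (Proj.toSpecZero 𝒜 ≫ Spec.map (CommRingCat.ofHom ψ)) := by
  rw [HasAffineProperty.iff_of_isAffine (P := @QuasiCompact)]
  exact compactSpace_proj halg T hT hspan hgen

end away

end Groth.Agent.H41.ProjFT
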