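import Groth.Agent.H41.GrTwistAmple
import Groth.Agent.H41.RelTwistChartIso
import Groth.Agent.H41.RelTwistExists
import Groth.Agent.H41.ProjProper
import Groth.Agent.H41.RelProj
import Groth.Agent.H41.GenDegOne
import Groth.Agent.H67.AmplePullback
import Groth.Agent.S8261

/-!
# Projective morphisms are quasi-projective and proper (helper41)
-/

set_option autoImplicit false
set_option linter.style.haveILetI false
universe u

open CategoryTheory AlgebraicGeometry TopologicalSpace Opposite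
open scoped HomogeneousIdeal

namespace Groth.Agent.H41.ProjectiveQP

open Groth.Agent.H18 Groth.Agent.H18.STL Scheme.Modules

variable {Y P : Scheme.{u}} (𝒮 : RelProj.QCGrAlg Y) (hgen : 𝒮.IsGenDegOne) (p : P ⟶ Y)
  (chart : ∀ (U : Y.Opens) (hU : IsAffineOpen U), ((p ⁻¹ᵁ U : P.Opens) : Scheme.{u}) ≅ Proj (𝒮.deg U hU))
  (hP : RelProj.IsRelProj 𝒮 p chart)

include hgen in
/-- on a quasi-compact relative `Proj` generated in degree one, `O(1)` is relatively ample -/
theorem isRelAmple_twist_one [QuasiCompact p] (O1 : P.Modules)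
    (lam : ∀ (U : Y.Opens) (hU : IsAffineOpen U),
      O1 ⟶ (Scheme.Modules.pushforward (RelProj.emb p chart U hU)).obj (GrTwist.twist (𝒮.deg U hU) 1))
    (hO1 : RelProj.IsRelTwist 𝒮 p chart 1 O1 lam) : RelAmple.IsRelAmple p O1 := by
  refine ⟨inferInstance, fun V => ?_⟩
  obtain ⟨e0⟩ := RelTwistChartIso.nonempty_restrict_iso_pullback_chart 𝒮 p chart 1 O1 lam hO1 V.1 V.2
  refine isAmple_of_iso e0.symm ?_
  haveI : CompactSpace ((p ⁻¹ᵁ V.1 : P.Opens) : Scheme.{u}) :=
    isCompact_iff_compactSpace.mp (p.isCompact_preimage V.2.isCompact)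
  have h1 : CohB1.IsAmple ((Scheme.Modules.pullback (chart V.1 V.2).hom).obj
      (GrTwist.twist (𝒮.deg V.1 V.2) ((1 : ℕ) : ℤ))) := by
    refine GrTwistAmple.isAmple_pullback_twist (𝒮.deg V.1 V.2) (chart V.1 V.2).hom 1 fun x => ?_
    obtain ⟨g, hg, hgx⟩ := GenDegOne.exists_degOne_notMem (hgen V.1 V.2) ((chart V.1 V.2).hom x)
    exact ⟨g, hg, hgx,
      (Proj.isAffineOpen_basicOpen (𝒮.deg V.1 V.2) g hg Nat.one_pos).preimage_of_isIso _⟩
  rwa [Nat.cast_one] at h1

include hgen hP in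
theorem isProper (hft : 𝒮.IsFTDeg 1) : IsProper p := by
  rw [Groth.Agent.H41.RelProj.relProj_iff 𝒮 p chart hP @IsProper]
  intro U hU
  let _ : Algebra Γ(Y, U) (𝒮.presheaf.obj (op U)) := (𝒮.str.app (op U)).hom.toAlgebra
  obtain ⟨T, hT, hTspan⟩ := hft U hU
  have halg : ∀ r : Γ(Y, U), algebraMap Γ(Y, U) (𝒮.presheaf.obj (op U)) r ∈ 𝒮.deg U hU 0 :=
    fun r => 𝒮.str_mem U hU r
  have hT' : ∀ t ∈ T, t ∈ 𝒮.deg U hU 1 := fun t ht => hT ht
  have hspan : ∀ x ∈ 𝒮.deg U hU 1, x ∈ Submodule.span Γ(Y, U) (T : Set (𝒮.presheaf.obj (op U))) := by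
    intro x hx
    obtain ⟨c, hc⟩ := hTspan x hx
    rw [hc]
    refine Submodule.sum_mem _ fun t ht => ?_
    have : (𝒮.str.app (op U)).hom (c t) * t = c t • t := (Algebra.smul_def _ _).symm
    rw [this]
    exact Submodule.smul_mem _ _ (Submodule.subset_span ht)
  have hψ : ∀ r, (((𝒮.strZero U hU).hom r : 𝒮.deg U hU 0) : 𝒮.presheaf.obj (op U)) =
      algebraMap Γ(Y, U) (𝒮.presheaf.obj (op U)) r := fun r => rfl
  exact ProjProper.isProper_toSpecZero_comp halg T hT' hspan (hgen U hU) (𝒮.strZero U hU).hom hψ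

/-- projective morphisms are quasi-projective and proper -/
theorem isQuasiProjective_and_isProper {X : Scheme.{u}} (f : X ⟶ Y) (hf : RelProj.IsProjective f) :
    RelProj.IsQuasiProjective f ∧ IsProper f := by
  obtain ⟨𝒮, P, p, chart, e, hgen, hft, hP, rfl⟩ := hf
  obtain ⟨hlft, hqc⟩ := Groth.Agent.S8261.result 𝒮 hgen hft p chart hP
  haveI := hlft
  haveI := hqc
  haveI := isProper 𝒮 hgen p chart hP hft
  refine ⟨⟨inferInstance, inferInstance, ?_⟩, inferInstance⟩
  have h1 := isRelAmple_twist_one 𝒮 hgen p chart (RelTwistExists.L 𝒮 p chart hP 1)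
    (RelTwistExists.lam 𝒮 p chart hP 1) (RelTwistExists.isRelTwist 𝒮 p chart hP 1)
  exact ⟨_, Groth.Agent.H67.AmplePullback.isRelAmple_pullback_of_isEmbedding p e.hom
    (Scheme.homeoOfIso e).isEmbedding _ h1⟩

end Groth.Agent.H41.ProjectiveQP
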