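import Groth.Prelude.Def_RelSpec
import Groth.Agent.H18.RelSpecGamma

/-!
# A quasi-coherent algebra from coequifibered data on the affine opens (helper41)

Given `F : S.AffineZariskiSiteᵒᵖ ⥤ CommRingCat` with a structure map `α` from the structure presheaf that is
`Coequifibered` (`F(D(r)) = F(U)[1/r]`), we glue the `Spec F(U)` (Mathlib's relative gluing) to a scheme
`spec H` affine over `S` and take its direct-image algebra `alg H : RelSpec.QCAlg S`.  Over an affine open `U`,
`(alg H)(U) ≅ F(U)` (`gammaAff`, `gammaIso`), compatibly with restriction to basic opens and with the structure maps; and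
homomorphisms of quasi-coherent algebras `alg H ⟶ B` are the same as natural transformations `F ⟶ B|_aff` under `α`
(`homOfAff`, `hom_ext_aff`).
-/

set_option autoImplicit false
universe u

namespace Groth.Agent.H41.AffAlg

open CategoryTheory CategoryTheory.Limits AlgebraicGeometry TopologicalSpace Opposite RelSpec

variable {S : Scheme.{u}} {F : S.AffineZariskiSiteᵒᵖ ⥤ CommRingCat.{u}}
  {α : (Scheme.AffineZariskiSite.toOpensFunctor S).op ⋙ S.presheaf ⟶ F} (H : α.Coequifibered)

/-- The relative gluing datum: the affine schemes `Spec F(U)` over the affine opens `U` of `S`. -/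
noncomputable def glueData : (Scheme.AffineZariskiSite.directedCover S).RelativeGluingData :=
  Scheme.AffineZariskiSite.relativeGluingData H

instance : ((glueData H).functor ⋙ Scheme.forget).IsLocallyDirected :=
  Scheme.Cover.RelativeGluingData.instIsLocallyDirectedI₀CompFunctorForgetOfIsThin ..

/-- The glued scheme. -/
noncomputable def spec : Scheme.{u} := (glueData H).glued

/-- The structure morphism. -/
noncomputable def π : spec H ⟶ S := (glueData H).toBase

variable (U : S.Opens) (hU : IsAffineOpen U)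

/-- The chart over the affine open `U`. -/
noncomputable def ι : Spec (F.obj (op ⟨U, hU⟩)) ⟶ spec H :=
  (glueData H).cover.f ⟨U, hU⟩

/-- The structure map over the affine open `U`, with the expected type. -/
def strApp {F : S.AffineZariskiSiteᵒᵖ ⥤ CommRingCat.{u}}
    {α : (Scheme.AffineZariskiSite.toOpensFunctor S).op ⋙ S.presheaf ⟶ F} (_H : α.Coequifibered)
    (U : S.Opens) (hU : IsAffineOpen U) : Γ(S, U) ⟶ F.obj (op ⟨U, hU⟩) := α.app (op ⟨U, hU⟩)

instance : IsOpenImmersion (ι H U hU) := (glueData H).cover.map_prop _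

theorem ι_π : ι H U hU ≫ π H = Spec.map (strApp H U hU) ≫ hU.fromSpec :=
  colimit.ι_desc _ _

theorem π_preimage : π H ⁻¹ᵁ U = (ι H U hU).opensRange := by
  simpa using! (glueData H).toBase_preimage_eq_opensRange_ι ⟨U, hU⟩

theorem top_le_preimage :
    (⊤ : (Spec (F.obj (op ⟨U, hU⟩))).Opens) ≤ ι H U hU ⁻¹ᵁ (π H ⁻¹ᵁ U) := by
  rw [← Scheme.Hom.comp_preimage, ι_π, Scheme.Hom.comp_preimage, hU.fromSpec_preimage_self]
  exact le_top

instance isAffineHom_π : IsAffineHom (π H) where
  isAffine_preimage U hU := by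
    rw [π_preimage H U hU]
    exact isAffineOpen_opensRange (ι H U hU)

/-- The quasi-coherent algebra attached to the data: the direct-image algebra of the glued scheme. -/
noncomputable def alg : QCAlg S := QCAlg.directImage (π H)

/-- Over an affine open `U`: the identification of `(alg H)(U)` with `F(U)`. -/
noncomputable def gammaAff : Γ(spec H, π H ⁻¹ᵁ U) ⟶ F.obj (op ⟨U, hU⟩) :=
  (ι H U hU).appLE (π H ⁻¹ᵁ U) ⊤ (top_le_preimage H U hU) ≫ (Scheme.ΓSpecIso (F.obj (op ⟨U, hU⟩))).hom

instance isIso_gammaAff : IsIso (gammaAff H U hU) := by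
  have h1 : IsIso ((ι H U hU).appLE (π H ⁻¹ᵁ U) ⊤ (top_le_preimage H U hU)) := by
    apply Groth.Agent.H18.isIso_appLE_of_eq_image
    rw [π_preimage H U hU, Scheme.Hom.image_top_eq_opensRange]
  unfold gammaAff
  infer_instance

theorem ι_res {U V : S.AffineZariskiSite} (i : V ⟶ U) :
    Spec.map (F.map i.op) ≫ ι H U.1 U.2 = ι H V.1 V.2 :=
  colimit.w (glueData H).functor i

theorem ι_res' {U V : S.AffineZariskiSiteᵒᵖ} (i : U ⟶ V) :
    Spec.map (F.map i) ≫ ι H U.unop.1 U.unop.2 = ι H V.unop.1 V.unop.2 :=
  ι_res H i.unop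

set_option backward.isDefEq.respectTransparency false in
/-- The identifications `gammaAff` over the affine opens, as a natural transformation. -/
noncomputable def gammaRestrict :
    (Scheme.AffineZariskiSite.toOpensFunctor S).op ⋙ (alg H).presheaf ⟶ F where
  app U := gammaAff H U.unop.1 U.unop.2
  naturality U V i := by
    change (spec H).presheaf.map (homOfLE ((π H).preimage_mono
        (Scheme.AffineZariskiSite.toOpens_mono i.unop.le))).op ≫ gammaAff H V.unop.1 V.unop.2 =
      gammaAff H U.unop.1 U.unop.2 ≫ F.map i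
    simp only [gammaAff, Category.assoc, ← Scheme.ΓSpecIso_naturality]
    simp only [← Category.assoc]
    congr 1
    simp only [Scheme.Hom.appTop, Scheme.Hom.appLE, Category.assoc]
    have h1 := (Scheme.Hom.comp_app (Spec.map (F.map i)) (ι H U.unop.1 U.unop.2) (π H ⁻¹ᵁ U.unop.1)).symm
    rw [Scheme.Hom.naturality_assoc, Scheme.Hom.naturality, reassoc_of% h1,
      Scheme.Hom.congr_app (ι_res' H i), Category.assoc, ← Functor.map_comp, ← Functor.map_comp]
    rfl

instance : IsIso (gammaRestrict H) := by
  have : ∀ U, IsIso ((gammaRestrict H).app U) := fun U => isIso_gammaAff H U.unop.1 U.unop.2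
  exact NatIso.isIso_of_isIso_app _

/-- `(alg H)` restricted to the affine opens is `F`. -/
noncomputable def gammaIso :
    (Scheme.AffineZariskiSite.toOpensFunctor S).op ⋙ (alg H).presheaf ≅ F :=
  asIso (gammaRestrict H)

set_option backward.isDefEq.respectTransparency false in
/-- Over an affine open, `gammaAff` is compatible with the two structure maps. -/
theorem π_app_gammaAff :
    (π H).app U ≫ gammaAff H U hU = strApp H U hU := by
  have h1 := Scheme.Hom.congr_app (ι_π H U hU) U
  have h2 := (Scheme.Hom.comp_app (ι H U hU) (π H) U).symm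
  have hk : ∀ k : (op ⊤ : (Spec (F.obj (op ⟨U, hU⟩))).Opensᵒᵖ) ⟶ op ⊤,
      (Spec (F.obj (op ⟨U, hU⟩))).presheaf.map k = 𝟙 _ := fun k => by
    rw [Subsingleton.elim k (𝟙 _)]; exact CategoryTheory.Functor.map_id _ _
  simp only [gammaAff, Scheme.Hom.appLE, Category.assoc]
  rw [reassoc_of% h2, h1, Scheme.Hom.comp_app, hU.fromSpec_app_self]
  simp only [Category.assoc]
  rw [Scheme.Hom.naturality_assoc]
  simp only [← Functor.map_comp_assoc]
  erw [hk, Category.id_comp]
  rw [← cancel_epi (Scheme.ΓSpecIso Γ(S, U)).hom, Iso.hom_inv_id_assoc]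
  erw [Scheme.ΓSpecIso_naturality]

theorem str_gammaRestrict :
    (Scheme.AffineZariskiSite.toOpensFunctor S).op.whiskerLeft (alg H).str ≫ gammaRestrict H = α := by
  ext U : 2
  exact π_app_gammaAff H U.unop.1 U.unop.2

section hom

/-- Homomorphisms of quasi-coherent algebras are determined by their values on affine opens. -/
theorem hom_ext_aff {A B : QCAlg S} {ψ ψ' : A ⟶ B}
    (h : ∀ (U : S.Opens) (_ : IsAffineOpen U), ψ.hom.app (op U) = ψ'.hom.app (op U)) : ψ = ψ' := by
  apply QCAlg.hom_ext
  apply (Functor.IsCoverDense.restrictHomEquivHom (G := Scheme.AffineZariskiSite.toOpensFunctor S)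
    (K := Opens.grothendieckTopology S) (ℱ := A.presheaf)
    (ℱ' := (⟨B.presheaf, B.isSheaf⟩ : TopCat.Sheaf CommRingCat.{u} S.carrier))).symm.injective
  ext U : 2
  exact h U.unop.1 U.unop.2

variable (B : QCAlg S) (η : F ⟶ (Scheme.AffineZariskiSite.toOpensFunctor S).op ⋙ B.presheaf)

/-- The map of presheaves of rings `alg H ⟶ B` extending a natural transformation given on the affine opens. -/
noncomputable def homOfAffMap : (alg H).presheaf ⟶ B.presheaf :=
  Functor.IsCoverDense.restrictHomEquivHom (G := Scheme.AffineZariskiSite.toOpensFunctor S)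
    (K := Opens.grothendieckTopology S) (ℱ := (alg H).presheaf)
    (ℱ' := (⟨B.presheaf, B.isSheaf⟩ : TopCat.Sheaf CommRingCat.{u} S.carrier)) (gammaRestrict H ≫ η)

theorem homOfAffMap_restrict :
    (Scheme.AffineZariskiSite.toOpensFunctor S).op.whiskerLeft (homOfAffMap H B η) = gammaRestrict H ≫ η :=
  (Functor.IsCoverDense.restrictHomEquivHom (G := Scheme.AffineZariskiSite.toOpensFunctor S)
    (K := Opens.grothendieckTopology S) (ℱ := (alg H).presheaf)
    (ℱ' := (⟨B.presheaf, B.isSheaf⟩ : TopCat.Sheaf CommRingCat.{u} S.carrier))).symm_apply_apply _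

theorem homOfAffMap_app :
    (homOfAffMap H B η).app (op U) = gammaAff H U hU ≫ η.app (op ⟨U, hU⟩) :=
  NatTrans.congr_app (homOfAffMap_restrict H B η) (op ⟨U, hU⟩)

variable (hη : α ≫ η = (Scheme.AffineZariskiSite.toOpensFunctor S).op.whiskerLeft B.str)

include hη in
theorem str_homOfAffMap : (alg H).str ≫ homOfAffMap H B η = B.str := by
  apply (Functor.IsCoverDense.restrictHomEquivHom (G := Scheme.AffineZariskiSite.toOpensFunctor S)
    (K := Opens.grothendieckTopology S) (ℱ := S.presheaf)
    (ℱ' := (⟨B.presheaf, B.isSheaf⟩ : TopCat.Sheaf CommRingCat.{u} S.carrier))).symm.injective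
  ext U : 2
  change (π H).app U.unop.1 ≫ (homOfAffMap H B η).app (op U.unop.1) = B.str.app (op U.unop.1)
  rw [homOfAffMap_app H U.unop.1 U.unop.2]
  have h1 := π_app_gammaAff H U.unop.1 U.unop.2
  have h2 : strApp H U.unop.1 U.unop.2 ≫ η.app (op ⟨U.unop.1, U.unop.2⟩) = B.str.app (op U.unop.1) :=
    NatTrans.congr_app hη U
  rw [← h2, ← h1, Category.assoc]
  rfl

/-- The homomorphism of quasi-coherent algebras `alg H ⟶ B` attached to a natural transformation `F ⟶ B|_aff` under the
structure maps. -/
noncomputable def homOfAff : alg H ⟶ B := ⟨homOfAffMap H B η, str_homOfAffMap H B η hη⟩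

theorem homOfAff_app :
    (homOfAff H B η hη).hom.app (op U) = gammaAff H U hU ≫ η.app (op ⟨U, hU⟩) :=
  homOfAffMap_app H U hU B η

end hom

end Groth.Agent.H41.AffAlg
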