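import Mathlib.LinearAlgebra.SymmetricAlgebra.Basic
import Mathlib.LinearAlgebra.TensorAlgebra.Grading
import Mathlib.RingTheory.GradedAlgebra.Basic

/-!
# The grading of the symmetric algebra (helper41)

`SymmetricAlgebra R M` is graded by the powers of the range of `ι`.  Also: transport of a grading along a ring
isomorphism, into additive subgroups.
-/

set_option autoImplicit false

open scoped DirectSum

namespace Groth.Agent.H41.SymGrading

section sym

variable (R M : Type*) [CommRing R] [AddCommGroup M] [Module R M]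

/-- the degree `n` part of the symmetric algebra -/
def symDeg (n : ℕ) : Submodule R (SymmetricAlgebra R M) :=
  LinearMap.range (SymmetricAlgebra.ι R M) ^ n

instance gradedMonoid : SetLike.GradedMonoid (symDeg R M) :=
  Submodule.nat_power_gradedMonoid (LinearMap.range (SymmetricAlgebra.ι R M))

theorem ι_mem (m : M) : SymmetricAlgebra.ι R M m ∈ symDeg R M 1 := by
  unfold symDeg
  rw [pow_one]
  exact LinearMap.mem_range_self _ m

/-- A version of `SymmetricAlgebra.ι` that maps directly into the graded structure. -/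
noncomputable def gι : M →ₗ[R] ⨁ i : ℕ, ↥(symDeg R M i) :=
  DirectSum.lof R ℕ (fun i => ↥(symDeg R M i)) 1 ∘ₗ
    (SymmetricAlgebra.ι R M).codRestrict _ (ι_mem R M)

theorem gι_apply (m : M) :
    gι R M m = DirectSum.of (fun i : ℕ => ↥(symDeg R M i)) 1 ⟨SymmetricAlgebra.ι R M m, ι_mem R M m⟩ :=
  rfl

noncomputable instance gradedAlgebra : GradedAlgebra (symDeg R M) :=
  GradedAlgebra.ofAlgHom _ (SymmetricAlgebra.lift <| gι R M)
    (by
      apply SymmetricAlgebra.algHom_ext
      ext m
      change DirectSum.coeAlgHom (symDeg R M)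
        (SymmetricAlgebra.lift (gι R M) (SymmetricAlgebra.ι R M m)) = SymmetricAlgebra.ι R M m
      rw [SymmetricAlgebra.lift_ι_apply, gι_apply R M, DirectSum.coeAlgHom_of, Subtype.coe_mk])
    fun i x => by
    obtain ⟨x, hx⟩ := x
    dsimp only [Subtype.coe_mk, DirectSum.lof_eq_of]
    unfold symDeg at hx
    induction hx using Submodule.pow_induction_on_left' with
    | algebraMap r =>
      rw [AlgHom.commutes, DirectSum.algebraMap_apply]; rfl
    | add x y i hx hy ihx ihy =>
      rw [map_add, ihx, ihy, ← map_add]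
      rfl
    | mem_mul m hm i x hx ih =>
      obtain ⟨_, rfl⟩ := hm
      rw [map_mul, ih, SymmetricAlgebra.lift_ι_apply, gι_apply R M, DirectSum.of_mul_of]
      exact DirectSum.of_eq_of_gradedMonoid_eq (Sigma.subtype_ext (add_comm _ _) rfl)

end sym

section transport

variable {A B : Type*} [CommRing A] [CommRing B] (e : A ≃+* B)
  {σ : Type*} [SetLike σ B] [AddSubgroupClass σ B] (ℬ : ℕ → σ)

/-- the preimage of a grading under a ring isomorphism, as additive subgroups -/
def comapGr (n : ℕ) : AddSubgroup A where
  carrier := {a | e a ∈ ℬ n}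
  add_mem' {a b} ha hb := by
    change e (a + b) ∈ ℬ n
    rw [map_add]
    exact add_mem ha hb
  zero_mem' := by
    change e 0 ∈ ℬ n
    rw [map_zero]
    exact zero_mem _
  neg_mem' {a} ha := by
    change e (-a) ∈ ℬ n
    rw [map_neg]
    exact neg_mem ha

theorem mem_comapGr {n : ℕ} {a : A} : a ∈ comapGr e ℬ n ↔ e a ∈ ℬ n := Iff.rfl

variable [GradedRing ℬ]

instance comapGr_gradedMonoid : SetLike.GradedMonoid (comapGr e ℬ) where
  one_mem := by
    change e 1 ∈ ℬ 0
    rw [map_one]
    exact SetLike.GradedOne.one_mem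
  mul_mem {i j a b} ha hb := by
    change e (a * b) ∈ ℬ (i + j)
    rw [map_mul]
    exact SetLike.GradedMul.mul_mem ha hb

/-- the pieces correspond -/
def pieceHom (i : ℕ) : ↥(ℬ i) →+ ↥(comapGr e ℬ i) where
  toFun b := ⟨e.symm b.1, by
    change e (e.symm b.1) ∈ ℬ i
    rw [RingEquiv.apply_symm_apply]
    exact b.2⟩
  map_zero' := Subtype.ext (map_zero e.symm)
  map_add' a b := Subtype.ext (map_add e.symm a.1 b.1)

/-- the decomposition map of the transported grading -/
noncomputable def comapDecompose : A →+ ⨁ i, ↥(comapGr e ℬ i) :=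
  (DirectSum.map (pieceHom e ℬ)).comp
    ((DirectSum.decomposeAddEquiv ℬ).toAddMonoidHom.comp e.toAddMonoidHom)

theorem coe_map_pieceHom (x : ⨁ i, ↥(ℬ i)) :
    DirectSum.coeAddMonoidHom (comapGr e ℬ) (DirectSum.map (pieceHom e ℬ) x) =
      e.symm (DirectSum.coeAddMonoidHom ℬ x) := by
  induction x using DirectSum.induction_on with
  | zero => simp
  | of i b =>
    rw [DirectSum.map_of, DirectSum.coeAddMonoidHom_of, DirectSum.coeAddMonoidHom_of]
    rfl
  | add x y hx hy => rw [map_add, map_add, map_add, map_add, hx, hy]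

noncomputable instance comapGr_decomposition : DirectSum.Decomposition (comapGr e ℬ) :=
  DirectSum.Decomposition.ofAddHom (comapGr e ℬ) (comapDecompose e ℬ)
    (by
      ext a
      change DirectSum.coeAddMonoidHom (comapGr e ℬ)
        (DirectSum.map (pieceHom e ℬ) (DirectSum.decompose ℬ (e a))) = a
      rw [coe_map_pieceHom]
      change e.symm ((DirectSum.decompose ℬ).symm (DirectSum.decompose ℬ (e a))) = a
      rw [Equiv.symm_apply_apply, RingEquiv.symm_apply_apply])
    (by
      ext i x : 2
      rw [AddMonoidHom.comp_apply, AddMonoidHom.comp_apply, AddMonoidHom.comp_apply,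
        AddMonoidHom.id_apply, DirectSum.coeAddMonoidHom_of]
      change DirectSum.map (pieceHom e ℬ) (DirectSum.decompose ℬ (e x.1)) =
        DirectSum.of (fun i => ↥(comapGr e ℬ i)) i x
      rw [DirectSum.decompose_of_mem ℬ (show e x.1 ∈ ℬ i from x.2), DirectSum.map_of]
      congr 1
      exact Subtype.ext (e.symm_apply_apply x.1))

noncomputable instance comapGr_gradedRing : GradedRing (comapGr e ℬ) where

end transport

end Groth.Agent.H41.SymGrading
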