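import Mathlib.RingTheory.Coalgebra.Basic
import Mathlib.LinearAlgebra.TensorProduct.RightExactness
import Mathlib.LinearAlgebra.TensorProduct.Basis
import Mathlib.RingTheory.Flat.Basic
import Mathlib.LinearAlgebra.Basis.VectorSpace
import Mathlib.RingTheory.Finiteness.Basic
import Mathlib.RingTheory.Noetherian.Basic

set_option autoImplicit false
universe u v w

namespace Groth.Agent.H41

open TensorProduct

section Criterion

variable {k : Type u} [Field k] {M : Type v} {N : Type w} [AddCommGroup M] [Module k M]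
  [AddCommGroup N] [Module k N]

/-- an element of `M ⊗ N` all of whose right contractions vanish is zero -/
theorem eq_zero_of_forall_lTensor (u : M ⊗[k] N)
    (h : ∀ g : N →ₗ[k] k, (TensorProduct.rid k M) (g.lTensor M u) = 0) : u = 0 := by
  classical
  let b := Module.Basis.ofVectorSpace k N
  apply (TensorProduct.equivFinsuppOfBasisRight (M := M) b).injective
  rw [map_zero]
  ext i
  have hi := h (b.coord i)
  have key : ∀ t : M ⊗[k] N, (TensorProduct.equivFinsuppOfBasisRight (M := M) b t) i =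
      (TensorProduct.rid k M) ((b.coord i).lTensor M t) := by
    intro t
    induction t using TensorProduct.induction_on with
    | zero => simp
    | tmul m n => simp [TensorProduct.equivFinsuppOfBasisRight_apply_tmul_apply]
    | add x y hx hy => simp only [map_add, Finsupp.add_apply, hx, hy]
  rw [key, hi]
  rfl

theorem eq_zero_of_forall_rTensor (u : M ⊗[k] N)
    (h : ∀ f : M →ₗ[k] k, (TensorProduct.lid k N) (f.rTensor N u) = 0) : u = 0 := by
  have h2 : (TensorProduct.comm k M N) u = 0 := by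
    apply eq_zero_of_forall_lTensor
    intro g
    have := h g
    have key : ∀ t : M ⊗[k] N, (TensorProduct.rid k N) (g.lTensor N (TensorProduct.comm k M N t)) =
        (TensorProduct.lid k N) (g.rTensor N t) := by
      intro t
      induction t using TensorProduct.induction_on with
      | zero => simp
      | tmul m n => simp
      | add x y hx hy => simp only [map_add, hx, hy]
    rw [key, this]
  exact (TensorProduct.comm k M N).injective (by rw [h2, map_zero])

end Criterion

section Hull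

variable {k : Type u} [Field k] {A : Type v} [AddCommGroup A] [Module k A] [Coalgebra k A]

local notation "Δ" => (CoalgebraStruct.comul (R := k) (A := A))
local notation "ε" => (CoalgebraStruct.counit (R := k) (A := A))

/-- right contraction `a ↦ Σ a₁ g(a₂)` -/
noncomputable def Rg (g : A →ₗ[k] k) : A →ₗ[k] A :=
  (TensorProduct.rid k A).toLinearMap ∘ₗ g.lTensor A ∘ₗ Δ

/-- left contraction `a ↦ Σ f(a₁) a₂` -/
noncomputable def Lf (f : A →ₗ[k] k) : A →ₗ[k] A :=
  (TensorProduct.lid k A).toLinearMap ∘ₗ f.rTensor A ∘ₗ Δ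

theorem Rg_counit : Rg (k := k) (A := A) ε = LinearMap.id := by
  ext a
  have := LinearMap.congr_fun (Coalgebra.lTensor_counit_comp_comul (R := k) (A := A)) a
  simp only [LinearMap.coe_comp, Function.comp_apply] at this
  simp [Rg, this]

theorem Lf_counit : Lf (k := k) (A := A) ε = LinearMap.id := by
  ext a
  have := LinearMap.congr_fun (Coalgebra.rTensor_counit_comp_comul (R := k) (A := A)) a
  simp only [LinearMap.coe_comp, Function.comp_apply] at this
  simp [Lf, this]

theorem comul_comp_Rg (g : A →ₗ[k] k) :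
    Δ ∘ₗ Rg g = (Rg g).lTensor A ∘ₗ Δ := by
  have h1 : Δ ∘ₗ (TensorProduct.rid k A).toLinearMap ∘ₗ g.lTensor A =
      (TensorProduct.rid k (A ⊗[k] A)).toLinearMap ∘ₗ g.lTensor (A ⊗[k] A) ∘ₗ
        (Δ).rTensor A := by
    ext x y
    simp
  have h2 : (TensorProduct.rid k (A ⊗[k] A)).toLinearMap ∘ₗ g.lTensor (A ⊗[k] A) ∘ₗ
      (TensorProduct.assoc k A A A).symm.toLinearMap =
      ((TensorProduct.rid k A).toLinearMap ∘ₗ g.lTensor A).lTensor A := by
    ext x y z
    simp
  have h3 : (Δ).rTensor A ∘ₗ Δ =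
      (TensorProduct.assoc k A A A).symm.toLinearMap ∘ₗ (Δ).lTensor A ∘ₗ Δ := by
    rw [← Coalgebra.coassoc (R := k) (A := A)]
    ext a
    simp
  calc Δ ∘ₗ Rg g
      = (Δ ∘ₗ (TensorProduct.rid k A).toLinearMap ∘ₗ g.lTensor A) ∘ₗ Δ := by
        simp only [Rg, LinearMap.comp_assoc]
    _ = (TensorProduct.rid k (A ⊗[k] A)).toLinearMap ∘ₗ g.lTensor (A ⊗[k] A) ∘ₗ
          ((Δ).rTensor A ∘ₗ Δ) := by
        rw [h1]; simp only [LinearMap.comp_assoc]
    _ = ((TensorProduct.rid k (A ⊗[k] A)).toLinearMap ∘ₗ g.lTensor (A ⊗[k] A) ∘ₗ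
          (TensorProduct.assoc k A A A).symm.toLinearMap) ∘ₗ (Δ).lTensor A ∘ₗ Δ := by
        rw [h3]; simp only [LinearMap.comp_assoc]
    _ = (Rg g).lTensor A ∘ₗ Δ := by
        rw [h2, ← LinearMap.comp_assoc, ← LinearMap.lTensor_comp]
        simp only [Rg, LinearMap.comp_assoc]

theorem comul_comp_Lf (f : A →ₗ[k] k) :
    Δ ∘ₗ Lf f = (Lf f).rTensor A ∘ₗ Δ := by
  have h1 : Δ ∘ₗ (TensorProduct.lid k A).toLinearMap ∘ₗ f.rTensor A =
      (TensorProduct.lid k (A ⊗[k] A)).toLinearMap ∘ₗ f.rTensor (A ⊗[k] A) ∘ₗ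
        (Δ).lTensor A := by
    ext x y
    simp
  have h2 : (TensorProduct.lid k (A ⊗[k] A)).toLinearMap ∘ₗ f.rTensor (A ⊗[k] A) ∘ₗ
      (TensorProduct.assoc k A A A).toLinearMap =
      ((TensorProduct.lid k A).toLinearMap ∘ₗ f.rTensor A).rTensor A := by
    ext x y z
    simp [TensorProduct.smul_tmul']
  have h3 : (Δ).lTensor A ∘ₗ Δ =
      (TensorProduct.assoc k A A A).toLinearMap ∘ₗ (Δ).rTensor A ∘ₗ Δ :=
    (Coalgebra.coassoc (R := k) (A := A)).symm
  calc Δ ∘ₗ Lf f
      = (Δ ∘ₗ (TensorProduct.lid k A).toLinearMap ∘ₗ f.rTensor A) ∘ₗ Δ := by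
        simp only [Lf, LinearMap.comp_assoc]
    _ = (TensorProduct.lid k (A ⊗[k] A)).toLinearMap ∘ₗ f.rTensor (A ⊗[k] A) ∘ₗ
          ((Δ).lTensor A ∘ₗ Δ) := by
        rw [h1]; simp only [LinearMap.comp_assoc]
    _ = ((TensorProduct.lid k (A ⊗[k] A)).toLinearMap ∘ₗ f.rTensor (A ⊗[k] A) ∘ₗ
          (TensorProduct.assoc k A A A).toLinearMap) ∘ₗ (Δ).rTensor A ∘ₗ Δ := by
        rw [h3]; simp only [LinearMap.comp_assoc]
    _ = (Lf f).rTensor A ∘ₗ Δ := by
        rw [h2, ← LinearMap.comp_assoc, ← LinearMap.rTensor_comp]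
        simp only [Lf, LinearMap.comp_assoc]

theorem Rg_comp_Rg (h g : A →ₗ[k] k) : Rg h ∘ₗ Rg g = Rg (A := A) (h ∘ₗ Rg g) := by
  have := comul_comp_Rg (k := k) (A := A) g
  calc Rg h ∘ₗ Rg g
      = (TensorProduct.rid k A).toLinearMap ∘ₗ h.lTensor A ∘ₗ (Δ ∘ₗ Rg g) := by
        simp only [Rg, LinearMap.comp_assoc]
    _ = (TensorProduct.rid k A).toLinearMap ∘ₗ (h.lTensor A ∘ₗ (Rg g).lTensor A) ∘ₗ Δ := by
        rw [this]; simp only [LinearMap.comp_assoc]
    _ = Rg (h ∘ₗ Rg g) := by
        rw [← LinearMap.lTensor_comp]; rfl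

theorem Lf_comp_Lf (h f : A →ₗ[k] k) : Lf h ∘ₗ Lf f = Lf (A := A) (h ∘ₗ Lf f) := by
  have := comul_comp_Lf (k := k) (A := A) f
  calc Lf h ∘ₗ Lf f
      = (TensorProduct.lid k A).toLinearMap ∘ₗ h.rTensor A ∘ₗ (Δ ∘ₗ Lf f) := by
        simp only [Lf, LinearMap.comp_assoc]
    _ = (TensorProduct.lid k A).toLinearMap ∘ₗ (h.rTensor A ∘ₗ (Lf f).rTensor A) ∘ₗ Δ := by
        rw [this]; simp only [LinearMap.comp_assoc]
    _ = Lf (h ∘ₗ Lf f) := by
        rw [← LinearMap.rTensor_comp]; rfl

/-- the span of all right contractions of elements of `U` -/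
noncomputable def rightHull (U : Submodule k A) : Submodule k A :=
  ⨆ g : A →ₗ[k] k, U.map (Rg g)

/-- the span of all left contractions of elements of `U` -/
noncomputable def leftHull (U : Submodule k A) : Submodule k A :=
  ⨆ f : A →ₗ[k] k, U.map (Lf f)

theorem le_rightHull (U : Submodule k A) : U ≤ rightHull U := by
  intro u hu
  refine Submodule.mem_iSup_of_mem ε ?_
  rw [Rg_counit]
  simpa using hu

theorem le_leftHull (U : Submodule k A) : U ≤ leftHull U := by
  intro u hu
  refine Submodule.mem_iSup_of_mem ε ?_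
  rw [Lf_counit]
  simpa using hu

theorem Rg_mem_rightHull (U : Submodule k A) (g : A →ₗ[k] k) {u : A} (hu : u ∈ U) :
    Rg g u ∈ rightHull U :=
  Submodule.mem_iSup_of_mem g (Submodule.mem_map_of_mem hu)

theorem Lf_mem_leftHull (U : Submodule k A) (f : A →ₗ[k] k) {u : A} (hu : u ∈ U) :
    Lf f u ∈ leftHull U :=
  Submodule.mem_iSup_of_mem f (Submodule.mem_map_of_mem hu)

theorem rightHull_stable (U : Submodule k A) (h : A →ₗ[k] k) {w : A} (hw : w ∈ rightHull U) :
    Rg h w ∈ rightHull U := by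
  unfold rightHull at hw
  induction hw using Submodule.iSup_induction' with
  | mem g x hx =>
    obtain ⟨u, hu, rfl⟩ := hx
    have := LinearMap.congr_fun (Rg_comp_Rg (k := k) (A := A) h g) u
    simp only [LinearMap.coe_comp, Function.comp_apply] at this
    rw [this]
    exact Rg_mem_rightHull U _ hu
  | zero => simp
  | add x y _ _ hx hy => rw [map_add]; exact Submodule.add_mem _ hx hy

theorem leftHull_stable (U : Submodule k A) (h : A →ₗ[k] k) {w : A} (hw : w ∈ leftHull U) :
    Lf h w ∈ leftHull U := by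
  unfold leftHull at hw
  induction hw using Submodule.iSup_induction' with
  | mem f x hx =>
    obtain ⟨u, hu, rfl⟩ := hx
    have := LinearMap.congr_fun (Lf_comp_Lf (k := k) (A := A) h f) u
    simp only [LinearMap.coe_comp, Function.comp_apply] at this
    rw [this]
    exact Lf_mem_leftHull U _ hu
  | zero => simp
  | add x y _ _ hx hy => rw [map_add]; exact Submodule.add_mem _ hx hy

/-- if `W` is stable under all right contractions then `Δ W ⊆ W ⊗ A` -/
theorem comul_mem_range_rTensor (W : Submodule k A)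
    (hW : ∀ (h : A →ₗ[k] k) (w : A), w ∈ W → Rg h w ∈ W) {w : A} (hw : w ∈ W) :
    Δ w ∈ LinearMap.range (W.subtype.rTensor A) := by
  rw [← rTensor_mkQ, LinearMap.mem_ker]
  apply eq_zero_of_forall_lTensor
  intro h
  have hcomm : (TensorProduct.rid k (A ⧸ W)).toLinearMap ∘ₗ h.lTensor (A ⧸ W) ∘ₗ W.mkQ.rTensor A =
      W.mkQ ∘ₗ (TensorProduct.rid k A).toLinearMap ∘ₗ h.lTensor A := by
    ext x y
    simp
  have := LinearMap.congr_fun hcomm (Δ w)
  simp only [LinearMap.coe_comp, Function.comp_apply, LinearEquiv.coe_coe] at this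
  rw [this]
  have h2 : (TensorProduct.rid k A) ((h.lTensor A) (Δ w)) = Rg h w := rfl
  rw [h2]
  simpa using hW h w hw

theorem comul_mem_range_lTensor (W : Submodule k A)
    (hW : ∀ (h : A →ₗ[k] k) (w : A), w ∈ W → Lf h w ∈ W) {w : A} (hw : w ∈ W) :
    Δ w ∈ LinearMap.range (W.subtype.lTensor A) := by
  rw [← lTensor_mkQ, LinearMap.mem_ker]
  apply eq_zero_of_forall_rTensor
  intro h
  have hcomm : (TensorProduct.lid k (A ⧸ W)).toLinearMap ∘ₗ h.rTensor (A ⧸ W) ∘ₗ W.mkQ.lTensor A =
      W.mkQ ∘ₗ (TensorProduct.lid k A).toLinearMap ∘ₗ h.rTensor A := by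
    ext x y
    simp
  have := LinearMap.congr_fun hcomm (Δ w)
  simp only [LinearMap.coe_comp, Function.comp_apply, LinearEquiv.coe_coe] at this
  rw [this]
  have h2 : (TensorProduct.lid k A) ((h.rTensor A) (Δ w)) = Lf h w := rfl
  rw [h2]
  simpa using hW h w hw

theorem leftHull_rTensor (W : Submodule k A)
    (hW : ∀ w ∈ W, Δ w ∈ LinearMap.range (W.subtype.rTensor A)) {b : A} (hb : b ∈ leftHull W) :
    Δ b ∈ LinearMap.range ((leftHull W).subtype.rTensor A) := by
  unfold leftHull at hb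
  induction hb using Submodule.iSup_induction' with
  | mem f x hx =>
    obtain ⟨w, hw, rfl⟩ := hx
    obtain ⟨s, hs⟩ := hW w hw
    have h1 := LinearMap.congr_fun (comul_comp_Lf (k := k) (A := A) f) w
    simp only [LinearMap.coe_comp, Function.comp_apply] at h1
    rw [h1, ← hs]
    let r : W →ₗ[k] leftHull W :=
      LinearMap.codRestrict (leftHull W) (Lf f ∘ₗ W.subtype)
        (fun w => Lf_mem_leftHull W f w.2)
    have hr : (leftHull W).subtype ∘ₗ r = Lf f ∘ₗ W.subtype := by
      ext w; rfl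
    refine ⟨r.rTensor A s, ?_⟩
    rw [← LinearMap.comp_apply, ← LinearMap.rTensor_comp, hr, LinearMap.rTensor_comp]
    rfl
  | zero => simp
  | add x y _ _ hx hy => rw [map_add]; exact Submodule.add_mem _ hx hy

/-- `(B ⊗ A) ∩ (A ⊗ B) = B ⊗ B` inside `A ⊗ A` -/
theorem mem_range_map_of_mem_range (B : Submodule k A) {t : A ⊗[k] A}
    (h1 : t ∈ LinearMap.range (B.subtype.rTensor A))
    (h2 : t ∈ LinearMap.range (B.subtype.lTensor A)) :
    t ∈ LinearMap.range (TensorProduct.map B.subtype B.subtype) := by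
  obtain ⟨s, rfl⟩ := h1
  rw [← lTensor_mkQ, LinearMap.mem_ker] at h2
  have hcomm : B.mkQ.lTensor A ∘ₗ B.subtype.rTensor A =
      B.subtype.rTensor (A ⧸ B) ∘ₗ B.mkQ.lTensor B := by
    ext x y
    simp
  have h3 : B.subtype.rTensor (A ⧸ B) (B.mkQ.lTensor B s) = 0 := by
    rw [← LinearMap.comp_apply, ← hcomm]
    exact h2
  have hinj : Function.Injective (B.subtype.rTensor (A ⧸ B)) :=
    Module.Flat.rTensor_preserves_injective_linearMap _ B.injective_subtype
  have h4 : B.mkQ.lTensor B s = 0 := hinj (by rw [h3, map_zero])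
  have h5 : s ∈ LinearMap.range (B.subtype.lTensor B) := by
    rw [← lTensor_mkQ, LinearMap.mem_ker]
    exact h4
  obtain ⟨r, rfl⟩ := h5
  refine ⟨r, ?_⟩
  rw [← LinearMap.comp_apply]
  congr 1
  ext x y
  simp

theorem exists_fg_contraction (t : A ⊗[k] A) :
    ∃ P : Submodule k A, P.FG ∧ ∀ g : A →ₗ[k] k, (TensorProduct.rid k A) (g.lTensor A t) ∈ P := by
  induction t using TensorProduct.induction_on with
  | zero => exact ⟨⊥, Submodule.fg_bot, fun g => by simp⟩
  | tmul x y =>
    refine ⟨Submodule.span k {x}, Submodule.fg_span_singleton x, fun g => ?_⟩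
    simp only [LinearMap.lTensor_tmul, TensorProduct.rid_tmul]
    exact Submodule.smul_mem _ _ (Submodule.mem_span_singleton_self x)
  | add x y hx hy =>
    obtain ⟨P, hP, hP'⟩ := hx
    obtain ⟨Q, hQ, hQ'⟩ := hy
    refine ⟨P ⊔ Q, hP.sup hQ, fun g => ?_⟩
    rw [map_add, map_add]
    exact Submodule.add_mem _ (Submodule.mem_sup_left (hP' g)) (Submodule.mem_sup_right (hQ' g))

theorem exists_fg_contraction' (t : A ⊗[k] A) :
    ∃ P : Submodule k A, P.FG ∧ ∀ f : A →ₗ[k] k, (TensorProduct.lid k A) (f.rTensor A t) ∈ P := by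
  induction t using TensorProduct.induction_on with
  | zero => exact ⟨⊥, Submodule.fg_bot, fun g => by simp⟩
  | tmul x y =>
    refine ⟨Submodule.span k {y}, Submodule.fg_span_singleton y, fun g => ?_⟩
    simp only [LinearMap.rTensor_tmul, TensorProduct.lid_tmul]
    exact Submodule.smul_mem _ _ (Submodule.mem_span_singleton_self y)
  | add x y hx hy =>
    obtain ⟨P, hP, hP'⟩ := hx
    obtain ⟨Q, hQ, hQ'⟩ := hy
    refine ⟨P ⊔ Q, hP.sup hQ, fun g => ?_⟩
    rw [map_add, map_add]
    exact Submodule.add_mem _ (Submodule.mem_sup_left (hP' g)) (Submodule.mem_sup_right (hQ' g))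

theorem rightHull_fg (U : Submodule k A) (hU : U.FG) : (rightHull U).FG := by
  classical
  obtain ⟨S, rfl⟩ := hU
  choose P hPfg hP using fun u : A => exists_fg_contraction (k := k) (Δ u)
  have hQ : (⨆ u ∈ S, P u).FG := Submodule.fg_biSup S P (fun u _ => hPfg u)
  refine Submodule.FG.of_le hQ ?_
  unfold rightHull
  refine iSup_le fun g => ?_
  rw [Submodule.map_span, Submodule.span_le]
  rintro _ ⟨u, hu, rfl⟩
  exact Submodule.mem_iSup_of_mem u (Submodule.mem_iSup_of_mem hu (hP u g))

theorem leftHull_fg (U : Submodule k A) (hU : U.FG) : (leftHull U).FG := by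
  classical
  obtain ⟨S, rfl⟩ := hU
  choose P hPfg hP using fun u : A => exists_fg_contraction' (k := k) (Δ u)
  have hQ : (⨆ u ∈ S, P u).FG := Submodule.fg_biSup S P (fun u _ => hPfg u)
  refine Submodule.FG.of_le hQ ?_
  unfold leftHull
  refine iSup_le fun g => ?_
  rw [Submodule.map_span, Submodule.span_le]
  rintro _ ⟨u, hu, rfl⟩
  exact Submodule.mem_iSup_of_mem u (Submodule.mem_iSup_of_mem hu (hP u g))

/-- fundamental theorem of coalgebras -/
theorem exists_finite_subcoalgebra (U : Submodule k A) (hU : U.FG) :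
    ∃ B : Submodule k A, B.FG ∧ U ≤ B ∧
      ∀ b ∈ B, Δ b ∈ LinearMap.range (TensorProduct.map B.subtype B.subtype) := by
  refine ⟨leftHull (rightHull U), leftHull_fg _ (rightHull_fg U hU),
    (le_rightHull U).trans (le_leftHull _), ?_⟩
  intro b hb
  apply mem_range_map_of_mem_range
  · apply leftHull_rTensor _ _ hb
    intro w hw
    exact comul_mem_range_rTensor (rightHull U) (fun h w hw => rightHull_stable U h hw) hw
  · exact comul_mem_range_lTensor _ (fun h w hw => leftHull_stable _ h hw) hb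

end Hull

end Groth.Agent.H41
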