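import Mathlib.AlgebraicGeometry.Pullbacks
import Mathlib.AlgebraicGeometry.ResidueField
import Mathlib.AlgebraicGeometry.Morphisms.FiniteType
import Mathlib.RingTheory.TensorProduct.MonoidAlgebra
import Mathlib.RingTheory.PolynomialAlgebra
import Mathlib.Algebra.Polynomial.Laurent

/-!
# Fibres of morphisms which are locally `Spec C[T] → Spec C` or `Spec C[T, T⁻¹] → Spec C`
-/

set_option autoImplicit false
universe u

open AlgebraicGeometry CategoryTheory CategoryTheory.Limits

namespace Groth.Agent.H41.FibreGen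

/-- The fibre of `π` at `x`, when `π` is over an affine open neighbourhood `Spec C` of `x` the
morphism `Spec D → Spec C` and `D ⊗_C κ(x) = K'`. -/
theorem exists_fibre_iso {E X : Scheme.{u}} (π : E ⟶ X) (x : X)
    {C D K' : CommRingCat.{u}} (j : Spec C ⟶ X) [IsOpenImmersion j] (hx : x ∈ Set.range j.base)
    (k : Spec D ⟶ E) (g : C ⟶ D) (hpb : IsPullback k (Spec.map g) π j)
    (a : X.residueField x ⟶ K')
    (hK : ∀ ψ : C ⟶ X.residueField x, ∃ b : D ⟶ K', IsPushout g ψ b a) :
    ∃ e : pullback π (X.fromSpecResidueField x) ≅ Spec K',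
      e.hom ≫ Spec.map a = pullback.snd π (X.fromSpecResidueField x) := by
  have hr : Set.range (X.fromSpecResidueField x).base ⊆ Set.range j.base := by
    rw [Scheme.range_fromSpecResidueField]
    exact Set.singleton_subset_iff.mpr hx
  let l := IsOpenImmersion.lift j (X.fromSpecResidueField x) hr
  have hl : l ≫ j = X.fromSpecResidueField x := IsOpenImmersion.lift_fac _ _ _
  obtain ⟨ψ, hψ⟩ : ∃ ψ : C ⟶ X.residueField x, Spec.map ψ = l :=
    ⟨Spec.preimage l, Spec.map_preimage l⟩
  obtain ⟨b, hb⟩ := hK ψ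
  have h1 := isPullback_SpecMap_of_isPushout g ψ b a hb
  have h2 : IsPullback (Spec.map b ≫ k) (Spec.map a) π (Spec.map ψ ≫ j) := h1.paste_horiz hpb
  rw [hψ, hl] at h2
  exact ⟨h2.isoPullback.symm, h2.isoPullback_inv_snd⟩

/-- A property local on the target holds for `π` if it holds for the pullbacks to an open
cover. -/
theorem of_openCover_isPullback (P : MorphismProperty Scheme.{u}) [IsZariskiLocalAtTarget P]
    {E X : Scheme.{u}} (π : E ⟶ X) (𝒰 : X.OpenCover)
    (h : ∀ i, ∃ (Z : Scheme.{u}) (k : Z ⟶ E) (g : Z ⟶ 𝒰.X i), IsPullback k g π (𝒰.f i) ∧ P g) :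
    P π := by
  rw [IsZariskiLocalAtTarget.iff_of_openCover (P := P) 𝒰]
  intro i
  obtain ⟨Z, k, g, hpb, hg⟩ := h i
  change P (pullback.snd π (𝒰.f i))
  have e : hpb.isoPullback.hom ≫ pullback.snd π (𝒰.f i) = g := hpb.isoPullback_hom_snd
  rw [← e] at hg
  exact (P.cancel_left_of_respectsIso hpb.isoPullback.hom _).mp hg

section laurent

open LaurentPolynomial
open scoped AlgebraMonoidAlgebra

theorem isPushout_laurent {R K : Type u} [CommRing R] [CommRing K] (ψ : R →+* K) :
    IsPushout (CommRingCat.ofHom (algebraMap R R[T;T⁻¹])) (CommRingCat.ofHom ψ)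
      (CommRingCat.ofHom (AddMonoidAlgebra.mapRingHom ℤ ψ))
      (CommRingCat.ofHom (algebraMap K K[T;T⁻¹])) := by
  letI := ψ.toAlgebra
  exact CommRingCat.isPushout_of_isPushout R R[T;T⁻¹] K K[T;T⁻¹]

theorem exists_isPushout_laurent {R D K : Type u} [CommRing R] [CommRing D] [CommRing K]
    (g : R →+* D) (lam : R[T;T⁻¹] ≃+* D) (hlam : ∀ c, lam (C c) = g c) (ψ : R →+* K) :
    ∃ b : CommRingCat.of D ⟶ CommRingCat.of K[T;T⁻¹],
      IsPushout (CommRingCat.ofHom g) (CommRingCat.ofHom ψ) b
        (CommRingCat.ofHom (algebraMap K K[T;T⁻¹])) := by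
  refine ⟨CommRingCat.ofHom ((AddMonoidAlgebra.mapRingHom ℤ ψ).comp lam.symm.toRingHom), ?_⟩
  refine (isPushout_laurent ψ).of_iso (Iso.refl _) lam.toCommRingCatIso (Iso.refl _) (Iso.refl _)
    ?_ ?_ ?_ ?_
  · ext c
    simp only [Iso.refl_hom, Category.id_comp]
    exact hlam c
  · simp
  · refine CommRingCat.hom_ext (RingHom.ext fun p => ?_)
    simp [RingEquiv.toCommRingCatIso]
  · simp

theorem finiteType_of_laurent {R D : Type u} [CommRing R] [CommRing D]
    (g : R →+* D) (lam : R[T;T⁻¹] ≃+* D) (hlam : ∀ c, lam (C c) = g c) : g.FiniteType := by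
  have h1 : (algebraMap R R[T;T⁻¹]).FiniteType :=
    RingHom.finiteType_algebraMap.mpr (inferInstance : Algebra.FiniteType R R[T;T⁻¹])
  have h2 : lam.toRingHom.FiniteType := RingHom.FiniteType.of_surjective _ lam.surjective
  have h3 : g = lam.toRingHom.comp (algebraMap R R[T;T⁻¹]) := by
    ext c
    exact (hlam c).symm
  rw [h3]
  exact h2.comp h1

end laurent

section poly

open Polynomial

attribute [local instance] Polynomial.algebra

theorem isPushout_polynomial {R K : Type u} [CommRing R] [CommRing K] (ψ : R →+* K) :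
    IsPushout (CommRingCat.ofHom (algebraMap R R[X])) (CommRingCat.ofHom ψ)
      (CommRingCat.ofHom (Polynomial.mapRingHom ψ))
      (CommRingCat.ofHom (algebraMap K K[X])) := by
  letI := ψ.toAlgebra
  exact CommRingCat.isPushout_of_isPushout R R[X] K K[X]

theorem exists_isPushout_polynomial {R D K : Type u} [CommRing R] [CommRing D] [CommRing K]
    (g : R →+* D) (lam : R[X] ≃+* D) (hlam : ∀ c, lam (C c) = g c) (ψ : R →+* K) :
    ∃ b : CommRingCat.of D ⟶ CommRingCat.of K[X],
      IsPushout (CommRingCat.ofHom g) (CommRingCat.ofHom ψ) b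
        (CommRingCat.ofHom (algebraMap K K[X])) := by
  refine ⟨CommRingCat.ofHom ((Polynomial.mapRingHom ψ).comp lam.symm.toRingHom), ?_⟩
  refine (isPushout_polynomial ψ).of_iso (Iso.refl _) lam.toCommRingCatIso (Iso.refl _) (Iso.refl _)
    ?_ ?_ ?_ ?_
  · ext c
    simp only [Iso.refl_hom, Category.id_comp]
    exact hlam c
  · simp
  · refine CommRingCat.hom_ext (RingHom.ext fun p => ?_)
    simp [RingEquiv.toCommRingCatIso]
  · simp

theorem finiteType_of_polynomial {R D : Type u} [CommRing R] [CommRing D]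
    (g : R →+* D) (lam : R[X] ≃+* D) (hlam : ∀ c, lam (C c) = g c) : g.FiniteType := by
  have h1 : (algebraMap R R[X]).FiniteType :=
    RingHom.finiteType_algebraMap.mpr (inferInstance : Algebra.FiniteType R R[X])
  have h2 : lam.toRingHom.FiniteType := RingHom.FiniteType.of_surjective _ lam.surjective
  have h3 : g = lam.toRingHom.comp (algebraMap R R[X]) := by
    ext c
    exact (hlam c).symm
  rw [h3]
  exact h2.comp h1

end poly

end Groth.Agent.H41.FibreGen
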