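import Groth.Agent.H41.SymStruct
import Groth.Agent.H41.FibreGen
import Groth.Agent.H12.QCohAbelian

/-!
# Closed immersions of relative spectra; `V(F) → V(E)` for an epimorphism `E → F` (helper41)
-/

set_option autoImplicit false
universe u

namespace Groth.Agent.H41.SymEpi

open CategoryTheory CategoryTheory.Limits AlgebraicGeometry TopologicalSpace Opposite RelSpec
open Groth.Agent.H41.SymRing Groth.Agent.H41.SymSheaf Groth.Agent.H41.SymStruct

variable {S : Scheme.{u}}

/-- An epimorphism of quasi-coherent modules is surjective on sections over affine opens. -/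
theorem app_surjective_of_epi {E F : S.Modules} [E.IsQuasicoherent] [F.IsQuasicoherent] (u : E ⟶ F) [Epi u]
    {U : S.Opens} (hU : IsAffineOpen U) : Function.Surjective (u.app U) := by
  let T : ShortComplex S.Modules := ShortComplex.mk (kernel.ι u) u (kernel.condition u)
  have hT : T.Exact := ShortComplex.exact_of_f_is_kernel T (kernelIsKernel u)
  haveI : Mono T.f := inferInstanceAs (Mono (kernel.ι u))
  haveI : Epi T.g := inferInstanceAs (Epi u)
  have hSE : T.ShortExact := ShortComplex.ShortExact.mk hT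
  haveI : T.X₁.IsQuasicoherent := Groth.Agent.H12.QCohAbelian.isQuasicoherent_kernel u
  exact Groth.Agent.H12.QCohExt.app_surjective_of_isAffineOpen T hSE hU

/-- The chart square of `specMap ψ` over an affine open is cartesian. -/
theorem isPullback_specMap {A B : QCAlg S} (ψ : A ⟶ B) (U : S.Opens) (hU : IsAffineOpen U) :
    IsPullback (B.ι U hU) (Spec.map (ψ.hom.app (op U))) (QCAlg.specMap ψ) (A.ι U hU) := by
  refine (IsOpenImmersion.isPullback _ _ _ _ (QCAlg.ι_specMap U hU ψ) ?_).flip
  rw [← A.π_preimage U hU, ← B.π_preimage U hU, ← Scheme.Hom.comp_preimage, QCAlg.specMap_π]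

/-- `Spec(B) → Spec(A)` is a closed immersion when `A → B` is surjective over every affine open. -/
theorem isClosedImmersion_specMap {A B : QCAlg S} (ψ : A ⟶ B)
    (h : ∀ (U : S.Opens) (_ : IsAffineOpen U), Function.Surjective (ψ.hom.app (op U)).hom) :
    IsClosedImmersion (QCAlg.specMap ψ) := by
  refine Groth.Agent.H41.FibreGen.of_openCover_isPullback @IsClosedImmersion (QCAlg.specMap ψ)
    A.glueData.cover fun U => ?_
  refine ⟨Spec (B.presheaf.obj (op U.1)), B.ι U.1 U.2, Spec.map (ψ.hom.app (op U.1)),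
    isPullback_specMap ψ U.1 U.2, ?_⟩
  exact IsClosedImmersion.spec_of_surjective _ (h U.1 U.2)

/-- The algebra map `Sym(E) → Sym(F)` extending an epimorphism `E → F` is surjective over affine opens. -/
theorem surjective_of_epi (E F : S.Modules) [E.IsQuasicoherent] [F.IsQuasicoherent] (u : E ⟶ F) [Epi u]
    (A B : QCAlg S) (j : E ⟶ A.toModule) (k : F ⟶ B.toModule)
    (hB : IsSymAlg F B k) (ψ : A ⟶ B) (hψ : j ≫ QCAlg.Hom.toModuleMap ψ = u ≫ k)
    (U : S.Opens) (hU : IsAffineOpen U) : Function.Surjective (ψ.hom.app (op U)).hom := by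
  intro b
  obtain ⟨z, rfl⟩ := (bijective_liftApp F B k hB U hU).2 b
  induction z using SymmetricAlgebra.induction with
  | algebraMap r =>
    refine ⟨(A.str.app (op U)).hom r, ?_⟩
    rw [liftApp_algebraMap]
    exact congrArg (fun k => CommRingCat.Hom.hom k r) (NatTrans.congr_app ψ.comm (op U))
  | ι y =>
    obtain ⟨x, rfl⟩ := app_surjective_of_epi u hU y
    refine ⟨(j.app U).hom x, ?_⟩
    rw [liftApp_ι]
    exact congrArg (fun m => (Scheme.Modules.Hom.app m U).hom x) hψ
  | mul a b ha hb =>
    obtain ⟨a', ha'⟩ := ha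
    obtain ⟨b', hb'⟩ := hb
    exact ⟨a' * b', by rw [map_mul, map_mul, ha', hb']⟩
  | add a b ha hb =>
    obtain ⟨a', ha'⟩ := ha
    obtain ⟨b', hb'⟩ := hb
    exact ⟨a' + b', by rw [map_add, map_add, ha', hb']⟩

end Groth.Agent.H41.SymEpi
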