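import Groth.Agent.H41.SymRing
import Groth.Agent.H41.AffAlg
import Groth.Agent.H44.FiniteSections

/-!
# The symmetric algebra of a quasi-coherent module as a quasi-coherent algebra (helper41)

For `E : S.Modules`: the presheaf of rings `symPre E : U ↦ Sym_{Γ(S,U)} Γ(E,U)` on all opens, with its structure map
`symStr E`; for `E` quasi-coherent its restriction to the affine opens is coequifibered (`coequifibered`), so that
`Groth.Agent.H41.AffAlg` gives a quasi-coherent algebra `symAlg E` with `(symAlg E)(U) ≅ Sym Γ(E,U)` on affine opens.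
-/

set_option autoImplicit false
universe u

namespace Groth.Agent.H41.SymSheaf

open CategoryTheory CategoryTheory.Limits AlgebraicGeometry TopologicalSpace Opposite RelSpec
open Groth.Agent.H41.SymRing

variable {S : Scheme.{u}} (E : S.Modules)

theorem symMap_congr {R R' : Type*} [CommRing R] [CommRing R'] {M M' : Type*} [AddCommGroup M] [Module R M]
    [AddCommGroup M'] [Module R' M'] {ρ ρ' : R →+* R'} {m m' : M →+ M'}
    (hm : ∀ r x, m (r • x) = ρ r • m x) (hm' : ∀ r x, m' (r • x) = ρ' r • m' x) (h1 : ρ = ρ') (h2 : m = m') :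
    symMap ρ m hm = symMap ρ' m' hm' := by
  subst h1 h2; rfl

/-- The restriction map of symmetric algebras. -/
noncomputable def symRes {U V : Opens S} (i : V ⟶ U) :
    SymmetricAlgebra Γ(S, U) Γ(E, U) →+* SymmetricAlgebra Γ(S, V) Γ(E, V) :=
  symMap (S.presheaf.map i.op).hom (E.presheaf.map i.op).hom
    (fun r x => Scheme.Modules.map_smul E i r x)

theorem symRes_id (U : Opens S) : symRes E (𝟙 U) = RingHom.id _ := by
  have h1 : (S.presheaf.map (𝟙 U).op).hom = RingHom.id _ := by
    rw [op_id, S.presheaf.map_id]; rfl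
  have h2 : (E.presheaf.map (𝟙 U).op).hom = AddMonoidHom.id _ := by
    rw [op_id, E.presheaf.map_id]; rfl
  exact (symMap_congr _ (fun _ _ => rfl) h1 h2).trans symMap_id

theorem symRes_comp {U V W : Opens S} (i : V ⟶ U) (k : W ⟶ V) :
    symRes E (k ≫ i) = (symRes E k).comp (symRes E i) := by
  have h1 : (S.presheaf.map (k ≫ i).op).hom = (S.presheaf.map k.op).hom.comp (S.presheaf.map i.op).hom := by
    rw [op_comp, S.presheaf.map_comp]; rfl
  have h2 : (E.presheaf.map (k ≫ i).op).hom = (E.presheaf.map k.op).hom.comp (E.presheaf.map i.op).hom := by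
    rw [op_comp, E.presheaf.map_comp]; rfl
  exact (symMap_congr _ _ h1 h2).trans (symMap_comp _ _ _ _ _ _).symm

@[simp] theorem symRes_algebraMap {U V : Opens S} (i : V ⟶ U) (r : Γ(S, U)) :
    symRes E i (algebraMap _ _ r) = algebraMap Γ(S, V) _ ((S.presheaf.map i.op).hom r) :=
  symMap_algebraMap _ _ _ r

@[simp] theorem symRes_ι {U V : Opens S} (i : V ⟶ U) (x : Γ(E, U)) :
    symRes E i (SymmetricAlgebra.ι _ _ x) = SymmetricAlgebra.ι Γ(S, V) _ ((E.presheaf.map i.op).hom x) :=
  symMap_ι _ _ _ x

/-- The presheaf of symmetric algebras `U ↦ Sym_{Γ(S,U)} Γ(E,U)` on all opens of `S`. -/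
noncomputable def symPre : (Opens S)ᵒᵖ ⥤ CommRingCat.{u} where
  obj U := CommRingCat.of (SymmetricAlgebra Γ(S, U.unop) Γ(E, U.unop))
  map i := CommRingCat.ofHom (symRes E i.unop)
  map_id U := by
    refine CommRingCat.hom_ext ?_
    exact symRes_id E U.unop
  map_comp i k := by
    refine CommRingCat.hom_ext ?_
    exact symRes_comp E i.unop k.unop

/-- The structure map of the presheaf of symmetric algebras. -/
noncomputable def symStr : S.presheaf ⟶ symPre E where
  app U := CommRingCat.ofHom (R := S.presheaf.obj U) (S := SymmetricAlgebra Γ(S, U.unop) Γ(E, U.unop))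
    (algebraMap Γ(S, U.unop) (SymmetricAlgebra Γ(S, U.unop) Γ(E, U.unop)))
  naturality U V i := by
    refine CommRingCat.hom_ext (RingHom.ext fun r => ?_)
    exact (symRes_algebraMap E i.unop r).symm

/-- The presheaf of symmetric algebras restricted to the affine opens. -/
noncomputable def symAff : S.AffineZariskiSiteᵒᵖ ⥤ CommRingCat.{u} :=
  (Scheme.AffineZariskiSite.toOpensFunctor S).op ⋙ symPre E

/-- Its structure map. -/
noncomputable def symAffStr : (Scheme.AffineZariskiSite.toOpensFunctor S).op ⋙ S.presheaf ⟶ symAff E :=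
  (Scheme.AffineZariskiSite.toOpensFunctor S).op.whiskerLeft (symStr E)

theorem isLocalizationAway_of_eq {A B : Type*} [CommRing A] [CommRing B] (φ ψ : A →+* B) (h : φ = ψ) (a : A)
    (H : letI := φ.toAlgebra; IsLocalization.Away a B) : letI := ψ.toAlgebra; IsLocalization.Away a B := by
  subst h; exact H

theorem symRes_basicOpen_eq {U : Opens S} (f : Γ(S, U)) :
    letI := Groth.Agent.H44.basicOpenModule E f
    haveI := Groth.Agent.H44.isScalarTower_basicOpen E f
    locMap (Groth.Agent.H44.resBasicOpen E f) = symRes E (homOfLE (S.basicOpen_le f)) := by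
  letI := Groth.Agent.H44.basicOpenModule E f
  haveI := Groth.Agent.H44.isScalarTower_basicOpen E f
  exact symMap_congr _ _ rfl rfl

theorem isLocalization_symRes_basicOpen [E.IsQuasicoherent] {U : Opens S} (hU : IsAffineOpen U) (f : Γ(S, U)) :
    letI := (symRes E (homOfLE (S.basicOpen_le f))).toAlgebra
    IsLocalization.Away (algebraMap Γ(S, U) (SymmetricAlgebra Γ(S, U) Γ(E, U)) f)
      (SymmetricAlgebra Γ(S, S.basicOpen f) Γ(E, S.basicOpen f)) := by
  letI := Groth.Agent.H44.basicOpenModule E f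
  haveI := Groth.Agent.H44.isScalarTower_basicOpen E f
  haveI := Groth.Agent.H44.isLocalizedModule_resBasicOpen E f hU
  haveI : IsLocalization.Away f Γ(S, S.basicOpen f) := hU.isLocalization_basicOpen f
  have key := isLocalization_locMap (R' := Γ(S, S.basicOpen f)) f (Groth.Agent.H44.resBasicOpen E f)
  exact isLocalizationAway_of_eq _ _ (symRes_basicOpen_eq E f) _ key

theorem coequifibered [E.IsQuasicoherent] : (symAffStr E).Coequifibered := by
  refine Scheme.AffineZariskiSite.coequifibered_iff_forall_isLocalizationAway.mpr fun U f => ?_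
  exact isLocalization_symRes_basicOpen E U.2 f

section alg

variable [E.IsQuasicoherent]

/-- The symmetric algebra of the quasi-coherent module `E`, as a quasi-coherent algebra. -/
noncomputable def symAlg : QCAlg S := AffAlg.alg (coequifibered E)

variable (U : S.Opens) (hU : IsAffineOpen U)

/-- Over an affine open `U`: `(symAlg E)(U) → Sym Γ(E,U)` (an isomorphism). -/
noncomputable def gam : (symAlg E).presheaf.obj (op U) ⟶ CommRingCat.of (SymmetricAlgebra Γ(S, U) Γ(E, U)) :=
  AffAlg.gammaAff (coequifibered E) U hU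

instance : IsIso (gam E U hU) := AffAlg.isIso_gammaAff (coequifibered E) U hU

theorem str_gam (r : Γ(S, U)) :
    (gam E U hU).hom (((symAlg E).str.app (op U)).hom r) = algebraMap Γ(S, U) (SymmetricAlgebra Γ(S, U) Γ(E, U)) r :=
  congrArg (fun k => k.hom r) (AffAlg.π_app_gammaAff (coequifibered E) U hU)

theorem gam_res {V : S.Opens} (hV : IsAffineOpen V) (f : Γ(S, U)) (hf : S.basicOpen f = V)
    (a : (symAlg E).presheaf.obj (op U)) :
    (gam E V hV).hom (((symAlg E).presheaf.map (homOfLE (hf ▸ S.basicOpen_le f : V ≤ U)).op).hom a) =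
      symRes E (homOfLE (hf ▸ S.basicOpen_le f : V ≤ U)) ((gam E U hU).hom a) := by
  let U' : S.AffineZariskiSite := ⟨U, hU⟩
  let V' : S.AffineZariskiSite := ⟨V, hV⟩
  have hle : V' ≤ U' := ⟨f, hf⟩
  have i : V' ⟶ U' := homOfLE hle
  have h := (AffAlg.gammaRestrict (coequifibered E)).naturality i.op
  exact congrArg (fun k => CommRingCat.Hom.hom k a) h

theorem gam_injective : Function.Injective (gam E U hU).hom :=
  (ConcreteCategory.bijective_of_isIso (gam E U hU)).1

theorem gam_surjective : Function.Surjective (gam E U hU).hom :=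
  (ConcreteCategory.bijective_of_isIso (gam E U hU)).2

/-- Over an affine open `U`: the map `Γ(E,U) → (symAlg E)(U)`. -/
noncomputable def jU : Γ(E, U) →+ (symAlg E).presheaf.obj (op U) :=
  (inv (gam E U hU)).hom.toAddMonoidHom.comp (SymmetricAlgebra.ι Γ(S, U) Γ(E, U)).toAddMonoidHom

theorem gam_jU (x : Γ(E, U)) : (gam E U hU).hom (jU E U hU x) = SymmetricAlgebra.ι Γ(S, U) Γ(E, U) x := by
  change (inv (gam E U hU) ≫ gam E U hU).hom (SymmetricAlgebra.ι Γ(S, U) Γ(E, U) x) = _
  rw [IsIso.inv_hom_id]; rfl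

theorem jU_smul (r : Γ(S, U)) (x : Γ(E, U)) :
    jU E U hU (r • x) = ((symAlg E).str.app (op U)).hom r * jU E U hU x := by
  apply gam_injective E U hU
  rw [map_mul, gam_jU, gam_jU, str_gam, map_smul, Algebra.smul_def]

theorem jU_res {V : S.Opens} (hV : IsAffineOpen V) (f : Γ(S, U)) (hf : S.basicOpen f = V) (x : Γ(E, U)) :
    ((symAlg E).presheaf.map (homOfLE (hf ▸ S.basicOpen_le f : V ≤ U)).op).hom (jU E U hU x) =
      jU E V hV ((E.presheaf.map (homOfLE (hf ▸ S.basicOpen_le f : V ≤ U)).op).hom x) := by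
  apply gam_injective E V hV
  rw [gam_res E U hU hV f hf, gam_jU, gam_jU, symRes_ι]

/-- The maps `jU` as a natural transformation on the affine opens. -/
noncomputable def jAff : (Scheme.AffineZariskiSite.toOpensFunctor S).op ⋙ E.presheaf ⟶
    (Scheme.AffineZariskiSite.toOpensFunctor S).op ⋙ (symAlg E).toAb where
  app U := AddCommGrpCat.ofHom (jU E U.unop.1 U.unop.2)
  naturality U V i := by
    obtain ⟨f, hf⟩ := i.unop.le
    ext x
    exact (jU_res E U.unop.1 U.unop.2 V.unop.2 f hf x).symm

/-- The canonical map `E ⟶ Sym(E)` on the underlying presheaves of abelian groups. -/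
noncomputable def j₀ : E.presheaf ⟶ (symAlg E).toAb :=
  Functor.IsCoverDense.restrictHomEquivHom (G := Scheme.AffineZariskiSite.toOpensFunctor S)
    (K := Opens.grothendieckTopology S) (ℱ := E.presheaf)
    (ℱ' := (⟨(symAlg E).toAb, (symAlg E).isSheaf_toAb⟩ : TopCat.Sheaf AddCommGrpCat.{u} S.carrier)) (jAff E)

theorem j₀_restrict :
    (Scheme.AffineZariskiSite.toOpensFunctor S).op.whiskerLeft (j₀ E) = jAff E :=
  (Functor.IsCoverDense.restrictHomEquivHom (G := Scheme.AffineZariskiSite.toOpensFunctor S)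
    (K := Opens.grothendieckTopology S) (ℱ := E.presheaf)
    (ℱ' := (⟨(symAlg E).toAb, (symAlg E).isSheaf_toAb⟩ :
      TopCat.Sheaf AddCommGrpCat.{u} S.carrier))).symm_apply_apply _

theorem j₀_app (x : Γ(E, U)) : ((j₀ E).app (op U)).hom x = jU E U hU x :=
  congrArg (fun k => AddCommGrpCat.Hom.hom k x) (NatTrans.congr_app (j₀_restrict E) (op ⟨U, hU⟩))

theorem j₀_res {W V : S.Opens} (i : V ⟶ W) (x : Γ(E, W)) :
    ((symAlg E).presheaf.map i.op).hom (((j₀ E).app (op W)).hom x) =
      ((j₀ E).app (op V)).hom ((E.presheaf.map i.op).hom x) :=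
  (congrArg (fun k => AddCommGrpCat.Hom.hom k x) ((j₀ E).naturality i.op)).symm

theorem str_res {A : QCAlg S} {W V : S.Opens} (i : V ⟶ W) (r : Γ(S, W)) :
    (A.presheaf.map i.op).hom ((A.str.app (op W)).hom r) =
      (A.str.app (op V)).hom ((S.presheaf.map i.op).hom r) :=
  (congrArg (fun k => CommRingCat.Hom.hom k r) (A.str.naturality i.op)).symm

theorem j₀_smul (W : S.Opens) (r : Γ(S, W)) (x : Γ(E, W)) :
    ((j₀ E).app (op W)).hom (r • x) = ((symAlg E).str.app (op W)).hom r * ((j₀ E).app (op W)).hom x := by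
  refine TopCat.Presheaf.IsSheaf.section_ext (symAlg E).isSheaf (U := op W) fun p hp => ?_
  obtain ⟨_, ⟨V, hV : IsAffineOpen V, rfl⟩, hpV, hVW⟩ :=
    S.isBasis_affineOpens.exists_subset_of_mem_open hp W.2
  have hVW' : V ≤ W := hVW
  refine ⟨V, hVW', hpV, ?_⟩
  change ((symAlg E).presheaf.map (homOfLE hVW').op).hom _ = ((symAlg E).presheaf.map (homOfLE hVW').op).hom _
  rw [map_mul, j₀_res, j₀_res, str_res, Scheme.Modules.map_smul, j₀_app E V hV, j₀_app E V hV, jU_smul]

/-- The canonical map of modules `j : E ⟶ Sym(E)`. -/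
noncomputable def j : E ⟶ (symAlg E).toModule :=
  ⟨letI := (symAlg E).moduleSect
   PresheafOfModules.homMk (M₁ := E.val) (M₂ := (symAlg E).toModule.val) (j₀ E)
    (fun W r x => j₀_smul E W.unop r x)⟩

theorem j_app (W : S.Opens) (x : Γ(E, W)) : ((j E).app W).hom x = ((j₀ E).app (op W)).hom x := rfl

theorem j_app_affine (x : Γ(E, U)) : ((j E).app U).hom x = jU E U hU x := j₀_app E U hU x

end alg

section affineExt

/-- Two morphisms of modules that agree on sections over affine opens are equal. -/
theorem hom_ext_affine {M N : S.Modules} (f g : M ⟶ N)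
    (h : ∀ (U : S.Opens) (_ : IsAffineOpen U) (x : Γ(M, U)), (f.app U).hom x = (g.app U).hom x) : f = g := by
  refine Scheme.Modules.hom_ext _ _ fun W => ?_
  ext s
  refine TopCat.Presheaf.IsSheaf.section_ext N.isSheaf (U := op W) fun p hp => ?_
  obtain ⟨_, ⟨V, hV : IsAffineOpen V, rfl⟩, hpV, hVW⟩ :=
    S.isBasis_affineOpens.exists_subset_of_mem_open hp W.2
  have hVW' : V ≤ W := hVW
  refine ⟨V, hVW', hpV, ?_⟩
  have hf := congr($(f.mapPresheaf.naturality (homOfLE hVW').op) s)
  have hg := congr($(g.mapPresheaf.naturality (homOfLE hVW').op) s)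
  change N.presheaf.map (homOfLE hVW').op (f.app W s) = N.presheaf.map (homOfLE hVW').op (g.app W s)
  have hf' : N.presheaf.map (homOfLE hVW').op (f.app W s) =
      f.app V (M.presheaf.map (homOfLE hVW').op s) := hf.symm
  have hg' : N.presheaf.map (homOfLE hVW').op (g.app W s) =
      g.app V (M.presheaf.map (homOfLE hVW').op s) := hg.symm
  rw [hf', hg']
  exact h V hV _

end affineExt

section universal

variable [E.IsQuasicoherent] (B : QCAlg S) (φ : E ⟶ B.toModule)

/-- The ring homomorphism `Sym Γ(E,W) → B(W)` extending `φ` over the open `W`. -/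
noncomputable def liftApp (W : S.Opens) : SymmetricAlgebra Γ(S, W) Γ(E, W) →+* B.presheaf.obj (op W) :=
  liftRing (B.str.app (op W)).hom ((φ.app W).hom : Γ(E, W) →+ B.presheaf.obj (op W))
    (fun r x => Scheme.Modules.Hom.app_smul φ r x)

@[simp] theorem liftApp_algebraMap (W : S.Opens) (r : Γ(S, W)) :
    liftApp E B φ W (algebraMap _ _ r) = (B.str.app (op W)).hom r :=
  liftRing_algebraMap _ _ _ r

@[simp] theorem liftApp_ι (W : S.Opens) (x : Γ(E, W)) :
    liftApp E B φ W (SymmetricAlgebra.ι _ _ x) = (φ.app W).hom x :=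
  liftRing_ι _ _ _ x

theorem liftApp_res {W V : S.Opens} (i : V ⟶ W) :
    (B.presheaf.map i.op).hom.comp (liftApp E B φ W) = (liftApp E B φ V).comp (symRes E i) := by
  refine ringHom_ext (fun r => ?_) (fun x => ?_)
  · change (B.presheaf.map i.op).hom (liftApp E B φ W (algebraMap _ _ r)) =
      liftApp E B φ V (symRes E i (algebraMap _ _ r))
    rw [liftApp_algebraMap, symRes_algebraMap, liftApp_algebraMap, str_res]
  · change (B.presheaf.map i.op).hom (liftApp E B φ W (SymmetricAlgebra.ι _ _ x)) =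
      liftApp E B φ V (symRes E i (SymmetricAlgebra.ι _ _ x))
    rw [liftApp_ι, symRes_ι, liftApp_ι]
    exact (congr($(φ.mapPresheaf.naturality i.op) x)).symm

/-- The maps `liftApp` over the affine opens, as a natural transformation. -/
noncomputable def liftAff : symAff E ⟶ (Scheme.AffineZariskiSite.toOpensFunctor S).op ⋙ B.presheaf where
  app U := CommRingCat.ofHom (liftApp E B φ U.unop.1)
  naturality U V i := by
    refine CommRingCat.hom_ext ?_
    exact (liftApp_res E B φ ((Scheme.AffineZariskiSite.toOpensFunctor S).map i.unop)).symm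

theorem symAffStr_liftAff :
    symAffStr E ≫ liftAff E B φ = (Scheme.AffineZariskiSite.toOpensFunctor S).op.whiskerLeft B.str := by
  ext U : 2
  refine CommRingCat.hom_ext (RingHom.ext fun r => ?_)
  exact liftApp_algebraMap E B φ U.unop.1 r

/-- The homomorphism of quasi-coherent algebras `Sym(E) ⟶ B` extending `φ : E ⟶ B`. -/
noncomputable def lift : symAlg E ⟶ B :=
  AffAlg.homOfAff (coequifibered E) B (liftAff E B φ) (symAffStr_liftAff E B φ)

theorem lift_app (U : S.Opens) (hU : IsAffineOpen U) (a : (symAlg E).presheaf.obj (op U)) :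
    ((lift E B φ).hom.app (op U)).hom a = liftApp E B φ U ((gam E U hU).hom a) :=
  congrArg (fun k => CommRingCat.Hom.hom k a)
    (AffAlg.homOfAff_app (coequifibered E) U hU B (liftAff E B φ) (symAffStr_liftAff E B φ))

theorem j_lift : j E ≫ QCAlg.Hom.toModuleMap (lift E B φ) = φ := by
  refine hom_ext_affine _ _ fun U hU x => ?_
  change ((lift E B φ).hom.app (op U)).hom (((j E).app U).hom x) = (φ.app U).hom x
  rw [lift_app E B φ U hU, j_app_affine E U hU, gam_jU, liftApp_ι]

theorem lift_unique (ψ : symAlg E ⟶ B) (hψ : j E ≫ QCAlg.Hom.toModuleMap ψ = φ) : ψ = lift E B φ := by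
  refine AffAlg.hom_ext_aff fun U hU => ?_
  refine CommRingCat.hom_ext (RingHom.ext fun a => ?_)
  rw [lift_app E B φ U hU]
  obtain ⟨b, rfl⟩ : ∃ b, a = (inv (gam E U hU)).hom b :=
    ⟨(gam E U hU).hom a, by
      change a = (gam E U hU ≫ inv (gam E U hU)).hom a
      rw [IsIso.hom_inv_id]; rfl⟩
  have hb : (gam E U hU).hom ((inv (gam E U hU)).hom b) = b := by
    change (inv (gam E U hU) ≫ gam E U hU).hom b = b
    rw [IsIso.inv_hom_id]; rfl
  rw [hb]
  have key : ((ψ.hom.app (op U)).hom.comp (inv (gam E U hU)).hom) = liftApp E B φ U := by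
    refine ringHom_ext (fun r => ?_) (fun x => ?_)
    · change (ψ.hom.app (op U)).hom ((inv (gam E U hU)).hom (algebraMap _ _ r)) = _
      rw [liftApp_algebraMap, ← str_gam E U hU r]
      have : (inv (gam E U hU)).hom ((gam E U hU).hom (((symAlg E).str.app (op U)).hom r)) =
          ((symAlg E).str.app (op U)).hom r := by
        change (gam E U hU ≫ inv (gam E U hU)).hom _ = _
        rw [IsIso.hom_inv_id]; rfl
      rw [this]
      exact congrArg (fun k => CommRingCat.Hom.hom k r) (NatTrans.congr_app ψ.comm (op U))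
    · change (ψ.hom.app (op U)).hom (jU E U hU x) = _
      rw [liftApp_ι, ← j_app_affine E U hU x, ← hψ]
      rfl
  exact RingHom.congr_fun key b

/-- `symAlg E`, with `j E`, is the symmetric algebra of the quasi-coherent module `E`. -/
theorem isSymAlg : RelSpec.IsSymAlg E (symAlg E) (j E) := fun B φ =>
  ⟨lift E B φ, j_lift E B φ, fun ψ hψ => lift_unique E B φ ψ hψ⟩

end universal

end Groth.Agent.H41.SymSheaf
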