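import Groth.Agent.S3569
import Groth.Agent.S3570
import Groth.Agent.S8255
import Groth.Agent.S4353
import Groth.Agent.S4354
import Groth.Agent.H41.SymSheaf
import Groth.Agent.H41.SymEpi

/-!
# An affine morphism of finite type is a closed subscheme of a vector bundle (helper41)
-/

set_option autoImplicit false
universe u

open CategoryTheory CategoryTheory.Limits AlgebraicGeometry TopologicalSpace Opposite

namespace Groth.Agent.H41.AffVB

open RelSpec

variable {X Y : Scheme.{u}} (f : X ⟶ Y) [IsAffineHom f]

/-- the canonical morphism to the relative spectrum of the direct image algebra -/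
theorem exists_iso_spec :
    ∃ c : X ⟶ (QCAlg.directImage f).spec, IsIso c ∧ c ≫ (QCAlg.directImage f).π = f := by
  let B : QCAlg Y := QCAlg.directImage f
  obtain ⟨⟨c, hc⟩, hcω⟩ := (Groth.Agent.S3569.result B.π f).2 ⟨B.gammaMap, B.π_c_gammaMap⟩
  refine ⟨c, ?_, hc⟩
  rw [Groth.Agent.S3570.result B.π f c hc]
  have h1 : AffAlg.algHom B.π f c hc = B.gammaMap := congrArg Subtype.val hcω
  rw [h1]
  exact Groth.Agent.S8255.result B

theorem finiteType_str [LocallyOfFiniteType f] (U : Y.affineOpens) :
    ((QCAlg.directImage f).str.app (op (U : Y.Opens))).hom.FiniteType := by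
  change (f.app U.1).hom.FiniteType
  rw [Scheme.Hom.app_eq_appLE]
  exact LocallyOfFiniteType.finiteType_appLE (f := f) U.2 (U.2.preimage f) _

variable {S : Scheme.{u}} (E : S.Modules) [E.IsQuasicoherent] (B : QCAlg S) (φ : E ⟶ B.toModule)

theorem lift_surjective (U : S.Opens) (hU : IsAffineOpen U)
    (hgen : Subring.closure (Set.range (B.str.app (op U)).hom ∪
      Set.range (fun e : Γ(E, U) => ((φ.app U).hom e : B.presheaf.obj (op U)))) = ⊤) :
    Function.Surjective ((SymSheaf.lift E B φ).hom.app (op U)).hom := by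
  rw [← RingHom.range_eq_top, eq_top_iff, ← hgen, Subring.closure_le]
  rintro x (⟨r, rfl⟩ | ⟨e, rfl⟩)
  · refine ⟨((SymSheaf.symAlg E).str.app (op U)).hom r, ?_⟩
    exact congrArg (fun k => CommRingCat.Hom.hom k r)
      (NatTrans.congr_app (SymSheaf.lift E B φ).comm (op U))
  · refine ⟨((SymSheaf.j E).app U).hom e, ?_⟩
    have := SymSheaf.j_lift E B φ
    exact congrArg (fun k : E ⟶ B.toModule => (k.app U).hom e) this

end Groth.Agent.H41.AffVB
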