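import Mathlib.AlgebraicGeometry.ProjectiveSpectrum.Basic
import Mathlib.Algebra.Polynomial.Laurent
import Mathlib.RingTheory.GradedAlgebra.Homogeneous.Maps

/-!
# `A_f = A_(f)[T, T⁻¹]` for `f` homogeneous of degree one
-/

set_option autoImplicit false
universe u

open HomogeneousLocalization LaurentPolynomial

namespace Groth.Agent.H41.AwayLaurent

variable {A σ : Type u} [CommRing A] [SetLike σ A] [AddSubgroupClass σ A]
variable (𝒜 : ℕ → σ) [GradedRing 𝒜] {f : A} (hf : f ∈ 𝒜 1)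

omit [AddSubgroupClass σ A] [GradedRing 𝒜] in
theorem mem_smul_one {d : ℕ} {a : A} (ha : a ∈ 𝒜 d) : a ∈ 𝒜 (d • 1) := by simpa using ha

/-- `a / f ^ d` for `a` homogeneous of degree `d`. -/
noncomputable def frac (d : ℕ) (a : A) (ha : a ∈ 𝒜 d) : Away 𝒜 f :=
  Away.mk 𝒜 hf d a (mem_smul_one 𝒜 ha)

/-- `f ^ n` as an element of the submonoid of powers. -/
def pw (f : A) (n : ℕ) : Submonoid.powers f := ⟨f ^ n, n, rfl⟩

theorem val_frac (d : ℕ) (a : A) (ha : a ∈ 𝒜 d) :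
    (frac 𝒜 hf d a ha).val = Localization.mk a (pw f d) :=
  Away.val_mk 𝒜 d hf a _

omit [AddSubgroupClass σ A] in
@[simp] theorem coe_pw (n : ℕ) : ((pw f n : Submonoid.powers f) : A) = f ^ n := rfl

theorem frac_add (d : ℕ) (a b : A) (ha : a ∈ 𝒜 d) (hb : b ∈ 𝒜 d) :
    frac 𝒜 hf d (a + b) (add_mem ha hb) = frac 𝒜 hf d a ha + frac 𝒜 hf d b hb := by
  apply val_injective
  rw [val_add, val_frac, val_frac, val_frac, Localization.add_mk_self]

theorem frac_zero (d : ℕ) : frac 𝒜 hf d 0 (zero_mem _) = 0 := by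
  apply val_injective
  rw [val_frac, val_zero, Localization.mk_zero]

theorem frac_mul (d e : ℕ) (a b : A) (ha : a ∈ 𝒜 d) (hb : b ∈ 𝒜 e) :
    frac 𝒜 hf (d + e) (a * b) (SetLike.mul_mem_graded ha hb) =
      frac 𝒜 hf d a ha * frac 𝒜 hf e b hb := by
  apply val_injective
  rw [val_mul, val_frac, val_frac, val_frac, Localization.mk_mul]
  congr 1
  ext
  simp [pow_add]

theorem frac_one : frac 𝒜 hf 0 1 SetLike.GradedOne.one_mem = 1 := by
  apply val_injective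
  rw [val_frac, val_one]
  convert Localization.mk_self (pw f 0) using 2
  simp

theorem frac_self : frac 𝒜 hf 1 f hf = 1 := by
  apply val_injective
  rw [val_frac, val_one]
  convert Localization.mk_self (pw f 1) using 2
  simp

/-- The component maps of `Ψ₀`. -/
noncomputable def fam (d : ℕ) : 𝒜 d →+ (Away 𝒜 f)[T;T⁻¹] where
  toFun a := C (frac 𝒜 hf d a a.2) * T d
  map_zero' := by
    change C (frac 𝒜 hf d 0 _) * T d = 0
    rw [frac_zero, map_zero, zero_mul]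
  map_add' a b := by
    change C (frac 𝒜 hf d (a + b) _) * T d = C (frac 𝒜 hf d a _) * T d + C (frac 𝒜 hf d b _) * T d
    rw [frac_add 𝒜 hf d a b a.2 b.2, map_add, add_mul]

/-- The ring homomorphism `A → A_(f)[T, T⁻¹]`, `a ↦ ∑ (a_d / f ^ d) T ^ d`. -/
noncomputable def Ψ₀ : A →+* (Away 𝒜 f)[T;T⁻¹] :=
  (DirectSum.toSemiring (fam 𝒜 hf)
    (by
      change C (frac 𝒜 hf 0 1 _) * T ((0 : ℕ) : ℤ) = 1
      rw [frac_one]
      simp)
    (by
      intro i j ai aj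
      change C (frac 𝒜 hf (i + j) (ai * aj) _) * T ((i + j : ℕ) : ℤ) =
        (C (frac 𝒜 hf i ai _) * T i) * (C (frac 𝒜 hf j aj _) * T j)
      rw [frac_mul 𝒜 hf i j ai aj ai.2 aj.2, map_mul, Nat.cast_add, T_add]
      ring)).comp (DirectSum.decomposeRingEquiv 𝒜).toRingHom

theorem Ψ₀_of_mem (d : ℕ) (a : A) (ha : a ∈ 𝒜 d) :
    Ψ₀ 𝒜 hf a = C (frac 𝒜 hf d a ha) * T d := by
  unfold Ψ₀
  rw [RingHom.comp_apply]
  change DirectSum.toSemiring _ _ _ (DirectSum.decompose 𝒜 a) = _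
  rw [DirectSum.decompose_of_mem 𝒜 ha, DirectSum.toSemiring_of]
  rfl

theorem Ψ₀_self : Ψ₀ 𝒜 hf f = T 1 := by
  rw [Ψ₀_of_mem 𝒜 hf 1 f hf, frac_self, map_one, one_mul]
  rfl

/-- The unit `f / 1` of `A_f`. -/
noncomputable def u : (Localization.Away f)ˣ :=
  (IsLocalization.Away.algebraMap_isUnit (S := Localization.Away f) f).unit

theorem coe_u : ((u (f := f) : (Localization.Away f)ˣ) : Localization.Away f) =
    algebraMap A (Localization.Away f) f := rfl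

/-- `A_(f)[T, T⁻¹] → A_f`, `T ↦ f`. -/
noncomputable def Λ : (Away 𝒜 f)[T;T⁻¹] →+* Localization.Away f :=
  LaurentPolynomial.eval₂ (algebraMap (Away 𝒜 f) (Localization.Away f)) u

/-- `A_f → A_(f)[T, T⁻¹]`. -/
noncomputable def Ψ : Localization.Away f →+* (Away 𝒜 f)[T;T⁻¹] :=
  IsLocalization.Away.lift f (g := Ψ₀ 𝒜 hf) (by rw [Ψ₀_self]; exact isUnit_T 1)

theorem Ψ_algebraMap (a : A) : Ψ 𝒜 hf (algebraMap A (Localization.Away f) a) = Ψ₀ 𝒜 hf a :=
  IsLocalization.Away.lift_eq _ _ _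

theorem Λ_Ψ₀ (a : A) : Λ 𝒜 (Ψ₀ 𝒜 hf a) = algebraMap A (Localization.Away f) a := by
  classical
  induction a using DirectSum.Decomposition.inductionOn 𝒜 with
  | zero => simp
  | homogeneous a =>
    rename_i d
    rw [Ψ₀_of_mem 𝒜 hf d a a.2]
    unfold Λ
    rw [eval₂_C_mul_T]
    change (frac 𝒜 hf d a a.2).val * _ = _
    rw [val_frac, zpow_natCast, Units.val_pow_eq_pow_val, coe_u, ← Localization.mk_one_eq_algebraMap,
      ← Localization.mk_one_eq_algebraMap, Localization.mk_pow, Localization.mk_mul,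
      Localization.mk_eq_mk_iff, Localization.r_iff_exists]
    refine ⟨1, ?_⟩
    simp [mul_comm]
  | add a b ha hb => rw [map_add, map_add, map_add, ha, hb]

theorem Λ_comp_Ψ : (Λ 𝒜).comp (Ψ 𝒜 hf) = RingHom.id (Localization.Away f) := by
  apply IsLocalization.ringHom_ext (Submonoid.powers f)
  ext a
  simp only [RingHom.comp_apply, RingHom.id_apply]
  rw [Ψ_algebraMap, Λ_Ψ₀]

theorem Ψ_val (c : Away 𝒜 f) : Ψ 𝒜 hf c.val = C c := by
  obtain ⟨n, a, ha, rfl⟩ := Away.mk_surjective 𝒜 hf c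
  have ha' : a ∈ 𝒜 n := by simpa using ha
  have h1 : (Away.mk 𝒜 hf n a ha).val * (algebraMap A (Localization.Away f) f) ^ n =
      algebraMap A (Localization.Away f) a := by
    rw [Away.val_mk, ← Localization.mk_one_eq_algebraMap, ← Localization.mk_one_eq_algebraMap,
      Localization.mk_pow, Localization.mk_mul, Localization.mk_eq_mk_iff,
      Localization.r_iff_exists]
    refine ⟨1, ?_⟩
    simp [mul_comm]
  have h2 := congrArg (Ψ 𝒜 hf) h1
  rw [map_mul, map_pow, Ψ_algebraMap, Ψ_algebraMap, Ψ₀_self, Ψ₀_of_mem 𝒜 hf n a ha', T_pow,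
    mul_one] at h2
  have h3 : IsUnit (T (n : ℤ) : (Away 𝒜 f)[T;T⁻¹]) := isUnit_T _
  exact h3.mul_left_injective h2

theorem Ψ_comp_Λ : (Ψ 𝒜 hf).comp (Λ 𝒜) = RingHom.id ((Away 𝒜 f)[T;T⁻¹]) := by
  apply IsLocalization.ringHom_ext (Submonoid.powers (Polynomial.X : Polynomial (Away 𝒜 f)))
  apply Polynomial.ringHom_ext
  · intro c
    simp only [RingHom.comp_apply, RingHom.id_apply, algebraMap_eq_toLaurent,
      Polynomial.toLaurent_C]
    unfold Λ
    rw [eval₂_C]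
    exact Ψ_val 𝒜 hf c
  · simp only [RingHom.comp_apply, RingHom.id_apply, algebraMap_eq_toLaurent,
      Polynomial.toLaurent_X]
    unfold Λ
    rw [eval₂_T, zpow_one, coe_u, Ψ_algebraMap, Ψ₀_self]

/-- `A_(f)[T, T⁻¹] ≃ A_f` for `f` homogeneous of degree one. -/
noncomputable def laurentEquiv : (Away 𝒜 f)[T;T⁻¹] ≃+* Localization.Away f :=
  RingEquiv.ofRingHom (Λ 𝒜) (Ψ 𝒜 hf) (Λ_comp_Ψ 𝒜 hf) (Ψ_comp_Λ 𝒜 hf)

theorem laurentEquiv_C (c : Away 𝒜 f) :
    laurentEquiv 𝒜 hf (C c) = algebraMap (Away 𝒜 f) (Localization.Away f) c := by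
  change Λ 𝒜 (C c) = _
  unfold Λ
  rw [eval₂_C]

end Groth.Agent.H41.AwayLaurent
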