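import Mathlib.RingTheory.GradedAlgebra.HomogeneousLocalization

/-!
# Injectivity of `Away.map` in terms of homogeneous elements (helper41)
-/

set_option autoImplicit false

namespace Groth.Agent.H41.AwayMapInj

open HomogeneousLocalization

variable {A B : Type*} [CommRing A] [CommRing B]
  {𝒜 : ℕ → AddSubgroup A} {ℬ : ℕ → AddSubgroup B} [GradedRing 𝒜] [GradedRing ℬ] (g : 𝒜 →+*ᵍ ℬ)
  {n : ℕ} {s : A} (hs : s ∈ 𝒜 n)

include hs in
theorem injective_awayMap_of_iv
    (hiv : ∀ m : ℕ, 0 < m → ∀ s' ∈ 𝒜 (m * n), g s' = 0 → ∃ k : ℕ, 0 < k ∧ s ^ k * s' = 0) :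
    Function.Injective (Away.map g s) := by
  rw [injective_iff_map_eq_zero]
  intro x hx
  obtain ⟨m, s', hs', rfl⟩ := Away.mk_surjective (𝒜 := 𝒜) hs x
  rw [Away.map_mk] at hx
  have hv := congrArg HomogeneousLocalization.val hx
  rw [Away.val_mk, HomogeneousLocalization.val_zero, Localization.mk_eq_mk',
    IsLocalization.mk'_eq_zero_iff] at hv
  obtain ⟨⟨_, k, rfl⟩, hk⟩ := hv
  have hk' : g s ^ k * g s' = 0 := hk
  have hsk : s ^ (k + 1) ∈ 𝒜 ((k + 1) • n) := SetLike.pow_mem_graded (k + 1) hs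
  have hmul := SetLike.mul_mem_graded (A := 𝒜) hsk hs'
  have e : (k + 1) • n + m • n = (k + 1 + m) * n := by
    simp only [smul_eq_mul]; ring
  rw [e] at hmul
  have hz : g (s ^ (k + 1) * s') = 0 := by
    rw [map_mul, map_pow, pow_succ', mul_assoc, hk', mul_zero]
  obtain ⟨k'', -, hk''⟩ := hiv (k + 1 + m) (by omega) _ hmul hz
  apply HomogeneousLocalization.val_injective
  rw [Away.val_mk, HomogeneousLocalization.val_zero, Localization.mk_eq_mk',
    IsLocalization.mk'_eq_zero_iff]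
  refine ⟨⟨s ^ (k'' + (k + 1)), _, rfl⟩, ?_⟩
  change s ^ (k'' + (k + 1)) * s' = 0
  rw [pow_add, mul_assoc]
  exact hk''

include hs in
theorem iv_of_injective_awayMap (hinj : Function.Injective (Away.map g s))
    (m : ℕ) (s' : A) (hs' : s' ∈ 𝒜 (m * n)) (h0 : g s' = 0) :
    ∃ k : ℕ, 0 < k ∧ s ^ k * s' = 0 := by
  have hs'' : s' ∈ 𝒜 (m • n) := by rwa [smul_eq_mul]
  have h1 : Away.map g s (Away.mk 𝒜 hs m s' hs'') = 0 := by
    rw [Away.map_mk]
    apply HomogeneousLocalization.val_injective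
    rw [Away.val_mk, HomogeneousLocalization.val_zero, h0, Localization.mk_zero]
  have h2 := hinj (h1.trans (map_zero _).symm)
  have hv := congrArg HomogeneousLocalization.val h2
  rw [Away.val_mk, HomogeneousLocalization.val_zero, Localization.mk_eq_mk',
    IsLocalization.mk'_eq_zero_iff] at hv
  obtain ⟨⟨_, k, rfl⟩, hk⟩ := hv
  have hk' : s ^ k * s' = 0 := hk
  exact ⟨k + 1, Nat.succ_pos k, by rw [pow_succ', mul_assoc, hk', mul_zero]⟩

end Groth.Agent.H41.AwayMapInj
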