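import Groth.Agent.H41.PolyCone
import Groth.Agent.H41.AwayLaurent

/-!
# `(A[z])_(f) = A_(f)[z / f]` for `f` homogeneous of degree one
-/

set_option autoImplicit false
universe u

open HomogeneousLocalization Polynomial

namespace Groth.Agent.H41.AwayPoly

open Groth.Agent.H41.AwayLaurent (pw frac val_frac mem_smul_one coe_pw)

variable {A B σ τ : Type u} [CommRing A] [CommRing B] [SetLike σ A] [AddSubgroupClass σ A]
  [SetLike τ B] [AddSubgroupClass τ B]
variable (𝒜 : ℕ → σ) [GradedRing 𝒜] (ℬ : ℕ → τ) [GradedRing ℬ]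
variable (φ : 𝒜 →+*ᵍ ℬ) (z : B) (hz : z ∈ ℬ 1)
variable (hbij : Function.Bijective (Polynomial.eval₂RingHom φ.toRingHom z))
variable {f : A} (hf : f ∈ 𝒜 1)

/-- `z / φ f`. -/
noncomputable def zf : Away ℬ (φ f) := frac ℬ (φ.map_mem hf) 1 z hz

/-- `A_(f)[X] → (A[z])_(f)`, `X ↦ z / f`. -/
noncomputable def Λ : (Away 𝒜 f)[X] →+* Away ℬ (φ f) :=
  Polynomial.eval₂RingHom (Away.map φ f) (zf 𝒜 ℬ φ z hz hf)

theorem map_frac (d : ℕ) (a : A) (ha : a ∈ 𝒜 d) :
    Away.map φ f (frac 𝒜 hf d a ha) = frac ℬ (φ.map_mem hf) d (φ a) (φ.map_mem ha) := by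
  unfold frac
  rw [Away.map_mk]

include hbij in
theorem Λ_surjective : Function.Surjective (Λ 𝒜 ℬ φ z hz hf) := by
  intro x
  obtain ⟨n, b, hb, rfl⟩ := Away.mk_surjective ℬ (φ.map_mem hf) x
  have hb' : b ∈ ℬ n := by simpa using hb
  obtain ⟨q, hq, hbq⟩ := PolyCone.exists_homogeneous_coeffs 𝒜 ℬ φ z hz hbij.2 n b hb'
  refine ⟨∑ k ∈ Finset.range (n + 1), C (frac 𝒜 hf (n - k) (q k) (hq k)) * X ^ k, ?_⟩
  apply val_injective
  unfold Λ
  rw [map_sum, Away.val_mk]
  have hsum : ∀ (s : Finset ℕ) (g : ℕ → Away ℬ (φ f)), (∑ k ∈ s, g k).val = ∑ k ∈ s, (g k).val := by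
    intro s g
    induction s using Finset.induction_on with
    | empty => simp [val_zero]
    | insert a s ha ih => rw [Finset.sum_insert ha, Finset.sum_insert ha, val_add, ih]
  rw [hsum]
  have hterm : ∀ k ∈ Finset.range (n + 1),
      ((Polynomial.eval₂RingHom (Away.map φ f) (zf 𝒜 ℬ φ z hz hf))
        (C (frac 𝒜 hf (n - k) (q k) (hq k)) * X ^ k)).val =
        Localization.mk (φ (q k) * z ^ k) (pw (φ f) n) := by
    intro k hk
    have hkn : k ≤ n := Nat.lt_succ_iff.mp (Finset.mem_range.mp hk)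
    have hpw : pw (φ f) (n - k) * (pw (φ f) 1) ^ k = pw (φ f) n := by
      ext
      simp [← pow_add, Nat.sub_add_cancel hkn]
    rw [Polynomial.coe_eval₂RingHom, Polynomial.eval₂_mul, Polynomial.eval₂_C,
      Polynomial.eval₂_pow, Polynomial.eval₂_X, val_mul, val_pow, map_frac, val_frac, zf, val_frac,
      Localization.mk_pow, Localization.mk_mul]
    exact congrArg (Localization.mk _) hpw
  rw [Finset.sum_congr rfl hterm]
  have hmk : ∀ (s : Finset ℕ) (g : ℕ → B), ∑ k ∈ s, Localization.mk (g k) (pw (φ f) n) =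
      Localization.mk (∑ k ∈ s, g k) (pw (φ f) n) := by
    intro s g
    induction s using Finset.induction_on with
    | empty => simp [Localization.mk_zero]
    | insert a s ha ih =>
      rw [Finset.sum_insert ha, Finset.sum_insert ha, ih, Localization.add_mk_self]
  rw [hmk, ← hbq]
  rfl

/-- `B → A_f[X]`. -/
noncomputable def μ : B →+* (Localization.Away f)[X] :=
  (Polynomial.mapRingHom (algebraMap A (Localization.Away f))).comp
    (PolyCone.polyEquiv 𝒜 ℬ φ z hbij).symm.toRingHom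

omit [AddSubgroupClass σ A] [AddSubgroupClass τ B] [GradedRing 𝒜] [GradedRing ℬ] in
theorem μ_φ (a : A) : μ 𝒜 ℬ φ z hbij (f := f) (φ a) = C (algebraMap A (Localization.Away f) a) := by
  have e : (PolyCone.polyEquiv 𝒜 ℬ φ z hbij).symm (φ a) = C a := by
    rw [RingEquiv.symm_apply_eq, PolyCone.polyEquiv_apply, Polynomial.eval₂_C]; rfl
  unfold μ
  rw [RingHom.comp_apply]
  change Polynomial.mapRingHom _ ((PolyCone.polyEquiv 𝒜 ℬ φ z hbij).symm (φ a)) = _
  rw [e]
  simp

omit [AddSubgroupClass σ A] [AddSubgroupClass τ B] [GradedRing 𝒜] [GradedRing ℬ] in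
theorem μ_z : μ 𝒜 ℬ φ z hbij (f := f) z = X := by
  have e : (PolyCone.polyEquiv 𝒜 ℬ φ z hbij).symm z = X := by
    rw [RingEquiv.symm_apply_eq, PolyCone.polyEquiv_apply, Polynomial.eval₂_X]
  unfold μ
  rw [RingHom.comp_apply]
  change Polynomial.mapRingHom _ ((PolyCone.polyEquiv 𝒜 ℬ φ z hbij).symm z) = _
  rw [e]
  simp

omit [AddSubgroupClass σ A] [AddSubgroupClass τ B] [GradedRing 𝒜] [GradedRing ℬ] in
theorem isUnit_μ : IsUnit (μ 𝒜 ℬ φ z hbij (f := f) (φ f)) := by
  rw [μ_φ]
  exact (IsLocalization.Away.algebraMap_isUnit (S := Localization.Away f) f).map C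

/-- `B_{φ f} → A_f[X]`. -/
noncomputable def μ' : Localization.Away (φ f) →+* (Localization.Away f)[X] :=
  IsLocalization.Away.lift (φ f) (isUnit_μ 𝒜 ℬ φ z hbij)

omit [AddSubgroupClass σ A] [AddSubgroupClass τ B] [GradedRing 𝒜] [GradedRing ℬ] in
theorem μ'_algebraMap (b : B) :
    μ' 𝒜 ℬ φ z hbij (f := f) (algebraMap B (Localization.Away (φ f)) b) = μ 𝒜 ℬ φ z hbij b :=
  IsLocalization.Away.lift_eq _ _ _

omit [AddSubgroupClass σ A] [AddSubgroupClass τ B] [GradedRing 𝒜] [GradedRing ℬ] in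
theorem μ'_mk (b : B) (n : ℕ) :
    μ' 𝒜 ℬ φ z hbij (f := f) (Localization.mk b (pw (φ f) n)) *
      C (algebraMap A (Localization.Away f) f) ^ n = μ 𝒜 ℬ φ z hbij b := by
  rw [← μ_φ 𝒜 ℬ φ z hbij, ← μ'_algebraMap, ← μ'_algebraMap, ← map_pow, ← map_mul]
  congr 1
  rw [← Localization.mk_one_eq_algebraMap, ← Localization.mk_one_eq_algebraMap,
    Localization.mk_pow, Localization.mk_mul, Localization.mk_eq_mk_iff, Localization.r_iff_exists]
  refine ⟨1, ?_⟩
  simp [mul_comm]

/-- The unit `1 / f` of `A_f`. -/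
noncomputable def w : Localization.Away f := ((AwayLaurent.u (f := f))⁻¹ : (Localization.Away f)ˣ)

theorem w_mul : w (f := f) * algebraMap A (Localization.Away f) f = 1 := by
  rw [← AwayLaurent.coe_u]
  exact Units.inv_mul _

theorem mul_w : algebraMap A (Localization.Away f) f * w (f := f) = 1 := by
  rw [mul_comm, w_mul]

/-- The composite `A_(f)[X] → (A[z])_(f) → B_{φ f} → A_f[X]` is `p ↦ p(X / f)`. -/
theorem μ'_Λ (p : (Away 𝒜 f)[X]) :
    μ' 𝒜 ℬ φ z hbij ((Λ 𝒜 ℬ φ z hz hf p).val) =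
      (p.map (algebraMap (Away 𝒜 f) (Localization.Away f))).comp (C w * X) := by
  have key : ((μ' 𝒜 ℬ φ z hbij).comp
      ((algebraMap (Away ℬ (φ f)) (Localization.Away (φ f))).comp (Λ 𝒜 ℬ φ z hz hf))) =
      (Polynomial.compRingHom (C (w (f := f)) * X)).comp
        (Polynomial.mapRingHom (algebraMap (Away 𝒜 f) (Localization.Away f))) := by
    apply Polynomial.ringHom_ext
    · intro c
      obtain ⟨n, a, ha, rfl⟩ := Away.mk_surjective 𝒜 hf c
      have ha' : a ∈ 𝒜 n := by simpa using ha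
      simp only [RingHom.comp_apply, Polynomial.coe_mapRingHom, Polynomial.map_C,
        Polynomial.coe_compRingHom, Polynomial.C_comp]
      unfold Λ
      rw [Polynomial.coe_eval₂RingHom, Polynomial.eval₂_C, Away.map_mk,
        HomogeneousLocalization.algebraMap_apply, HomogeneousLocalization.algebraMap_apply,
        Away.val_mk, Away.val_mk]
      have h1 := μ'_mk 𝒜 ℬ φ z hbij (f := f) (φ a) n
      rw [μ_φ] at h1
      have hu : IsUnit (C (algebraMap A (Localization.Away f) f) ^ n) :=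
        ((IsLocalization.Away.algebraMap_isUnit (S := Localization.Away f) f).map C).pow n
      apply hu.mul_left_injective
      change _ * _ = _ * _
      refine h1.trans ?_
      rw [← map_pow, ← map_mul]
      congr 1
      rw [← Localization.mk_one_eq_algebraMap, ← Localization.mk_one_eq_algebraMap,
        Localization.mk_pow, Localization.mk_mul, Localization.mk_eq_mk_iff,
        Localization.r_iff_exists]
      refine ⟨1, ?_⟩
      simp [mul_comm]
    · simp only [RingHom.comp_apply, Polynomial.coe_mapRingHom, Polynomial.map_X,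
        Polynomial.coe_compRingHom, Polynomial.X_comp]
      unfold Λ
      rw [Polynomial.coe_eval₂RingHom, Polynomial.eval₂_X,
        HomogeneousLocalization.algebraMap_apply, zf, val_frac]
      have h1 := μ'_mk 𝒜 ℬ φ z hbij (f := f) z 1
      rw [μ_z, pow_one] at h1
      have hu : IsUnit (C (algebraMap A (Localization.Away f) f)) :=
        (IsLocalization.Away.algebraMap_isUnit (S := Localization.Away f) f).map C
      apply hu.mul_left_injective
      change _ * _ = _ * _
      refine h1.trans ?_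
      rw [mul_comm (C w) X, mul_assoc, ← map_mul, w_mul, map_one, mul_one]
  exact RingHom.congr_fun key p

include hbij in
theorem Λ_injective : Function.Injective (Λ 𝒜 ℬ φ z hz hf) := by
  rw [injective_iff_map_eq_zero]
  intro p hp
  have h1 := μ'_Λ 𝒜 ℬ φ z hz hbij hf p
  rw [hp, val_zero, map_zero] at h1
  have h2 := congrArg (fun r : (Localization.Away f)[X] =>
    r.comp (C (algebraMap A (Localization.Away f) f) * X)) h1
  simp only [Polynomial.zero_comp] at h2
  rw [Polynomial.comp_assoc, Polynomial.mul_comp, Polynomial.C_comp, Polynomial.X_comp,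
    ← mul_assoc, ← map_mul, w_mul, map_one, one_mul, Polynomial.comp_X] at h2
  have hinj : Function.Injective (algebraMap (Away 𝒜 f) (Localization.Away f)) := by
    intro a b hab
    exact val_injective _ hab
  exact Polynomial.map_injective _ hinj (by rw [← h2, Polynomial.map_zero])

/-- `A_(f)[X] ≃ (A[z])_(f)`. -/
noncomputable def polyEquiv : (Away 𝒜 f)[X] ≃+* Away ℬ (φ f) :=
  RingEquiv.ofBijective (Λ 𝒜 ℬ φ z hz hf)
    ⟨Λ_injective 𝒜 ℬ φ z hz hbij hf, Λ_surjective 𝒜 ℬ φ z hz hbij hf⟩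

theorem polyEquiv_C (c : Away 𝒜 f) :
    polyEquiv 𝒜 ℬ φ z hz hbij hf (C c) = Away.map φ f c := by
  change Λ 𝒜 ℬ φ z hz hf (C c) = _
  unfold Λ
  rw [Polynomial.coe_eval₂RingHom, Polynomial.eval₂_C]

end Groth.Agent.H41.AwayPoly
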