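import Groth.Agent.H41.AwayPoly

/-!
# `(A[z])_(f)[f / z] = A_(f)[T, T⁻¹]` for `f` homogeneous of degree one
-/

set_option autoImplicit false
universe u

open HomogeneousLocalization Polynomial

namespace Groth.Agent.H41.AwayPoly

variable {A B σ τ : Type u} [CommRing A] [CommRing B] [SetLike σ A] [AddSubgroupClass σ A]
  [SetLike τ B] [AddSubgroupClass τ B]
variable (𝒜 : ℕ → σ) [GradedRing 𝒜] (ℬ : ℕ → τ) [GradedRing ℬ]
variable (φ : 𝒜 →+*ᵍ ℬ) (z : B) (hz : z ∈ ℬ 1)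
variable (hbij : Function.Bijective (Polynomial.eval₂RingHom φ.toRingHom z))
variable {f : A} (hf : f ∈ 𝒜 1)

theorem polyEquiv_X : polyEquiv 𝒜 ℬ φ z hz hbij hf X = zf 𝒜 ℬ φ z hz hf := by
  change Λ 𝒜 ℬ φ z hz hf X = _
  unfold Λ
  rw [Polynomial.coe_eval₂RingHom, Polynomial.eval₂_X]

theorem isLocalizationElem_eq :
    Away.isLocalizationElem (φ.map_mem hf) hz = zf 𝒜 ℬ φ z hz hf := by
  apply val_injective
  rw [zf, AwayLaurent.val_frac, Away.isLocalizationElem, Away.val_mk]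
  simp only [pow_one]
  congr 1
  ext
  simp [AwayLaurent.pw]

/-- `A_(f)[T, T⁻¹] ≃ (A[z])_(f)[(z / f)⁻¹]`. -/
noncomputable def laurentEquiv' :
    LaurentPolynomial (Away 𝒜 f) ≃+* Localization.Away (zf 𝒜 ℬ φ z hz hf) :=
  IsLocalization.ringEquivOfRingEquiv (M := Submonoid.powers (X : (Away 𝒜 f)[X]))
    (T := Submonoid.powers (zf 𝒜 ℬ φ z hz hf))
    (LaurentPolynomial (Away 𝒜 f)) (Localization.Away (zf 𝒜 ℬ φ z hz hf))
    (polyEquiv 𝒜 ℬ φ z hz hbij hf)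
    (by rw [← polyEquiv_X 𝒜 ℬ φ z hz hbij hf]; exact Submonoid.map_powers _ _)

theorem laurentEquiv'_C (c : Away 𝒜 f) :
    laurentEquiv' 𝒜 ℬ φ z hz hbij hf (LaurentPolynomial.C c) =
      algebraMap (Away ℬ (φ f)) (Localization.Away (zf 𝒜 ℬ φ z hz hf)) (Away.map φ f c) := by
  rw [← Polynomial.toLaurent_C, ← LaurentPolynomial.algebraMap_eq_toLaurent, laurentEquiv',
    IsLocalization.ringEquivOfRingEquiv_eq, polyEquiv_C]

end Groth.Agent.H41.AwayPoly
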