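import Groth.Agent.H18.STL.Basic
import Mathlib.CategoryTheory.Limits.Types.Limits

/-!
# Limits of chart modules over the preorder of affine opens (helper41)

An abstract gluing device.  `AffOpen Y` is the preorder of affine opens of `Y`, with `a ≤ b` when `b` is a basic open
of `a`.  For a diagram `Φ : AffOpen Y ⥤ P.Modules` of modules on a scheme `P ⟶ Y` such that `Φ a` only sees the part of
an open lying over `a`, and the transition `Φ a ⟶ Φ b` is bijective on sections over opens lying over `b`, the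
projection `limit Φ ⟶ Φ a` is bijective on sections over opens lying over `a`.
-/

set_option autoImplicit false
universe u

open CategoryTheory CategoryTheory.Limits AlgebraicGeometry TopologicalSpace Opposite

namespace Groth.Agent.H41.ChartLimit

open Groth.Agent.H18

/-- affine opens -/
structure AffOpen (Y : Scheme.{u}) : Type u where
  U : Y.Opens
  hU : IsAffineOpen U

/-- `V` is a basic open of `U` -/
def IsBasicIn {Y : Scheme.{u}} (V U : Y.Opens) : Prop := ∃ r : Γ(Y, U), V = Y.basicOpen r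

section basic

variable {Y : Scheme.{u}}

theorem IsBasicIn.le {V U : Y.Opens} (h : IsBasicIn V U) : V ≤ U := by
  obtain ⟨r, rfl⟩ := h
  exact Y.basicOpen_le r

theorem isBasicIn_refl (U : Y.Opens) : IsBasicIn U U :=
  ⟨1, (Y.basicOpen_of_isUnit isUnit_one).symm⟩

theorem IsBasicIn.trans {U V V' : Y.Opens} (hU : IsAffineOpen U) (h : IsBasicIn V U)
    (h' : IsBasicIn V' V) : IsBasicIn V' U := by
  obtain ⟨r, rfl⟩ := h
  obtain ⟨r', rfl⟩ := h'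
  obtain ⟨f, hf⟩ := hU.basicOpen_basicOpen_is_basicOpen r r'
  exact ⟨f, hf.symm⟩

theorem IsBasicIn.of_le {U V V' : Y.Opens} (h' : IsBasicIn V' U) (hV : V ≤ U) (hle : V' ≤ V) :
    IsBasicIn V' V := by
  obtain ⟨g, rfl⟩ := h'
  refine ⟨Y.presheaf.map (homOfLE hV).op g, ?_⟩
  rw [Scheme.basicOpen_res]
  exact (inf_eq_right.mpr hle).symm

theorem IsBasicIn.isAffineOpen {U V : Y.Opens} (hU : IsAffineOpen U) (h : IsBasicIn V U) :
    IsAffineOpen V := by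
  obtain ⟨r, rfl⟩ := h
  exact hU.basicOpen r

instance : Preorder (AffOpen Y) where
  le a b := IsBasicIn b.U a.U
  le_refl a := isBasicIn_refl a.U
  le_trans a _ _ hab hbc := hab.trans a.hU hbc

theorem le_def {a b : AffOpen Y} : a ≤ b ↔ IsBasicIn b.U a.U := Iff.rfl

/-- two affine opens have a common basic open around any common point, inside any neighbourhood -/
theorem exists_common (a a' : AffOpen Y) (x : Y) (hx : x ∈ a.U) (hx' : x ∈ a'.U) (N : Y.Opens)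
    (hN : x ∈ N) : ∃ c : AffOpen Y, a ≤ c ∧ a' ≤ c ∧ x ∈ c.U ∧ c.U ≤ N := by
  obtain ⟨f, hf₁, hf₂⟩ := a.hU.exists_basicOpen_le (V := a'.U ⊓ N) ⟨x, ⟨hx', hN⟩⟩ hx
  obtain ⟨g, hg₁, hg₂⟩ := a'.hU.exists_basicOpen_le (V := Y.basicOpen f) ⟨x, hf₂⟩ hx'
  have hb' : IsBasicIn (Y.basicOpen g) a'.U := ⟨g, rfl⟩
  have hb1 : IsBasicIn (Y.basicOpen g) (Y.basicOpen f) :=
    hb'.of_le (hf₁.trans inf_le_left) hg₁
  have hb : IsBasicIn (Y.basicOpen g) a.U := IsBasicIn.trans a.hU ⟨f, rfl⟩ hb1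
  exact ⟨⟨Y.basicOpen g, a'.hU.basicOpen g⟩, hb, hb', hg₂, hg₁.trans (hf₁.trans inf_le_right)⟩

end basic

section sections

variable {P : Scheme.{u}}

/-- sections over `W`, as a functor to types -/
noncomputable def secFunctor (W : P.Opens) : P.Modules ⥤ Type u :=
  Scheme.Modules.toPresheaf P ⋙ (evaluation (Opens ↥P)ᵒᵖ Ab.{u}).obj (op W) ⋙ forget Ab.{u}

noncomputable instance (W : P.Opens) : PreservesLimitsOfSize.{u, u} (secFunctor W) := by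
  unfold secFunctor
  have : PreservesLimitsOfSize.{u, u}
      ((evaluation (Opens ↥P)ᵒᵖ Ab.{u}).obj (op W) ⋙ forget Ab.{u}) := inferInstance
  have : PreservesLimitsOfSize.{u, u} (Scheme.Modules.toPresheaf P) := inferInstance
  exact comp_preservesLimits.{u, u} _ _

theorem secFunctor_map {M N : P.Modules} (W : P.Opens) (φ : M ⟶ N) (s : Γ(M, W)) :
    (secFunctor W).map φ s = φ.app W s := rfl

variable {J : Type u} [Category.{u} J] (Φ : J ⥤ P.Modules)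

/-- sections of a limit are compatible families of sections -/
noncomputable def sectionsEquiv (W : P.Opens) : Γ(limit Φ, W) ≃ (Φ ⋙ secFunctor W).sections :=
  Types.isLimitEquivSections (isLimitOfPreserves (secFunctor W) (limit.isLimit Φ))

theorem sectionsEquiv_apply (W : P.Opens) (s : Γ(limit Φ, W)) (j : J) :
    (sectionsEquiv Φ W s).1 j = (limit.π Φ j).app W s :=
  Types.isLimitEquivSections_apply _ _ _

theorem limit_w_app (W : P.Opens) {a b : J} (f : a ⟶ b) (s : Γ(limit Φ, W)) :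
    (Φ.map f).app W ((limit.π Φ a).app W s) = (limit.π Φ b).app W s := by
  rw [← limit.w Φ f]
  rfl

end sections

section main

variable {Y P : Scheme.{u}} (p : P ⟶ Y) (Φ : AffOpen Y ⥤ P.Modules)
  (hsupp : ∀ (a : AffOpen Y) (W : P.Opens),
    Function.Bijective (mres (Φ.obj a) (inf_le_left : W ⊓ p ⁻¹ᵁ a.U ≤ W)))
  (hbij : ∀ (a b : AffOpen Y) (h : a ≤ b) (W : P.Opens), W ≤ p ⁻¹ᵁ b.U →
    Function.Bijective ((Φ.map (homOfLE h)).app W))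

theorem app_mres {M N : P.Modules} (φ : M ⟶ N) {W W' : P.Opens} (h : W' ≤ W)
    (x : Γ(M, W)) : φ.app W' (mres M h x) = mres N h (φ.app W x) := by
  have hnat := φ.mapPresheaf.naturality (homOfLE h).op
  exact ConcreteCategory.congr_hom hnat x

theorem map_map_app {a b c : AffOpen Y} (hab : a ≤ b) (hbc : b ≤ c) (hac : a ≤ c) (W : P.Opens)
    (s : Γ(Φ.obj a, W)) :
    (Φ.map (homOfLE hbc)).app W ((Φ.map (homOfLE hab)).app W s) = (Φ.map (homOfLE hac)).app W s := by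
  have : homOfLE hac = homOfLE hab ≫ homOfLE hbc := Subsingleton.elim _ _
  rw [this, Φ.map_comp]
  rfl

/-- the specification of the component over `a` of the family extending `τ` -/
def Spec (a₀ a : AffOpen Y) (W : P.Opens) (τ : Γ(Φ.obj a₀, W)) (s : Γ(Φ.obj a, W)) : Prop :=
  ∀ (c : AffOpen Y) (h₀ : a₀ ≤ c) (h : a ≤ c) (W' : P.Opens) (hW' : W' ≤ W) (_ : W' ≤ p ⁻¹ᵁ c.U),
    (Φ.map (homOfLE h)).app W' (mres _ hW' s) = (Φ.map (homOfLE h₀)).app W' (mres _ hW' τ)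

include hsupp hbij in
theorem spec_unique (a₀ a : AffOpen Y) (W : P.Opens) (hW : W ≤ p ⁻¹ᵁ a₀.U) (τ : Γ(Φ.obj a₀, W))
    (s s' : Γ(Φ.obj a, W)) (hs : Spec p Φ a₀ a W τ s) (hs' : Spec p Φ a₀ a W τ s') : s = s' := by
  apply (hsupp a W).1
  refine modules_eq_of_locally_eq _ _ _ fun x hx => ?_
  obtain ⟨c, ha₀c, hac, hxc, -⟩ := exists_common a₀ a (p x) (hW hx.1) hx.2 ⊤ trivial
  have hW' : W ⊓ p ⁻¹ᵁ c.U ≤ W ⊓ p ⁻¹ᵁ a.U :=
    inf_le_inf_left _ (p.preimage_mono (IsBasicIn.le hac))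
  refine ⟨W ⊓ p ⁻¹ᵁ c.U, hW', ⟨hx.1, hxc⟩, ?_⟩
  rw [mres_mres, mres_mres]
  apply (hbij a c hac _ inf_le_right).1
  exact (hs c ha₀c hac _ _ inf_le_right).trans (hs' c ha₀c hac _ _ inf_le_right).symm

include hbij in
theorem limit_π_app_injective (a₀ : AffOpen Y) (W : P.Opens) (hW : W ≤ p ⁻¹ᵁ a₀.U)
    (hsupp : ∀ (a : AffOpen Y) (W : P.Opens),
      Function.Bijective (mres (Φ.obj a) (inf_le_left : W ⊓ p ⁻¹ᵁ a.U ≤ W))) :
    Function.Injective ((limit.π Φ a₀).app W) := by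
  intro s s' hss
  apply (sectionsEquiv Φ W).injective
  apply Subtype.ext
  funext a
  rw [sectionsEquiv_apply, sectionsEquiv_apply]
  refine spec_unique p Φ hsupp hbij a₀ a W hW ((limit.π Φ a₀).app W s) _ _ ?_ ?_
  · intro c h₀ h W' hW' _
    rw [app_mres, app_mres, limit_w_app, limit_w_app]
  · intro c h₀ h W' hW' _
    rw [app_mres, app_mres, limit_w_app, hss, limit_w_app]

include hsupp hbij in
theorem spec_exists (a₀ a : AffOpen Y) (W : P.Opens) (hW : W ≤ p ⁻¹ᵁ a₀.U) (τ : Γ(Φ.obj a₀, W)) :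
    ∃ s : Γ(Φ.obj a, W), Spec p Φ a₀ a W τ s := by
  -- the local pieces
  have hex : ∀ x : ↥(W ⊓ p ⁻¹ᵁ a.U), ∃ c : AffOpen Y, a₀ ≤ c ∧ a ≤ c ∧ p x.1 ∈ c.U := by
    intro x
    obtain ⟨c, h1, h2, h3, -⟩ := exists_common a₀ a (p x.1) (hW x.2.1) x.2.2 ⊤ trivial
    exact ⟨c, h1, h2, h3⟩
  choose c hc₀ hc hxc using hex
  have hWτ : ∀ x : ↥(W ⊓ p ⁻¹ᵁ a.U), (W ⊓ p ⁻¹ᵁ a.U) ⊓ p ⁻¹ᵁ (c x).U ≤ W :=
    fun x => inf_le_left.trans inf_le_left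
  have hσex : ∀ x : ↥(W ⊓ p ⁻¹ᵁ a.U), ∃ σ : Γ(Φ.obj a, (W ⊓ p ⁻¹ᵁ a.U) ⊓ p ⁻¹ᵁ (c x).U),
      (Φ.map (homOfLE (hc x))).app _ σ = (Φ.map (homOfLE (hc₀ x))).app _ (mres _ (hWτ x) τ) :=
    fun x => (hbij a (c x) (hc x) _ inf_le_right).2 _
  choose σ hσ using hσex
  -- independence of the chart
  have hindep : ∀ (x : ↥(W ⊓ p ⁻¹ᵁ a.U)) (c' : AffOpen Y) (h₀ : a₀ ≤ c') (h : a ≤ c')
      (_ : c'.U ≤ (c x).U) (W' : P.Opens) (hW' : W' ≤ (W ⊓ p ⁻¹ᵁ a.U) ⊓ p ⁻¹ᵁ (c x).U),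
      (Φ.map (homOfLE h)).app W' (mres _ hW' (σ x)) =
        (Φ.map (homOfLE h₀)).app W' (mres _ (hW'.trans (hWτ x)) τ) := by
    intro x c' h₀ h hle W' hW'
    have hcc' : c x ≤ c' := IsBasicIn.of_le h (IsBasicIn.le (hc x)) hle
    rw [← map_map_app Φ (hc x) hcc' h, ← map_map_app Φ (hc₀ x) hcc' h₀, app_mres, hσ x,
      ← app_mres, mres_mres]
  -- compatibility on overlaps
  have hcompat : ∀ x x' : ↥(W ⊓ p ⁻¹ᵁ a.U),
      mres (Φ.obj a) (inf_le_left : ((W ⊓ p ⁻¹ᵁ a.U) ⊓ p ⁻¹ᵁ (c x).U) ⊓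
        ((W ⊓ p ⁻¹ᵁ a.U) ⊓ p ⁻¹ᵁ (c x').U) ≤ _) (σ x) =
      mres (Φ.obj a) (inf_le_right : ((W ⊓ p ⁻¹ᵁ a.U) ⊓ p ⁻¹ᵁ (c x).U) ⊓
        ((W ⊓ p ⁻¹ᵁ a.U) ⊓ p ⁻¹ᵁ (c x').U) ≤ _) (σ x') := by
    intro x x'
    refine modules_eq_of_locally_eq _ _ _ fun z hz => ?_
    obtain ⟨c', h₀, h, hzc', hle⟩ := exists_common a₀ a (p z) (hW hz.1.1.1) hz.1.1.2
      ((c x).U ⊓ (c x').U) ⟨hz.1.2, hz.2.2⟩
    refine ⟨_ ⊓ p ⁻¹ᵁ c'.U, inf_le_left, ⟨hz, hzc'⟩, ?_⟩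
    rw [mres_mres, mres_mres]
    apply (hbij a c' h _ inf_le_right).1
    rw [hindep x c' h₀ h (hle.trans inf_le_left), hindep x' c' h₀ h (hle.trans inf_le_right)]
  obtain ⟨sV, hsV⟩ := STL.exists_glue (Φ.obj a)
    (fun x : ↥(W ⊓ p ⁻¹ᵁ a.U) => (W ⊓ p ⁻¹ᵁ a.U) ⊓ p ⁻¹ᵁ (c x).U) (W ⊓ p ⁻¹ᵁ a.U)
    (fun _ => inf_le_left) (fun z hz => ⟨⟨z, hz⟩, ⟨hz, hxc ⟨z, hz⟩⟩⟩) σ hcompat
  obtain ⟨s, hs⟩ := (hsupp a W).2 sV
  refine ⟨s, ?_⟩
  intro c₁ h₀ h W' hW' hc₁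
  refine modules_eq_of_locally_eq _ _ _ fun z hz => ?_
  have hzV : z ∈ W ⊓ p ⁻¹ᵁ a.U := ⟨hW' hz, IsBasicIn.le h (hc₁ hz)⟩
  obtain ⟨c', h₀', h', hzc', hle⟩ := exists_common a₀ a (p z) (hW (hW' hz)) hzV.2
    (c₁.U ⊓ (c ⟨z, hzV⟩).U) ⟨hc₁ hz, hxc ⟨z, hzV⟩⟩
  have hc₁c' : c₁ ≤ c' := IsBasicIn.of_le h' (IsBasicIn.le h) (hle.trans inf_le_left)
  have hW'' : W' ⊓ ((W ⊓ p ⁻¹ᵁ a.U) ⊓ p ⁻¹ᵁ (c ⟨z, hzV⟩).U) ⊓ p ⁻¹ᵁ c'.U ≤ W' :=
    inf_le_left.trans inf_le_left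
  refine ⟨_, hW'', ⟨⟨hz, ⟨hzV, hxc ⟨z, hzV⟩⟩⟩, hzc'⟩, ?_⟩
  apply (hbij c₁ c' hc₁c' _ inf_le_right).1
  rw [← app_mres, ← app_mres, map_map_app Φ h hc₁c' h', map_map_app Φ h₀ hc₁c' h₀', mres_mres,
    mres_mres]
  have e1 : mres (Φ.obj a) (hW''.trans hW') s =
      mres (Φ.obj a) (inf_le_left.trans inf_le_right :
        W' ⊓ ((W ⊓ p ⁻¹ᵁ a.U) ⊓ p ⁻¹ᵁ (c ⟨z, hzV⟩).U) ⊓ p ⁻¹ᵁ c'.U ≤
          (W ⊓ p ⁻¹ᵁ a.U) ⊓ p ⁻¹ᵁ (c ⟨z, hzV⟩).U) (σ ⟨z, hzV⟩) := by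
    rw [← hsV ⟨z, hzV⟩, ← hs, mres_mres, mres_mres]
  rw [e1]
  exact hindep ⟨z, hzV⟩ c' h₀' h' (hle.trans inf_le_right) _ _

include hsupp hbij in
theorem limit_π_app_surjective (a₀ : AffOpen Y) (W : P.Opens) (hW : W ≤ p ⁻¹ᵁ a₀.U) :
    Function.Surjective ((limit.π Φ a₀).app W) := by
  intro τ
  have hex := fun a => spec_exists p Φ hsupp hbij a₀ a W hW τ
  choose t ht using hex
  have hcompat : ∀ {a b : AffOpen Y} (f : a ⟶ b),
      (Φ ⋙ secFunctor W).map f (t a) = t b := by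
    intro a b f
    have hab : a ≤ b := leOfHom f
    have hf : f = homOfLE hab := Subsingleton.elim _ _
    refine spec_unique p Φ hsupp hbij a₀ b W hW τ _ _ ?_ (ht b)
    intro c h₀ h W' hW' hc
    change (Φ.map (homOfLE h)).app W' (mres _ hW' ((Φ.map f).app W (t a))) = _
    rw [hf, ← app_mres, map_map_app Φ hab h (hab.trans h)]
    exact ht a c h₀ (hab.trans h) W' hW' hc
  have ht₀ : t a₀ = τ := by
    refine spec_unique p Φ hsupp hbij a₀ a₀ W hW τ _ _ (ht a₀) ?_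
    intro c h₀ h W' hW' _
    rfl
  refine ⟨(sectionsEquiv Φ W).symm ⟨t, hcompat⟩, ?_⟩
  rw [← sectionsEquiv_apply, Equiv.apply_symm_apply]
  exact ht₀

include hsupp hbij in
/-- The projection from the limit of the chart modules is bijective on sections over opens lying over the chart. -/
theorem limit_π_app_bijective (a₀ : AffOpen Y) (W : P.Opens) (hW : W ≤ p ⁻¹ᵁ a₀.U) :
    Function.Bijective ((limit.π Φ a₀).app W) :=
  ⟨limit_π_app_injective p Φ hbij a₀ W hW hsupp, limit_π_app_surjective p Φ hsupp hbij a₀ W hW⟩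

end main

end Groth.Agent.H41.ChartLimit
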