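import Groth.Agent.H41.ProjScalar
import Groth.Agent.H41.RelTwistTriv
import Groth.Agent.H41.ChartLimit
import Groth.Agent.H44.HomOfBasis

/-!
# The canonical map from degree `n` sections to `p_* O_P(n)` (helper41)

For a module map `ν : N ⟶ 𝒮` landing in degree `n`, the map `N ⟶ p_* O_P(n)` whose value on `e` over an affine open reads
`ν(e) / 1` on the chart.
-/

set_option autoImplicit false
universe u

open CategoryTheory CategoryTheory.Limits AlgebraicGeometry TopologicalSpace Opposite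
open scoped HomogeneousIdeal

namespace Groth.Agent.H41.CanonMap

open Groth.Agent.H18 Groth.Agent.H41.GrTwistTriv Groth.Agent.H41.RelTwistTriv
  Groth.Agent.H41.ChartLimit

variable {Y P : Scheme.{u}} (𝒮 : RelProj.QCGrAlg Y) (p : P ⟶ Y)
  (chart : ∀ (U : Y.Opens) (hU : IsAffineOpen U),
    (((p ⁻¹ᵁ U : P.Opens) : Scheme.{u}) ≅ Proj (𝒮.deg U hU)))
  (hP : RelProj.IsRelProj 𝒮 p chart) (m : ℤ) (L : P.Modules)
  (lam : ∀ (U : Y.Opens) (hU : IsAffineOpen U),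
    L ⟶ (Scheme.Modules.pushforward (RelProj.emb p chart U hU)).obj (GrTwist.twist (𝒮.deg U hU) m))
  (hL : RelProj.IsRelTwist 𝒮 p chart m L lam)
  (n : ℕ) (hnm : (n : ℤ) = ((0 : ℕ) : ℤ) + m)
  (N : Y.Modules) (ν : N ⟶ 𝒮.toModule)
  (hν : ∀ (U : Y.Opens) (hU : IsAffineOpen U) (x : Γ(N, U)), (ν.app U) x ∈ 𝒮.deg U hU n)

theorem one_notMem' {A σ : Type u} [CommRing A] [SetLike σ A] [AddSubgroupClass σ A]
    {𝒜 : ℕ → σ} [GradedRing 𝒜] (V : (Proj 𝒜).Opens) :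
    ∀ x : ProjectiveSpectrum 𝒜, x ∈ V → (1 : A) ∉ x.asHomogeneousIdeal :=
  fun x _ => RelTwistZero.one_notMem 𝒜 x

/-- the section `a / 1` -/
noncomputable abbrev numTw (U : Y.Opens) (hU : IsAffineOpen U) (a : 𝒮.presheaf.obj (op U))
    (ha : a ∈ 𝒮.deg U hU n) (V : (Proj (𝒮.deg U hU)).Opens) : Γ(GrTwist.twist (𝒮.deg U hU) m, V) :=
  fracTw (𝒮.deg U hU) ha (SetLike.GradedOne.one_mem : (1 : 𝒮.presheaf.obj (op U)) ∈ 𝒮.deg U hU 0)
    hnm V (one_notMem' V)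

include hL in
theorem exists_phi (U : Y.Opens) (hU : IsAffineOpen U) (a : 𝒮.presheaf.obj (op U))
    (ha : a ∈ 𝒮.deg U hU n) :
    ∃ σ : Γ(L, p ⁻¹ᵁ U), (lam U hU).app (p ⁻¹ᵁ U) σ =
      numTw 𝒮 m n hnm U hU a ha ((RelProj.emb p chart U hU) ⁻¹ᵁ (p ⁻¹ᵁ U)) :=
  (hL.bijective U hU (p ⁻¹ᵁ U) le_rfl).2 _

/-- the value of the canonical map over an affine open -/
noncomputable def phiFun (U : Y.Opens) (hU : IsAffineOpen U) (e : Γ(N, U)) : Γ(L, p ⁻¹ᵁ U) :=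
  (exists_phi 𝒮 p chart m L lam hL n hnm U hU _ (hν U hU e)).choose

theorem lam_phiFun (U : Y.Opens) (hU : IsAffineOpen U) (e : Γ(N, U)) :
    (lam U hU).app (p ⁻¹ᵁ U) (phiFun 𝒮 p chart m L lam hL n hnm N ν hν U hU e) =
      numTw 𝒮 m n hnm U hU _ (hν U hU e) ((RelProj.emb p chart U hU) ⁻¹ᵁ (p ⁻¹ᵁ U)) :=
  (exists_phi 𝒮 p chart m L lam hL n hnm U hU _ (hν U hU e)).choose_spec

theorem phiFun_val (U : Y.Opens) (hU : IsAffineOpen U) (e : Γ(N, U))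
    (y : ↥(RelProj.emb p chart U hU ⁻¹ᵁ (p ⁻¹ᵁ U))) :
    GrTwist.val (V := RelProj.emb p chart U hU ⁻¹ᵁ (p ⁻¹ᵁ U))
        ((lam U hU).app (p ⁻¹ᵁ U) (phiFun 𝒮 p chart m L lam hL n hnm N ν hν U hU e)) y =
      algebraMap (𝒮.presheaf.obj (op U)) (GrTwist.Loc (𝒮.deg U hU) y.1)
        ((ν.app U) e : 𝒮.presheaf.obj (op U)) := by
  rw [lam_phiFun]
  exact Localization.mk_one_eq_algebraMap _

include hL in
/-- A section of `L` over `p⁻¹ U` is determined by its values on the chart. -/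
theorem ext_of_val (U : Y.Opens) (hU : IsAffineOpen U) (W : P.Opens) (hW : W ≤ p ⁻¹ᵁ U)
    (s t : Γ(L, W))
    (h : ∀ y : ↥(RelProj.emb p chart U hU ⁻¹ᵁ W),
      GrTwist.val (V := RelProj.emb p chart U hU ⁻¹ᵁ W) ((lam U hU).app W s) y =
        GrTwist.val (V := RelProj.emb p chart U hU ⁻¹ᵁ W) ((lam U hU).app W t) y) : s = t := by
  apply (hL.bijective U hU W hW).1
  exact GrTwistTriv.twist_sect_ext _ m _ _ _ h

theorem val_add' {A σ : Type u} [CommRing A] [SetLike σ A] [AddSubgroupClass σ A]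
    {𝒜 : ℕ → σ} [GradedRing 𝒜] {k : ℤ} {V : (Proj 𝒜).Opens} (s t : Γ(GrTwist.twist 𝒜 k, V)) (y : V) :
    GrTwist.val (s + t) y = GrTwist.val s y + GrTwist.val t y := rfl

include hP in
theorem emb_comap_mem (U : Y.Opens) (hU : IsAffineOpen U)
    (r : Γ(Y, U)) (W : P.Opens)
    (y : ProjectiveSpectrum (𝒮.deg (Y.basicOpen r) (hU.basicOpen r)))
    (hy : (RelProj.emb p chart (Y.basicOpen r) (hU.basicOpen r)).base y ∈ W) :
    (RelProj.emb p chart U hU).base (ProjectiveSpectrum.comap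
      (𝒮.res hU (hU.basicOpen r) (Y.basicOpen_le r)) (𝒮.irrelevant_le_map U hU r) y) ∈ W := by
  rw [← RelProj.map_res_emb hP U hU r] at hy
  exact hy

theorem phiFun_add (U : Y.Opens) (hU : IsAffineOpen U) (e e' : Γ(N, U)) :
    phiFun 𝒮 p chart m L lam hL n hnm N ν hν U hU (e + e') =
      phiFun 𝒮 p chart m L lam hL n hnm N ν hν U hU e +
        phiFun 𝒮 p chart m L lam hL n hnm N ν hν U hU e' := by
  refine ext_of_val 𝒮 p chart m L lam hL U hU (p ⁻¹ᵁ U) le_rfl _ _ fun y => ?_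
  have h1 : (lam U hU).app (p ⁻¹ᵁ U) (phiFun 𝒮 p chart m L lam hL n hnm N ν hν U hU e +
      phiFun 𝒮 p chart m L lam hL n hnm N ν hν U hU e') =
      (lam U hU).app (p ⁻¹ᵁ U) (phiFun 𝒮 p chart m L lam hL n hnm N ν hν U hU e) +
      (lam U hU).app (p ⁻¹ᵁ U) (phiFun 𝒮 p chart m L lam hL n hnm N ν hν U hU e') := map_add _ _ _
  rw [h1]
  refine Eq.trans ?_ (val_add' (V := RelProj.emb p chart U hU ⁻¹ᵁ (p ⁻¹ᵁ U))
    ((lam U hU).app (p ⁻¹ᵁ U) (phiFun 𝒮 p chart m L lam hL n hnm N ν hν U hU e))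
    ((lam U hU).app (p ⁻¹ᵁ U) (phiFun 𝒮 p chart m L lam hL n hnm N ν hν U hU e')) y).symm
  rw [phiFun_val, phiFun_val, phiFun_val, map_add]
  exact map_add _ _ _

include hP in
theorem phiFun_smul (U : Y.Opens) (hU : IsAffineOpen U) (r : Γ(Y, U)) (e : Γ(N, U)) :
    phiFun 𝒮 p chart m L lam hL n hnm N ν hν U hU (r • e) =
      ((p.app U r : Γ(P, p ⁻¹ᵁ U)) • phiFun 𝒮 p chart m L lam hL n hnm N ν hν U hU e :
        Γ(L, p ⁻¹ᵁ U)) := by
  refine ext_of_val 𝒮 p chart m L lam hL U hU (p ⁻¹ᵁ U) le_rfl _ _ fun y => ?_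
  have h0 : (lam U hU).app (p ⁻¹ᵁ U) ((p.app U r : Γ(P, p ⁻¹ᵁ U)) •
      phiFun 𝒮 p chart m L lam hL n hnm N ν hν U hU e) =
      (p.app U r : Γ(P, p ⁻¹ᵁ U)) •
        (lam U hU).app (p ⁻¹ᵁ U) (phiFun 𝒮 p chart m L lam hL n hnm N ν hν U hU e) :=
    Scheme.Modules.Hom.app_smul _ _ _
  rw [phiFun_val, h0]
  have h1 := twist_smul_val (𝒮.deg U hU) m (RelProj.emb p chart U hU ⁻¹ᵁ (p ⁻¹ᵁ U))
    ((RelProj.emb p chart U hU).app (p ⁻¹ᵁ U) (p.app U r))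
    ((lam U hU).app (p ⁻¹ᵁ U) (phiFun 𝒮 p chart m L lam hL n hnm N ν hν U hU e)) y
  refine Eq.trans ?_ h1.symm
  have h2 := phiFun_val 𝒮 p chart m L lam hL n hnm N ν hν U hU e y
  have h3 := ProjScalar.emb_comp_val 𝒮 p chart hP U hU r y.1 y.2
  change _ = ((((RelProj.emb p chart U hU ≫ p).app U r :
      Γ(Proj (𝒮.deg U hU), (RelProj.emb p chart U hU ≫ p) ⁻¹ᵁ U)).1 ⟨y.1, y.2⟩).val :
        GrTwist.Loc (𝒮.deg U hU) y.1) * _
  rw [h3]
  change _ = _ * GrTwist.val (V := RelProj.emb p chart U hU ⁻¹ᵁ (p ⁻¹ᵁ U))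
    ((lam U hU).app (p ⁻¹ᵁ U) (phiFun 𝒮 p chart m L lam hL n hnm N ν hν U hU e)) y
  rw [h2, Localization.mk_one_eq_algebraMap, ← map_mul]
  congr 1
  exact (Scheme.Modules.Hom.app_smul ν r e)

include hP in
/-- compatibility with the restriction to a basic open -/
theorem phiFun_res_basic (U : Y.Opens) (hU : IsAffineOpen U) (r : Γ(Y, U)) (e : Γ(N, U)) :
    mres L (p.preimage_mono (Y.basicOpen_le r))
        (phiFun 𝒮 p chart m L lam hL n hnm N ν hν U hU e) =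
      phiFun 𝒮 p chart m L lam hL n hnm N ν hν (Y.basicOpen r) (hU.basicOpen r)
        (mres N (Y.basicOpen_le r) e) := by
  refine ext_of_val 𝒮 p chart m L lam hL (Y.basicOpen r) (hU.basicOpen r) (p ⁻¹ᵁ Y.basicOpen r)
    le_rfl _ _ fun y => ?_
  have hy' := emb_comap_mem 𝒮 p chart hP U hU r (p ⁻¹ᵁ Y.basicOpen r) y.1 y.2
  rw [phiFun_val]
  refine (hL.compat U hU r (p ⁻¹ᵁ Y.basicOpen r) _ y.1 y.2 hy').trans ?_
  rw [RelTwistTriv.app_mres, lam_phiFun]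
  obtain ⟨a, ha, ha'⟩ : ∃ a : 𝒮.presheaf.obj (op U), a = (ν.app U) e ∧ a ∈ 𝒮.deg U hU n :=
    ⟨_, rfl, hν U hU e⟩
  obtain ⟨b, hb⟩ : ∃ b : 𝒮.presheaf.obj (op (Y.basicOpen r)),
      b = (ν.app (Y.basicOpen r)) (mres N (Y.basicOpen_le r) e) := ⟨_, rfl⟩
  have hab : (𝒮.res hU (hU.basicOpen r) (Y.basicOpen_le r)) a = b := by
    rw [ha, hb]
    exact (RelTwistTriv.app_mres ν (Y.basicOpen_le r) e).symm
  have hone : (1 : 𝒮.presheaf.obj (op U)) ∉ (ProjectiveSpectrum.comap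
      (𝒮.res hU (hU.basicOpen r) (Y.basicOpen_le r)) (𝒮.irrelevant_le_map U hU r)
        y.1).asHomogeneousIdeal := RelTwistZero.one_notMem _ _
  refine (congrArg (GrTwist.locMap (𝒮.res hU (hU.basicOpen r) (Y.basicOpen_le r))
    (𝒮.irrelevant_le_map U hU r) y.1) (show _ = Localization.mk a ⟨1, hone⟩ from ?_)).trans ?_
  · subst ha
    rfl
  · rw [GrTwist.locMap_mk, ← hb, ← Localization.mk_one_eq_algebraMap, hab]
    congr 1
    exact Subtype.ext (map_one _)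

include hP in
theorem phiFun_res_isBasic (U : Y.Opens) (hU : IsAffineOpen U) (V : Y.Opens) (hV : IsAffineOpen V)
    (h : IsBasicIn V U) (e : Γ(N, U)) :
    mres L (p.preimage_mono (IsBasicIn.le h)) (phiFun 𝒮 p chart m L lam hL n hnm N ν hν U hU e) =
      phiFun 𝒮 p chart m L lam hL n hnm N ν hν V hV (mres N (IsBasicIn.le h) e) := by
  obtain ⟨r, rfl⟩ := h
  exact phiFun_res_basic 𝒮 p chart hP m L lam hL n hnm N ν hν U hU r e

include hP in
/-- compatibility with the restriction between affine opens -/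
theorem phiFun_res (U : Y.Opens) (hU : IsAffineOpen U) (V : Y.Opens) (hV : IsAffineOpen V)
    (hVU : V ≤ U) (e : Γ(N, U)) :
    mres L (p.preimage_mono hVU) (phiFun 𝒮 p chart m L lam hL n hnm N ν hν U hU e) =
      phiFun 𝒮 p chart m L lam hL n hnm N ν hν V hV (mres N hVU e) := by
  refine modules_eq_of_locally_eq L _ _ fun x hx => ?_
  obtain ⟨c, hUc, hVc, hxc, -⟩ :=
    exists_common (⟨U, hU⟩ : AffOpen Y) ⟨V, hV⟩ (p x) (hVU hx) hx ⊤ trivial
  refine ⟨p ⁻¹ᵁ c.U, p.preimage_mono (IsBasicIn.le hVc), hxc, ?_⟩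
  rw [mres_mres, phiFun_res_isBasic 𝒮 p chart hP m L lam hL n hnm N ν hν V hV c.U c.hU hVc,
    mres_mres]
  exact phiFun_res_isBasic 𝒮 p chart hP m L lam hL n hnm N ν hν U hU c.U c.hU hUc e

/-- the canonical map over an affine open, as a linear map -/
noncomputable def phiLin (U : Y.affineOpens) :
    Γ(N, U.1) →ₗ[Γ(Y, U.1)] Γ((Scheme.Modules.pushforward p).obj L, U.1) where
  toFun e := phiFun 𝒮 p chart m L lam hL n hnm N ν hν U.1 U.2 e
  map_add' e e' := phiFun_add 𝒮 p chart m L lam hL n hnm N ν hν U.1 U.2 e e'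
  map_smul' r e := phiFun_smul 𝒮 p chart hP m L lam hL n hnm N ν hν U.1 U.2 r e

theorem isBasis_affine : Opens.IsBasis (Set.range (fun U : Y.affineOpens => (U.1 : Y.Opens))) := by
  rw [Subtype.range_coe]
  exact Y.isBasis_affineOpens

/-- The canonical map `N ⟶ p_* O_P(n)` attached to `ν : N ⟶ 𝒮_n`. -/
noncomputable def phi : N ⟶ (Scheme.Modules.pushforward p).obj L :=
  Groth.Agent.H44.homOfBasis (fun U : Y.affineOpens => (U.1 : Y.Opens)) isBasis_affine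
    (phiLin 𝒮 p chart hP m L lam hL n hnm N ν hν)
    (fun U V h e => (phiFun_res 𝒮 p chart hP m L lam hL n hnm N ν hν U.1 U.2 V.1 V.2 h e).symm)

theorem phi_app (U : Y.Opens) (hU : IsAffineOpen U) (e : Γ(N, U)) :
    (phi 𝒮 p chart hP m L lam hL n hnm N ν hν).app U e =
      phiFun 𝒮 p chart m L lam hL n hnm N ν hν U hU e :=
  Groth.Agent.H44.homOfBasis_app (fun U : Y.affineOpens => (U.1 : Y.Opens)) isBasis_affine
    (phiLin 𝒮 p chart hP m L lam hL n hnm N ν hν)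
    (fun U V h e => (phiFun_res 𝒮 p chart hP m L lam hL n hnm N ν hν U.1 U.2 V.1 V.2 h e).symm)
    ⟨U, hU⟩ e

/-- the characteristic property of the canonical map -/
theorem phi_val (U : Y.Opens) (hU : IsAffineOpen U) (e : Γ(N, U))
    (y : ↥(RelProj.emb p chart U hU ⁻¹ᵁ (p ⁻¹ᵁ U))) :
    GrTwist.val (V := RelProj.emb p chart U hU ⁻¹ᵁ (p ⁻¹ᵁ U))
        ((lam U hU).app (p ⁻¹ᵁ U) ((phi 𝒮 p chart hP m L lam hL n hnm N ν hν).app U e)) y =
      algebraMap (𝒮.presheaf.obj (op U)) (GrTwist.Loc (𝒮.deg U hU) y.1)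
        ((ν.app U) e : 𝒮.presheaf.obj (op U)) := by
  rw [phi_app 𝒮 p chart hP m L lam hL n hnm N ν hν U hU e]
  exact phiFun_val 𝒮 p chart m L lam hL n hnm N ν hν U hU e y

end Groth.Agent.H41.CanonMap
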