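import Groth.Agent.H41.ConeFibre

/-!
# Graded rings generated in degrees `0` and `1`: the irrelevant ideal is generated in degree `1`
-/

set_option autoImplicit false
universe u

open AlgebraicGeometry HomogeneousLocalization
open scoped HomogeneousIdeal

namespace Groth.Agent.H41.ConeFibre

variable {A σ : Type u} [CommRing A] [SetLike σ A] [AddSubgroupClass σ A]
variable (𝒜 : ℕ → σ) [GradedRing 𝒜]

theorem irrelevant_le_span_deg_one
    (hgen : Subring.closure ((𝒜 0 : Set A) ∪ (𝒜 1 : Set A)) = ⊤) :
    (𝒜₊).toIdeal ≤ Ideal.span {a : A | a ∈ 𝒜 1} := by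
  classical
  set I := Ideal.span {a : A | a ∈ 𝒜 1} with hI
  have key : ∀ x : A, ∀ n : ℕ, 1 ≤ n → (DirectSum.decompose 𝒜 x n : A) ∈ I := by
    intro x
    have hx : x ∈ Subring.closure ((𝒜 0 : Set A) ∪ (𝒜 1 : Set A)) := by rw [hgen]; trivial
    induction hx using Subring.closure_induction with
    | mem x hx =>
      intro n hn
      rcases hx with hx | hx
      · rw [DirectSum.decompose_of_mem_ne 𝒜 hx (by omega)]; exact zero_mem _
      · by_cases hn1 : n = 1
        · subst hn1
          rw [DirectSum.decompose_of_mem_same 𝒜 hx]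
          exact Ideal.subset_span hx
        · rw [DirectSum.decompose_of_mem_ne 𝒜 hx (Ne.symm hn1)]; exact zero_mem _
    | zero => intro n _; simp
    | one =>
      intro n hn
      rw [DirectSum.decompose_of_mem_ne 𝒜 (SetLike.GradedOne.one_mem) (by omega)]
      exact zero_mem _
    | add x y _ _ hx hy =>
      intro n hn
      rw [DirectSum.decompose_add, DirectSum.add_apply, AddMemClass.coe_add]
      exact add_mem (hx n hn) (hy n hn)
    | neg x _ hx =>
      intro n hn
      rw [DirectSum.decompose_neg]
      have : ((-(DirectSum.decompose 𝒜 x)) n : A) = -((DirectSum.decompose 𝒜 x) n : A) := rfl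
      rw [this]
      exact neg_mem (hx n hn)
    | mul x y _ _ hx hy =>
      intro n hn
      rw [DirectSum.decompose_mul, DirectSum.coe_mul_apply_eq_sum_antidiagonal]
      refine Ideal.sum_mem _ ?_
      rintro ⟨i, j⟩ hij
      rw [Finset.mem_antidiagonal] at hij
      simp only at hij ⊢
      rcases Nat.eq_zero_or_pos i with rfl | hi
      · have hj : j = n := by omega
        subst hj
        exact I.mul_mem_left _ (hy j hn)
      · exact I.mul_mem_right _ (hx i hi)
  rw [HomogeneousIdeal.toIdeal_irrelevant_le]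
  intro k hk x hx
  have := key x k hk
  rwa [DirectSum.decompose_of_mem_same 𝒜 hx] at this

/-- If `A` is generated in degrees `0` and `1`, every point of `Proj` lies in some `D₊(f)` with
`f` of degree one. -/
theorem exists_deg_one_notMem'
    (hgen : Subring.closure ((𝒜 0 : Set A) ∪ (𝒜 1 : Set A)) = ⊤)
    (x : Proj 𝒜) : ∃ f : A, ∃ _ : f ∈ 𝒜 1, x ∈ Proj.basicOpen 𝒜 f :=
  exists_deg_one_notMem 𝒜 (irrelevant_le_span_deg_one 𝒜 hgen) x

end Groth.Agent.H41.ConeFibre
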