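import Groth.Agent.H41.PMap

/-!
# Functoriality of the partial morphism `G(ψ) ⟶ Proj 𝒜`

Compatibility of `PMap.map` with composition on either side by a graded homomorphism whose
`Proj.map` is everywhere defined (Mathlib's hypothesis on irrelevant ideals).
-/

set_option autoImplicit false
universe u

open AlgebraicGeometry CategoryTheory CategoryTheory.Limits HomogeneousLocalization
open TopologicalSpace
open scoped HomogeneousIdeal

namespace Groth.Agent.H41.PMap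

section comp

variable {A B C σ τ υ : Type u} [CommRing A] [SetLike σ A] [AddSubgroupClass σ A]
  [CommRing B] [SetLike τ B] [AddSubgroupClass τ B]
  [CommRing C] [SetLike υ C] [AddSubgroupClass υ C]
  {𝒜 : ℕ → σ} {ℬ : ℕ → τ} {𝒞 : ℕ → υ} [GradedRing 𝒜] [GradedRing ℬ] [GradedRing 𝒞]

/-- Transport of the partial map along an equality of graded homomorphisms. -/
theorem map_congr {ψ ψ' : 𝒜 →+*ᵍ ℬ} (e : ψ = ψ') {T : Scheme.{u}}
    (a : T ⟶ (RelCone.domOpen ψ : Scheme.{u})) (a' : T ⟶ (RelCone.domOpen ψ' : Scheme.{u}))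
    (h : a ≫ (RelCone.domOpen ψ).ι = a' ≫ (RelCone.domOpen ψ').ι) :
    a ≫ map ψ = a' ≫ map ψ' := by
  subst e
  rw [cancel_mono] at h
  rw [h]

/-- The domain of definition of `χ ∘ ψ` is the preimage of that of `ψ`. -/
theorem preimage_domOpen (ψ : 𝒜 →+*ᵍ ℬ) (χ : ℬ →+*ᵍ 𝒞) (hχ : 𝒞₊ ≤ ℬ₊.map χ) :
    (Proj.map χ hχ) ⁻¹ᵁ (RelCone.domOpen ψ) = RelCone.domOpen (χ.comp ψ) := by
  ext y
  change (Proj.map χ hχ) y ∈ RelCone.domOpen ψ ↔ y ∈ RelCone.domOpen (χ.comp ψ)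
  rw [RelCone.mem_domOpen, RelCone.mem_domOpen]
  rfl

set_option backward.isDefEq.respectTransparency false in
/-- Composition on the target side. -/
theorem comp_left_map (ψ : 𝒜 →+*ᵍ ℬ) (χ : ℬ →+*ᵍ 𝒞) (hχ : 𝒞₊ ≤ ℬ₊.map χ) {T : Scheme.{u}}
    (a : T ⟶ (RelCone.domOpen (χ.comp ψ) : Scheme.{u}))
    (b : T ⟶ (RelCone.domOpen ψ : Scheme.{u}))
    (hab : a ≫ (RelCone.domOpen (χ.comp ψ)).ι ≫ Proj.map χ hχ = b ≫ (RelCone.domOpen ψ).ι) :
    a ≫ map (χ.comp ψ) = b ≫ map ψ := by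
  have hrange : Set.range ((RelCone.domOpen (χ.comp ψ)).ι ≫ Proj.map χ hχ).base ⊆
      Set.range (RelCone.domOpen ψ).ι.base := by
    rw [Scheme.Opens.range_ι]
    rintro _ ⟨y, rfl⟩
    have hy : (RelCone.domOpen (χ.comp ψ)).ι y ∈ RelCone.domOpen (χ.comp ψ) := y.2
    have := (SetLike.ext_iff.mp (preimage_domOpen ψ χ hχ) ((RelCone.domOpen (χ.comp ψ)).ι y)).mpr hy
    exact this
  let k := IsOpenImmersion.lift (RelCone.domOpen ψ).ι
    ((RelCone.domOpen (χ.comp ψ)).ι ≫ Proj.map χ hχ) hrange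
  have hk : k ≫ (RelCone.domOpen ψ).ι = (RelCone.domOpen (χ.comp ψ)).ι ≫ Proj.map χ hχ :=
    IsOpenImmersion.lift_fac _ _ _
  have hb : b = a ≫ k := by
    rw [← cancel_mono (RelCone.domOpen ψ).ι, Category.assoc, hk, hab]
  have key : k ≫ map ψ = map (χ.comp ψ) := by
    apply map_unique
    intro d f hd hf
    have h1 : chart (χ.comp ψ) hf hd ≫ k =
        Spec.map (CommRingCat.ofHom (Away.map χ (ψ f))) ≫ chart ψ hf hd := by
      rw [← cancel_mono (RelCone.domOpen ψ).ι, Category.assoc, hk, chart_ι_assoc, Category.assoc,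
        chart_ι]
      exact Proj.awayι_comp_map χ hχ hd (ψ f) (ψ.map_mem hf)
    rw [reassoc_of% h1, chart_map, ← Spec.map_comp_assoc, ← CommRingCat.ofHom_comp,
      ← Away.map_comp]
  rw [hb, Category.assoc, key]

theorem map_mem_irrelevant (ρ : 𝒜 →+*ᵍ ℬ) {f : A} (hf : f ∈ (𝒜₊).toIdeal) :
    ρ f ∈ (ℬ₊).toIdeal := by
  classical
  change (DirectSum.decompose ℬ (ρ f) 0 : B) = 0
  have h0 : (DirectSum.decompose 𝒜 f 0 : A) = 0 := hf
  rw [← GradedRingHom.map_directSumDecompose, h0, map_zero]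

/-- Precomposition with a homomorphism satisfying Mathlib's hypothesis on irrelevant ideals does
not change the domain of definition. -/
theorem domOpen_comp_right (ρ : 𝒜 →+*ᵍ ℬ) (hρ : ℬ₊ ≤ 𝒜₊.map ρ) (ψ : ℬ →+*ᵍ 𝒞) :
    RelCone.domOpen (ψ.comp ρ) = RelCone.domOpen ψ := by
  ext y
  change y ∈ RelCone.domOpen (ψ.comp ρ) ↔ y ∈ RelCone.domOpen ψ
  rw [RelCone.mem_domOpen, RelCone.mem_domOpen]
  constructor
  · rintro ⟨f, hf, h⟩
    exact ⟨ρ f, map_mem_irrelevant ρ hf, h⟩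
  · rintro ⟨b, hb, h⟩
    by_contra hcon
    push Not at hcon
    apply h
    have h1 : Ideal.map ρ (𝒜₊).toIdeal ≤ Ideal.comap ψ y.asHomogeneousIdeal.toIdeal := by
      rw [Ideal.map_le_iff_le_comap]
      intro f hf
      exact hcon f hf
    exact h1 (hρ hb)

set_option backward.isDefEq.respectTransparency false in
/-- Composition on the source side. -/
theorem comp_right_map (ρ : 𝒜 →+*ᵍ ℬ) (hρ : ℬ₊ ≤ 𝒜₊.map ρ) (ψ : ℬ →+*ᵍ 𝒞) {T : Scheme.{u}}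
    (a : T ⟶ (RelCone.domOpen (ψ.comp ρ) : Scheme.{u}))
    (b : T ⟶ (RelCone.domOpen ψ : Scheme.{u}))
    (hab : a ≫ (RelCone.domOpen (ψ.comp ρ)).ι = b ≫ (RelCone.domOpen ψ).ι) :
    a ≫ map (ψ.comp ρ) = b ≫ map ψ ≫ Proj.map ρ hρ := by
  let k := (Proj 𝒞).homOfLE (domOpen_comp_right ρ hρ ψ).le
  have hk : k ≫ (RelCone.domOpen ψ).ι = (RelCone.domOpen (ψ.comp ρ)).ι :=
    Scheme.homOfLE_ι _ _
  have hb : b = a ≫ k := by
    rw [← cancel_mono (RelCone.domOpen ψ).ι, Category.assoc, hk, hab]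
  have key : k ≫ map ψ ≫ Proj.map ρ hρ = map (ψ.comp ρ) := by
    apply map_unique
    intro d f hd hf
    have h1 : chart (ψ.comp ρ) hf hd ≫ k = chart ψ (f := ρ f) (ρ.map_mem hf) hd := by
      rw [← cancel_mono (RelCone.domOpen ψ).ι, Category.assoc, hk, chart_ι, chart_ι]
      rfl
    rw [reassoc_of% h1, chart_map_assoc, Proj.awayι_comp_map ρ hρ hd f hf,
      ← Spec.map_comp_assoc, ← CommRingCat.ofHom_comp, ← Away.map_comp]
  rw [hb, Category.assoc, key]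

end comp

section square

variable {A A₁ B B₁ σ σ₁ τ τ₁ : Type u} [CommRing A] [SetLike σ A] [AddSubgroupClass σ A]
  [CommRing A₁] [SetLike σ₁ A₁] [AddSubgroupClass σ₁ A₁]
  [CommRing B] [SetLike τ B] [AddSubgroupClass τ B]
  [CommRing B₁] [SetLike τ₁ B₁] [AddSubgroupClass τ₁ B₁]
  {𝒜 : ℕ → σ} {𝒜₁ : ℕ → σ₁} {ℬ : ℕ → τ} {ℬ₁ : ℕ → τ₁}
  [GradedRing 𝒜] [GradedRing 𝒜₁] [GradedRing ℬ] [GradedRing ℬ₁]
  (ψ : 𝒜 →+*ᵍ ℬ) (ψ₁ : 𝒜₁ →+*ᵍ ℬ₁) (ρ : 𝒜 →+*ᵍ 𝒜₁) (χ : ℬ →+*ᵍ ℬ₁)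
  (hρ : 𝒜₁₊ ≤ 𝒜₊.map ρ) (hχ : ℬ₁₊ ≤ ℬ₊.map χ) (hcomm : χ.comp ψ = ψ₁.comp ρ)

include hρ hcomm in
/-- For a commutative square of graded homomorphisms whose vertical maps induce everywhere
defined morphisms of `Proj`, the domain of definition upstairs is the preimage of the one
downstairs. -/
theorem square_preimage_domOpen :
    (Proj.map χ hχ) ⁻¹ᵁ (RelCone.domOpen ψ) = RelCone.domOpen ψ₁ := by
  rw [preimage_domOpen ψ χ hχ, hcomm, domOpen_comp_right ρ hρ ψ₁]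

include hcomm in
/-- ... and the partial maps commute with the vertical maps. -/
theorem square_map {T : Scheme.{u}}
    (a : T ⟶ (RelCone.domOpen ψ₁ : Scheme.{u})) (b : T ⟶ (RelCone.domOpen ψ : Scheme.{u}))
    (hab : a ≫ (RelCone.domOpen ψ₁).ι ≫ Proj.map χ hχ = b ≫ (RelCone.domOpen ψ).ι) :
    a ≫ map ψ₁ ≫ Proj.map ρ hρ = b ≫ map ψ := by
  let a' : T ⟶ (RelCone.domOpen (ψ₁.comp ρ) : Scheme.{u}) :=
    a ≫ (Proj ℬ₁).homOfLE (domOpen_comp_right ρ hρ ψ₁).ge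
  have ha' : a' ≫ (RelCone.domOpen (ψ₁.comp ρ)).ι = a ≫ (RelCone.domOpen ψ₁).ι := by
    rw [Category.assoc, Scheme.homOfLE_ι]
  let a'' : T ⟶ (RelCone.domOpen (χ.comp ψ) : Scheme.{u}) :=
    a' ≫ (Proj ℬ₁).homOfLE (le_of_eq (congrArg RelCone.domOpen hcomm.symm))
  have ha'' : a'' ≫ (RelCone.domOpen (χ.comp ψ)).ι = a ≫ (RelCone.domOpen ψ₁).ι := by
    rw [Category.assoc, Scheme.homOfLE_ι, ha']
  have h1 : a'' ≫ map (χ.comp ψ) = b ≫ map ψ := by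
    apply comp_left_map ψ χ hχ
    rw [reassoc_of% ha'', hab]
  have h2 : a'' ≫ map (χ.comp ψ) = a' ≫ map (ψ₁.comp ρ) :=
    map_congr hcomm a'' a' (ha''.trans ha'.symm)
  have h3 : a' ≫ map (ψ₁.comp ρ) = a ≫ map ψ₁ ≫ Proj.map ρ hρ :=
    comp_right_map ρ hρ ψ₁ a' a ha'
  rw [← h3, ← h2, h1]

end square

end Groth.Agent.H41.PMap
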