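import Mathlib.AlgebraicGeometry.Cover.Directed
import Mathlib.AlgebraicGeometry.Sites.SmallAffineZariski

/-!
Gluing morphisms `X ⟶ Z` for `f : X ⟶ Y'`, `ψ : Y' ⟶ Y`, from morphisms on the `f⁻¹(U')` for pairs
of affine opens `U ⊆ Y`, `U' ⊆ ψ⁻¹(U)`, compatible with simultaneous passage to basic opens.
-/

set_option autoImplicit false
universe u
open CategoryTheory CategoryTheory.Limits AlgebraicGeometry Opposite TopologicalSpace

namespace Groth.Agent.H41.PairGlue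

variable {X Y Y' : Scheme.{u}} (f : X ⟶ Y') (ψ : Y' ⟶ Y)

/-- Pairs of affine opens `U ⊆ Y`, `U' ⊆ ψ⁻¹(U)`. -/
def Pair : Type u :=
  {V : Y.AffineZariskiSite × Y'.AffineZariskiSite // V.2.toOpens ≤ ψ ⁻¹ᵁ V.1.toOpens}

instance : Preorder (Pair ψ) := inferInstanceAs <| Preorder (Subtype _)

/-- An affine open as an object of the affine Zariski site. -/
def mkAff {Y : Scheme.{u}} (U : Y.Opens) (hU : IsAffineOpen U) : Y.AffineZariskiSite := ⟨U, hU⟩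

/-- Constructor for pairs. -/
def mkPair (U : Y.Opens) (hU : IsAffineOpen U) (U' : Y'.Opens) (hU' : IsAffineOpen U')
    (hle : U' ≤ ψ ⁻¹ᵁ U) : Pair ψ := ⟨(mkAff U hU, mkAff U' hU'), hle⟩

theorem exists_pair (s' : Y') : ∃ V : Pair ψ, s' ∈ V.1.2.toOpens := by
  obtain ⟨U, hU, hsU, -⟩ := (Opens.isBasis_iff_nbhd.mp Y.isBasis_affineOpens)
    (Opens.mem_top (ψ s'))
  obtain ⟨U', hU', hsU', hU'U⟩ := (Opens.isBasis_iff_nbhd.mp Y'.isBasis_affineOpens)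
    (show s' ∈ ψ ⁻¹ᵁ U from hsU)
  exact ⟨mkPair ψ U hU U' hU' hU'U, hsU'⟩

/-- Common refinement of two pairs around a point. -/
theorem exists_refinement (V W : Pair ψ) (s' : Y') (hV : s' ∈ V.1.2.toOpens)
    (hW : s' ∈ W.1.2.toOpens) : ∃ K : Pair ψ, K ≤ V ∧ K ≤ W ∧ s' ∈ K.1.2.toOpens := by
  have hψV : ψ s' ∈ V.1.1.toOpens := V.2 hV
  have hψW : ψ s' ∈ W.1.1.toOpens := W.2 hW
  obtain ⟨r, r₁, hrr, hsr⟩ := exists_basicOpen_le_affine_inter V.1.1.2 W.1.1.2 (ψ s') ⟨hψV, hψW⟩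
  obtain ⟨a, a₁, haa, hsa⟩ := exists_basicOpen_le_affine_inter V.1.2.2 W.1.2.2 s' ⟨hV, hW⟩
  -- `A := D(a)` affine in `Y'`, shrink to land in `ψ⁻¹ D(r)`
  have hA : IsAffineOpen (Y'.basicOpen a) := V.1.2.2.basicOpen a
  obtain ⟨c, hc, hsc⟩ := hA.exists_basicOpen_le
    (V := Y'.basicOpen a ⊓ ψ ⁻¹ᵁ (Y.basicOpen r)) ⟨s', ⟨hsa, hsr⟩⟩ hsa
  have hC : IsAffineOpen (Y'.basicOpen c) := hA.basicOpen c
  have hB : IsAffineOpen (Y.basicOpen r) := V.1.1.2.basicOpen r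
  refine ⟨mkPair ψ (Y.basicOpen r) hB (Y'.basicOpen c) hC (hc.trans inf_le_right), ?_, ?_, hsc⟩
  · refine ⟨⟨r, rfl⟩, ?_⟩
    exact le_trans (show mkAff (Y'.basicOpen c) hC ≤ mkAff (Y'.basicOpen a) hA from ⟨c, rfl⟩)
      (show mkAff (Y'.basicOpen a) hA ≤ V.1.2 from ⟨a, rfl⟩)
  · refine ⟨⟨r₁, hrr.symm⟩, ?_⟩
    exact le_trans (show mkAff (Y'.basicOpen c) hC ≤ mkAff (Y'.basicOpen a) hA from ⟨c, rfl⟩)
      (show mkAff (Y'.basicOpen a) hA ≤ W.1.2 from ⟨a₁, haa.symm⟩)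

theorem toOpens_le_of_le {V W : Pair ψ} (h : V ≤ W) : V.1.2.toOpens ≤ W.1.2.toOpens :=
  Scheme.AffineZariskiSite.toOpens_mono h.2

/-- The open cover of `X` by the preimages of the second components of pairs. -/
@[simps I₀ X f]
noncomputable def pairCover : X.OpenCover where
  I₀ := Pair ψ
  X V := (f ⁻¹ᵁ V.1.2.toOpens : X.Opens)
  f V := (f ⁻¹ᵁ V.1.2.toOpens).ι
  mem₀ := by
    rw [Scheme.presieve₀_mem_precoverage_iff]
    refine ⟨fun x ↦ ?_, inferInstance⟩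
    obtain ⟨V, hV⟩ := exists_pair ψ (f x)
    exact ⟨V, by simpa using hV⟩

instance : Preorder (pairCover f ψ).I₀ := inferInstanceAs <| Preorder (Pair ψ)


set_option backward.isDefEq.respectTransparency false in
set_option backward.defeqAttrib.useBackward true in
noncomputable instance : Scheme.Cover.LocallyDirected (pairCover f ψ) where
  trans {V W} hVW := X.homOfLE (f.preimage_mono (toOpens_le_of_le ψ (leOfHom hVW)))
  trans_id V := by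
    rw [← cancel_mono ((pairCover f ψ).f V)]
    simp
  trans_comp hij hjk := by
    rw [← cancel_mono ((pairCover f ψ).f _)]
    simp
  w hij := by simp
  directed {V W} x := by
    let y : X := (pullback.fst ((pairCover f ψ).f V) ((pairCover f ψ).f W) ≫
      (pairCover f ψ).f V) x
    have hyV : f y ∈ V.1.2.toOpens := by
      have : y ∈ ((pairCover f ψ).f V).opensRange :=
        ⟨pullback.fst ((pairCover f ψ).f V) ((pairCover f ψ).f W) x, rfl⟩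
      simpa using this
    have hyW : f y ∈ W.1.2.toOpens := by
      have : y ∈ ((pairCover f ψ).f W).opensRange := by
        refine ⟨pullback.snd ((pairCover f ψ).f V) ((pairCover f ψ).f W) x, ?_⟩
        rw [← Scheme.Hom.comp_apply, ← pullback.condition]
      simpa using this
    obtain ⟨K, hKV, hKW, hyK⟩ := exists_refinement ψ V W (f y) hyV hyW
    refine ⟨K, homOfLE hKV, homOfLE hKW, ⟨y, hyK⟩, ?_⟩
    apply (pullback.fst ((pairCover f ψ).f V) ((pairCover f ψ).f W) ≫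
      (pairCover f ψ).f V).isOpenEmbedding.injective
    rw [← Scheme.Hom.comp_apply, pullback.lift_fst_assoc]
    simp [y]
  property_trans {V W} hVW := by infer_instance

/-- Glue morphisms defined on the members of the pair cover. -/
noncomputable def glue {Z : Scheme.{u}}
    (g : ∀ V : Pair ψ, (f ⁻¹ᵁ V.1.2.toOpens : Scheme) ⟶ Z)
    (h : ∀ (V W : Pair ψ) (hVW : V ≤ W),
      X.homOfLE (f.preimage_mono (toOpens_le_of_le ψ hVW)) ≫ g W = g V) : X ⟶ Z :=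
  (pairCover f ψ).glueMorphismsOfLocallyDirected g (fun {V W} hVW => h V W (leOfHom hVW))

theorem ι_glue {Z : Scheme.{u}}
    (g : ∀ V : Pair ψ, (f ⁻¹ᵁ V.1.2.toOpens : Scheme) ⟶ Z)
    (h : ∀ (V W : Pair ψ) (hVW : V ≤ W),
      X.homOfLE (f.preimage_mono (toOpens_le_of_le ψ hVW)) ≫ g W = g V) (V : Pair ψ) :
    (f ⁻¹ᵁ V.1.2.toOpens).ι ≫ glue f ψ g h = g V :=
  (pairCover f ψ).map_glueMorphismsOfLocallyDirected g
    (fun {V W} hVW => h V W (leOfHom hVW)) V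

theorem hom_ext {Z : Scheme.{u}} {a b : X ⟶ Z}
    (h : ∀ V : Pair ψ, (f ⁻¹ᵁ V.1.2.toOpens).ι ≫ a = (f ⁻¹ᵁ V.1.2.toOpens).ι ≫ b) :
    a = b :=
  (pairCover f ψ).hom_ext _ _ h

/-- Gluing morphisms `f⁻¹(U') ⟶ Z` indexed by pairs of affine opens `U' ⊆ ψ⁻¹(U)`, compatible with
simultaneous restriction to basic opens. -/
theorem existsUnique_glue {Z : Scheme.{u}}
    (g : ∀ (U : Y.Opens) (_ : IsAffineOpen U) (U' : Y'.Opens) (_ : IsAffineOpen U')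
      (_ : U' ≤ ψ ⁻¹ᵁ U), (f ⁻¹ᵁ U' : Scheme) ⟶ Z)
    (hg : ∀ (U : Y.Opens) (hU : IsAffineOpen U) (U' : Y'.Opens) (hU' : IsAffineOpen U')
      (hle : U' ≤ ψ ⁻¹ᵁ U) (r : Γ(Y, U)) (r' : Γ(Y', U'))
      (hle' : Y'.basicOpen r' ≤ ψ ⁻¹ᵁ (Y.basicOpen r)),
      X.homOfLE (f.preimage_mono (Y'.basicOpen_le r')) ≫ g U hU U' hU' hle =
        g (Y.basicOpen r) (hU.basicOpen r) (Y'.basicOpen r') (hU'.basicOpen r') hle') :
    ∃! h : X ⟶ Z, ∀ (U : Y.Opens) (hU : IsAffineOpen U) (U' : Y'.Opens) (hU' : IsAffineOpen U')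
      (hle : U' ≤ ψ ⁻¹ᵁ U), (f ⁻¹ᵁ U').ι ≫ h = g U hU U' hU' hle := by
  have key : ∀ (V W : Pair ψ) (hVW : V ≤ W),
      X.homOfLE (f.preimage_mono (toOpens_le_of_le ψ hVW)) ≫ g W.1.1.1 W.1.1.2 W.1.2.1 W.1.2.2 W.2 =
        g V.1.1.1 V.1.1.2 V.1.2.1 V.1.2.2 V.2 := by
    rintro ⟨⟨⟨V, hV⟩, ⟨V', hV'⟩⟩, hVle⟩ ⟨⟨⟨W, hW⟩, ⟨W', hW'⟩⟩, hWle⟩ ⟨⟨r, hr⟩, ⟨r', hr'⟩⟩
    change Y.basicOpen r = V at hr
    change Y'.basicOpen r' = V' at hr'
    subst hr hr'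
    exact hg W hW W' hW' hWle r r' hVle
  refine ⟨glue f ψ (fun V => g V.1.1.1 V.1.1.2 V.1.2.1 V.1.2.2 V.2) key,
    fun U hU U' hU' hle => ι_glue f ψ _ key (mkPair ψ U hU U' hU' hle), ?_⟩
  intro h' hh'
  apply hom_ext f ψ
  intro V
  rw [hh' V.1.1.1 V.1.1.2 V.1.2.1 V.1.2.2 V.2, ι_glue f ψ _ key V]

end Groth.Agent.H41.PairGlue
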