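import Groth.Agent.H41.ProjGen
import Mathlib.RingTheory.Localization.Away.Basic

/-!
# `Proj` of a graded localization at a degree-zero element

If `φ : 𝒜 →+*ᵍ ℬ` exhibits `B` as the localization of `A` at an element `c` of degree `0`, then
`Proj.map φ : Proj ℬ ⟶ Proj 𝒜` is an open immersion with range the preimage of `D(c) ⊆ Spec 𝒜₀`
under `Proj.toSpecZero`.
-/

set_option autoImplicit false
universe u

open AlgebraicGeometry HomogeneousLocalization CategoryTheory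
open scoped HomogeneousIdeal

namespace Groth.Agent.H41.ProjLoc

variable {A B σ τ : Type u} [CommRing A] [SetLike σ A] [AddSubgroupClass σ A]
  [CommRing B] [SetLike τ B] [AddSubgroupClass τ B]
  {𝒜 : ℕ → σ} {ℬ : ℕ → τ} [GradedRing 𝒜] [GradedRing ℬ]

/-- `φ` exhibits `B` as the localization of `A` away from the degree-zero element `c`. -/
structure IsGrLoc (φ : 𝒜 →+*ᵍ ℬ) (c : A) : Prop where
  mem : c ∈ 𝒜 0
  unit : IsUnit (φ c)
  surj : ∀ b : B, ∃ (n : ℕ) (a : A), b * φ c ^ n = φ a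
  ker : ∀ a : A, φ a = 0 → ∃ n : ℕ, c ^ n * a = 0

theorem IsGrLoc.of_isLocalization (φ : 𝒜 →+*ᵍ ℬ) {c : A} (hc : c ∈ 𝒜 0)
    (h : letI := (φ : A →+* B).toAlgebra; IsLocalization.Away c B) : IsGrLoc φ c := by
  let _ := (φ : A →+* B).toAlgebra
  refine ⟨hc, ?_, ?_, ?_⟩
  · exact IsLocalization.Away.algebraMap_isUnit (S := B) c
  · intro b
    obtain ⟨n, a, h⟩ := IsLocalization.Away.surj (S := B) c b
    exact ⟨n, a, h⟩
  · intro a ha
    have : algebraMap A B a = algebraMap A B 0 := by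
      rw [map_zero]
      exact ha
    obtain ⟨n, hn⟩ := IsLocalization.Away.exists_of_eq (S := B) c this
    exact ⟨n, by rw [hn, mul_zero]⟩

namespace IsGrLoc

variable {φ : 𝒜 →+*ᵍ ℬ} {c : A} (h : IsGrLoc φ c)
include h

theorem map_mem : φ c ∈ ℬ 0 := Graded.map_mem φ h.mem

theorem surj_hom {i : ℕ} {b : B} (hb : b ∈ ℬ i) : ∃ (n : ℕ) (a : A), a ∈ 𝒜 i ∧ b * φ c ^ n = φ a := by
  obtain ⟨n, x, hx⟩ := h.surj b
  refine ⟨n, DirectSum.decompose 𝒜 x i, Subtype.prop _, ?_⟩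
  have hc0 : φ c ^ n ∈ ℬ 0 := by
    have := SetLike.pow_mem_graded n h.map_mem
    rwa [smul_zero] at this
  have hbi : b * φ c ^ n ∈ ℬ i := by
    simpa only [add_zero] using SetLike.mul_mem_graded (A := ℬ) hb hc0
  rw [GradedRingHom.map_directSumDecompose, ← hx, DirectSum.decompose_of_mem_same _ hbi]

theorem exists_inv : ∃ u : B, u ∈ ℬ 0 ∧ φ c * u = 1 := by
  obtain ⟨v, hv⟩ := h.unit
  refine ⟨GradedRing.projZeroRingHom ℬ ↑v⁻¹, Subtype.prop _, ?_⟩
  have h1 : φ c * ↑v⁻¹ = 1 := by rw [← hv, Units.mul_inv]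
  have h2 := congrArg (GradedRing.projZeroRingHom ℬ) h1
  rw [map_mul, map_one] at h2
  have h3 : GradedRing.projZeroRingHom ℬ (φ c) = φ c := by
    rw [GradedRing.projZeroRingHom_apply, DirectSum.decompose_of_mem_same _ h.map_mem]
  rwa [h3] at h2

theorem isUnit_zero : IsUnit (⟨φ c, h.map_mem⟩ : ℬ 0) := by
  obtain ⟨u, hu, hcu⟩ := h.exists_inv
  exact isUnit_iff_exists_inv.2 ⟨⟨u, hu⟩, Subtype.ext hcu⟩

end IsGrLoc


section away

variable {φ : 𝒜 →+*ᵍ ℬ} {c : A} (h : IsGrLoc φ c) {d : ℕ} {s : A} (hs : s ∈ 𝒜 d)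

theorem awayMap_fromZero (x : 𝒜 0) :
    Away.map φ s (fromZeroRingHom 𝒜 (Submonoid.powers s) x) =
      fromZeroRingHom ℬ (Submonoid.powers (φ s)) (φ.gradedZeroRingHom x) := by
  apply HomogeneousLocalization.val_injective
  simp [fromZeroRingHom, Away.map, HomogeneousLocalization.map_mk]

include h in
theorem isUnit_awayMap :
    IsUnit (Away.map φ s (fromZeroRingHom 𝒜 (Submonoid.powers s) ⟨c, h.mem⟩)) := by
  rw [awayMap_fromZero]
  exact h.isUnit_zero.map (fromZeroRingHom ℬ (Submonoid.powers (φ s)))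

theorem val_fromZero_pow_mul (x : 𝒜 0) (k n : ℕ) (a : A) (ha : a ∈ 𝒜 (n • d)) :
    ((fromZeroRingHom 𝒜 (Submonoid.powers s) x) ^ k * Away.mk 𝒜 hs n a ha).val =
      Localization.mk ((x : A) ^ k * a) (⟨s ^ n, n, rfl⟩ : Submonoid.powers s) := by
  rw [HomogeneousLocalization.val_mul, HomogeneousLocalization.val_pow, Away.val_mk]
  simp only [fromZeroRingHom, RingHom.coe_mk, MonoidHom.coe_mk, OneHom.coe_mk,
    HomogeneousLocalization.val_mk]
  rw [Localization.mk_pow, Localization.mk_mul]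
  simp

include h hs in
theorem isLocalization_awayMap :
    letI := (Away.map φ s).toAlgebra
    IsLocalization.Away (fromZeroRingHom 𝒜 (Submonoid.powers s) ⟨c, h.mem⟩)
      (Away ℬ (φ s)) := by
  let _ := (Away.map φ s).toAlgebra
  refine IsLocalization.Away.mk _ (isUnit_awayMap h) ?_ ?_
  · intro y
    obtain ⟨n, b, hb, rfl⟩ := Away.mk_surjective ℬ (Graded.map_mem φ hs) y
    obtain ⟨k, a, ha, hab⟩ := h.surj_hom hb
    refine ⟨k, Away.mk 𝒜 hs n a ha, ?_⟩
    change _ * (Away.map φ s _) ^ k = Away.map φ s _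
    rw [awayMap_fromZero, Away.map_mk, mul_comm]
    apply HomogeneousLocalization.val_injective
    rw [val_fromZero_pow_mul, Away.val_mk]
    congr 1
    change φ c ^ k * b = φ a
    rw [mul_comm, hab]
  · intro x x' hxx'
    have hxx : Away.map φ s x = Away.map φ s x' := hxx'
    obtain ⟨n, a, ha, hz⟩ := Away.mk_surjective 𝒜 hs (x - x')
    have h0 : Away.map φ s (Away.mk 𝒜 hs n a ha) = 0 := by
      rw [hz, map_sub, hxx, sub_self]
    rw [Away.map_mk] at h0
    have h0' := congrArg HomogeneousLocalization.val h0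
    rw [Away.val_mk, HomogeneousLocalization.val_zero, Localization.mk_eq_mk',
      IsLocalization.mk'_eq_zero_iff] at h0'
    obtain ⟨⟨_, m, rfl⟩, hm⟩ := h0'
    dsimp only at hm
    obtain ⟨k, hk⟩ := h.ker (s ^ m * a) (by rw [map_mul, map_pow]; exact hm)
    refine ⟨k, ?_⟩
    rw [← sub_eq_zero, ← mul_sub, ← hz]
    apply HomogeneousLocalization.val_injective
    rw [val_fromZero_pow_mul, HomogeneousLocalization.val_zero, Localization.mk_eq_mk',
      IsLocalization.mk'_eq_zero_iff]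
    refine ⟨⟨s ^ m, m, rfl⟩, ?_⟩
    dsimp only
    rw [← hk]
    ring

end away


section scheme

variable {φ : 𝒜 →+*ᵍ ℬ} {c : A} (h : IsGrLoc φ c) (hφ : ℬ₊ ≤ 𝒜₊.map φ)

include h in
theorem isOpenImmersion_projMap : IsOpenImmersion (Proj.map φ hφ) := by
  apply Groth.Agent.H41.ProjGen.projMap_of_forall_away @IsOpenImmersion
  intro d hd s hs
  let _ := (Away.map φ s).toAlgebra
  have := isLocalization_awayMap h hs
  exact IsOpenImmersion.of_isLocalization (fromZeroRingHom 𝒜 (Submonoid.powers s) ⟨c, h.mem⟩)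

include h in
theorem range_projMap :
    Set.range (Proj.map φ hφ) =
      (Proj.toSpecZero 𝒜) ⁻¹' (PrimeSpectrum.basicOpen (⟨c, h.mem⟩ : 𝒜 0) :
        Set (PrimeSpectrum (𝒜 0))) := by
  ext x
  constructor
  · rintro ⟨y, rfl⟩
    change (Proj.map φ hφ ≫ Proj.toSpecZero 𝒜) y ∈
      (PrimeSpectrum.basicOpen (⟨c, h.mem⟩ : 𝒜 0) : Set (PrimeSpectrum (𝒜 0)))
    rw [Groth.Agent.H41.ProjGen.map_toSpecZero]
    change φ.gradedZeroRingHom ⟨c, h.mem⟩ ∉ ((Proj.toSpecZero ℬ) y).asIdeal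
    intro hmem
    exact ((Proj.toSpecZero ℬ) y).isPrime.ne_top (Ideal.eq_top_of_isUnit_mem _ hmem h.isUnit_zero)
  · intro hx
    obtain ⟨⟨⟨d, hd⟩, ⟨s, hs⟩⟩, z, rfl⟩ := (Proj.affineOpenCover 𝒜).openCover.exists_eq x
    have hx' : (Proj.awayι 𝒜 s hs hd ≫ Proj.toSpecZero 𝒜) z ∈
        (PrimeSpectrum.basicOpen (⟨c, h.mem⟩ : 𝒜 0) : Set (PrimeSpectrum (𝒜 0))) := hx
    rw [Proj.awayι_toSpecZero] at hx'
    have hz : z ∈ (PrimeSpectrum.basicOpen
        (fromZeroRingHom 𝒜 (Submonoid.powers s) ⟨c, h.mem⟩) :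
        Set (PrimeSpectrum (Away 𝒜 s))) := hx'
    let _ := (Away.map φ s).toAlgebra
    have := isLocalization_awayMap h hs
    rw [← PrimeSpectrum.localization_away_comap_range (Away ℬ (φ s))] at hz
    obtain ⟨w, rfl⟩ := hz
    refine ⟨Proj.awayι ℬ (φ s) (Graded.map_mem φ hs) hd w, ?_⟩
    have e := Proj.awayι_comp_map φ hφ hd s hs
    have e' := congrArg (fun f => f w) e
    exact e'

end scheme

end Groth.Agent.H41.ProjLoc
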