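import Groth.Agent.H41.ProjGen
import Groth.Agent.H41.ProjLoc
import Mathlib.RingTheory.IsTensorProduct
import Mathlib.RingTheory.TensorProduct.Basic
import Mathlib.Algebra.Category.Ring.Constructions
import Mathlib.AlgebraicGeometry.Pullbacks

/-!
# Base change for `Proj`

If `A = R ⊗_{R'} B` with `B` a graded `R'`-algebra (and `A` carrying the induced grading), then
`Proj A = Proj B ×_{Spec R'} Spec R`.
-/

set_option autoImplicit false
universe u

open AlgebraicGeometry HomogeneousLocalization CategoryTheory TensorProduct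
open scoped HomogeneousIdeal

namespace Groth.Agent.H41.ProjBaseChange

open Groth.Agent.H41.ProjGen

section piece

variable {S C ρ : Type u} [CommRing S] [CommRing C] [Algebra S C] [SetLike ρ C]
  [AddSubgroupClass ρ C] (𝒞 : ℕ → ρ) [GradedRing 𝒞]
  (hS0 : ∀ r : S, algebraMap S C r ∈ 𝒞 0)

/-- The projection onto the degree-`k` part, as an `S`-linear endomorphism. -/
def projₗ (k : ℕ) : C →ₗ[S] C where
  toFun c := (DirectSum.decompose 𝒞 c k : C)
  map_add' x y := by simp [DirectSum.decompose_add]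
  map_smul' r x := by
    simp only [Algebra.smul_def, RingHom.id_apply]
    exact DirectSum.coe_decompose_mul_of_left_mem_zero 𝒞 (hS0 r)

@[simp] theorem projₗ_apply (k : ℕ) (c : C) :
    projₗ 𝒞 hS0 k c = (DirectSum.decompose 𝒞 c k : C) := rfl

theorem projₗ_mem (k : ℕ) (c : C) : projₗ 𝒞 hS0 k c ∈ 𝒞 k := Subtype.prop _

theorem projₗ_of_mem {k : ℕ} {c : C} (hc : c ∈ 𝒞 k) : projₗ 𝒞 hS0 k c = c :=
  DirectSum.decompose_of_mem_same 𝒞 hc

variable {d : ℕ} {g : C} (hg : g ∈ 𝒞 d) [Algebra S (Away 𝒞 g)]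
  (hcompat : ∀ r : S, (algebraMap S (Away 𝒞 g) r).val = Localization.mk (algebraMap S C r) 1)

/-- `c ↦ c_{nd} / g^n`, as an `S`-linear map. -/
def piece (n : ℕ) : C →ₗ[S] Away 𝒞 g where
  toFun c := Away.mk 𝒞 hg n (projₗ 𝒞 hS0 (n • d) c) (projₗ_mem 𝒞 hS0 _ c)
  map_add' x y := by
    apply HomogeneousLocalization.val_injective
    simp only [map_add, Away.val_mk, HomogeneousLocalization.val_add, Localization.add_mk_self]
  map_smul' r x := by
    apply HomogeneousLocalization.val_injective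
    simp only [RingHom.id_apply, Algebra.smul_def, HomogeneousLocalization.val_mul, hcompat,
      Away.val_mk, Localization.mk_mul, one_mul]
    congr 1
    exact DirectSum.coe_decompose_mul_of_left_mem_zero 𝒞 (hS0 r)

theorem piece_apply (n : ℕ) (c : C) :
    piece 𝒞 hS0 hg hcompat n c =
      Away.mk 𝒞 hg n (projₗ 𝒞 hS0 (n • d) c) (projₗ_mem 𝒞 hS0 _ c) := rfl

theorem piece_of_mem (n : ℕ) {c : C} (hc : c ∈ 𝒞 (n • d)) :
    piece 𝒞 hS0 hg hcompat n c = Away.mk 𝒞 hg n c hc := by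
  rw [piece_apply]
  congr 1
  exact projₗ_of_mem 𝒞 hS0 hc

theorem piece_surjective (y : Away 𝒞 g) : ∃ (n : ℕ) (c : C), c ∈ 𝒞 (n • d) ∧
    piece 𝒞 hS0 hg hcompat n c = y := by
  obtain ⟨n, c, hc, rfl⟩ := Away.mk_surjective 𝒞 hg y
  exact ⟨n, c, hc, piece_of_mem 𝒞 hS0 hg hcompat n hc⟩

/-- `c ↦ g^m * c_{nd}`. -/
def shift (m n : ℕ) : C →ₗ[S] C :=
  (LinearMap.mulLeft S (g ^ m)).comp (projₗ 𝒞 hS0 (n • d))

include hg in
theorem shift_mem (m n : ℕ) (c : C) : shift 𝒞 hS0 (g := g) (d := d) m n c ∈ 𝒞 ((n + m) • d) := by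
  have := SetLike.mul_mem_graded (SetLike.pow_mem_graded m hg) (projₗ_mem 𝒞 hS0 (n • d) c)
  rw [show m • d + n • d = (n + m) • d by simp [add_mul, add_comm]] at this
  exact this

theorem piece_shift (m n : ℕ) (c : C) :
    piece 𝒞 hS0 hg hcompat (n + m) (shift 𝒞 hS0 (g := g) (d := d) m n c) =
      piece 𝒞 hS0 hg hcompat n c := by
  rw [piece_of_mem 𝒞 hS0 hg hcompat (n + m) (shift_mem 𝒞 hS0 hg m n c), piece_apply,
    away_mk_eq_mk_add hg n m _ (projₗ_mem 𝒞 hS0 _ c)]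
  congr 1
  simp [shift, mul_comm]

theorem piece_eq_zero_iff (n : ℕ) (c : C) :
    piece 𝒞 hS0 hg hcompat n c = 0 ↔ ∃ m, shift 𝒞 hS0 (g := g) (d := d) m n c = 0 := by
  rw [piece_apply, ← (HomogeneousLocalization.val_injective (Submonoid.powers g)).eq_iff,
    Away.val_mk, HomogeneousLocalization.val_zero, Localization.mk_eq_mk',
    IsLocalization.mk'_eq_zero_iff]
  constructor
  · rintro ⟨⟨_, m, rfl⟩, hm⟩
    exact ⟨m, hm⟩
  · rintro ⟨m, hm⟩
    exact ⟨⟨g ^ m, m, rfl⟩, hm⟩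

end piece


section pushout

variable {R' R B A σ τ : Type u} [CommRing R'] [CommRing R] [CommRing B] [CommRing A]
  [Algebra R' R] [Algebra R' B] [Algebra R A] [Algebra R' A] [Algebra B A]
  [IsScalarTower R' R A] [IsScalarTower R' B A] [hpo : Algebra.IsPushout R' R B A]
  [SetLike σ B] [AddSubgroupClass σ B] [SetLike τ A] [AddSubgroupClass τ A]
  (ℬ : ℕ → σ) (𝒜 : ℕ → τ) [GradedRing ℬ] [GradedRing 𝒜]
  (hB0 : ∀ r : R', algebraMap R' B r ∈ ℬ 0) (hA0 : ∀ r : R, algebraMap R A r ∈ 𝒜 0)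
  (φ : ℬ →+*ᵍ 𝒜) (hφ : ∀ b, φ b = algebraMap B A b)
  {d : ℕ} {f : B} (hf : f ∈ ℬ d)
  [Algebra R' (Away ℬ f)] [Algebra R (Away 𝒜 (φ f))] [Algebra R' (Away 𝒜 (φ f))]
  [Algebra (Away ℬ f) (Away 𝒜 (φ f))]
  [IsScalarTower R' R (Away 𝒜 (φ f))] [IsScalarTower R' (Away ℬ f) (Away 𝒜 (φ f))]
  (hcB : ∀ r : R', (algebraMap R' (Away ℬ f) r).val = Localization.mk (algebraMap R' B r) 1)
  (hcA : ∀ r : R, (algebraMap R (Away 𝒜 (φ f)) r).val = Localization.mk (algebraMap R A r) 1)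
  (hmap : ∀ x, algebraMap (Away ℬ f) (Away 𝒜 (φ f)) x = Away.map φ f x)

/-- The canonical iso `R ⊗ B ≃ A`. -/
noncomputable def L : R ⊗[R'] B ≃ₗ[R] A := hpo.out.equiv

theorem L_tmul (r : R) (b : B) : L (R' := R') (r ⊗ₜ b) = r • algebraMap B A b :=
  hpo.out.equiv_tmul r b

/-- The canonical map `R ⊗ B_(f) → A_(φ f)`. -/
noncomputable def L' : R ⊗[R'] Away ℬ f →ₗ[R] Away 𝒜 (φ f) :=
  LinearMap.liftBaseChange R (IsScalarTower.toAlgHom R' (Away ℬ f) (Away 𝒜 (φ f))).toLinearMap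

theorem L'_tmul (r : R) (x : Away ℬ f) :
    L' ℬ 𝒜 φ (R' := R') (r ⊗ₜ x) = r • algebraMap (Away ℬ f) (Away 𝒜 (φ f)) x := rfl

include hφ hmap in
theorem L'_piece (n : ℕ) (s : R ⊗[R'] B) :
    L' ℬ 𝒜 φ ((piece ℬ hB0 hf hcB n).baseChange R s) =
      piece 𝒜 hA0 (Graded.map_mem φ hf) hcA n (L s) := by
  induction s using TensorProduct.induction_on with
  | zero => simp
  | add x y hx hy => simp only [map_add, hx, hy]
  | tmul r b =>
    rw [LinearMap.baseChange_tmul, L'_tmul, L_tmul, map_smul, hmap]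
    congr 1
    rw [piece_apply, piece_apply, Away.map_mk]
    congr 1
    rw [projₗ_apply, projₗ_apply, ← hφ, GradedRingHom.map_directSumDecompose]

include hφ in
theorem L_shift (m n : ℕ) (s : R ⊗[R'] B) :
    L ((shift ℬ hB0 (g := f) (d := d) m n).baseChange R s) =
      shift 𝒜 hA0 (g := φ f) (d := d) m n (L s) := by
  induction s using TensorProduct.induction_on with
  | zero => simp
  | add x y hx hy => simp only [map_add, hx, hy]
  | tmul r b =>
    rw [LinearMap.baseChange_tmul, L_tmul, L_tmul, map_smul]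
    congr 1
    simp only [shift, LinearMap.comp_apply, LinearMap.mulLeft_apply, projₗ_apply]
    rw [← hφ, ← hφ, map_mul, map_pow, GradedRingHom.map_directSumDecompose]

theorem baseChange_piece_shift (m n : ℕ) (s : R ⊗[R'] B) :
    (piece ℬ hB0 hf hcB (n + m)).baseChange R
      ((shift ℬ hB0 (g := f) (d := d) m n).baseChange R s) =
      (piece ℬ hB0 hf hcB n).baseChange R s := by
  induction s using TensorProduct.induction_on with
  | zero => simp
  | add x y hx hy => simp only [map_add, hx, hy]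
  | tmul r b =>
    rw [LinearMap.baseChange_tmul, LinearMap.baseChange_tmul, LinearMap.baseChange_tmul,
      piece_shift]

theorem exists_eq_baseChange_piece (t : R ⊗[R'] Away ℬ f) :
    ∃ (n : ℕ) (s : R ⊗[R'] B), t = (piece ℬ hB0 hf hcB n).baseChange R s := by
  induction t using TensorProduct.induction_on with
  | zero => exact ⟨0, 0, by simp⟩
  | tmul r x =>
    obtain ⟨n, c, -, rfl⟩ := piece_surjective ℬ hB0 hf hcB x
    exact ⟨n, r ⊗ₜ c, by rw [LinearMap.baseChange_tmul]⟩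
  | add x y hx hy =>
    obtain ⟨n₁, s₁, rfl⟩ := hx
    obtain ⟨n₂, s₂, rfl⟩ := hy
    refine ⟨n₁ + n₂, (shift ℬ hB0 (g := f) (d := d) n₂ n₁).baseChange R s₁ +
      (shift ℬ hB0 (g := f) (d := d) n₁ n₂).baseChange R s₂, ?_⟩
    rw [map_add, baseChange_piece_shift]
    congr 1
    have := baseChange_piece_shift ℬ hB0 hf hcB (R := R) n₁ n₂ s₂
    rw [Nat.add_comm n₂ n₁] at this
    exact this.symm

include hφ hmap hB0 hA0 hf hcB hcA in
theorem L'_bijective : Function.Bijective (L' ℬ 𝒜 φ (R' := R') (R := R) (f := f)) := by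
  constructor
  · rw [injective_iff_map_eq_zero]
    intro t ht
    obtain ⟨n, s, rfl⟩ := exists_eq_baseChange_piece ℬ hB0 hf hcB t
    rw [L'_piece ℬ 𝒜 hB0 hA0 φ hφ hf hcB hcA hmap, piece_eq_zero_iff] at ht
    obtain ⟨m, hm⟩ := ht
    rw [← L_shift ℬ 𝒜 hB0 hA0 φ hφ] at hm
    have h0 : (shift ℬ hB0 (g := f) (d := d) m n).baseChange R s = 0 := by
      apply (L (R' := R') (R := R) (B := B) (A := A)).injective
      rw [hm, map_zero]
    rw [← baseChange_piece_shift ℬ hB0 hf hcB m n s, h0, map_zero]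
  · intro y
    obtain ⟨n, a, -, rfl⟩ := piece_surjective 𝒜 hA0 (Graded.map_mem φ hf) hcA y
    obtain ⟨s, rfl⟩ := (L (R' := R') (R := R) (B := B) (A := A)).surjective a
    exact ⟨_, L'_piece ℬ 𝒜 hB0 hA0 φ hφ hf hcB hcA hmap n s⟩

include hφ hmap hB0 hA0 hf hcB hcA in
theorem isPushout_away : Algebra.IsPushout R' R (Away ℬ f) (Away 𝒜 (φ f)) := by
  refine ⟨IsBaseChange.of_equiv (LinearEquiv.ofBijective _
    (L'_bijective ℬ 𝒜 hB0 hA0 φ hφ hf hcB hcA hmap)) ?_⟩
  intro x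
  simp [L'_tmul]

end pushout


section scheme

variable {R' R B A σ τ : Type u} [CommRing R'] [CommRing R] [CommRing B] [CommRing A]
  [Algebra R' R] [Algebra R' B] [Algebra R A] [Algebra R' A] [Algebra B A]
  [IsScalarTower R' R A] [IsScalarTower R' B A] [hpo : Algebra.IsPushout R' R B A]
  [SetLike σ B] [AddSubgroupClass σ B] [SetLike τ A] [AddSubgroupClass τ A]
  (ℬ : ℕ → σ) (𝒜 : ℕ → τ) [GradedRing ℬ] [GradedRing 𝒜]
  (φ : ℬ →+*ᵍ 𝒜) (hφ : ∀ b, φ b = algebraMap B A b)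
  (a' : R' →+* ℬ 0) (a : R →+* 𝒜 0)
  (ha' : ∀ r, (a' r : B) = algebraMap R' B r) (ha : ∀ r, (a r : A) = algebraMap R A r)

include hφ ha' ha in
theorem isPushout_away_commRingCat {d : ℕ} {f : B} (hf : f ∈ ℬ d) :
    IsPushout (CommRingCat.ofHom ((fromZeroRingHom ℬ (Submonoid.powers f)).comp a'))
      (CommRingCat.ofHom (algebraMap R' R))
      (CommRingCat.ofHom (Away.map φ f))
      (CommRingCat.ofHom ((fromZeroRingHom 𝒜 (Submonoid.powers (φ f))).comp a)) := by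
  letI i1 : Algebra R' (Away ℬ f) := ((fromZeroRingHom ℬ _).comp a').toAlgebra
  letI i2 : Algebra R (Away 𝒜 (φ f)) := ((fromZeroRingHom 𝒜 _).comp a).toAlgebra
  letI i3 : Algebra (Away ℬ f) (Away 𝒜 (φ f)) := (Away.map φ f).toAlgebra
  letI i4 : Algebra R' (Away 𝒜 (φ f)) :=
    ((algebraMap R (Away 𝒜 (φ f))).comp (algebraMap R' R)).toAlgebra
  haveI : IsScalarTower R' R (Away 𝒜 (φ f)) := .of_algebraMap_eq' rfl
  have hB0 : ∀ r : R', algebraMap R' B r ∈ ℬ 0 := fun r => ha' r ▸ (a' r).2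
  have hA0 : ∀ r : R, algebraMap R A r ∈ 𝒜 0 := fun r => ha r ▸ (a r).2
  have hcB : ∀ r : R', (algebraMap R' (Away ℬ f) r).val = Localization.mk (algebraMap R' B r) 1 := by
    intro r
    change (fromZeroRingHom ℬ _ (a' r)).val = _
    rw [← ha' r]
    rfl
  have hcA : ∀ r : R, (algebraMap R (Away 𝒜 (φ f)) r).val =
      Localization.mk (algebraMap R A r) 1 := by
    intro r
    change (fromZeroRingHom 𝒜 _ (a r)).val = _
    rw [← ha r]
    rfl
  haveI : IsScalarTower R' (Away ℬ f) (Away 𝒜 (φ f)) := by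
    refine .of_algebraMap_eq' (RingHom.ext fun r => ?_)
    change fromZeroRingHom 𝒜 _ (a (algebraMap R' R r)) =
      Away.map φ f (fromZeroRingHom ℬ _ (a' r))
    rw [Groth.Agent.H41.ProjLoc.awayMap_fromZero]
    congr 1
    apply Subtype.ext
    change (a (algebraMap R' R r) : A) = φ (a' r)
    rw [ha, ha', hφ, ← IsScalarTower.algebraMap_apply, ← IsScalarTower.algebraMap_apply]
  have key : Algebra.IsPushout R' R (Away ℬ f) (Away 𝒜 (φ f)) :=
    isPushout_away ℬ 𝒜 hB0 hA0 φ hφ hf hcB hcA (fun _ => rfl)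
  exact (CommRingCat.isPushout_iff_isPushout (R := R') (R' := Away ℬ f) (S := R)
    (S' := Away 𝒜 (φ f))).2 key.symm

include hφ ha' ha in
/-- **Base change for `Proj`**. -/
theorem isPullback_projMap (hirr : 𝒜₊ ≤ ℬ₊.map φ) :
    IsPullback (Proj.map φ hirr)
      (Proj.toSpecZero 𝒜 ≫ Spec.map (CommRingCat.ofHom a))
      (Proj.toSpecZero ℬ ≫ Spec.map (CommRingCat.ofHom a'))
      (Spec.map (CommRingCat.ofHom (algebraMap R' R))) := by
  refine Scheme.isPullback_of_openCover _ _ _ _ (Proj.affineOpenCover ℬ).openCover ?_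
  rintro ⟨⟨d, hd⟩, ⟨f, hf⟩⟩
  have hpb := (isPullback_awayι_map φ hirr hd hf).flip
  have hpo' := isPushout_away_commRingCat ℬ 𝒜 φ hφ a' a ha' ha hf
  have haff := isPullback_SpecMap_of_isPushout _ _ _ _ hpo'
  refine IsPullback.of_iso haff hpb.isoPullback (Iso.refl _) (Iso.refl _) (Iso.refl _)
    ?_ ?_ ?_ ?_
  · simp only [Iso.refl_hom, Category.comp_id]
    exact hpb.isoPullback_hom_snd.symm
  · simp only [Iso.refl_hom]
    rw [Category.comp_id]
    change _ = hpb.isoPullback.hom ≫ Limits.pullback.fst _ _ ≫ _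
    rw [← Category.assoc, hpb.isoPullback_hom_fst, Proj.awayι_toSpecZero_assoc, ← Spec.map_comp]
    rfl
  · simp only [Iso.refl_hom, Category.comp_id]
    change _ = 𝟙 _ ≫ Proj.awayι ℬ f hf hd ≫ _
    rw [Category.id_comp, Proj.awayι_toSpecZero_assoc, ← Spec.map_comp]
    rfl
  · simp

end scheme

end Groth.Agent.H41.ProjBaseChange
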