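import Groth.Prelude.Def_RelProj2
import Groth.Agent.H41.ProjBaseChange

/-!
# The relative homogeneous spectrum commutes with base change
-/

set_option autoImplicit false
universe u

open CategoryTheory CategoryTheory.Limits AlgebraicGeometry TopologicalSpace Opposite
open scoped HomogeneousIdeal

namespace Groth.Agent.H41.RelProjBaseChange

section chart

variable {Y P : Scheme.{u}} (𝒮 : RelProj.QCGrAlg Y) (p : P ⟶ Y)
  (chart : ∀ (U : Y.Opens) (hU : IsAffineOpen U),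
    (((p ⁻¹ᵁ U : P.Opens) : Scheme.{u}) ≅ Proj (𝒮.deg U hU)))
  (hP : RelProj.IsRelProj 𝒮 p chart)

include hP in
theorem chart_comp (U : Y.Opens) (hU : IsAffineOpen U) :
    (chart U hU).hom ≫ Proj.toSpecZero (𝒮.deg U hU) ≫ Spec.map (𝒮.strZero U hU) =
      (p ∣_ U) ≫ hU.isoSpec.hom := by
  rw [← cancel_mono hU.fromSpec]
  simp only [Category.assoc]
  rw [hP.chart_over U hU, IsAffineOpen.fromSpec, Iso.hom_inv_id_assoc, morphismRestrict_ι]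

end chart

section affine

variable {Y Y' : Scheme.{u}} (ψ : Y' ⟶ Y) (𝒮 : RelProj.QCGrAlg Y) (𝒮' : RelProj.QCGrAlg Y')
  (u : 𝒮.presheaf ⟶ ψ.base _* 𝒮'.presheaf)
  (U : Y.Opens) (hU : IsAffineOpen U) (U' : Y'.Opens) (hU' : IsAffineOpen U') (hle : U' ≤ ψ ⁻¹ᵁ U)
  (φ : 𝒮.deg U hU →+*ᵍ 𝒮'.deg U' hU')
  (hφ : φ.toRingHom =
        ((u.app (op U) : 𝒮.presheaf.obj (op U) ⟶ 𝒮'.presheaf.obj (op (ψ ⁻¹ᵁ U))) ≫
          𝒮'.presheaf.map (homOfLE hle).op).hom)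
  (hpo : IsPushout (ψ.appLE U U' hle) (𝒮.str.app (op U)) (𝒮'.str.app (op U'))
        ((u.app (op U) : 𝒮.presheaf.obj (op U) ⟶ 𝒮'.presheaf.obj (op (ψ ⁻¹ᵁ U))) ≫
          𝒮'.presheaf.map (homOfLE hle).op))
  (hirr : (𝒮'.deg U' hU')₊ ≤ ((𝒮.deg U hU)₊).map φ)

include hφ hpo in
theorem isPullback_affine :
    IsPullback (Proj.map φ hirr)
      (Proj.toSpecZero (𝒮'.deg U' hU') ≫ Spec.map (𝒮'.strZero U' hU'))
      (Proj.toSpecZero (𝒮.deg U hU) ≫ Spec.map (𝒮.strZero U hU))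
      (Spec.map (ψ.appLE U U' hle)) := by
  let i1 : Algebra Γ(Y, U) Γ(Y', U') := (ψ.appLE U U' hle).hom.toAlgebra
  let i2 : Algebra Γ(Y, U) (𝒮.presheaf.obj (op U)) := (𝒮.str.app (op U)).hom.toAlgebra
  let i3 : Algebra Γ(Y', U') (𝒮'.presheaf.obj (op U')) := (𝒮'.str.app (op U')).hom.toAlgebra
  let i4 : Algebra (𝒮.presheaf.obj (op U)) (𝒮'.presheaf.obj (op U')) :=
    ((u.app (op U) : 𝒮.presheaf.obj (op U) ⟶ 𝒮'.presheaf.obj (op (ψ ⁻¹ᵁ U))) ≫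
          𝒮'.presheaf.map (homOfLE hle).op).hom.toAlgebra
  let i5 : Algebra Γ(Y, U) (𝒮'.presheaf.obj (op U')) :=
    ((algebraMap Γ(Y', U') (𝒮'.presheaf.obj (op U'))).comp
      (algebraMap Γ(Y, U) Γ(Y', U'))).toAlgebra
  have : IsScalarTower Γ(Y, U) Γ(Y', U') (𝒮'.presheaf.obj (op U')) := .of_algebraMap_eq' rfl
  have : IsScalarTower Γ(Y, U) (𝒮.presheaf.obj (op U)) (𝒮'.presheaf.obj (op U')) := by
    refine .of_algebraMap_eq' ?_
    exact congrArg CommRingCat.Hom.hom hpo.w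
  have : Algebra.IsPushout Γ(Y, U) Γ(Y', U') (𝒮.presheaf.obj (op U))
      (𝒮'.presheaf.obj (op U')) :=
    (CommRingCat.isPushout_iff_isPushout (R := Γ(Y, U)) (R' := Γ(Y', U'))
      (S := 𝒮.presheaf.obj (op U)) (S' := 𝒮'.presheaf.obj (op U'))).1 hpo
  exact Groth.Agent.H41.ProjBaseChange.isPullback_projMap (𝒮.deg U hU) (𝒮'.deg U' hU') φ
    (fun b => congrFun (congrArg DFunLike.coe hφ) b)
    (𝒮.strZero U hU).hom (𝒮'.strZero U' hU').hom (fun _ => rfl) (fun _ => rfl) hirr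

end affine


section glue

variable {Y Y' P P' : Scheme.{u}} (ψ : Y' ⟶ Y) (𝒮 : RelProj.QCGrAlg Y)
    (𝒮' : RelProj.QCGrAlg Y') (u : 𝒮.presheaf ⟶ ψ.base _* 𝒮'.presheaf)
    (φ : ∀ (U : Y.Opens) (hU : IsAffineOpen U) (U' : Y'.Opens) (hU' : IsAffineOpen U')
      (_ : U' ≤ ψ ⁻¹ᵁ U), 𝒮.deg U hU →+*ᵍ 𝒮'.deg U' hU')
    (hφ : ∀ (U : Y.Opens) (hU : IsAffineOpen U) (U' : Y'.Opens) (hU' : IsAffineOpen U')
      (hle : U' ≤ ψ ⁻¹ᵁ U),
      (φ U hU U' hU' hle).toRingHom =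
        ((u.app (op U) : 𝒮.presheaf.obj (op U) ⟶ 𝒮'.presheaf.obj (op (ψ ⁻¹ᵁ U))) ≫
          𝒮'.presheaf.map (homOfLE hle).op).hom)
    (hpo : ∀ (U : Y.Opens) (hU : IsAffineOpen U) (U' : Y'.Opens) (hU' : IsAffineOpen U')
      (hle : U' ≤ ψ ⁻¹ᵁ U),
      IsPushout (ψ.appLE U U' hle) (𝒮.str.app (op U)) (𝒮'.str.app (op U'))
        ((u.app (op U) : 𝒮.presheaf.obj (op U) ⟶ 𝒮'.presheaf.obj (op (ψ ⁻¹ᵁ U))) ≫
          𝒮'.presheaf.map (homOfLE hle).op))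
    (hirr : ∀ (U : Y.Opens) (hU : IsAffineOpen U) (U' : Y'.Opens) (hU' : IsAffineOpen U')
      (hle : U' ≤ ψ ⁻¹ᵁ U),
      (𝒮'.deg U' hU')₊ ≤ ((𝒮.deg U hU)₊).map (φ U hU U' hU' hle))
    (p : P ⟶ Y)
    (chart : ∀ (U : Y.Opens) (hU : IsAffineOpen U),
      (((p ⁻¹ᵁ U : P.Opens) : Scheme.{u}) ≅ Proj (𝒮.deg U hU)))
    (hP : RelProj.IsRelProj 𝒮 p chart) (p' : P' ⟶ Y')
    (chart' : ∀ (U' : Y'.Opens) (hU' : IsAffineOpen U'),
      (((p' ⁻¹ᵁ U' : P'.Opens) : Scheme.{u}) ≅ Proj (𝒮'.deg U' hU')))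
    (hP' : RelProj.IsRelProj 𝒮' p' chart') (g : P' ⟶ P)
    (hg : ∀ (U : Y.Opens) (hU : IsAffineOpen U) (U' : Y'.Opens) (hU' : IsAffineOpen U')
      (hle : U' ≤ ψ ⁻¹ᵁ U),
      (p' ⁻¹ᵁ U').ι ≫ g =
        (chart' U' hU').hom ≫ Proj.map (φ U hU U' hU' hle) (hirr U hU U' hU' hle) ≫
          RelProj.emb p chart U hU)

include hφ hpo hP hP' hg in
/-- The square over a pair of affine opens `U' ⊆ ψ⁻¹ U`. -/
theorem isPullback_local (U : Y.Opens) (hU : IsAffineOpen U) (U' : Y'.Opens)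
    (hU' : IsAffineOpen U') (hle : U' ≤ ψ ⁻¹ᵁ U) :
    IsPullback (p' ∣_ U') ((p' ⁻¹ᵁ U').ι ≫ g) (U'.ι ≫ ψ) p := by
  have aff := (isPullback_affine ψ 𝒮 𝒮' u U hU U' hU' hle (φ U hU U' hU' hle)
    (hφ U hU U' hU' hle) (hpo U hU U' hU' hle) (hirr U hU U' hU' hle)).flip
  -- the left square
  have s : IsPullback (p' ∣_ U')
      ((chart' U' hU').hom ≫ Proj.map (φ U hU U' hU' hle) (hirr U hU U' hU' hle) ≫
        (chart U hU).inv)
      (ψ.resLE U U' hle) (p ∣_ U) := by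
    refine aff.of_iso' (chart' U' hU') hU'.isoSpec (chart U hU) hU.isoSpec ?_ ?_ ?_ ?_
    · exact chart_comp 𝒮' p' chart' hP' U' hU'
    · simp
    · rw [← cancel_mono hU.fromSpec, Category.assoc, Category.assoc,
        IsAffineOpen.SpecMap_appLE_fromSpec ψ hU hU' hle]
      simp only [IsAffineOpen.fromSpec, Iso.hom_inv_id_assoc, Scheme.Hom.resLE_comp_ι,
        Category.assoc]
    · exact chart_comp 𝒮 p chart hP U hU
  have t := isPullback_morphismRestrict p U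
  have big := s.paste_vert t
  rw [Scheme.Hom.resLE_comp_ι] at big
  convert big using 1
  rw [hg U hU U' hU' hle, RelProj.emb]
  simp only [Category.assoc]

include hφ hpo hP hP' hg in
/-- **Relative `Proj` commutes with base change.** -/
theorem isPullback_relProj : IsPullback g p' p ψ := by
  -- cover `Y'` by affine opens contained in preimages of affine opens
  let ι : Type u := { V : Y.Opens × Y'.Opens // IsAffineOpen V.1 ∧ IsAffineOpen V.2 ∧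
    V.2 ≤ ψ ⁻¹ᵁ V.1 }
  have hcov : IsOpenCover (fun i : ι => i.1.2) := by
    apply IsOpenCover.mk
    rw [eq_top_iff]
    intro y _
    obtain ⟨U, hU, hyU, -⟩ := (Opens.isBasis_iff_nbhd.mp Y.isBasis_affineOpens)
      (show ψ y ∈ (⊤ : Y.Opens) from trivial)
    obtain ⟨U', hU', hyU', hle⟩ := (Opens.isBasis_iff_nbhd.mp Y'.isBasis_affineOpens)
      (show y ∈ ψ ⁻¹ᵁ U from hyU)
    exact Opens.mem_iSup.mpr ⟨⟨(U, U'), hU, hU', hle⟩, hyU'⟩
  refine (Scheme.isPullback_of_openCover p' g ψ p (Y'.openCoverOfIsOpenCover _ hcov) ?_).flip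
  rintro ⟨⟨U, U'⟩, hU, hU', hle⟩
  have key := isPullback_local ψ 𝒮 𝒮' u φ hφ hpo hirr p chart hP p' chart' hP' g hg U hU U' hU' hle
  refine key.of_iso (pullbackRestrictIsoRestrict p' U').symm (Iso.refl _) (Iso.refl _)
    (Iso.refl _) ?_ ?_ ?_ ?_
  · simp only [Iso.refl_hom, Category.comp_id, Iso.symm_hom]
    rw [Iso.eq_inv_comp]
    exact pullbackRestrictIsoRestrict_hom_morphismRestrict p' U'
  · simp only [Iso.refl_hom, Category.comp_id, Iso.symm_hom]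
    rw [Iso.eq_inv_comp, ← Category.assoc]
    congr 1
    exact pullbackRestrictIsoRestrict_hom_ι p' U'
  · rw [Iso.refl_hom, Iso.refl_hom, Category.comp_id]
    exact (Category.id_comp _).symm
  · simp

end glue

end Groth.Agent.H41.RelProjBaseChange
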