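import Groth.Prelude.Def_RelProj4
import Groth.Agent.H41.PairGlue
import Groth.Agent.H41.RelProj
import Groth.Agent.H41.RelProjBaseChange

/-!
# The morphism `Proj(u)` over a morphism of bases, when everywhere defined
-/

set_option autoImplicit false
universe u

open CategoryTheory CategoryTheory.Limits AlgebraicGeometry TopologicalSpace Opposite
open scoped HomogeneousIdeal

namespace Groth.Agent.H41.RelProjQMap

section algebra

variable {R R' A B : Type u} [CommRing R] [CommRing R'] [CommRing A] [CommRing B]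
  [Algebra R R'] [Algebra R A] [Algebra R' B] [Algebra A B] [Algebra R B]
  [IsScalarTower R R' B] [IsScalarTower R A B]

/-- If `B = R' ⊗_R A` and the grading of `B` is compatible, then `B₊` is generated by the image
of `A₊`. -/
theorem irrelevant_le_map_of_isPushout [Algebra.IsPushout R R' A B]
    (𝒜 : ℕ → AddSubgroup A) [GradedRing 𝒜] (ℬ : ℕ → AddSubgroup B) [GradedRing ℬ]
    (φ : 𝒜 →+*ᵍ ℬ) (hφ : ∀ a, φ a = algebraMap A B a)
    (h0 : ∀ r' : R', algebraMap R' B r' ∈ ℬ 0) :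
    ℬ₊ ≤ 𝒜₊.map φ := by
  classical
  have key : ∀ b : B, ∀ n : ℕ, 0 < n →
      (DirectSum.decompose ℬ b n : B) ∈ Ideal.map φ (𝒜₊).toIdeal := by
    intro b
    refine IsBaseChange.inductionOn (Algebra.IsPushout.out (R := R) (S := R') (R' := A) (S' := B))
      b (fun b => ∀ n : ℕ, 0 < n →
        (DirectSum.decompose ℬ b n : B) ∈ Ideal.map φ (𝒜₊).toIdeal) ?_ ?_ ?_ ?_
    · intro n _
      rw [DirectSum.decompose_zero]
      exact zero_mem _
    · intro a n hn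
      change (DirectSum.decompose ℬ (algebraMap A B a) n : B) ∈ _
      rw [← hφ, ← GradedRingHom.map_directSumDecompose]
      exact Ideal.mem_map_of_mem _
        (HomogeneousIdeal.mem_irrelevant_of_mem 𝒜 hn (SetLike.coe_mem _))
    · intro r' b hb n hn
      rw [Algebra.smul_def, DirectSum.coe_decompose_mul_of_left_mem_zero ℬ (h0 r')]
      exact Ideal.mul_mem_left _ _ (hb n hn)
    · intro b₁ b₂ h₁ h₂ n hn
      rw [DirectSum.decompose_add, DirectSum.add_apply, AddSubgroup.coe_add]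
      exact add_mem (h₁ n hn) (h₂ n hn)
  rw [HomogeneousIdeal.irrelevant_le]
  intro i hi b hb
  have := key b i hi
  rw [DirectSum.decompose_of_mem_same ℬ hb] at this
  exact this

end algebra


section qmap

variable {Y Y' P P' : Scheme.{u}} (ψ : Y' ⟶ Y) (𝒮 : RelProj.QCGrAlg Y) (𝒮' : RelProj.QCGrAlg Y')
  (u : RelProj.QGrHom ψ 𝒮 𝒮')
  (hirr : ∀ (U : Y.Opens) (hU : IsAffineOpen U) (U' : Y'.Opens) (hU' : IsAffineOpen U')
    (hle : U' ≤ ψ ⁻¹ᵁ U),
    (𝒮'.deg U' hU')₊ ≤ ((𝒮.deg U hU)₊).map (u.gradedAt U hU U' hU' hle))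
  (p : P ⟶ Y)
  (chart : ∀ (U : Y.Opens) (hU : IsAffineOpen U),
    (((p ⁻¹ᵁ U : P.Opens) : Scheme.{u}) ≅ Proj (𝒮.deg U hU)))
  (hP : RelProj.IsRelProj 𝒮 p chart) (p' : P' ⟶ Y')
  (chart' : ∀ (U' : Y'.Opens) (hU' : IsAffineOpen U'),
    (((p' ⁻¹ᵁ U' : P'.Opens) : Scheme.{u}) ≅ Proj (𝒮'.deg U' hU')))
  (hP' : RelProj.IsRelProj 𝒮' p' chart')

/-- `h : P' ⟶ P` is chartwise `Proj.map` of the graded homomorphisms `u_{U,U'}`. -/
def IsChartMap (h : P' ⟶ P) : Prop :=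
  ∀ (U : Y.Opens) (hU : IsAffineOpen U) (U' : Y'.Opens) (hU' : IsAffineOpen U')
    (hle : U' ≤ ψ ⁻¹ᵁ U),
    (p' ⁻¹ᵁ U').ι ≫ h =
      (chart' U' hU').hom ≫ Proj.map (u.gradedAt U hU U' hU' hle) (hirr U hU U' hU' hle) ≫
        RelProj.emb p chart U hU

theorem gradedAt_comm (U : Y.Opens) (hU : IsAffineOpen U) (U' : Y'.Opens) (hU' : IsAffineOpen U')
    (hle : U' ≤ ψ ⁻¹ᵁ U) (V : Y.Opens) (hV : IsAffineOpen V) (V' : Y'.Opens)
    (hV' : IsAffineOpen V') (hle' : V' ≤ ψ ⁻¹ᵁ V) (i : V ≤ U) (i' : V' ≤ U') :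
    (𝒮'.res hU' hV' i').comp (u.gradedAt U hU U' hU' hle) =
      (u.gradedAt V hV V' hV' hle').comp (𝒮.res hU hV i) := by
  ext x
  have h1 := congrArg (fun f => f.hom x) (u.toQHom.appLE_map hle i')
  have h2 := congrArg (fun f => f.hom x) (u.toQHom.map_appLE i hle')
  exact h1.trans h2.symm

include hP hP' in
theorem existsUnique_chartMap :
    ∃! h : P' ⟶ P, IsChartMap ψ 𝒮 𝒮' u hirr p chart p' chart' h := by
  apply Groth.Agent.H41.PairGlue.existsUnique_glue p' ψ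
    (fun U hU U' hU' hle => (chart' U' hU').hom ≫
      Proj.map (u.gradedAt U hU U' hU' hle) (hirr U hU U' hU' hle) ≫ RelProj.emb p chart U hU)
  intro U hU U' hU' hle r r' hle'
  have hW := hU.basicOpen r
  have hW' := hU'.basicOpen r'
  have hcomm := gradedAt_comm ψ 𝒮 𝒮' u U hU U' hU' hle (Y.basicOpen r) hW (Y'.basicOpen r') hW'
    hle' (Y.basicOpen_le r) (Y'.basicOpen_le r')
  have h1 : Proj.map (𝒮'.res hU' hW' (Y'.basicOpen_le r')) (𝒮'.irrelevant_le_map U' hU' r') ≫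
      Proj.map (u.gradedAt U hU U' hU' hle) (hirr U hU U' hU' hle) =
      Proj.map (u.gradedAt (Y.basicOpen r) hW (Y'.basicOpen r') hW' hle') (hirr _ hW _ hW' hle') ≫
        Proj.map (𝒮.res hU hW (Y.basicOpen_le r)) (𝒮.irrelevant_le_map U hU r) := by
    rw [← Proj.map_comp, ← Proj.map_comp]
    exact Groth.Agent.H41.RelProj.projMap_congr hcomm _ _
  rw [← Category.assoc, hP'.chart_res U' hU' r', Category.assoc, reassoc_of% h1,
    RelProj.map_res_emb hP U hU r]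


theorem domOpen_eq_top_of_irr {A B : Type u} [CommRing A] [CommRing B]
    {𝒜 : ℕ → AddSubgroup A} [GradedRing 𝒜] {ℬ : ℕ → AddSubgroup B} [GradedRing ℬ]
    (φ : 𝒜 →+*ᵍ ℬ) (h : ℬ₊ ≤ 𝒜₊.map φ) : RelCone.domOpen φ = ⊤ := by
  rw [eq_top_iff]
  intro y _
  rw [RelCone.mem_domOpen]
  by_contra hcon
  push Not at hcon
  apply y.not_irrelevant_le
  refine h.trans ?_
  change Ideal.map φ (𝒜₊).toIdeal ≤ y.asHomogeneousIdeal.toIdeal
  rw [Ideal.map_le_iff_le_comap]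
  intro f hf
  exact hcon f hf

include hirr in
theorem domQ_eq_top : RelProj.domQ u p' chart' = ⊤ := by
  rw [eq_top_iff]
  intro x _
  obtain ⟨V, hV⟩ := Groth.Agent.H41.PairGlue.exists_pair ψ (p' x)
  have hx : x ∈ (p' ⁻¹ᵁ V.1.2.1 : P'.Opens) := hV
  refine Opens.mem_iSup.mpr ⟨⟨(⟨V.1.1.1, V.1.1.2⟩, ⟨V.1.2.1, V.1.2.2⟩), V.2⟩, ?_⟩
  refine ⟨(chart' V.1.2.1 V.1.2.2).hom ⟨x, hx⟩, ?_, ?_⟩
  · rw [domOpen_eq_top_of_irr _ (hirr V.1.1.1 V.1.1.2 V.1.2.1 V.1.2.2 V.2)]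
    trivial
  · change (RelProj.emb p' chart' V.1.2.1 V.1.2.2) ((chart' V.1.2.1 V.1.2.2).hom ⟨x, hx⟩) = x
    rw [RelProj.emb, ← Scheme.Hom.comp_apply, Iso.hom_inv_id_assoc]
    rfl

include hirr in
theorem isProjQMap_of_isChartMap (h : P' ⟶ P)
    (hh : IsChartMap ψ 𝒮 𝒮' u hirr p chart p' chart' h) :
    RelProj.IsProjQMap u p chart p' chart' h := by
  refine ⟨domQ_eq_top ψ 𝒮 𝒮' u hirr p' chart', ?_⟩
  intro U hU U' hU' hle d hd f hf
  rw [RelProj.awayEmb, RelProj.emb, Category.assoc, Category.assoc, hh U hU U' hU' hle,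
    Iso.inv_hom_id_assoc, ← Category.assoc,
    Proj.awayι_comp_map (u.gradedAt U hU U' hU' hle) (hirr U hU U' hU' hle) hd f hf,
    Category.assoc]

include hirr in
theorem isChartMap_of_isProjQMap (h : P' ⟶ P)
    (hh : RelProj.IsProjQMap u p chart p' chart' h) :
    IsChartMap ψ 𝒮 𝒮' u hirr p chart p' chart' h := by
  intro U hU U' hU' hle
  rw [← Iso.inv_comp_eq, ← Category.assoc]
  change RelProj.emb p' chart' U' hU' ≫ h = _
  refine (Proj.mapAffineOpenCover (u.gradedAt U hU U' hU' hle)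
    (hirr U hU U' hU' hle)).openCover.hom_ext _ _ fun s => ?_
  have := hh.2 U hU U' hU' hle s.1.1 s.1.2 s.2.1 s.2.2
  rw [RelProj.awayEmb, Category.assoc] at this
  simp only [Scheme.AffineOpenCover.openCover_f, Proj.mapAffineOpenCover_f]
  exact this.trans (Proj.awayι_comp_map_assoc (u.gradedAt U hU U' hU' hle)
    (hirr U hU U' hU' hle) s.1.2 s.2.1 s.2.2 _).symm

end qmap


section basechange

variable {Y Y' P P' : Scheme.{u}} (ψ : Y' ⟶ Y) (𝒮 : RelProj.QCGrAlg Y) (𝒮' : RelProj.QCGrAlg Y')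
  (u : RelProj.QGrHom ψ 𝒮 𝒮') (hu : RelSpec.IsQBaseChange u.toQHom)

/-- A `ψ`-morphism as a morphism of presheaves. -/
def natTrans {A : RelSpec.QCAlg Y} {B : RelSpec.QCAlg Y'} (v : RelSpec.QHom ψ A B) :
    A.presheaf ⟶ ψ.base _* B.presheaf where
  app U := v.app U.unop
  naturality U V i := by
    have h := v.naturality (leOfHom i.unop)
    have e1 : A.presheaf.map i = A.presheaf.map (homOfLE (leOfHom i.unop)).op :=
      congrArg A.presheaf.map (Subsingleton.elim _ _)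
    rw [e1, ← h]
    rfl

include hu in
theorem irr_of_isQBaseChange (U : Y.Opens) (hU : IsAffineOpen U) (U' : Y'.Opens)
    (hU' : IsAffineOpen U') (hle : U' ≤ ψ ⁻¹ᵁ U) :
    (𝒮'.deg U' hU')₊ ≤ ((𝒮.deg U hU)₊).map (u.gradedAt U hU U' hU' hle) := by
  have hpo := hu U hU U' hU' hle
  let i1 : Algebra Γ(Y, U) Γ(Y', U') := (ψ.appLE U U' hle).hom.toAlgebra
  let i2 : Algebra Γ(Y, U) (𝒮.presheaf.obj (op U)) := (𝒮.str.app (op U)).hom.toAlgebra
  let i3 : Algebra Γ(Y', U') (𝒮'.presheaf.obj (op U')) := (𝒮'.str.app (op U')).hom.toAlgebra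
  let i4 : Algebra (𝒮.presheaf.obj (op U)) (𝒮'.presheaf.obj (op U')) :=
    (u.toQHom.appLE U U' hle).hom.toAlgebra
  let i5 : Algebra Γ(Y, U) (𝒮'.presheaf.obj (op U')) :=
    ((algebraMap Γ(Y', U') (𝒮'.presheaf.obj (op U'))).comp
      (algebraMap Γ(Y, U) Γ(Y', U'))).toAlgebra
  have : IsScalarTower Γ(Y, U) Γ(Y', U') (𝒮'.presheaf.obj (op U')) := .of_algebraMap_eq' rfl
  have : IsScalarTower Γ(Y, U) (𝒮.presheaf.obj (op U)) (𝒮'.presheaf.obj (op U')) := by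
    refine .of_algebraMap_eq' ?_
    exact congrArg CommRingCat.Hom.hom hpo.w
  have : Algebra.IsPushout Γ(Y, U) Γ(Y', U') (𝒮.presheaf.obj (op U))
      (𝒮'.presheaf.obj (op U')) :=
    (CommRingCat.isPushout_iff_isPushout (R := Γ(Y, U)) (R' := Γ(Y', U'))
      (S := 𝒮.presheaf.obj (op U)) (S' := 𝒮'.presheaf.obj (op U'))).1 hpo
  exact irrelevant_le_map_of_isPushout (R := Γ(Y, U)) (R' := Γ(Y', U')) (𝒮.deg U hU)
    (𝒮'.deg U' hU') (u.gradedAt U hU U' hU' hle) (fun _ => rfl) (fun r' => 𝒮'.str_mem U' hU' r')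

variable (p : P ⟶ Y)
  (chart : ∀ (U : Y.Opens) (hU : IsAffineOpen U),
    (((p ⁻¹ᵁ U : P.Opens) : Scheme.{u}) ≅ Proj (𝒮.deg U hU)))
  (hP : RelProj.IsRelProj 𝒮 p chart) (p' : P' ⟶ Y')
  (chart' : ∀ (U' : Y'.Opens) (hU' : IsAffineOpen U'),
    (((p' ⁻¹ᵁ U' : P'.Opens) : Scheme.{u}) ≅ Proj (𝒮'.deg U' hU')))
  (hP' : RelProj.IsRelProj 𝒮' p' chart')

include hu hP hP' in
theorem exists_isProjQMap : ∃ h : P' ⟶ P, RelProj.IsProjQMap u p chart p' chart' h := by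
  obtain ⟨h, hh, -⟩ := existsUnique_chartMap ψ 𝒮 𝒮' u (irr_of_isQBaseChange ψ 𝒮 𝒮' u hu)
    p chart hP p' chart' hP'
  exact ⟨h, isProjQMap_of_isChartMap ψ 𝒮 𝒮' u _ p chart p' chart' h hh⟩

include hu hP hP' in
theorem isPullback_of_isProjQMap (h : P' ⟶ P)
    (hh : RelProj.IsProjQMap u p chart p' chart' h) : IsPullback h p' p ψ := by
  have hc := isChartMap_of_isProjQMap ψ 𝒮 𝒮' u (irr_of_isQBaseChange ψ 𝒮 𝒮' u hu)
    p chart p' chart' h hh
  exact Groth.Agent.H41.RelProjBaseChange.isPullback_relProj ψ 𝒮 𝒮' (natTrans ψ u.toQHom)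
    (fun U hU U' hU' hle => u.gradedAt U hU U' hU' hle) (fun _ _ _ _ _ => rfl)
    (fun U hU U' hU' hle => hu U hU U' hU' hle) (irr_of_isQBaseChange ψ 𝒮 𝒮' u hu)
    p chart hP p' chart' hP' h hc

end basechange

end Groth.Agent.H41.RelProjQMap
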