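import Groth.Prelude.Def_RelProj4
import Groth.Agent.H41.PMapComp
import Groth.Agent.H41.PairGlue
import Groth.Agent.H41.RelProjQMap

/-!
# `Proj(u)` on its open of definition `G(u)` for a graded `g`-morphism `u : 𝒮 → 𝒮'`

Chart independence of `RelProj.domQ`, and existence/uniqueness of the morphism `G(u) ⟶ Proj 𝒮`.
-/

set_option autoImplicit false
universe u
open CategoryTheory CategoryTheory.Limits AlgebraicGeometry Opposite TopologicalSpace
  HomogeneousLocalization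
open scoped HomogeneousIdeal

namespace Groth.Agent.H41.RelPMap2

variable {Y Y' P P' : Scheme.{u}} {g : Y' ⟶ Y} {𝒮 : RelProj.QCGrAlg Y} {𝒮' : RelProj.QCGrAlg Y'}
  (u : RelProj.QGrHom g 𝒮 𝒮')
  (p : P ⟶ Y)
  (chart : ∀ (U : Y.Opens) (hU : IsAffineOpen U),
    (((p ⁻¹ᵁ U : P.Opens) : Scheme.{u}) ≅ Proj (𝒮.deg U hU)))
  (hP : RelProj.IsRelProj 𝒮 p chart)
  (p' : P' ⟶ Y')
  (chart' : ∀ (U' : Y'.Opens) (hU' : IsAffineOpen U'),
    (((p' ⁻¹ᵁ U' : P'.Opens) : Scheme.{u}) ≅ Proj (𝒮'.deg U' hU')))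
  (hP' : RelProj.IsRelProj 𝒮' p' chart')

/-- The part of `G(u)` seen in the chart over the pair `(U, U')`. -/
def W (U : Y.Opens) (hU : IsAffineOpen U) (U' : Y'.Opens) (hU' : IsAffineOpen U')
    (hle : U' ≤ g ⁻¹ᵁ U) : P'.Opens :=
  (RelProj.emb p' chart' U' hU') ''ᵁ RelCone.domOpen (u.gradedAt U hU U' hU' hle)

theorem W_le_domQ (U : Y.Opens) (hU : IsAffineOpen U) (U' : Y'.Opens) (hU' : IsAffineOpen U')
    (hle : U' ≤ g ⁻¹ᵁ U) : W u p' chart' U hU U' hU' hle ≤ RelProj.domQ u p' chart' :=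
  le_iSup (fun V : {V : Y.affineOpens × Y'.affineOpens //
      (V.2 : Y'.Opens) ≤ g ⁻¹ᵁ (V.1 : Y.Opens)} =>
    (RelProj.emb p' chart' V.1.2.1 V.1.2.2) ''ᵁ
      RelCone.domOpen (u.gradedAt V.1.1.1 V.1.1.2 V.1.2.1 V.1.2.2 V.2))
    ⟨(⟨U, hU⟩, ⟨U', hU'⟩), hle⟩

theorem emb_chart_apply (U' : Y'.Opens) (hU' : IsAffineOpen U') (x : P')
    (hx : x ∈ p' ⁻¹ᵁ U') :
    (RelProj.emb p' chart' U' hU') ((chart' U' hU').hom ⟨x, hx⟩) = x := by
  rw [RelProj.emb, ← Scheme.Hom.comp_apply, Iso.hom_inv_id_assoc]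
  rfl

theorem emb_mem (U' : Y'.Opens) (hU' : IsAffineOpen U') (y : Proj (𝒮'.deg U' hU')) :
    (RelProj.emb p' chart' U' hU') y ∈ p' ⁻¹ᵁ U' := by
  change ((chart' U' hU').inv ≫ (p' ⁻¹ᵁ U').ι) y ∈ p' ⁻¹ᵁ U'
  rw [Scheme.Hom.comp_apply]
  exact ((chart' U' hU').inv y).2

theorem chart_emb_apply (U' : Y'.Opens) (hU' : IsAffineOpen U') (y : Proj (𝒮'.deg U' hU')) :
    (chart' U' hU').hom ⟨(RelProj.emb p' chart' U' hU') y, emb_mem p' chart' U' hU' y⟩ = y := by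
  have : (⟨(RelProj.emb p' chart' U' hU') y, emb_mem p' chart' U' hU' y⟩ :
      (p' ⁻¹ᵁ U' : P'.Opens)) = (chart' U' hU').inv y := by
    apply Subtype.ext
    change ((chart' U' hU').inv ≫ (p' ⁻¹ᵁ U').ι) y = _
    rw [Scheme.Hom.comp_apply]
    rfl
  rw [this, ← Scheme.Hom.comp_apply, Iso.inv_hom_id]
  rfl

theorem mem_W_iff (U : Y.Opens) (hU : IsAffineOpen U) (U' : Y'.Opens) (hU' : IsAffineOpen U')
    (hle : U' ≤ g ⁻¹ᵁ U) (x : P') :
    x ∈ W u p' chart' U hU U' hU' hle ↔ ∃ hx : x ∈ p' ⁻¹ᵁ U',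
      (chart' U' hU').hom ⟨x, hx⟩ ∈ RelCone.domOpen (u.gradedAt U hU U' hU' hle) := by
  constructor
  · rintro ⟨y, hy, hyx⟩
    have hyx' : (RelProj.emb p' chart' U' hU') y = x := hyx
    subst hyx'
    refine ⟨emb_mem p' chart' U' hU' y, ?_⟩
    rw [chart_emb_apply]
    exact hy
  · rintro ⟨hx, h⟩
    exact ⟨_, h, emb_chart_apply p' chart' U' hU' x hx⟩

theorem W_le_preimage (U : Y.Opens) (hU : IsAffineOpen U) (U' : Y'.Opens) (hU' : IsAffineOpen U')
    (hle : U' ≤ g ⁻¹ᵁ U) : W u p' chart' U hU U' hU' hle ≤ p' ⁻¹ᵁ U' := by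
  intro x hx
  exact ((mem_W_iff u p' chart' U hU U' hU' hle x).mp hx).1

include hP' in
/-- Passing to basic opens in both components of a pair does not change membership. -/
theorem mem_W_basicOpen_iff (U : Y.Opens) (hU : IsAffineOpen U) (U' : Y'.Opens)
    (hU' : IsAffineOpen U') (hle : U' ≤ g ⁻¹ᵁ U) (r : Γ(Y, U)) (r' : Γ(Y', U'))
    (hle' : Y'.basicOpen r' ≤ g ⁻¹ᵁ (Y.basicOpen r)) (x : P')
    (hx' : x ∈ p' ⁻¹ᵁ (Y'.basicOpen r')) :
    x ∈ W u p' chart' (Y.basicOpen r) (hU.basicOpen r) (Y'.basicOpen r') (hU'.basicOpen r') hle' ↔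
      x ∈ W u p' chart' U hU U' hU' hle := by
  have hx : x ∈ p' ⁻¹ᵁ U' := p'.preimage_mono (Y'.basicOpen_le r') hx'
  rw [mem_W_iff, mem_W_iff]
  have hcomm := Groth.Agent.H41.RelProjQMap.gradedAt_comm g 𝒮 𝒮' u U hU U' hU' hle (Y.basicOpen r)
    (hU.basicOpen r) (Y'.basicOpen r') (hU'.basicOpen r') hle' (Y.basicOpen_le r)
    (Y'.basicOpen_le r')
  have hsq := PMap.square_preimage_domOpen (u.gradedAt U hU U' hU' hle)
    (u.gradedAt (Y.basicOpen r) (hU.basicOpen r) (Y'.basicOpen r') (hU'.basicOpen r') hle')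
    (𝒮.res hU (hU.basicOpen r) (Y.basicOpen_le r))
    (𝒮'.res hU' (hU'.basicOpen r') (Y'.basicOpen_le r'))
    (𝒮.irrelevant_le_map U hU r) (𝒮'.irrelevant_le_map U' hU' r') hcomm
  have hpt : (chart' U' hU').hom ⟨x, hx⟩ =
      (Proj.map (𝒮'.res hU' (hU'.basicOpen r') (Y'.basicOpen_le r'))
        (𝒮'.irrelevant_le_map U' hU' r'))
        ((chart' (Y'.basicOpen r') (hU'.basicOpen r')).hom ⟨x, hx'⟩) := by
    have := hP'.chart_res U' hU' r'
    have h2 := congrArg (fun m : ((p' ⁻¹ᵁ (Y'.basicOpen r') : P'.Opens) : Scheme.{u}) ⟶ _ =>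
      m ⟨x, hx'⟩) this
    simp only [Scheme.Hom.comp_apply] at h2
    rw [Scheme.homOfLE_apply'] at h2
    exact h2
  constructor
  · rintro ⟨_, h⟩
    refine ⟨hx, ?_⟩
    rw [hpt]
    exact (SetLike.ext_iff.mp hsq _).mpr h
  · rintro ⟨_, h⟩
    refine ⟨hx', ?_⟩
    rw [hpt] at h
    exact (SetLike.ext_iff.mp hsq _).mp h

/-- `W` on pairs. -/
def Wp (V : PairGlue.Pair g) : P'.Opens :=
  W u p' chart' V.1.1.1 V.1.1.2 V.1.2.1 V.1.2.2 V.2

include hP' in
theorem mem_Wp_iff_of_le {K V : PairGlue.Pair g} (hKV : K ≤ V) (x : P')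
    (hx : x ∈ p' ⁻¹ᵁ K.1.2.toOpens) :
    x ∈ Wp u p' chart' K ↔ x ∈ Wp u p' chart' V := by
  obtain ⟨⟨⟨K1, hK1⟩, ⟨K2, hK2⟩⟩, hKle⟩ := K
  obtain ⟨⟨⟨V1, hV1⟩, ⟨V2, hV2⟩⟩, hVle⟩ := V
  obtain ⟨⟨r, hr⟩, ⟨r', hr'⟩⟩ := hKV
  change Y.basicOpen r = K1 at hr
  change Y'.basicOpen r' = K2 at hr'
  subst hr hr'
  exact mem_W_basicOpen_iff u p' chart' hP' V1 hV1 V2 hV2 hVle r r' hKle x hx

include hP' in
/-- Chart independence of `G(u)`: over the affine open `U'` (with `U' ⊆ g⁻¹ U`), `G(u)` is the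
chart image of the open of definition of `Proj` of `u_{U,U'}`. -/
theorem domQ_inf_preimage (U : Y.Opens) (hU : IsAffineOpen U) (U' : Y'.Opens)
    (hU' : IsAffineOpen U') (hle : U' ≤ g ⁻¹ᵁ U) :
    RelProj.domQ u p' chart' ⊓ p' ⁻¹ᵁ U' = W u p' chart' U hU U' hU' hle := by
  apply le_antisymm
  · rintro x ⟨hxd, hxU'⟩
    obtain ⟨⟨⟨⟨V, hV⟩, ⟨V', hV'⟩⟩, hVle⟩, hxV⟩ := Opens.mem_iSup.mp hxd
    have hxV' : x ∈ W u p' chart' V hV V' hV' hVle := hxV
    have hxpV' : p' x ∈ V' := W_le_preimage u p' chart' V hV V' hV' hVle hxV'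
    obtain ⟨K, hKU, hKV, hxK⟩ := PairGlue.exists_refinement g
      (PairGlue.mkPair g U hU U' hU' hle) (PairGlue.mkPair g V hV V' hV' hVle) (p' x) hxU' hxpV'
    have h1 := (mem_Wp_iff_of_le u p' chart' hP' hKV x hxK).mpr hxV'
    exact (mem_Wp_iff_of_le u p' chart' hP' hKU x hxK).mp h1
  · exact le_inf (W_le_domQ u p' chart' U hU U' hU' hle) (W_le_preimage u p' chart' U hU U' hU' hle)

section maps

variable (U : Y.Opens) (hU : IsAffineOpen U) (U' : Y'.Opens) (hU' : IsAffineOpen U')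
  (hle : U' ≤ g ⁻¹ᵁ U)

theorem range_subset :
    Set.range ((RelCone.domOpen (u.gradedAt U hU U' hU' hle)).ι ≫
      RelProj.emb p' chart' U' hU').base ⊆ Set.range (RelProj.domQ u p' chart').ι.base := by
  rw [Scheme.Opens.range_ι]
  rintro _ ⟨y, rfl⟩
  apply W_le_domQ u p' chart' U hU U' hU' hle
  exact ⟨(RelCone.domOpen (u.gradedAt U hU U' hU' hle)).ι y, y.2, rfl⟩

/-- The open immersion `G(u_{U,U'}) ⟶ G(u)`. -/
noncomputable def j : (RelCone.domOpen (u.gradedAt U hU U' hU' hle) : Scheme.{u}) ⟶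
    (RelProj.domQ u p' chart' : Scheme.{u}) :=
  IsOpenImmersion.lift (RelProj.domQ u p' chart').ι
    ((RelCone.domOpen (u.gradedAt U hU U' hU' hle)).ι ≫ RelProj.emb p' chart' U' hU')
    (range_subset u p' chart' U hU U' hU' hle)

@[reassoc]
theorem j_ι : j u p' chart' U hU U' hU' hle ≫ (RelProj.domQ u p' chart').ι =
    (RelCone.domOpen (u.gradedAt U hU U' hU' hle)).ι ≫ RelProj.emb p' chart' U' hU' :=
  IsOpenImmersion.lift_fac _ _ _

instance : IsOpenImmersion (j u p' chart' U hU U' hU' hle) := by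
  have : IsOpenImmersion (j u p' chart' U hU U' hU' hle ≫ (RelProj.domQ u p' chart').ι) := by
    rw [j_ι]
    infer_instance
  exact IsOpenImmersion.of_comp _ (RelProj.domQ u p' chart').ι

theorem chart_j {d : ℕ} (hd : 0 < d) (f : 𝒮.presheaf.obj (op U)) (hf : f ∈ 𝒮.deg U hU d)
    (hW : Set.range (RelProj.awayEmb u p' chart' U hU U' hU' hle hd f hf).base ⊆
      Set.range (RelProj.domQ u p' chart').ι.base) :
    PMap.chart (u.gradedAt U hU U' hU' hle) hf hd ≫ j u p' chart' U hU U' hU' hle =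
      IsOpenImmersion.lift (RelProj.domQ u p' chart').ι
        (RelProj.awayEmb u p' chart' U hU U' hU' hle hd f hf) hW := by
  rw [← cancel_mono (RelProj.domQ u p' chart').ι, Category.assoc, j_ι, PMap.chart_ι_assoc,
    IsOpenImmersion.lift_fac]
  rfl

end maps

/-- `IsProjQMapOn` on `G(u)` in terms of the partial maps of homogeneous spectra. -/
theorem isProjQMapOn_iff (v : (RelProj.domQ u p' chart' : Scheme.{u}) ⟶ P) :
    RelProj.IsProjQMapOn u p chart p' chart' (RelProj.domQ u p' chart') v ↔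
      ∀ (U : Y.Opens) (hU : IsAffineOpen U) (U' : Y'.Opens) (hU' : IsAffineOpen U')
        (hle : U' ≤ g ⁻¹ᵁ U),
        j u p' chart' U hU U' hU' hle ≫ v =
          PMap.map (u.gradedAt U hU U' hU' hle) ≫ RelProj.emb p chart U hU := by
  constructor
  · intro hv U hU U' hU' hle
    refine (PMap.cover (u.gradedAt U hU U' hU' hle)).hom_ext _ _ fun s => ?_
    change PMap.chart (u.gradedAt U hU U' hU' hle) s.2.2.2 s.2.2.1 ≫ _ =
      PMap.chart (u.gradedAt U hU U' hU' hle) s.2.2.2 s.2.2.1 ≫ _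
    have hW := RelProj.range_awayEmb_subset_domQ u p' chart' U hU U' hU' hle s.2.2.1 s.2.1 s.2.2.2
    rw [← Category.assoc, chart_j u p' chart' U hU U' hU' hle s.2.2.1 s.2.1 s.2.2.2 hW,
      PMap.chart_map_assoc]
    exact hv U hU U' hU' hle s.1 s.2.2.1 s.2.1 s.2.2.2 hW
  · intro hv U hU U' hU' hle d hd f hf hW
    rw [← chart_j u p' chart' U hU U' hU' hle hd f hf hW, Category.assoc, hv U hU U' hU' hle,
      PMap.chart_map_assoc]

section glue

variable (U : Y.Opens) (hU : IsAffineOpen U) (U' : Y'.Opens) (hU' : IsAffineOpen U')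
  (hle : U' ≤ g ⁻¹ᵁ U)

/-- The structure morphism `G(u) ⟶ Y'`. -/
noncomputable abbrev fQ : (RelProj.domQ u p' chart' : Scheme.{u}) ⟶ Y' :=
  (RelProj.domQ u p' chart').ι ≫ p'

include hP' in
theorem range_j : Set.range (j u p' chart' U hU U' hU' hle).base =
    Set.range ((fQ u p' chart') ⁻¹ᵁ U').ι.base := by
  rw [Scheme.Opens.range_ι]
  ext x
  have hW := domQ_inf_preimage u p' chart' hP' U hU U' hU' hle
  constructor
  · rintro ⟨y, rfl⟩
    have h1 : (RelProj.domQ u p' chart').ι ((j u p' chart' U hU U' hU' hle) y) =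
        (RelProj.emb p' chart' U' hU') ((RelCone.domOpen (u.gradedAt U hU U' hU' hle)).ι y) := by
      rw [← Scheme.Hom.comp_apply, j_ι, Scheme.Hom.comp_apply]
    change p' ((RelProj.domQ u p' chart').ι ((j u p' chart' U hU U' hU' hle) y)) ∈ U'
    rw [h1]
    exact emb_mem p' chart' U' hU' _
  · intro hx
    have hx' : p' ((RelProj.domQ u p' chart').ι x) ∈ U' := hx
    have hxW : (RelProj.domQ u p' chart').ι x ∈ W u p' chart' U hU U' hU' hle := by
      rw [← hW]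
      exact ⟨x.2, hx'⟩
    obtain ⟨y, hy, hyx⟩ := hxW
    refine ⟨⟨y, hy⟩, ?_⟩
    apply (RelProj.domQ u p' chart').ι.isOpenEmbedding.injective
    rw [← Scheme.Hom.comp_apply, j_ι, Scheme.Hom.comp_apply]
    exact hyx

/-- The part of `G(u)` over `U'` is `G(u_{U,U'})`. -/
noncomputable def θ : (((fQ u p' chart') ⁻¹ᵁ U' : (RelProj.domQ u p' chart' : Scheme.{u}).Opens) :
    Scheme.{u}) ≅ (RelCone.domOpen (u.gradedAt U hU U' hU' hle) : Scheme.{u}) :=
  IsOpenImmersion.isoOfRangeEq ((fQ u p' chart') ⁻¹ᵁ U').ι (j u p' chart' U hU U' hU' hle)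
    (range_j u p' chart' hP' U hU U' hU' hle).symm

@[reassoc]
theorem θ_hom_j : (θ u p' chart' hP' U hU U' hU' hle).hom ≫ j u p' chart' U hU U' hU' hle =
    ((fQ u p' chart') ⁻¹ᵁ U').ι :=
  IsOpenImmersion.isoOfRangeEq_hom_fac _ _ _

@[reassoc]
theorem θ_inv_ι : (θ u p' chart' hP' U hU U' hU' hle).inv ≫ ((fQ u p' chart') ⁻¹ᵁ U').ι =
    j u p' chart' U hU U' hU' hle := by
  rw [Iso.inv_comp_eq, θ_hom_j]

end glue

include hP hP' in
/-- Existence and uniqueness of `Proj(u) : G(u) ⟶ Proj 𝒮`. -/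
theorem existsUnique_isProjQMapOn :
    ∃! v : (RelProj.domQ u p' chart' : Scheme.{u}) ⟶ P,
      RelProj.IsProjQMapOn u p chart p' chart' (RelProj.domQ u p' chart') v := by
  have key := PairGlue.existsUnique_glue (fQ u p' chart') g
    (fun U hU U' hU' hle => (θ u p' chart' hP' U hU U' hU' hle).hom ≫
      PMap.map (u.gradedAt U hU U' hU' hle) ≫ RelProj.emb p chart U hU) ?_
  · obtain ⟨v, hv, huniq⟩ := key
    refine ⟨v, ?_, ?_⟩
    · change RelProj.IsProjQMapOn u p chart p' chart' (RelProj.domQ u p' chart') v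
      rw [isProjQMapOn_iff]
      intro U hU U' hU' hle
      rw [← θ_inv_ι u p' chart' hP' U hU U' hU' hle, Category.assoc, hv U hU U' hU' hle,
        Iso.inv_hom_id_assoc]
    · intro v' hv'
      change RelProj.IsProjQMapOn u p chart p' chart' (RelProj.domQ u p' chart') v' at hv'
      rw [isProjQMapOn_iff] at hv'
      apply huniq
      intro U hU U' hU' hle
      rw [← θ_hom_j u p' chart' hP' U hU U' hU' hle, Category.assoc, hv' U hU U' hU' hle]
  · intro U hU U' hU' hle r r' hle'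
    have hcomm := Groth.Agent.H41.RelProjQMap.gradedAt_comm g 𝒮 𝒮' u U hU U' hU' hle
      (Y.basicOpen r) (hU.basicOpen r) (Y'.basicOpen r') (hU'.basicOpen r') hle'
      (Y.basicOpen_le r) (Y'.basicOpen_le r')
    have hab : (θ u p' chart' hP' (Y.basicOpen r) (hU.basicOpen r) (Y'.basicOpen r')
          (hU'.basicOpen r') hle').hom ≫
        (RelCone.domOpen (u.gradedAt (Y.basicOpen r) (hU.basicOpen r) (Y'.basicOpen r')
          (hU'.basicOpen r') hle')).ι ≫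
        Proj.map (𝒮'.res hU' (hU'.basicOpen r') (Y'.basicOpen_le r'))
          (𝒮'.irrelevant_le_map U' hU' r') =
        ((RelProj.domQ u p' chart' : Scheme.{u}).homOfLE
          ((fQ u p' chart').preimage_mono (Y'.basicOpen_le r')) ≫
          (θ u p' chart' hP' U hU U' hU' hle).hom) ≫
        (RelCone.domOpen (u.gradedAt U hU U' hU' hle)).ι := by
      rw [← cancel_mono (RelProj.emb p' chart' U' hU')]
      simp only [Category.assoc]
      rw [RelProj.map_res_emb hP' U' hU' r', ← j_ι, ← j_ι, θ_hom_j_assoc, θ_hom_j_assoc,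
        Scheme.homOfLE_ι_assoc]
    have hsq := PMap.square_map (u.gradedAt U hU U' hU' hle)
      (u.gradedAt (Y.basicOpen r) (hU.basicOpen r) (Y'.basicOpen r') (hU'.basicOpen r') hle')
      (𝒮.res hU (hU.basicOpen r) (Y.basicOpen_le r))
      (𝒮'.res hU' (hU'.basicOpen r') (Y'.basicOpen_le r'))
      (𝒮.irrelevant_le_map U hU r) (𝒮'.irrelevant_le_map U' hU' r') hcomm _ _ hab
    rw [← RelProj.map_res_emb hP U hU r, ← Category.assoc, ← Category.assoc, ← Category.assoc,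
      ← hsq]
    simp only [Category.assoc]

theorem strZero_comp (U : Y.Opens) (hU : IsAffineOpen U) (U' : Y'.Opens) (hU' : IsAffineOpen U')
    (hle : U' ≤ g ⁻¹ᵁ U) :
    𝒮.strZero U hU ≫ CommRingCat.ofHom (u.gradedAt U hU U' hU' hle).gradedZeroRingHom =
      g.appLE U U' hle ≫ 𝒮'.strZero U' hU' := by
  ext r
  exact congrArg (fun m => m.hom r) (u.toQHom.str_appLE U U' hle)

include hP in
theorem emb_comp_p (U : Y.Opens) (hU : IsAffineOpen U) :
    RelProj.emb p chart U hU ≫ p =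
      Proj.toSpecZero (𝒮.deg U hU) ≫ Spec.map (𝒮.strZero U hU) ≫ hU.fromSpec := by
  rw [RelProj.emb, Category.assoc, ← hP.chart_over U hU, Iso.inv_hom_id_assoc]

include hP hP' in
/-- `Proj(u)` lies over `g`. -/
theorem comp_p (v : (RelProj.domQ u p' chart' : Scheme.{u}) ⟶ P)
    (hv : RelProj.IsProjQMapOn u p chart p' chart' (RelProj.domQ u p' chart') v) :
    v ≫ p = (RelProj.domQ u p' chart').ι ≫ p' ≫ g := by
  rw [isProjQMapOn_iff] at hv
  apply PairGlue.hom_ext (fQ u p' chart') g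
  rintro ⟨⟨⟨U, hU⟩, ⟨U', hU'⟩⟩, hle⟩
  change ((fQ u p' chart') ⁻¹ᵁ U').ι ≫ _ = ((fQ u p' chart') ⁻¹ᵁ U').ι ≫ _
  rw [← θ_hom_j u p' chart' hP' U hU U' hU' hle]
  simp only [Category.assoc]
  congr 1
  rw [reassoc_of% (hv U hU U' hU' hle), j_ι_assoc, emb_comp_p p chart hP U hU,
    reassoc_of% (emb_comp_p p' chart' hP' U' hU'), PMap.map_toSpecZero_assoc,
    ← IsAffineOpen.SpecMap_appLE_fromSpec g hU hU' hle, ← Spec.map_comp_assoc,
    ← Spec.map_comp_assoc, strZero_comp]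

end Groth.Agent.H41.RelPMap2
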