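import Groth.Agent.H41.ProjZero
import Groth.Agent.H41.RelPMap2

/-!
# Pointwise statements for the charts of a relative `Proj` (helper41)
-/

set_option autoImplicit false
universe u
open CategoryTheory CategoryTheory.Limits AlgebraicGeometry Opposite TopologicalSpace
  HomogeneousLocalization
open scoped HomogeneousIdeal

namespace Groth.Agent.H41.RelProjPoint

variable {S P : Scheme.{u}} {𝒮 : RelProj.QCGrAlg S} {p : P ⟶ S}
  {chart : ∀ (U : S.Opens) (hU : IsAffineOpen U),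
    (((p ⁻¹ᵁ U : P.Opens) : Scheme.{u}) ≅ Proj (𝒮.deg U hU))}
  (hP : RelProj.IsRelProj 𝒮 p chart)

include hP in
/-- The charts over `U` and over a basic open `D(r) ⊆ U` are related by `Proj` of the restriction map. -/
theorem chart_apply_basicOpen (U : S.Opens) (hU : IsAffineOpen U) (r : Γ(S, U)) (z : P)
    (hz' : z ∈ p ⁻¹ᵁ (S.basicOpen r)) :
    (chart U hU).hom ⟨z, p.preimage_mono (S.basicOpen_le r) hz'⟩ =
      (Proj.map (𝒮.res hU (hU.basicOpen r) (S.basicOpen_le r)) (𝒮.irrelevant_le_map U hU r))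
        ((chart (S.basicOpen r) (hU.basicOpen r)).hom ⟨z, hz'⟩) := by
  have := hP.chart_res U hU r
  have h2 := congrArg (fun m : ((p ⁻¹ᵁ (S.basicOpen r) : P.Opens) : Scheme.{u}) ⟶ _ =>
    m ⟨z, hz'⟩) this
  simp only [Scheme.Hom.comp_apply] at h2
  rw [Scheme.homOfLE_apply'] at h2
  exact h2

include hP in
theorem chart_mem_basicOpen_res_iff (U : S.Opens) (hU : IsAffineOpen U) (r : Γ(S, U)) (z : P)
    (hz' : z ∈ p ⁻¹ᵁ (S.basicOpen r)) (t : 𝒮.presheaf.obj (op U)) :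
    (chart U hU).hom ⟨z, p.preimage_mono (S.basicOpen_le r) hz'⟩ ∈ Proj.basicOpen (𝒮.deg U hU) t ↔
      (chart (S.basicOpen r) (hU.basicOpen r)).hom ⟨z, hz'⟩ ∈
        Proj.basicOpen (𝒮.deg (S.basicOpen r) (hU.basicOpen r))
          ((𝒮.presheaf.map (homOfLE (S.basicOpen_le r)).op).hom t) := by
  rw [chart_apply_basicOpen hP U hU r z hz']
  rfl

include hP in
/-- `p z` lies in `D(c)` iff the chart of `z` lies in `D₊(c)`. -/
theorem apply_mem_basicOpen_iff (U : S.Opens) (hU : IsAffineOpen U) (c : Γ(S, U)) (z : P)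
    (hz : z ∈ p ⁻¹ᵁ U) :
    p z ∈ S.basicOpen c ↔
      (chart U hU).hom ⟨z, hz⟩ ∈ Proj.basicOpen (𝒮.deg U hU) ((𝒮.str.app (op U)).hom c) := by
  set y := (chart U hU).hom ⟨z, hz⟩ with hy
  have h1 := congrArg (fun m : ((p ⁻¹ᵁ U : P.Opens) : Scheme.{u}) ⟶ S => m ⟨z, hz⟩) (hP.chart_over U hU)
  simp only [Scheme.Hom.comp_apply] at h1
  have h1' : p z = hU.fromSpec ((Spec.map (𝒮.strZero U hU)) ((Proj.toSpecZero (𝒮.deg U hU)) y)) := h1.symm
  rw [h1']
  have e1 : hU.fromSpec ((Spec.map (𝒮.strZero U hU)) ((Proj.toSpecZero (𝒮.deg U hU)) y)) ∈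
      S.basicOpen c ↔
      (Spec.map (𝒮.strZero U hU)) ((Proj.toSpecZero (𝒮.deg U hU)) y) ∈
        hU.fromSpec ⁻¹ᵁ (S.basicOpen c) := Iff.rfl
  have e1' : hU.fromSpec ⁻¹ᵁ (S.basicOpen c) = PrimeSpectrum.basicOpen c :=
    hU.fromSpec_preimage_basicOpen c
  have e2 : (Spec.map (𝒮.strZero U hU)) ((Proj.toSpecZero (𝒮.deg U hU)) y) ∈
      (PrimeSpectrum.basicOpen c : (Spec Γ(S, U)).Opens) ↔
      y ∈ (Proj.toSpecZero (𝒮.deg U hU)) ⁻¹ᵁ
        (PrimeSpectrum.basicOpen ((𝒮.strZero U hU).hom c)) := Iff.rfl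
  have e3 := SetLike.ext_iff.mp
    (Groth.Agent.H41.ProjZero.toSpecZero_preimage_basicOpen (𝒮.deg U hU) ((𝒮.strZero U hU).hom c)) y
  exact e1.trans ((SetLike.ext_iff.mp e1' _).trans (e2.trans e3))

end Groth.Agent.H41.RelProjPoint
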