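import Groth.Agent.H41.SymInvertible
import Groth.Agent.H41.RelProjPoint
import Groth.Agent.H41.ConeFibre2
import Groth.Agent.H44.PullUnit

/-!
# Local analysis of `Proj(Sym L)` for an invertible module `L` (helper41)

* `closure_eq_top` : the graded symmetric algebra is generated in degrees `0` and `1` over affine opens.
* `mem_basicOpen_of_deg_le_span` : if `𝒮(V)_n ⊆ (t)` then `D₊(t) = Proj 𝒮(V)`.
* `exists_coeff` : over an affine open where `L` is free on `e`, every element of degree `n` is `c · j(e)^n`.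
* `exists_affine_deg_le_span` : if the chart of `z` lies in `D₊(t)`, `t` of degree `n`, then `pL z` has an affine
  neighbourhood `V''` with `𝒮L(V'')_n ⊆ (t|V'')`.
-/

set_option autoImplicit false
universe u

namespace Groth.Agent.H41.SymInvLocal

open CategoryTheory CategoryTheory.Limits AlgebraicGeometry TopologicalSpace Opposite RelSpec
open Groth.Agent.H41.SymRing Groth.Agent.H41.SymSheaf Groth.Agent.H41.SymStruct
open Groth.Agent.H41.SymInvertible Groth.Agent.H41.RelProjPoint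

variable {X : Scheme.{u}} (L : X.Modules) [L.IsQuasicoherent]
  (𝒮L : RelProj.QCGrAlg X) (j : L ⟶ 𝒮L.toModule) (hj : RelProj.IsGrSymAlg L 𝒮L j)

include hj in
theorem closure_eq_top (V : X.Opens) (hV : IsAffineOpen V) :
    Subring.closure (((𝒮L.deg V hV 0 : AddSubgroup (𝒮L.presheaf.obj (op V))) : Set (𝒮L.presheaf.obj (op V))) ∪
      ((𝒮L.deg V hV 1 : AddSubgroup (𝒮L.presheaf.obj (op V))) : Set (𝒮L.presheaf.obj (op V)))) = ⊤ := by
  rw [eq_top_iff]
  rintro b -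
  obtain ⟨y, rfl⟩ := (bijective_liftApp L 𝒮L.toQCAlg j hj.1 V hV).2 b
  induction y using SymmetricAlgebra.induction with
  | algebraMap r =>
    rw [liftApp_algebraMap]
    exact Subring.subset_closure (Or.inl (𝒮L.str_mem V hV r))
  | ι x =>
    rw [liftApp_ι]
    exact Subring.subset_closure (Or.inr (hj.2 V hV x))
  | mul a b ha hb => rw [map_mul]; exact Subring.mul_mem _ ha hb
  | add a b ha hb => rw [map_add]; exact Subring.add_mem _ ha hb

include hj in
theorem mem_basicOpen_of_deg_le_span (V : X.Opens) (hV : IsAffineOpen V) (n : ℕ)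
    (t : 𝒮L.presheaf.obj (op V))
    (h : ((𝒮L.deg V hV n : AddSubgroup (𝒮L.presheaf.obj (op V))) : Set (𝒮L.presheaf.obj (op V))) ⊆
      (Ideal.span {t} : Set (𝒮L.presheaf.obj (op V))))
    (y : Proj (𝒮L.deg V hV)) : y ∈ Proj.basicOpen (𝒮L.deg V hV) t := by
  obtain ⟨f, hf, hfy⟩ := Groth.Agent.H41.ConeFibre.exists_deg_one_notMem' (𝒮L.deg V hV)
    (closure_eq_top L 𝒮L j hj V hV) y
  rw [Proj.mem_basicOpen] at hfy ⊢
  intro ht
  apply hfy
  have hfn : f ^ n ∈ 𝒮L.deg V hV n := by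
    have := SetLike.pow_mem_graded n hf
    rwa [smul_eq_mul, mul_one] at this
  have hmem : f ^ n ∈ y.asHomogeneousIdeal.toIdeal :=
    ((Ideal.span_singleton_le_iff_mem _).mpr ht) (h hfn)
  exact y.isPrime.mem_of_pow_mem n hmem

include hj in
theorem exists_coeff (V : X.Opens) (hV : IsAffineOpen V) (e : Γ(L, V))
    (he : Function.Bijective (fun r : Γ(X, V) => r • e)) (n : ℕ) (b : 𝒮L.presheaf.obj (op V))
    (hb : b ∈ 𝒮L.deg V hV n) :
    ∃ c : Γ(X, V), b = (𝒮L.str.app (op V)).hom c * (jSec L 𝒮L.toQCAlg j V e) ^ n := by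
  classical
  obtain ⟨N, c, hbc⟩ := exists_poly L 𝒮L.toQCAlg j hj.1 V hV e he b
  have hT : jSec L 𝒮L.toQCAlg j V e ∈ 𝒮L.deg V hV 1 := hj.2 V hV e
  have hterm : ∀ i, (𝒮L.str.app (op V)).hom (c i) * (jSec L 𝒮L.toQCAlg j V e) ^ i ∈ 𝒮L.deg V hV i := by
    intro i
    have h1 := 𝒮L.str_mem V hV (c i)
    have h2 : (jSec L 𝒮L.toQCAlg j V e) ^ i ∈ 𝒮L.deg V hV i := by
      have := SetLike.pow_mem_graded i hT
      rwa [smul_eq_mul, mul_one] at this
    have := SetLike.mul_mem_graded (A := 𝒮L.deg V hV) h1 h2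
    rwa [zero_add] at this
  have hproj : ∀ i, GradedRing.proj (𝒮L.deg V hV) n
      ((𝒮L.str.app (op V)).hom (c i) * (jSec L 𝒮L.toQCAlg j V e) ^ i) =
      if i = n then (𝒮L.str.app (op V)).hom (c i) * (jSec L 𝒮L.toQCAlg j V e) ^ i else 0 := by
    intro i
    rw [GradedRing.proj_apply]
    split_ifs with h
    · subst h
      exact DirectSum.decompose_of_mem_same _ (hterm i)
    · exact DirectSum.decompose_of_mem_ne _ (hterm i) h
  have hb' : b = GradedRing.proj (𝒮L.deg V hV) n b := by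
    rw [GradedRing.proj_apply, DirectSum.decompose_of_mem_same _ hb]
  have hsum : b = ∑ i ∈ Finset.range N,
      if i = n then (𝒮L.str.app (op V)).hom (c i) * (jSec L 𝒮L.toQCAlg j V e) ^ i else 0 := by
    conv_lhs => rw [hb', hbc, map_sum]
    exact Finset.sum_congr rfl (fun i _ => hproj i)
  rw [Finset.sum_ite_eq' (Finset.range N) n] at hsum
  split_ifs at hsum with h
  · exact ⟨c n, hsum⟩
  · exact ⟨0, by rw [hsum, map_zero, zero_mul]⟩

omit [L.IsQuasicoherent] in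
theorem jSec_res {V W : X.Opens} (hWV : W ≤ V) (e : Γ(L, V)) :
    (𝒮L.presheaf.map (homOfLE hWV).op).hom (jSec L 𝒮L.toQCAlg j V e) =
      jSec L 𝒮L.toQCAlg j W (L.presheaf.map (homOfLE hWV).op e) :=
  (Groth.Agent.H44.hom_app_resLE j hWV e).symm

include hj in
/-- If the chart of `z` over `V` lies in `D₊(t)` with `t` homogeneous of degree `n`, then `pL z` has an affine open
neighbourhood `V'' ⊆ V` over which the degree-`n` part of `𝒮L` lies in the ideal generated by `t`. -/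
theorem exists_affine_deg_le_span (hL : PicF.IsInvertible L) {PL : Scheme.{u}} (pL : PL ⟶ X)
    (chartL : ∀ (U : X.Opens) (hU : IsAffineOpen U),
      (((pL ⁻¹ᵁ U : PL.Opens) : Scheme.{u}) ≅ Proj (𝒮L.deg U hU)))
    (hPL : RelProj.IsRelProj 𝒮L pL chartL)
    (V : X.Opens) (hV : IsAffineOpen V) (z : PL) (hz : z ∈ pL ⁻¹ᵁ V) (n : ℕ)
    (t : 𝒮L.presheaf.obj (op V)) (ht : t ∈ 𝒮L.deg V hV n)
    (hzt : (chartL V hV).hom ⟨z, hz⟩ ∈ Proj.basicOpen (𝒮L.deg V hV) t) :
    ∃ (V'' : X.Opens) (hV'' : IsAffineOpen V'') (hle : V'' ≤ V), pL z ∈ V'' ∧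
      ((𝒮L.deg V'' hV'' n : AddSubgroup (𝒮L.presheaf.obj (op V''))) : Set (𝒮L.presheaf.obj (op V''))) ⊆
        (Ideal.span {(𝒮L.presheaf.map (homOfLE hle).op).hom t} : Set (𝒮L.presheaf.obj (op V''))) := by
  obtain ⟨U₀, hxU₀, σ, hσ⟩ := Groth.Agent.H8.exists_isFreeGen_of_isInvertible hL (pL z)
  obtain ⟨a, haU, hxa⟩ := hV.exists_basicOpen_le ⟨pL z, hxU₀⟩ hz
  have hV₁ : IsAffineOpen (X.basicOpen a) := hV.basicOpen a
  have hV₁V : X.basicOpen a ≤ V := X.basicOpen_le a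
  have hz₁ : z ∈ pL ⁻¹ᵁ (X.basicOpen a) := hxa
  have he : Function.Bijective (fun r : Γ(X, X.basicOpen a) => r • L.presheaf.map (homOfLE haU).op σ) :=
    hσ (X.basicOpen a) haU
  have ht₁ : (𝒮L.presheaf.map (homOfLE hV₁V).op).hom t ∈ 𝒮L.deg (X.basicOpen a) hV₁ n :=
    𝒮L.map_mem hV hV₁ hV₁V ht
  have hz₁t : (chartL (X.basicOpen a) hV₁).hom ⟨z, hz₁⟩ ∈
      Proj.basicOpen (𝒮L.deg (X.basicOpen a) hV₁) ((𝒮L.presheaf.map (homOfLE hV₁V).op).hom t) :=
    (chart_mem_basicOpen_res_iff hPL V hV a z hz₁ t).mp hzt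
  obtain ⟨c, hc⟩ := exists_coeff L 𝒮L j hj (X.basicOpen a) hV₁ _ he n _ ht₁
  have hzc : pL z ∈ X.basicOpen c := by
    rw [apply_mem_basicOpen_iff hPL (X.basicOpen a) hV₁ c z hz₁]
    rw [hc, Proj.basicOpen_mul] at hz₁t
    exact hz₁t.1
  have hV'' : IsAffineOpen (X.basicOpen c) := hV₁.basicOpen c
  have hV''V₁ : X.basicOpen c ≤ X.basicOpen a := X.basicOpen_le c
  refine ⟨X.basicOpen c, hV'', hV''V₁.trans hV₁V, hzc, ?_⟩
  intro b hb
  have he'' : Function.Bijective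
      (fun r : Γ(X, X.basicOpen c) => r • L.presheaf.map (homOfLE (hV''V₁.trans haU)).op σ) :=
    hσ (X.basicOpen c) (hV''V₁.trans haU)
  obtain ⟨c'', hc''⟩ := exists_coeff L 𝒮L j hj (X.basicOpen c) hV'' _ he'' n b hb
  have hunit : IsUnit ((X.presheaf.map (homOfLE hV''V₁).op).hom c) :=
    X.toRingedSpace.isUnit_res_basicOpen c
  obtain ⟨u, hu⟩ := hunit
  -- the restriction of `t`
  have hres : (𝒮L.presheaf.map (homOfLE (hV''V₁.trans hV₁V)).op).hom t =
      (𝒮L.str.app (op (X.basicOpen c))).hom (X.presheaf.map (homOfLE hV''V₁).op c) *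
        (jSec L 𝒮L.toQCAlg j (X.basicOpen c)
          (L.presheaf.map (homOfLE (hV''V₁.trans haU)).op σ)) ^ n := by
    have h1 : (𝒮L.presheaf.map (homOfLE (hV''V₁.trans hV₁V)).op).hom t =
        (𝒮L.presheaf.map (homOfLE hV''V₁).op).hom ((𝒮L.presheaf.map (homOfLE hV₁V).op).hom t) := by
      rw [← CommRingCat.comp_apply, ← Functor.map_comp]
      rfl
    rw [h1, hc, map_mul, map_pow, jSec_res, Groth.Agent.H44.resM_comp]
    congr 1
    exact str_res (homOfLE hV''V₁) c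
  rw [SetLike.mem_coe, Ideal.mem_span_singleton']
  refine ⟨(𝒮L.str.app (op (X.basicOpen c))).hom (c'' * ((u⁻¹ : (Γ(X, X.basicOpen c))ˣ) : Γ(X, X.basicOpen c))), ?_⟩
  have hcu : (X.presheaf.map (homOfLE hV''V₁).op).hom c = (u : Γ(X, X.basicOpen c)) := hu.symm
  rw [hres, hc'', ← mul_assoc, ← map_mul, mul_assoc c'', hcu, Units.inv_mul, mul_one]

end Groth.Agent.H41.SymInvLocal
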