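import Groth.Agent.H41.SymLiftOver
import Groth.Agent.H41.SymInvLocal
import Groth.Agent.H18.PUP.LocalBasis

/-!
# The canonical graded `q`-morphism `Sym(q_*L) → q_*Sym(L)` (helper41)

For `q : X ⟶ Y`, `L` on `X` with graded symmetric algebra `𝒮L` (`jL`), `E = q_*L` quasi-coherent with graded symmetric
algebra `𝒜` (`jE`): a graded `q`-morphism `u : 𝒜 → q_*𝒮L` with `u (jE x) = jL x` (`IsCanon`), its existence (`exists_canon`), and its
values over affine pairs (`appLE_jE`).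
-/

set_option autoImplicit false
universe u

namespace Groth.Agent.H41.CanonU

open CategoryTheory CategoryTheory.Limits AlgebraicGeometry TopologicalSpace Opposite RelSpec
open Groth.Agent.H18 Groth.Agent.H18.PUP Groth.Agent.H44

variable {X Y : Scheme.{u}} (q : X ⟶ Y) (L : X.Modules)
  (𝒮L : RelProj.QCGrAlg X) (jL : L ⟶ 𝒮L.toModule)
  (𝒜 : RelProj.QCGrAlg Y) (jE : (Scheme.Modules.pushforward q).obj L ⟶ 𝒜.toModule)
  (u : RelProj.QGrHom q 𝒜 𝒮L)

/-- `u` extends the identification `q_*L = (q_*𝒮L)_1`. -/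
def IsCanon : Prop :=
  ∀ (U : Y.Opens), IsAffineOpen U → ∀ (x : Γ((Scheme.Modules.pushforward q).obj L, U)),
    (u.app U).hom ((jE.app U) x) = (jL.app (q ⁻¹ᵁ U)) x

variable {q L 𝒮L jL 𝒜 jE u}

theorem IsCanon.appLE_jE (hu : IsCanon q L 𝒮L jL 𝒜 jE u) (U : Y.Opens) (hU : IsAffineOpen U) (V : X.Opens) (hle : V ≤ q ⁻¹ᵁ U)
    (x : Γ((Scheme.Modules.pushforward q).obj L, U)) :
    (u.appLE U V hle).hom ((jE.app U) x) = (jL.app V) (mres L hle x) := by
  change (𝒮L.presheaf.map (homOfLE hle).op).hom ((u.app U).hom ((jE.app U) x)) = _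
  rw [hu U hU x]
  exact (hom_app_resLE jL hle x).symm

variable (q L 𝒮L jL 𝒜 jE)

/-- the counit on a pulled back section is the section itself -/
theorem counit_pullSect (U : Y.Opens) (x : Γ((Scheme.Modules.pushforward q).obj L, U)) :
    ((Scheme.Modules.pullbackPushforwardAdjunction q).counit.app L).app (q ⁻¹ᵁ U)
      (OmegaSh.pullSect q ((Scheme.Modules.pushforward q).obj L) U x) = x := by
  have h := (Scheme.Modules.pullbackPushforwardAdjunction q).right_triangle_components L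
  exact congr(($h).app U x)

theorem exists_canon [((Scheme.Modules.pushforward q).obj L).IsQuasicoherent]
    (hjL : ∀ (V : X.Opens) (hV : IsAffineOpen V) (x : Γ(L, V)), (jL.app V).hom x ∈ 𝒮L.deg V hV 1)
    (h𝒜 : RelProj.IsGrSymAlg ((Scheme.Modules.pushforward q).obj L) 𝒜 jE) :
    ∃ u : RelProj.QGrHom q 𝒜 𝒮L, IsCanon q L 𝒮L jL 𝒜 jE u := by
  refine ⟨Groth.Agent.H41.SymLiftOver.uGr q ((Scheme.Modules.pushforward q).obj L) 𝒜 jE h𝒜 𝒮L
    ((Scheme.Modules.pullbackPushforwardAdjunction q).counit.app L ≫ jL)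
    (fun U' hU' x => hjL U' hU' _), ?_⟩
  intro U hU x
  rw [Groth.Agent.H41.SymLiftOver.uGr_j q ((Scheme.Modules.pushforward q).obj L) 𝒜 jE h𝒜 𝒮L _ _ U hU x]
  change (jL.app (q ⁻¹ᵁ U)).hom (((Scheme.Modules.pullbackPushforwardAdjunction q).counit.app L).app (q ⁻¹ᵁ U)
    (OmegaSh.pullSect q ((Scheme.Modules.pushforward q).obj L) U x)) = _
  rw [counit_pullSect]

end Groth.Agent.H41.CanonU
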