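import Groth.Prelude.Def_RelSpec
import Groth.Agent.H18.RelSpecGamma
import Groth.Agent.H41.Glue

/-!
# The morphism of relative spectra induced by a `q`-morphism of quasi-coherent algebras
-/

set_option autoImplicit false
universe u

open CategoryTheory CategoryTheory.Limits AlgebraicGeometry TopologicalSpace Opposite

namespace Groth.Agent.H41.SpecQMor

/-- A morphism from an affine scheme into an open `W` of `X`, as a morphism into `W`. -/
noncomputable def liftOpen {X : Scheme.{u}} {R : CommRingCat.{u}} (k : Spec R ⟶ X) (W : X.Opens)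
    (hk : ⊤ ≤ k ⁻¹ᵁ W) : Spec R ⟶ (W : Scheme.{u}) :=
  (Scheme.topIso (Spec R)).inv ≫ k.resLE W ⊤ hk

theorem liftOpen_ι {X : Scheme.{u}} {R : CommRingCat.{u}} (k : Spec R ⟶ X) (W : X.Opens)
    (hk : ⊤ ≤ k ⁻¹ᵁ W) : liftOpen k W hk ≫ W.ι = k := by
  simp [liftOpen]

theorem liftOpen_toSpecΓ {X : Scheme.{u}} {R : CommRingCat.{u}} (k : Spec R ⟶ X) (W : X.Opens)
    (hk : ⊤ ≤ k ⁻¹ᵁ W) :
    liftOpen k W hk ≫ W.toSpecΓ = Spec.map (k.appLE W ⊤ hk ≫ (Scheme.ΓSpecIso R).hom) := by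
  rw [liftOpen, Category.assoc, ← Scheme.Opens.toSpecΓ_SpecMap_appLE, Scheme.Opens.toSpecΓ_top,
    Spec.map_comp]
  have h1 : (Spec R).toSpecΓ = Spec.map (Scheme.ΓSpecIso R).hom := by
    have := toSpecΓ_SpecMap_ΓSpecIso_inv R
    rw [← cancel_mono (Spec.map (Scheme.ΓSpecIso R).inv), this, ← Spec.map_comp,
      Iso.inv_hom_id, Spec.map_id]
  rw [h1]
  simp


section

variable {S S' : Scheme.{u}} (q : S' ⟶ S) (B : RelSpec.QCAlg S) (B' : RelSpec.QCAlg S')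
  (u : B.presheaf ⟶ q.base _* B'.presheaf)

/-- Inverse of `gammaMap` over an open. -/
noncomputable def gammaInv (V : S'.Opens) : B'.presheaf.obj (op V) ⟶ Γ(B'.spec, B'.π ⁻¹ᵁ V) :=
  have := Groth.Agent.H18.isIso_gammaMap B'
  inv (B'.gammaMap.app (op V))

theorem gammaInv_gammaMap (V : S'.Opens) :
    gammaInv B' V ≫ B'.gammaMap.app (op V) = 𝟙 _ := by
  have := Groth.Agent.H18.isIso_gammaMap B'
  exact IsIso.inv_hom_id _

theorem gammaMap_gammaInv (V : S'.Opens) :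
    B'.gammaMap.app (op V) ≫ gammaInv B' V = 𝟙 _ := by
  have := Groth.Agent.H18.isIso_gammaMap B'
  exact IsIso.hom_inv_id _

theorem gammaInv_naturality {V' V : S'.Opens} (h : V' ≤ V) :
    B'.presheaf.map (homOfLE h).op ≫ gammaInv B' V' =
      gammaInv B' V ≫ B'.spec.presheaf.map (homOfLE (B'.π.preimage_mono h)).op := by
  have nat := B'.gammaMap.naturality (homOfLE h).op
  have := Groth.Agent.H18.isIso_gammaMap B'
  rw [← cancel_epi (B'.gammaMap.app (op V)), ← Category.assoc, ← nat, Category.assoc,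
    gammaMap_gammaInv, ← Category.assoc, gammaMap_gammaInv, Category.comp_id, Category.id_comp]
  rfl

/-- The ring map `B(U) ⟶ Γ(Spec B', π'⁻¹ q⁻¹ U)` induced by `u`. -/
noncomputable def sec (U : S.Opens) :
    B.presheaf.obj (op U) ⟶ Γ(B'.spec, (B'.π ≫ q) ⁻¹ᵁ U) :=
  (u.app (op U) : B.presheaf.obj (op U) ⟶ B'.presheaf.obj (op (q ⁻¹ᵁ U))) ≫ gammaInv B' (q ⁻¹ᵁ U)

theorem sec_naturality {U₁ U : S.Opens} (h : U₁ ≤ U) :
    B.presheaf.map (homOfLE h).op ≫ sec q B B' u U₁ =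
      sec q B B' u U ≫
        B'.spec.presheaf.map (homOfLE ((B'.π ≫ q).preimage_mono h)).op := by
  have nat := u.naturality (homOfLE h).op
  have nat' : B.presheaf.map (homOfLE h).op ≫
      (u.app (op U₁) : B.presheaf.obj (op U₁) ⟶ B'.presheaf.obj (op (q ⁻¹ᵁ U₁))) =
      (u.app (op U) : B.presheaf.obj (op U) ⟶ B'.presheaf.obj (op (q ⁻¹ᵁ U))) ≫
        B'.presheaf.map (homOfLE (q.preimage_mono h)).op := nat
  have e := gammaInv_naturality B' (q.preimage_mono h)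
  change B.presheaf.map (homOfLE h).op ≫
      ((u.app (op U₁) : B.presheaf.obj (op U₁) ⟶ B'.presheaf.obj (op (q ⁻¹ᵁ U₁))) ≫
        gammaInv B' (q ⁻¹ᵁ U₁)) =
      ((u.app (op U) : B.presheaf.obj (op U) ⟶ B'.presheaf.obj (op (q ⁻¹ᵁ U))) ≫
        gammaInv B' (q ⁻¹ᵁ U)) ≫
        B'.spec.presheaf.map (homOfLE (B'.π.preimage_mono (q.preimage_mono h))).op
  rw [← Category.assoc, nat', Category.assoc, e, Category.assoc]

/-- The morphism over an affine open `U` of `S`. -/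
noncomputable def loc (U : S.Opens) (hU : IsAffineOpen U) :
    (((B'.π ≫ q) ⁻¹ᵁ U : B'.spec.Opens) : Scheme.{u}) ⟶ B.spec :=
  ((B'.π ≫ q) ⁻¹ᵁ U).toSpecΓ ≫ Spec.map (sec q B B' u U) ≫ B.ι U hU

/-- An affine open as an object of the affine Zariski site. -/
def mkAff {Y : Scheme.{u}} (U : Y.Opens) (hU : IsAffineOpen U) : Y.AffineZariskiSite := ⟨U, hU⟩

theorem ι_res_basicOpen (U : S.Opens) (hU : IsAffineOpen U) (r : Γ(S, U)) :
    Spec.map (B.presheaf.map (homOfLE (S.basicOpen_le r)).op) ≫ B.ι U hU =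
      B.ι (S.basicOpen r) (hU.basicOpen r) :=
  B.ι_res (Scheme.AffineZariskiSite.basicOpen_le (mkAff U hU) r).hom

theorem loc_compat (U : S.Opens) (hU : IsAffineOpen U) (r : Γ(S, U)) :
    B'.spec.homOfLE ((B'.π ≫ q).preimage_mono (S.basicOpen_le r)) ≫ loc q B B' u U hU =
      loc q B B' u (S.basicOpen r) (hU.basicOpen r) := by
  have e1 := (Scheme.Opens.toSpecΓ_SpecMap_presheaf_map _ _
    ((B'.π ≫ q).preimage_mono (S.basicOpen_le r))).symm
  rw [loc, loc, reassoc_of% e1, ← Spec.map_comp_assoc, ← sec_naturality q B B' u (S.basicOpen_le r),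
    Spec.map_comp_assoc, ι_res_basicOpen B U hU r]


theorem top_le_chart (U : S.Opens) (U' : S'.Opens) (hU' : IsAffineOpen U') (hle : U' ≤ q ⁻¹ᵁ U) :
    (⊤ : (Spec (B'.presheaf.obj (op U'))).Opens) ≤ B'.ι U' hU' ⁻¹ᵁ ((B'.π ≫ q) ⁻¹ᵁ U) :=
  (B'.top_le_preimage U' hU').trans
    ((B'.ι U' hU').preimage_mono (B'.π.preimage_mono hle))

theorem top_le_chart' (U : S.Opens) (U' : S'.Opens) (hU' : IsAffineOpen U') (hle : U' ≤ q ⁻¹ᵁ U) :
    (⊤ : (Spec (B'.presheaf.obj (op U'))).Opens) ≤ B'.ι U' hU' ⁻¹ᵁ (B'.π ⁻¹ᵁ (q ⁻¹ᵁ U)) :=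
  (B'.top_le_preimage U' hU').trans
    ((B'.ι U' hU').preimage_mono (B'.π.preimage_mono hle))

theorem gammaInv_appLE (U : S.Opens) (U' : S'.Opens) (hU' : IsAffineOpen U')
    (hle : U' ≤ q ⁻¹ᵁ U) :
    gammaInv B' (q ⁻¹ᵁ U) ≫ (B'.ι U' hU').appLE (B'.π ⁻¹ᵁ (q ⁻¹ᵁ U)) ⊤
      (top_le_chart' q B' U U' hU' hle) ≫ (Scheme.ΓSpecIso (B'.presheaf.obj (op U'))).hom =
      B'.presheaf.map (homOfLE hle).op := by
  have nat := B'.gammaMap.naturality (homOfLE hle).op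
  have : IsIso (B'.gammaMap.app (op (q ⁻¹ᵁ U))) := by
    have := Groth.Agent.H18.isIso_gammaMap B'
    infer_instance
  rw [← cancel_epi (B'.gammaMap.app (op (q ⁻¹ᵁ U))), ← Category.assoc, gammaMap_gammaInv,
    Category.id_comp, ← nat, B'.gammaMap_app U' hU', RelSpec.QCAlg.gammaAff, ← Category.assoc]
  congr 1
  exact (Scheme.Hom.map_appLE (B'.ι U' hU') (B'.top_le_preimage U' hU')
    (homOfLE (B'.π.preimage_mono hle)).op).symm

theorem chart_of_loc (v : B'.spec ⟶ B.spec) (U : S.Opens) (hU : IsAffineOpen U)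
    (hv : ((B'.π ≫ q) ⁻¹ᵁ U).ι ≫ v = loc q B B' u U hU)
    (U' : S'.Opens) (hU' : IsAffineOpen U') (hle : U' ≤ q ⁻¹ᵁ U) :
    B'.ι U' hU' ≫ v =
      Spec.map ((u.app (op U) : B.presheaf.obj (op U) ⟶ B'.presheaf.obj (op (q ⁻¹ᵁ U))) ≫
        B'.presheaf.map (homOfLE hle).op) ≫ B.ι U hU := by
  have hk := top_le_chart q B' U U' hU' hle
  rw [← liftOpen_ι (B'.ι U' hU') _ hk, Category.assoc, hv, loc,
    reassoc_of% (liftOpen_toSpecΓ (B'.ι U' hU') _ hk), ← Spec.map_comp_assoc]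
  congr 2
  exact congrArg (fun z => (u.app (op U) : B.presheaf.obj (op U) ⟶
    B'.presheaf.obj (op (q ⁻¹ᵁ U))) ≫ z) (gammaInv_appLE q B' U U' hU' hle)

theorem hom_ext_charts {Z : Scheme.{u}} (a b : B'.spec ⟶ Z)
    (h : ∀ (U : S.Opens) (_ : IsAffineOpen U) (U' : S'.Opens) (hU' : IsAffineOpen U')
      (_ : U' ≤ q ⁻¹ᵁ U), B'.ι U' hU' ≫ a = B'.ι U' hU' ≫ b) : a = b := by
  let I : Type u := { V : S.Opens × S'.Opens // IsAffineOpen V.1 ∧ IsAffineOpen V.2 ∧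
    V.2 ≤ q ⁻¹ᵁ V.1 }
  let 𝒱 : Scheme.OpenCover.{u} B'.spec :=
    { I₀ := I
      X := fun i => Spec (B'.presheaf.obj (op i.1.2))
      f := fun i => B'.ι i.1.2 i.2.2.1
      mem₀ := by
        rw [Scheme.presieve₀_mem_precoverage_iff]
        refine ⟨fun x ↦ ?_, inferInstance⟩
        obtain ⟨U, hU, hxU, -⟩ := (Opens.isBasis_iff_nbhd.mp S.isBasis_affineOpens)
          (Opens.mem_top (q (B'.π x)))
        obtain ⟨U', hU', hxU', hU'U⟩ := (Opens.isBasis_iff_nbhd.mp S'.isBasis_affineOpens)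
          (show B'.π x ∈ q ⁻¹ᵁ U from hxU)
        refine ⟨⟨(U, U'), hU, hU', hU'U⟩, ?_⟩
        have hx : x ∈ B'.π ⁻¹ᵁ U' := hxU'
        rw [B'.π_preimage U' hU'] at hx
        exact hx }
  exact 𝒱.hom_ext _ _ fun i => h i.1.1 i.2.1 i.1.2 i.2.2.1 i.2.2.2


theorem lies_over (hu : B.str ≫ u = q.c ≫ (TopCat.Presheaf.pushforward CommRingCat.{u} q.base).map B'.str)
    (v : B'.spec ⟶ B.spec)
    (hv : ∀ (U : S.Opens) (hU : IsAffineOpen U) (U' : S'.Opens) (hU' : IsAffineOpen U')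
      (hle : U' ≤ q ⁻¹ᵁ U),
      B'.ι U' hU' ≫ v =
        Spec.map ((u.app (op U) : B.presheaf.obj (op U) ⟶ B'.presheaf.obj (op (q ⁻¹ᵁ U))) ≫
          B'.presheaf.map (homOfLE hle).op) ≫ B.ι U hU) :
    v ≫ B.π = B'.π ≫ q := by
  apply hom_ext_charts q B'
  intro U hU U' hU' hle
  rw [reassoc_of% (hv U hU U' hU' hle), B.ι_π, reassoc_of% (B'.ι_π U' hU'),
    ← IsAffineOpen.SpecMap_appLE_fromSpec q hU hU' hle, ← Spec.map_comp_assoc,
    ← Spec.map_comp_assoc]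
  congr 2
  have h1 := NatTrans.congr_app hu (op U)
  have h1' : B.str.app (op U) ≫
      (u.app (op U) : B.presheaf.obj (op U) ⟶ B'.presheaf.obj (op (q ⁻¹ᵁ U))) =
      q.app U ≫ B'.str.app (op (q ⁻¹ᵁ U)) := h1
  have h2 := B'.str.naturality (homOfLE hle).op
  rw [← Category.assoc, h1', Category.assoc, ← h2, Scheme.Hom.appLE, Category.assoc]

theorem main (hu : B.str ≫ u = q.c ≫ (TopCat.Presheaf.pushforward CommRingCat.{u} q.base).map B'.str) :
    (∃! v : B'.spec ⟶ B.spec,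
        ∀ (U : S.Opens) (hU : IsAffineOpen U) (U' : S'.Opens) (hU' : IsAffineOpen U')
          (hle : U' ≤ q ⁻¹ᵁ U),
          B'.ι U' hU' ≫ v =
            Spec.map ((u.app (op U) : B.presheaf.obj (op U) ⟶ B'.presheaf.obj (op (q ⁻¹ᵁ U))) ≫
              B'.presheaf.map (homOfLE hle).op) ≫ B.ι U hU) ∧
      ∀ v : B'.spec ⟶ B.spec,
        (∀ (U : S.Opens) (hU : IsAffineOpen U) (U' : S'.Opens) (hU' : IsAffineOpen U')
          (hle : U' ≤ q ⁻¹ᵁ U),
          B'.ι U' hU' ≫ v =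
            Spec.map ((u.app (op U) : B.presheaf.obj (op U) ⟶ B'.presheaf.obj (op (q ⁻¹ᵁ U))) ≫
              B'.presheaf.map (homOfLE hle).op) ≫ B.ι U hU) →
        v ≫ B.π = B'.π ≫ q := by
  refine ⟨?_, fun v hv => lies_over q B B' u hu v hv⟩
  obtain ⟨v, hv, -⟩ := Groth.Agent.H41.Glue.existsUnique_glue_of_basicOpen (B'.π ≫ q)
    (loc q B B' u) (loc_compat q B B' u)
  refine ⟨v, fun U hU U' hU' hle => chart_of_loc q B B' u v U hU (hv U hU) U' hU' hle, ?_⟩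
  intro v' hv'
  apply hom_ext_charts q B'
  intro U hU U' hU' hle
  rw [hv' U hU U' hU' hle, chart_of_loc q B B' u v U hU (hv U hU) U' hU' hle]

end

end Groth.Agent.H41.SpecQMor
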