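import Groth.Prelude.Def_RelSpec2
import Mathlib.AlgebraicGeometry.Morphisms.ClosedImmersion
import Mathlib.AlgebraicGeometry.Morphisms.Separated
import Groth.Agent.H41.SpecQMor

/-!
# Affine cones over a general base: the vertex section and the pointed cone
-/

set_option autoImplicit false
universe u

open CategoryTheory CategoryTheory.Limits AlgebraicGeometry TopologicalSpace Opposite
open scoped HomogeneousIdeal

namespace Groth.Agent.H41.Cone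

section unit

variable {Y : Scheme.{u}}

theorem isPullback_chart (A : RelSpec.QCAlg Y) (U : Y.Opens) (hU : IsAffineOpen U) :
    IsPullback (Spec.map (A.str.app (op U)) ≫ hU.isoSpec.inv) (A.ι U hU) U.ι A.π := by
  refine IsOpenImmersion.isPullback _ _ _ _ ?_ ?_
  · rw [A.ι_π, Category.assoc]
    rfl
  · rw [Scheme.Opens.opensRange_ι, A.π_preimage U hU]

/-- The relative spectrum of the structure sheaf is the base. -/
theorem isIso_unit_π (Y : Scheme.{u}) : IsIso (RelSpec.QCAlg.unit Y).π := by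
  let 𝒰 : Y.OpenCover := Y.openCoverOfIsOpenCover (fun U : Y.affineOpens => U.1)
    (iSup_affineOpens_eq_top Y)
  change MorphismProperty.isomorphisms Scheme (RelSpec.QCAlg.unit Y).π
  rw [IsZariskiLocalAtTarget.iff_of_openCover (P := MorphismProperty.isomorphisms Scheme) 𝒰]
  intro U
  have hpb := (isPullback_chart (RelSpec.QCAlg.unit Y) U.1 U.2).flip
  change IsIso (Limits.pullback.snd (RelSpec.QCAlg.unit Y).π (U.1 : Y.Opens).ι)
  have e : hpb.isoPullback.hom ≫ Limits.pullback.snd (RelSpec.QCAlg.unit Y).π (U.1 : Y.Opens).ι =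
      Spec.map ((RelSpec.QCAlg.unit Y).str.app (op U.1)) ≫ U.2.isoSpec.inv :=
    hpb.isoPullback_hom_snd
  have hiso : IsIso (Spec.map ((RelSpec.QCAlg.unit Y).str.app (op U.1)) ≫ U.2.isoSpec.inv) := by
    have : IsIso ((RelSpec.QCAlg.unit Y).str.app (op U.1)) := by
      change IsIso ((𝟙 Y.presheaf : Y.presheaf ⟶ Y.presheaf).app (op U.1))
      infer_instance
    infer_instance
  rw [← e] at hiso
  exact @IsIso.of_isIso_comp_left _ _ _ _ _ hpb.isoPullback.hom _ _ hiso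

end unit


section vertex

variable {Y : Scheme.{u}} (𝒮 : RelProj.QCGrAlg Y) (aug : 𝒮.toQCAlg ⟶ RelSpec.QCAlg.unit Y)

/-- The section of `Spec(𝒮) → Y` defined by a homomorphism `𝒮 → O_Y`. -/
noncomputable def vertex : Y ⟶ 𝒮.toQCAlg.spec :=
  have := isIso_unit_π Y
  inv (RelSpec.QCAlg.unit Y).π ≫ RelSpec.QCAlg.specMap aug

theorem fromSpec_inv_unit_π (U : Y.Opens) (hU : IsAffineOpen U) :
    have := isIso_unit_π Y
    hU.fromSpec ≫ inv (RelSpec.QCAlg.unit Y).π = (RelSpec.QCAlg.unit Y).ι U hU := by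
  have := isIso_unit_π Y
  rw [IsIso.comp_inv_eq]
  have h1 := (RelSpec.QCAlg.unit Y).ι_π U hU
  have h2 : Spec.map ((RelSpec.QCAlg.unit Y).str.app (op U)) ≫ hU.fromSpec = hU.fromSpec := by
    change Spec.map ((𝟙 Y.presheaf : Y.presheaf ⟶ Y.presheaf).app (op U)) ≫ hU.fromSpec = _
    rw [NatTrans.id_app, Spec.map_id, Category.id_comp]
  exact (h1.trans h2).symm

theorem isVertex_vertex : RelCone.IsVertex 𝒮 aug (vertex 𝒮 aug) where
  comp_π := by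
    have := isIso_unit_π Y
    rw [vertex, Category.assoc, RelSpec.QCAlg.specMap_π, IsIso.inv_hom_id]
  chart U hU := by
    have := isIso_unit_π Y
    rw [vertex, ← Category.assoc, fromSpec_inv_unit_π U hU]
    exact RelSpec.QCAlg.ι_specMap U hU aug

theorem isVertex_unique {ε ε' : Y ⟶ 𝒮.toQCAlg.spec} (h : RelCone.IsVertex 𝒮 aug ε)
    (h' : RelCone.IsVertex 𝒮 aug ε') : ε = ε' := by
  refine (Y.openCoverOfIsOpenCover (fun U : Y.affineOpens => U.1)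
    (iSup_affineOpens_eq_top Y)).hom_ext _ _ fun U => ?_
  change (U.1 : Y.Opens).ι ≫ ε = (U.1 : Y.Opens).ι ≫ ε'
  rw [← U.2.isoSpec_hom_fromSpec, Category.assoc, Category.assoc, h.chart U.1 U.2,
    h'.chart U.1 U.2]

theorem isClosedImmersion_of_isVertex {ε : Y ⟶ 𝒮.toQCAlg.spec} (h : RelCone.IsVertex 𝒮 aug ε) :
    IsClosedImmersion ε := by
  have : IsClosedImmersion (ε ≫ 𝒮.toQCAlg.π) := by rw [h.comp_π]; infer_instance
  exact IsClosedImmersion.of_comp ε 𝒮.toQCAlg.π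

end vertex


section graded

variable {A B : Type u} [CommRing A] [CommRing B] {𝒜 : ℕ → AddSubgroup A} [GradedRing 𝒜]
  {ℬ : ℕ → AddSubgroup B} [GradedRing ℬ]

theorem map_mem_irrelevant (ψ : 𝒜 →+*ᵍ ℬ) {f : A} (hf : f ∈ (HomogeneousIdeal.irrelevant 𝒜).toIdeal) :
    ψ f ∈ (HomogeneousIdeal.irrelevant ℬ).toIdeal := by
  have h : (DirectSum.decompose 𝒜 f 0 : A) = 0 := hf
  change (DirectSum.decompose ℬ (ψ f) 0 : B) = 0
  rw [← GradedRingHom.map_directSumDecompose, h, map_zero]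

end graded

section pointed

theorem mem_vertexCompl {R : CommRingCat.{u}} (𝒜 : ℕ → AddSubgroup R) [GradedRing 𝒜] (y : Spec R) :
    y ∈ RelCone.vertexCompl 𝒜 ↔
      ∃ f ∈ (HomogeneousIdeal.irrelevant 𝒜).toIdeal, f ∉ y.asIdeal := by
  change ¬ (((HomogeneousIdeal.irrelevant 𝒜).toIdeal : Set R) ⊆ y.asIdeal) ↔ _
  rw [Set.not_subset]
  simp only [SetLike.mem_coe]

variable {Y : Scheme.{u}} (𝒮 : RelProj.QCGrAlg Y)

theorem mem_pointedCone_of_mem_vertexCompl (U : Y.Opens) (hU : IsAffineOpen U)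
    (y : Spec (𝒮.presheaf.obj (op U))) (hy : y ∈ RelCone.vertexCompl (𝒮.deg U hU)) :
    𝒮.toQCAlg.ι U hU y ∈ RelCone.pointedCone 𝒮 :=
  Opens.mem_iSup.mpr ⟨⟨U, hU⟩, y, hy, rfl⟩

end pointed

section qmor

variable {Y Y' : Scheme.{u}} (q : Y' ⟶ Y) (𝒮 : RelProj.QCGrAlg Y) (𝒮' : RelProj.QCGrAlg Y')
  (u : 𝒮.presheaf ⟶ q.base _* 𝒮'.presheaf)
  (hu : 𝒮.str ≫ u = q.c ≫ (TopCat.Presheaf.pushforward CommRingCat.{u} q.base).map 𝒮'.str)
  (φ : ∀ (U : Y.Opens) (hU : IsAffineOpen U) (U' : Y'.Opens) (hU' : IsAffineOpen U')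
    (_ : U' ≤ q ⁻¹ᵁ U), 𝒮.deg U hU →+*ᵍ 𝒮'.deg U' hU')
  (hφ : ∀ (U : Y.Opens) (hU : IsAffineOpen U) (U' : Y'.Opens) (hU' : IsAffineOpen U')
    (hle : U' ≤ q ⁻¹ᵁ U),
    (φ U hU U' hU' hle).toRingHom =
      ((u.app (op U) : 𝒮.presheaf.obj (op U) ⟶ 𝒮'.presheaf.obj (op (q ⁻¹ᵁ U))) ≫
        𝒮'.presheaf.map (homOfLE hle).op).hom)
  (Φ : 𝒮'.toQCAlg.spec ⟶ 𝒮.toQCAlg.spec)
  (hΦ : ∀ (U : Y.Opens) (hU : IsAffineOpen U) (U' : Y'.Opens) (hU' : IsAffineOpen U')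
    (hle : U' ≤ q ⁻¹ᵁ U),
    𝒮'.toQCAlg.ι U' hU' ≫ Φ =
      Spec.map ((u.app (op U) : 𝒮.presheaf.obj (op U) ⟶ 𝒮'.presheaf.obj (op (q ⁻¹ᵁ U))) ≫
        𝒮'.presheaf.map (homOfLE hle).op) ≫ 𝒮.toQCAlg.ι U hU)

include hΦ in
theorem Φ_chart_apply (U : Y.Opens) (hU : IsAffineOpen U) (U' : Y'.Opens) (hU' : IsAffineOpen U')
    (hle : U' ≤ q ⁻¹ᵁ U) (y' : Spec (𝒮'.presheaf.obj (op U'))) :
    Φ (𝒮'.toQCAlg.ι U' hU' y') = 𝒮.toQCAlg.ι U hU
      (Spec.map ((u.app (op U) : 𝒮.presheaf.obj (op U) ⟶ 𝒮'.presheaf.obj (op (q ⁻¹ᵁ U))) ≫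
        𝒮'.presheaf.map (homOfLE hle).op) y') := by
  rw [← Scheme.Hom.comp_apply, hΦ U hU U' hU' hle, Scheme.Hom.comp_apply]

include hφ in
theorem notMem_chart_iff (U : Y.Opens) (hU : IsAffineOpen U) (U' : Y'.Opens) (hU' : IsAffineOpen U')
    (hle : U' ≤ q ⁻¹ᵁ U) (y' : Spec (𝒮'.presheaf.obj (op U'))) (f : 𝒮.presheaf.obj (op U)) :
    f ∈ (Spec.map ((u.app (op U) : 𝒮.presheaf.obj (op U) ⟶ 𝒮'.presheaf.obj (op (q ⁻¹ᵁ U))) ≫
        𝒮'.presheaf.map (homOfLE hle).op) y').asIdeal ↔ φ U hU U' hU' hle f ∈ y'.asIdeal := by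
  rw [Spec.map_apply, PrimeSpectrum.comap_asIdeal, Ideal.mem_comap, ← hφ U hU U' hU' hle]
  rfl

include hu hφ hΦ in
theorem preimage_pointedCone_le : Φ ⁻¹ᵁ RelCone.pointedCone 𝒮 ≤ RelCone.pointedCone 𝒮' := by
  intro x' hx'
  have hx'' : Φ x' ∈ RelCone.pointedCone 𝒮 := hx'
  obtain ⟨U₁, y, hy, hyx⟩ := Opens.mem_iSup.mp hx''
  have hover : Φ ≫ 𝒮.toQCAlg.π = 𝒮'.toQCAlg.π ≫ q :=
    Groth.Agent.H41.SpecQMor.lies_over q 𝒮.toQCAlg 𝒮'.toQCAlg u hu Φ hΦ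
  have h1 : q (𝒮'.toQCAlg.π x') ∈ U₁.1 := by
    rw [← Scheme.Hom.comp_apply, ← hover, Scheme.Hom.comp_apply]
    have : Φ x' ∈ (𝒮.toQCAlg.ι U₁.1 U₁.2).opensRange := ⟨y, hyx⟩
    rw [← 𝒮.toQCAlg.π_preimage U₁.1 U₁.2] at this
    exact this
  obtain ⟨U', hU', hxU', hU'U⟩ := (Opens.isBasis_iff_nbhd.mp Y'.isBasis_affineOpens)
    (show 𝒮'.toQCAlg.π x' ∈ q ⁻¹ᵁ U₁.1 from h1)
  have hx'r : x' ∈ 𝒮'.toQCAlg.π ⁻¹ᵁ U' := hxU'
  rw [𝒮'.toQCAlg.π_preimage U' hU'] at hx'r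
  obtain ⟨y', rfl⟩ := hx'r
  have key := Φ_chart_apply q 𝒮 𝒮' u Φ hΦ U₁.1 U₁.2 U' hU' hU'U y'
  have hyy : Spec.map ((u.app (op U₁.1) : 𝒮.presheaf.obj (op U₁.1) ⟶
      𝒮'.presheaf.obj (op (q ⁻¹ᵁ U₁.1))) ≫ 𝒮'.presheaf.map (homOfLE hU'U).op) y' = y :=
    (𝒮.toQCAlg.ι U₁.1 U₁.2).isOpenEmbedding.injective (key.symm.trans hyx.symm)
  obtain ⟨f, hf, hfy⟩ := (mem_vertexCompl _ y).mp hy
  rw [← hyy, notMem_chart_iff q 𝒮 𝒮' u φ hφ U₁.1 U₁.2 U' hU' hU'U y' f] at hfy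
  exact mem_pointedCone_of_mem_vertexCompl 𝒮' U' hU' y'
    ((mem_vertexCompl _ y').mpr ⟨_, map_mem_irrelevant (φ U₁.1 U₁.2 U' hU' hU'U) hf, hfy⟩)

end qmor


section indep

variable {Y : Scheme.{u}} (𝒮 : RelProj.QCGrAlg Y)

/-- Restriction to a smaller affine open: a point over the complement of the vertex stays there. -/
theorem mem_vertexCompl_of_res {U V : Y.Opens} (hU : IsAffineOpen U) (hV : IsAffineOpen V)
    (i : V ≤ U) (y : Spec (𝒮.presheaf.obj (op V)))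
    (hy : Spec.map (𝒮.presheaf.map (homOfLE i).op) y ∈ RelCone.vertexCompl (𝒮.deg U hU)) :
    y ∈ RelCone.vertexCompl (𝒮.deg V hV) := by
  obtain ⟨f, hf, hfy⟩ := (mem_vertexCompl _ _).mp hy
  refine (mem_vertexCompl _ _).mpr ⟨𝒮.res hU hV i f, map_mem_irrelevant (𝒮.res hU hV i) hf, ?_⟩
  intro h
  apply hfy
  rw [Spec.map_apply, PrimeSpectrum.comap_asIdeal, Ideal.mem_comap]
  exact h

/-- From a basic open up to the affine open. -/
theorem res_mem_vertexCompl_of_basicOpen (U : Y.Opens) (hU : IsAffineOpen U) (r : Γ(Y, U))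
    (y : Spec (𝒮.presheaf.obj (op (Y.basicOpen r))))
    (hy : y ∈ RelCone.vertexCompl (𝒮.deg (Y.basicOpen r) (hU.basicOpen r))) :
    Spec.map (𝒮.presheaf.map (homOfLE (Y.basicOpen_le r)).op) y ∈
      RelCone.vertexCompl (𝒮.deg U hU) := by
  by_contra hcon
  have hsub : ∀ g ∈ (HomogeneousIdeal.irrelevant (𝒮.deg U hU)).toIdeal,
      g ∈ (Spec.map (𝒮.presheaf.map (homOfLE (Y.basicOpen_le r)).op) y).asIdeal := by
    intro g hg
    by_contra h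
    exact hcon ((mem_vertexCompl _ _).mpr ⟨g, hg, h⟩)
  obtain ⟨f, hf, hfy⟩ := (mem_vertexCompl _ _).mp hy
  apply hfy
  have h1 : Ideal.map (𝒮.res hU (hU.basicOpen r) (Y.basicOpen_le r))
      (HomogeneousIdeal.irrelevant (𝒮.deg U hU)).toIdeal ≤ y.asIdeal := by
    rw [Ideal.map_le_iff_le_comap]
    intro g hg
    have := hsub g hg
    rw [Spec.map_apply, PrimeSpectrum.comap_asIdeal, Ideal.mem_comap] at this
    exact this
  exact h1 (𝒮.irrelevant_le_map U hU r hf)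

theorem mem_pointedCone_iff (U : Y.Opens) (hU : IsAffineOpen U)
    (y : Spec (𝒮.presheaf.obj (op U))) :
    𝒮.toQCAlg.ι U hU y ∈ RelCone.pointedCone 𝒮 ↔ y ∈ RelCone.vertexCompl (𝒮.deg U hU) := by
  refine ⟨fun h => ?_, mem_pointedCone_of_mem_vertexCompl 𝒮 U hU y⟩
  obtain ⟨U₁, y₁, hy₁, hyy⟩ := Opens.mem_iSup.mp h
  have hyy' : 𝒮.toQCAlg.ι U₁.1 U₁.2 y₁ = 𝒮.toQCAlg.ι U hU y := hyy
  have hsU : 𝒮.toQCAlg.π (𝒮.toQCAlg.ι U hU y) ∈ U := by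
    have : 𝒮.toQCAlg.ι U hU y ∈ (𝒮.toQCAlg.ι U hU).opensRange := ⟨y, rfl⟩
    rw [← 𝒮.toQCAlg.π_preimage U hU] at this
    exact this
  have hsU₁ : 𝒮.toQCAlg.π (𝒮.toQCAlg.ι U hU y) ∈ U₁.1 := by
    have : 𝒮.toQCAlg.ι U hU y ∈ (𝒮.toQCAlg.ι U₁.1 U₁.2).opensRange := ⟨y₁, hyy'⟩
    rw [← 𝒮.toQCAlg.π_preimage U₁.1 U₁.2] at this
    exact this
  obtain ⟨r, r₁, hrr, hsr⟩ := exists_basicOpen_le_affine_inter hU U₁.2 _ ⟨hsU, hsU₁⟩
  have hW : 𝒮.toQCAlg.ι U hU y ∈ 𝒮.toQCAlg.π ⁻¹ᵁ (Y.basicOpen r) := hsr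
  rw [𝒮.toQCAlg.π_preimage _ (hU.basicOpen r)] at hW
  obtain ⟨yW, hyW⟩ := hW
  have e1 := Groth.Agent.H41.SpecQMor.ι_res_basicOpen 𝒮.toQCAlg U hU r
  have hy_eq : Spec.map (𝒮.presheaf.map (homOfLE (Y.basicOpen_le r)).op) yW = y := by
    apply (𝒮.toQCAlg.ι U hU).isOpenEmbedding.injective
    rw [← hyW, ← e1, Scheme.Hom.comp_apply]
  have hle₁ : Y.basicOpen r ≤ U₁.1 := hrr ▸ Y.basicOpen_le r₁
  have e2 : Spec.map (𝒮.presheaf.map (homOfLE hle₁).op) ≫ 𝒮.toQCAlg.ι U₁.1 U₁.2 =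
      𝒮.toQCAlg.ι (Y.basicOpen r) (hU.basicOpen r) := by
    have i : Groth.Agent.H41.SpecQMor.mkAff (Y.basicOpen r) (hU.basicOpen r) ⟶
        Groth.Agent.H41.SpecQMor.mkAff U₁.1 U₁.2 :=
      homOfLE (show Groth.Agent.H41.SpecQMor.mkAff (Y.basicOpen r) (hU.basicOpen r) ≤
        Groth.Agent.H41.SpecQMor.mkAff U₁.1 U₁.2 from ⟨r₁, hrr.symm⟩)
    exact 𝒮.toQCAlg.ι_res i
  have hy₁_eq : Spec.map (𝒮.presheaf.map (homOfLE hle₁).op) yW = y₁ := by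
    apply (𝒮.toQCAlg.ι U₁.1 U₁.2).isOpenEmbedding.injective
    rw [hyy', ← hyW, ← e2, Scheme.Hom.comp_apply]
  rw [← hy_eq]
  apply res_mem_vertexCompl_of_basicOpen 𝒮 U hU r yW
  apply mem_vertexCompl_of_res 𝒮 U₁.2 (hU.basicOpen r) hle₁ yW
  rw [hy₁_eq]
  exact hy₁

end indep


section aug

variable {Y : Scheme.{u}} (𝒮 : RelProj.QCGrAlg Y) (h0 : RelCone.StrZeroBij 𝒮)
  (aug : 𝒮.toQCAlg ⟶ RelSpec.QCAlg.unit Y) (haug : RelCone.IsAugmentation 𝒮 aug)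

theorem aug_str (U : Y.Opens) (r : Γ(Y, U)) :
    (aug.hom.app (op U)).hom ((𝒮.str.app (op U)).hom r) = r := by
  have h := NatTrans.congr_app aug.comm (op U)
  have h' := congrArg (fun ψ => ψ.hom r) h
  exact h'

include haug in
theorem aug_eq_aug_zero (U : Y.Opens) (hU : IsAffineOpen U) (x : 𝒮.presheaf.obj (op U)) :
    (aug.hom.app (op U)).hom x =
      (aug.hom.app (op U)).hom (DirectSum.decompose (𝒮.deg U hU) x 0 : 𝒮.presheaf.obj (op U)) := by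
  classical
  induction x using DirectSum.Decomposition.inductionOn (𝒮.deg U hU) with
  | zero => simp
  | @homogeneous i m =>
    rcases Nat.eq_zero_or_pos i with rfl | hi
    · rw [DirectSum.decompose_coe, DirectSum.of_eq_same]
    · obtain ⟨d, rfl⟩ : ∃ d, i = d + 1 := ⟨i - 1, by omega⟩
      rw [haug U hU d m m.2, DirectSum.decompose_coe, DirectSum.of_eq_of_ne _ _ _ (by omega)]
      simp
  | add m m' hm hm' =>
    rw [map_add, hm, hm', DirectSum.decompose_add, DirectSum.add_apply, AddSubgroup.coe_add,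
      map_add]

include h0 haug in
theorem aug_eq_zero_iff (U : Y.Opens) (hU : IsAffineOpen U) (x : 𝒮.presheaf.obj (op U)) :
    (aug.hom.app (op U)).hom x = 0 ↔ x ∈ (HomogeneousIdeal.irrelevant (𝒮.deg U hU)).toIdeal := by
  rw [aug_eq_aug_zero 𝒮 aug haug U hU x]
  obtain ⟨r, hr⟩ := (h0 U hU).surjective (DirectSum.decompose (𝒮.deg U hU) x 0)
  have hr' : (𝒮.str.app (op U)).hom r =
      (DirectSum.decompose (𝒮.deg U hU) x 0 : 𝒮.presheaf.obj (op U)) :=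
    congrArg Subtype.val hr
  change _ ↔ (DirectSum.decompose (𝒮.deg U hU) x 0 : 𝒮.presheaf.obj (op U)) = 0
  rw [← hr', aug_str 𝒮 aug U r]
  constructor
  · intro h
    rw [h]
    exact map_zero (𝒮.str.app (op U)).hom
  · intro h
    have := congrArg (aug.hom.app (op U)).hom h
    rw [aug_str 𝒮 aug U r] at this
    exact this.trans (map_zero (aug.hom.app (op U)).hom)

theorem aug_surjective (U : Y.Opens) : Function.Surjective (aug.hom.app (op U)).hom :=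
  fun r => ⟨_, aug_str 𝒮 aug U r⟩

variable (ε : Y ⟶ 𝒮.toQCAlg.spec) (hε : RelCone.IsVertex 𝒮 aug ε)

include h0 haug hε in
theorem pointedCone_eq_compl_range :
    ((RelCone.pointedCone 𝒮 : 𝒮.toQCAlg.spec.Opens) : Set 𝒮.toQCAlg.spec) =
      (Set.range ε.base)ᶜ := by
  ext x
  obtain ⟨U, hU', hxU, -⟩ := (Opens.isBasis_iff_nbhd.mp Y.isBasis_affineOpens)
    (Opens.mem_top (𝒮.toQCAlg.π x))
  have hU : IsAffineOpen U := hU'
  have hxr : x ∈ 𝒮.toQCAlg.π ⁻¹ᵁ U := hxU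
  rw [𝒮.toQCAlg.π_preimage U hU] at hxr
  obtain ⟨y, rfl⟩ := hxr
  rw [SetLike.mem_coe, mem_pointedCone_iff 𝒮 U hU y, Set.mem_compl_iff]
  have hker : ∀ g, g ∈ RingHom.ker (aug.hom.app (op U)).hom ↔
      g ∈ (HomogeneousIdeal.irrelevant (𝒮.deg U hU)).toIdeal := fun g =>
    aug_eq_zero_iff 𝒮 h0 aug haug U hU g
  have hchart : ∀ t : Spec Γ(Y, U), ε (hU.fromSpec t) =
      𝒮.toQCAlg.ι U hU (Spec.map (aug.hom.app (op U)) t) := by
    intro t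
    rw [← Scheme.Hom.comp_apply, hε.chart U hU]
    rfl
  constructor
  · intro hy hrange
    obtain ⟨s', hs'⟩ := hrange
    have hs'U : s' ∈ U := by
      have h1 : (ε ≫ 𝒮.toQCAlg.π) s' = s' := by rw [hε.comp_π]; rfl
      rw [Scheme.Hom.comp_apply] at h1
      have h2 : ε s' = 𝒮.toQCAlg.ι U hU y := hs'
      rw [h2] at h1
      rw [← h1]
      exact hxU
    have : s' ∈ Set.range hU.fromSpec := by rw [hU.range_fromSpec]; exact hs'U
    obtain ⟨t, rfl⟩ := this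
    have h2 : ε (hU.fromSpec t) = 𝒮.toQCAlg.ι U hU y := hs'
    rw [hchart t] at h2
    have h3 := (𝒮.toQCAlg.ι U hU).isOpenEmbedding.injective h2
    obtain ⟨f, hf, hfy⟩ := (mem_vertexCompl _ y).mp hy
    apply hfy
    rw [← h3, Spec.map_apply, PrimeSpectrum.comap_asIdeal, Ideal.mem_comap,
      ((hker f).mpr hf : (aug.hom.app (op U)).hom f = 0)]
    exact zero_mem _
  · intro hnr
    by_contra hy
    apply hnr
    have hyz : y ∈ PrimeSpectrum.zeroLocus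
        (RingHom.ker (aug.hom.app (op U)).hom : Set (𝒮.presheaf.obj (op U))) := by
      intro g hg
      by_contra hgy
      exact hy ((mem_vertexCompl _ y).mpr ⟨g, (hker g).mp hg, hgy⟩)
    rw [← range_comap_of_surjective _ _ (aug_surjective 𝒮 aug U)] at hyz
    obtain ⟨t, ht⟩ := hyz
    refine ⟨hU.fromSpec t, ?_⟩
    have := hchart t
    rw [Spec.map_apply, ht] at this
    exact this

end aug


section domOpen

variable {A B : Type u} [CommRing A] [CommRing B] {𝒜 : ℕ → AddSubgroup A} [GradedRing 𝒜]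
  {ℬ : ℕ → AddSubgroup B} [GradedRing ℬ]

/-- If `Proj` of `ψ` is everywhere defined, then any prime of `B` not containing `ℬ₊` does not
contain `ψ (𝒜₊)`. -/
theorem exists_notMem_of_domOpen_eq_top (ψ : 𝒜 →+*ᵍ ℬ) (h : RelCone.domOpen ψ = ⊤)
    (P : Ideal B) [hP : P.IsPrime] (hPirr : ¬ (HomogeneousIdeal.irrelevant ℬ).toIdeal ≤ P) :
    ∃ f ∈ (HomogeneousIdeal.irrelevant 𝒜).toIdeal, ψ f ∉ P := by
  classical
  have hcore : (P.homogeneousCore ℬ).toIdeal.IsPrime := hP.homogeneousCore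
  let pt : ProjectiveSpectrum ℬ := ⟨P.homogeneousCore ℬ, hcore, fun hle =>
    hPirr (le_trans hle (Ideal.toIdeal_homogeneousCore_le ℬ P))⟩
  have hpt : pt ∈ RelCone.domOpen ψ := by rw [h]; trivial
  obtain ⟨f, hf, hfpt⟩ := (RelCone.mem_domOpen ψ pt).mp hpt
  have hfpt' : ψ f ∉ (P.homogeneousCore ℬ).toIdeal := hfpt
  have hex : ∃ i, ψ (DirectSum.decompose 𝒜 f i : A) ∉ (P.homogeneousCore ℬ).toIdeal := by
    by_contra hall
    push Not at hall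
    apply hfpt'
    rw [← DirectSum.sum_support_decompose 𝒜 f, map_sum]
    exact Ideal.sum_mem _ fun i _ => hall i
  obtain ⟨i, hi⟩ := hex
  have hi0 : i ≠ 0 := by
    rintro rfl
    have h0 : (DirectSum.decompose 𝒜 f 0 : A) = 0 := hf
    rw [h0, map_zero] at hi
    exact hi (zero_mem _)
  refine ⟨(DirectSum.decompose 𝒜 f i : A),
    HomogeneousIdeal.mem_irrelevant_of_mem 𝒜 (Nat.pos_of_ne_zero hi0) (SetLike.coe_mem _), ?_⟩
  intro hmem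
  exact hi (Ideal.mem_homogeneousCore_of_homogeneous_of_mem
    ⟨i, ψ.map_mem (SetLike.coe_mem _)⟩ hmem)

end domOpen

section qmor2

variable {Y Y' : Scheme.{u}} (q : Y' ⟶ Y) (𝒮 : RelProj.QCGrAlg Y) (𝒮' : RelProj.QCGrAlg Y')
  (u : 𝒮.presheaf ⟶ q.base _* 𝒮'.presheaf)
  (hu : 𝒮.str ≫ u = q.c ≫ (TopCat.Presheaf.pushforward CommRingCat.{u} q.base).map 𝒮'.str)
  (φ : ∀ (U : Y.Opens) (hU : IsAffineOpen U) (U' : Y'.Opens) (hU' : IsAffineOpen U')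
    (_ : U' ≤ q ⁻¹ᵁ U), 𝒮.deg U hU →+*ᵍ 𝒮'.deg U' hU')
  (hφ : ∀ (U : Y.Opens) (hU : IsAffineOpen U) (U' : Y'.Opens) (hU' : IsAffineOpen U')
    (hle : U' ≤ q ⁻¹ᵁ U),
    (φ U hU U' hU' hle).toRingHom =
      ((u.app (op U) : 𝒮.presheaf.obj (op U) ⟶ 𝒮'.presheaf.obj (op (q ⁻¹ᵁ U))) ≫
        𝒮'.presheaf.map (homOfLE hle).op).hom)
  (Φ : 𝒮'.toQCAlg.spec ⟶ 𝒮.toQCAlg.spec)
  (hΦ : ∀ (U : Y.Opens) (hU : IsAffineOpen U) (U' : Y'.Opens) (hU' : IsAffineOpen U')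
    (hle : U' ≤ q ⁻¹ᵁ U),
    𝒮'.toQCAlg.ι U' hU' ≫ Φ =
      Spec.map ((u.app (op U) : 𝒮.presheaf.obj (op U) ⟶ 𝒮'.presheaf.obj (op (q ⁻¹ᵁ U))) ≫
        𝒮'.presheaf.map (homOfLE hle).op) ≫ 𝒮.toQCAlg.ι U hU)

include hφ hΦ in
/-- Membership of `Φ (ι' y')` in the pointed cone, chartwise. -/
theorem Φ_chart_mem_pointedCone_iff (U : Y.Opens) (hU : IsAffineOpen U) (U' : Y'.Opens)
    (hU' : IsAffineOpen U') (hle : U' ≤ q ⁻¹ᵁ U) (y' : Spec (𝒮'.presheaf.obj (op U'))) :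
    Φ (𝒮'.toQCAlg.ι U' hU' y') ∈ RelCone.pointedCone 𝒮 ↔
      ∃ f ∈ (HomogeneousIdeal.irrelevant (𝒮.deg U hU)).toIdeal,
        φ U hU U' hU' hle f ∉ y'.asIdeal := by
  rw [Φ_chart_apply q 𝒮 𝒮' u Φ hΦ U hU U' hU' hle y', mem_pointedCone_iff, mem_vertexCompl]
  refine exists_congr fun f => and_congr_right fun _ => not_congr ?_
  exact notMem_chart_iff q 𝒮 𝒮' u φ hφ U hU U' hU' hle y' f

include hu hφ hΦ in
theorem preimage_pointedCone_eq_iff :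
    (∀ (U : Y.Opens) (hU : IsAffineOpen U) (U' : Y'.Opens) (hU' : IsAffineOpen U')
      (hle : U' ≤ q ⁻¹ᵁ U), RelCone.domOpen (φ U hU U' hU' hle) = ⊤) ↔
      Φ ⁻¹ᵁ RelCone.pointedCone 𝒮 = RelCone.pointedCone 𝒮' := by
  constructor
  · intro hdom
    refine le_antisymm (preimage_pointedCone_le q 𝒮 𝒮' u hu φ hφ Φ hΦ) ?_
    intro x' hx'
    obtain ⟨U, hU0, hxU, -⟩ := (Opens.isBasis_iff_nbhd.mp Y.isBasis_affineOpens)
      (Opens.mem_top (q (𝒮'.toQCAlg.π x')))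
    have hU : IsAffineOpen U := hU0
    obtain ⟨U', hU'0, hxU', hU'U⟩ := (Opens.isBasis_iff_nbhd.mp Y'.isBasis_affineOpens)
      (show 𝒮'.toQCAlg.π x' ∈ q ⁻¹ᵁ U from hxU)
    have hU' : IsAffineOpen U' := hU'0
    have hx'r : x' ∈ 𝒮'.toQCAlg.π ⁻¹ᵁ U' := hxU'
    rw [𝒮'.toQCAlg.π_preimage U' hU'] at hx'r
    obtain ⟨y', rfl⟩ := hx'r
    have hy' : y' ∈ RelCone.vertexCompl (𝒮'.deg U' hU') :=
      (mem_pointedCone_iff 𝒮' U' hU' y').mp hx'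
    obtain ⟨g, hg, hgy⟩ := (mem_vertexCompl _ y').mp hy'
    have hirr : ¬ (HomogeneousIdeal.irrelevant (𝒮'.deg U' hU')).toIdeal ≤ y'.asIdeal :=
      fun hle => hgy (hle hg)
    have := exists_notMem_of_domOpen_eq_top (φ U hU U' hU' hU'U) (hdom U hU U' hU' hU'U)
      y'.asIdeal hirr
    exact (Φ_chart_mem_pointedCone_iff q 𝒮 𝒮' u φ hφ Φ hΦ U hU U' hU' hU'U y').mpr this
  · intro heq U hU U' hU' hle
    rw [eq_top_iff]
    intro pt _
    rw [RelCone.mem_domOpen]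
    let y' : Spec (𝒮'.presheaf.obj (op U')) := ⟨pt.asHomogeneousIdeal.toIdeal, pt.isPrime⟩
    have hy' : y' ∈ RelCone.vertexCompl (𝒮'.deg U' hU') := by
      rw [mem_vertexCompl]
      by_contra hcon
      push Not at hcon
      exact pt.not_irrelevant_le fun f hf => hcon f hf
    have h1 : 𝒮'.toQCAlg.ι U' hU' y' ∈ RelCone.pointedCone 𝒮' :=
      mem_pointedCone_of_mem_vertexCompl 𝒮' U' hU' y' hy'
    rw [← heq] at h1
    exact (Φ_chart_mem_pointedCone_iff q 𝒮 𝒮' u φ hφ Φ hΦ U hU U' hU' hle y').mp h1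

end qmor2

end Groth.Agent.H41.Cone
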