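import Groth.Agent.H18.PConeGlue
import Groth.Agent.H41.ProjGen

set_option autoImplicit false
universe u

open AlgebraicGeometry CategoryTheory CategoryTheory.Limits HomogeneousLocalization

namespace Groth.Agent.H41.PConeIso

theorem bijective_of_isIso_specMap {R S : CommRingCat.{u}} (ψ : R ⟶ S) [IsIso (Spec.map ψ)] :
    Function.Bijective ψ.hom := by
  have h1 : IsIso (Scheme.Spec.map ψ.op) := ‹IsIso (Spec.map ψ)›
  have h2 : IsIso ψ.op := isIso_of_reflects_iso ψ.op Scheme.Spec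
  have h3 : IsIso ψ := isIso_of_op ψ
  exact (ConcreteCategory.isIso_iff_bijective ψ).1 h3

section

variable {R A B : Type u} [CommRing R] [CommRing A] [Algebra R A] {𝒜 : ℕ → Submodule R A} [GradedAlgebra 𝒜]
  [CommRing B] [Algebra R B] {ℬ : ℕ → Submodule R B} [GradedAlgebra ℬ] (φ : 𝒜 →+*ᵍ ℬ)
  (p : (PCone.dom φ : Scheme.{u}) ⟶ Proj 𝒜)
  (hp : ∀ (d : ℕ) (f : A) (hd : 0 < d) (hf : f ∈ 𝒜 d),
    PCone.chart φ hf hd ≫ p =
      Spec.map (CommRingCat.ofHom (Away.map φ f)) ≫ Proj.awayι 𝒜 f hf hd)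

include hp in
theorem isPullback_chart {d : ℕ} {f : A} (hd : 0 < d) (hf : f ∈ 𝒜 d) :
    IsPullback (Spec.map (CommRingCat.ofHom (Away.map φ f))) (PCone.chart φ hf hd)
      (Proj.awayι 𝒜 f hf hd) p := by
  refine IsOpenImmersion.isPullback _ _ _ _ (hp d f hd hf) ?_
  rw [Proj.opensRange_awayι, Groth.Agent.H18.pcone_preimage_basicOpen φ p hp hd hf]
  apply TopologicalSpace.Opens.ext
  rw [Scheme.Hom.coe_opensRange, Groth.Agent.H18.range_pcone_chart]
  rfl

include hp in
theorem awayMap_bijective_of_isIso [IsIso p] {d : ℕ} {f : A} (hd : 0 < d) (hf : f ∈ 𝒜 d) :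
    Function.Bijective (Away.map φ f) := by
  have := (isPullback_chart φ p hp hd hf).isIso_fst_of_isIso
  exact bijective_of_isIso_specMap (CommRingCat.ofHom (Away.map φ f))

include hp in
theorem isIso_of_awayMap_bijective
    (h : ∀ (d : ℕ) (f : A), 0 < d → f ∈ 𝒜 d → Function.Bijective (Away.map φ f)) : IsIso p := by
  change MorphismProperty.isomorphisms Scheme p
  rw [IsZariskiLocalAtTarget.iff_of_openCover (P := MorphismProperty.isomorphisms Scheme)
    (Proj.affineOpenCover 𝒜).openCover]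
  intro i
  have hpb := (isPullback_chart φ p hp i.1.2 i.2.2).flip
  change IsIso (Limits.pullback.snd p ((Proj.affineOpenCover 𝒜).openCover.f i))
  have e : hpb.isoPullback.hom ≫
      Limits.pullback.snd p (Proj.awayι 𝒜 (i.2 : A) i.2.2 i.1.2) =
      Spec.map (CommRingCat.ofHom (Away.map φ (i.2 : A))) := hpb.isoPullback_hom_snd
  have hiso : IsIso (Spec.map (CommRingCat.ofHom (Away.map φ (i.2 : A)))) := by
    have : IsIso (CommRingCat.ofHom (Away.map φ (i.2 : A))) :=
      (ConcreteCategory.isIso_iff_bijective _).2 (h _ _ i.1.2 i.2.2)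
    infer_instance
  rw [← e] at hiso
  exact @IsIso.of_isIso_comp_left _ _ _ _ _ hpb.isoPullback.hom
    (Limits.pullback.snd p (Proj.awayι 𝒜 (i.2 : A) i.2.2 i.1.2)) _ hiso

end

end Groth.Agent.H41.PConeIso
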