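import Groth.Agent.H18.ConeGlue
import Groth.Agent.H41.PConeIso
import Groth.Agent.H41.FibreGen
import Groth.Agent.H41.AwayPoly

/-!
# Fibres of the retractions of the pointed affine and projective cones (affine base)
-/

set_option autoImplicit false
universe u

open AlgebraicGeometry CategoryTheory CategoryTheory.Limits HomogeneousLocalization

namespace Groth.Agent.H41.ConeFibre

section cone

variable {R A : Type u} [CommRing R] [CommRing A] [Algebra R A] {𝒜 : ℕ → Submodule R A}
  [GradedAlgebra 𝒜]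
  (π : (Cone.pointed 𝒜 : Scheme.{u}) ⟶ Proj 𝒜)
  (hπ : ∀ (d : ℕ) (f : A) (hd : 0 < d) (hf : f ∈ 𝒜 d),
    Cone.chart hf hd ≫ π =
      Spec.map (CommRingCat.ofHom (algebraMap (Away 𝒜 f) (Localization.Away f))) ≫
        Proj.awayι 𝒜 f hf hd)

include hπ in
theorem isPullback_chart {d : ℕ} {f : A} (hd : 0 < d) (hf : f ∈ 𝒜 d) :
    IsPullback (Cone.chart hf hd)
      (Spec.map (CommRingCat.ofHom (algebraMap (Away 𝒜 f) (Localization.Away f)))) π
      (Proj.awayι 𝒜 f hf hd) := by
  refine (IsOpenImmersion.isPullback _ _ _ _ (hπ d f hd hf) ?_).flip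
  rw [Proj.opensRange_awayι, Groth.Agent.H18.cone_preimage_basicOpen π hπ hd hf]
  apply TopologicalSpace.Opens.ext
  rw [Scheme.Hom.coe_opensRange, Groth.Agent.H18.range_cone_chart]

end cone

section general

variable {A σ : Type u} [CommRing A] [SetLike σ A] [AddSubgroupClass σ A]
variable (𝒜 : ℕ → σ) [GradedRing 𝒜]

/-- If the irrelevant ideal is generated in degree one, every point of `Proj` lies in some
`D₊(f)` with `f` of degree one. -/
theorem exists_deg_one_notMem
    (hgen : (HomogeneousIdeal.irrelevant 𝒜).toIdeal ≤ Ideal.span {a : A | a ∈ 𝒜 1})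
    (x : Proj 𝒜) : ∃ f : A, ∃ _ : f ∈ 𝒜 1, x ∈ Proj.basicOpen 𝒜 f := by
  by_contra hcon
  push Not at hcon
  apply x.not_irrelevant_le
  refine hgen.trans ?_
  rw [Ideal.span_le]
  intro a ha
  by_contra hax
  exact hcon a ha ((Proj.mem_basicOpen 𝒜 a x).mpr hax)

end general

end Groth.Agent.H41.ConeFibre
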