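import Mathlib.AlgebraicGeometry.Morphisms.ClosedImmersion
import Mathlib.AlgebraicGeometry.Limits

/-!
# The copairing of two closed immersions with disjoint images is a closed immersion (helper41)
-/

set_option autoImplicit false
universe u

open CategoryTheory CategoryTheory.Limits AlgebraicGeometry

namespace Groth.Agent.H41.CoprodClosedImm

variable {X Y Z : Scheme.{u}} (f : X ⟶ Z) (g : Y ⟶ Z)

theorem surjectiveOnStalks_desc [SurjectiveOnStalks f] [SurjectiveOnStalks g] :
    SurjectiveOnStalks (coprod.desc f g) := by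
  rw [IsZariskiLocalAtSource.iff_of_openCover (P := @SurjectiveOnStalks) (coprodOpenCover.{_, 0} X Y)]
  rintro (i | i)
  · change SurjectiveOnStalks (coprod.inl ≫ coprod.desc f g)
    rw [coprod.inl_desc]; infer_instance
  · change SurjectiveOnStalks (coprod.inr ≫ coprod.desc f g)
    rw [coprod.inr_desc]; infer_instance

theorem isClosedImmersion_desc [IsClosedImmersion f] [IsClosedImmersion g]
    (hdisj : ∀ (x : X) (y : Y), f x ≠ g y) : IsClosedImmersion (coprod.desc f g) := by
  rw [isClosedImmersion_iff]
  refine ⟨surjectiveOnStalks_desc f g, ?_⟩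
  have h1 : ((coprod.desc f g : X ⨿ Y ⟶ Z) : ↥(X ⨿ Y) → Z) ∘ (coprodMk X Y) =
      Sum.elim (f : X → Z) (g : Y → Z) := by
    funext x
    rcases x with x | y
    · simp only [Function.comp_apply, coprodMk_inl, Sum.elim_inl, ← Scheme.Hom.comp_apply,
        coprod.inl_desc]
    · simp only [Function.comp_apply, coprodMk_inr, Sum.elim_inr, ← Scheme.Hom.comp_apply,
        coprod.inr_desc]
  have hinj : Function.Injective (Sum.elim (f : X → Z) (g : Y → Z)) := by
    rintro (x | y) (x' | y') h
    · simp only [Sum.elim_inl] at h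
      rw [f.isClosedEmbedding.injective h]
    · exact absurd h (hdisj x y')
    · exact absurd h.symm (hdisj x' y)
    · simp only [Sum.elim_inr] at h
      rw [g.isClosedEmbedding.injective h]
  have h2 : Topology.IsClosedEmbedding (Sum.elim (f : X → Z) (g : Y → Z)) :=
    f.isClosedEmbedding.sumElim g.isClosedEmbedding hinj
  have h3 : ((coprod.desc f g : X ⨿ Y ⟶ Z) : ↥(X ⨿ Y) → Z) =
      Sum.elim (f : X → Z) (g : Y → Z) ∘ (coprodMk X Y).symm := by
    rw [← h1]
    funext x
    simp
  rw [h3]
  exact h2.comp (coprodMk X Y).symm.isClosedEmbedding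

end Groth.Agent.H41.CoprodClosedImm
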