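import Groth.Agent.H18.STL.CoprodAmple
import Groth.Agent.H67.UnitIso
import Groth.Agent.H67.GenLocusAffine
import Groth.Agent.H77.RelGlue
import Groth.Agent.H8.QcqsPush

/-!
# Modules on a scheme covered by two disjoint open subschemes (helper41)

A module on `Z = A ⊔ B` is the product of the pushforwards of its restrictions; two modules with isomorphic
restrictions are isomorphic.
-/

set_option autoImplicit false
universe u

open CategoryTheory CategoryTheory.Limits AlgebraicGeometry TopologicalSpace Opposite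

namespace Groth.Agent.H41.CoprodModIso

open Groth.Agent.H18 Scheme.Modules

variable {A B Z : Scheme.{u}} (j₁ : A ⟶ Z) (j₂ : B ⟶ Z) [IsOpenImmersion j₁] [IsOpenImmersion j₂]

/-- the comparison map -/
noncomputable def eta (M : Z.Modules) :
    M ⟶ (pushforward j₁).obj ((restrictFunctor j₁).obj M) ⊞
      (pushforward j₂).obj ((restrictFunctor j₂).obj M) :=
  biprod.lift ((restrictAdjunction j₁).unit.app M) ((restrictAdjunction j₂).unit.app M)

theorem bijective_unit_app (M : Z.Modules) (V : Z.Opens) (hV : V ≤ j₁.opensRange) :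
    Function.Bijective (((restrictAdjunction j₁).unit.app M).app V) := by
  have hle : V ≤ j₁ ''ᵁ (j₁ ⁻¹ᵁ V) := by
    rw [Scheme.Hom.image_preimage_eq_opensRange_inf]
    exact le_inf hV le_rfl
  rw [restrictAdjunction_unit_app_app]
  refine ⟨Groth.Agent.H77.RelGlue.mres_injective_of_le M (j₁.image_preimage_le V) hle, fun t => ?_⟩
  refine ⟨mres M hle t, ?_⟩
  change mres M (j₁.image_preimage_le V) (mres M hle t) = t
  rw [mres_mres, mres_self]

theorem app_comp_apply' {M N K : Z.Modules} (f : M ⟶ N) (g : N ⟶ K) (U : Z.Opens) (x : Γ(M, U)) :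
    (f ≫ g).app U x = g.app U (f.app U x) := rfl

/-- a map into a biproduct is bijective on sections where its first component is and the second factor has no
sections -/
theorem bijective_lift_app {M P Q : Z.Modules} (f : M ⟶ P) (g : M ⟶ Q) (V : Z.Opens)
    (hf : Function.Bijective (f.app V)) (hQ : Subsingleton Γ(Q, V)) :
    Function.Bijective ((biprod.lift f g).app V) := by
  constructor
  · intro s s' h
    apply hf.1
    have h1 := congrArg (fun t => (biprod.fst : P ⊞ Q ⟶ P).app V t) h
    simp only [← app_comp_apply', biprod.lift_fst] at h1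
    exact h1
  · intro t
    obtain ⟨s, hs⟩ := hf.2 ((biprod.fst : P ⊞ Q ⟶ P).app V t)
    refine ⟨s, ?_⟩
    have htot : ∀ t : Γ(P ⊞ Q, V), t = (biprod.inl : P ⟶ P ⊞ Q).app V ((biprod.fst : P ⊞ Q ⟶ P).app V t) +
        (biprod.inr : Q ⟶ P ⊞ Q).app V ((biprod.snd : P ⊞ Q ⟶ Q).app V t) := by
      intro t
      have h1 := congrArg (fun φ : P ⊞ Q ⟶ P ⊞ Q => φ.app V t) (biprod.total (X := P) (Y := Q))
      simp only [Hom.add_app] at h1
      exact h1.symm
    rw [htot t, htot ((biprod.lift f g).app V s)]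
    have e1 : (biprod.fst : P ⊞ Q ⟶ P).app V ((biprod.lift f g).app V s) = f.app V s := by
      rw [← app_comp_apply', biprod.lift_fst]
    rw [e1, hs]
    congr 2
    exact Subsingleton.elim _ _

theorem bijective_lift_app' {M P Q : Z.Modules} (f : M ⟶ P) (g : M ⟶ Q) (V : Z.Opens)
    (hg : Function.Bijective (g.app V)) (hP : Subsingleton Γ(P, V)) :
    Function.Bijective ((biprod.lift f g).app V) := by
  constructor
  · intro s s' h
    apply hg.1
    have h1 := congrArg (fun t => (biprod.snd : P ⊞ Q ⟶ Q).app V t) h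
    simp only [← app_comp_apply', biprod.lift_snd] at h1
    exact h1
  · intro t
    obtain ⟨s, hs⟩ := hg.2 ((biprod.snd : P ⊞ Q ⟶ Q).app V t)
    refine ⟨s, ?_⟩
    have htot : ∀ t : Γ(P ⊞ Q, V), t = (biprod.inl : P ⟶ P ⊞ Q).app V ((biprod.fst : P ⊞ Q ⟶ P).app V t) +
        (biprod.inr : Q ⟶ P ⊞ Q).app V ((biprod.snd : P ⊞ Q ⟶ Q).app V t) := by
      intro t
      have h1 := congrArg (fun φ : P ⊞ Q ⟶ P ⊞ Q => φ.app V t) (biprod.total (X := P) (Y := Q))
      simp only [Hom.add_app] at h1
      exact h1.symm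
    rw [htot t, htot ((biprod.lift f g).app V s)]
    have e1 : (biprod.snd : P ⊞ Q ⟶ Q).app V ((biprod.lift f g).app V s) = g.app V s := by
      rw [← app_comp_apply', biprod.lift_snd]
    rw [e1, hs]
    congr 2
    exact Subsingleton.elim _ _

variable (hdisj : ∀ (a : A) (b : B), j₁ a ≠ j₂ b)
  (hcov : ∀ z : Z, z ∈ Set.range j₁ ∨ z ∈ Set.range j₂)

include hdisj in
theorem subsingleton_pushforward (K : B.Modules) (V : Z.Opens) (hV : V ≤ j₁.opensRange) :
    Subsingleton Γ((pushforward j₂).obj K, V) := by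
  have hbot : j₂ ⁻¹ᵁ V = ⊥ := by
    ext b
    simp only [Opens.coe_bot, Set.mem_empty_iff_false, iff_false]
    intro hb
    obtain ⟨a, ha⟩ := hV hb
    exact hdisj a b ha
  exact ⟨fun s t => Groth.Agent.H8.sections_bot_eq K hbot s t⟩

include hdisj hcov in
theorem isIso_eta (M : Z.Modules) : IsIso (eta j₁ j₂ M) := by
  refine Groth.Agent.H67.UnitIso.isIso_of_isIso_restrict _ fun x => ?_
  rcases hcov x with hx | hx
  · refine ⟨j₁.opensRange, hx, ?_⟩
    rw [Groth.Agent.H67.GenLocusAffine.isIso_restrict_iff]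
    intro W hW
    exact bijective_lift_app _ _ W (bijective_unit_app j₁ M W hW)
      (subsingleton_pushforward j₁ j₂ hdisj _ W hW)
  · refine ⟨j₂.opensRange, hx, ?_⟩
    rw [Groth.Agent.H67.GenLocusAffine.isIso_restrict_iff]
    intro W hW
    exact bijective_lift_app' _ _ W (bijective_unit_app j₂ M W hW)
      (subsingleton_pushforward j₂ j₁ (fun b a h => hdisj a b h.symm) _ W hW)

include hdisj hcov in
/-- modules with isomorphic restrictions to both pieces are isomorphic -/
theorem nonempty_iso_of_restrict {M N : Z.Modules}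
    (a : (restrictFunctor j₁).obj M ≅ (restrictFunctor j₁).obj N)
    (b : (restrictFunctor j₂).obj M ≅ (restrictFunctor j₂).obj N) : Nonempty (M ≅ N) := by
  haveI := isIso_eta j₁ j₂ hdisj hcov M
  haveI := isIso_eta j₁ j₂ hdisj hcov N
  exact ⟨asIso (eta j₁ j₂ M) ≪≫
    biprod.mapIso ((pushforward j₁).mapIso a) ((pushforward j₂).mapIso b) ≪≫
    (asIso (eta j₁ j₂ N)).symm⟩

include hdisj hcov in
/-- modules with isomorphic pullbacks to both pieces are isomorphic -/
theorem nonempty_iso_of_pullback {M N : Z.Modules}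
    (a : (Scheme.Modules.pullback j₁).obj M ≅ (Scheme.Modules.pullback j₁).obj N)
    (b : (Scheme.Modules.pullback j₂).obj M ≅ (Scheme.Modules.pullback j₂).obj N) : Nonempty (M ≅ N) :=
  nonempty_iso_of_restrict j₁ j₂ hdisj hcov
    ((restrictFunctorIsoPullback j₁).app M ≪≫ a ≪≫ ((restrictFunctorIsoPullback j₁).app N).symm)
    ((restrictFunctorIsoPullback j₂).app M ≪≫ b ≪≫ ((restrictFunctorIsoPullback j₂).app N).symm)

/-- the case of a coproduct of schemes -/
theorem nonempty_iso_coprod {X X' : Scheme.{u}} {M N : (X ⨿ X' : Scheme.{u}).Modules}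
    (a : (Scheme.Modules.pullback (coprod.inl : X ⟶ X ⨿ X')).obj M ≅ (Scheme.Modules.pullback (coprod.inl : X ⟶ X ⨿ X')).obj N)
    (b : (Scheme.Modules.pullback (coprod.inr : X' ⟶ X ⨿ X')).obj M ≅
      (Scheme.Modules.pullback (coprod.inr : X' ⟶ X ⨿ X')).obj N) : Nonempty (M ≅ N) :=
  nonempty_iso_of_pullback _ _ (fun x x' => inl_ne_inr X X' x x')
    (fun z => Groth.Agent.H18.STL.mem_range_inl_or_inr z) a b

end Groth.Agent.H41.CoprodModIso
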