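import Mathlib.RingTheory.GradedAlgebra.Basic
import Mathlib.RingTheory.GradedAlgebra.Homogeneous.Ideal
import Mathlib.Algebra.Polynomial.AlgebraMap
import Mathlib.RingTheory.FiniteType
import Mathlib.RingTheory.Noetherian.Basic
import Mathlib.Algebra.Algebra.Operations
import Mathlib.Algebra.DirectSum.Internal
import Groth.Agent.H22.Graded

/-!
# The graded ring `S♮` with `S♮_n = S_{≥ n}` (EGA II 2.1.x), presented via an injective
algebra hom `φ : B → A[X]` with `φ (ℬ n) = A_{≥ n} X^n`.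
-/

set_option autoImplicit false
set_option linter.unusedSectionVars false
universe u

namespace Groth.Agent.H41.Natural

open DirectSum Polynomial

variable {R A B : Type u} [CommRing R] [CommRing A] [Algebra R A]
    (𝒜 : ℕ → Submodule R A) [GradedAlgebra 𝒜] [CommRing B] [Algebra R B]
    (ℬ : ℕ → Submodule R B) [GradedAlgebra ℬ]
    (φ : B →ₐ[R] Polynomial A)

/-- `A_{≥ n}`. -/
def Age (n : ℕ) : Submodule R A := ⨆ (m : ℕ) (_ : n ≤ m), 𝒜 m

/-- The `R`-linear map `a ↦ a X^n`. -/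
noncomputable def mon (n : ℕ) : A →ₗ[R] Polynomial A :=
  (Polynomial.monomial n : A →ₗ[A] Polynomial A).restrictScalars R

@[simp] lemma mon_apply (n : ℕ) (a : A) : mon (R := R) n a = Polynomial.monomial n a := rfl

lemma mon_injective (n : ℕ) : Function.Injective (mon (R := R) (A := A) n) :=
  Polynomial.monomial_injective n

omit [GradedAlgebra 𝒜] in
variable {𝒜} in
lemma le_Age {n m : ℕ} (h : n ≤ m) : 𝒜 m ≤ Age 𝒜 n :=
  le_iSup₂_of_le m h le_rfl

omit [GradedAlgebra 𝒜] in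
lemma Age_antitone : Antitone (Age 𝒜) := by
  intro i j hij
  refine iSup₂_le fun m hm => le_Age (hij.trans hm)

lemma Age_zero : Age 𝒜 0 = ⊤ := by
  rw [eq_top_iff]
  intro x _
  classical
  rw [← DirectSum.sum_support_decompose 𝒜 x]
  exact Submodule.sum_mem _ fun n _ => le_Age (Nat.zero_le n) (SetLike.coe_mem _)

lemma Age_mul_le (i j : ℕ) : Age 𝒜 i * Age 𝒜 j ≤ Age 𝒜 (i + j) := by
  unfold Age
  simp only [Submodule.iSup_mul, Submodule.mul_iSup]
  refine iSup₂_le fun m hm => iSup₂_le fun k hk => ?_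
  rw [Submodule.mul_le]
  intro a ha b hb
  exact le_Age (𝒜 := 𝒜) (by omega) (SetLike.GradedMul.mul_mem ha hb)

lemma mem_Age_iff {n : ℕ} {a : A} :
    a ∈ Age 𝒜 n ↔ ∀ m < n, (decompose 𝒜 a m : A) = 0 := by
  classical
  constructor
  · intro ha m hm
    unfold Age at ha
    induction ha using Submodule.iSup_induction' with
    | mem k x hx =>
      induction hx using Submodule.iSup_induction' with
      | mem hk x hx =>
        rw [DirectSum.decompose_of_mem_ne 𝒜 hx (by omega)]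
      | zero => simp
      | add x y _ _ hx hy => simp [hx, hy]
    | zero => simp
    | add x y _ _ hx hy => simp [hx, hy]
  · intro h
    rw [← DirectSum.sum_support_decompose 𝒜 a]
    refine Submodule.sum_mem _ fun k hk => ?_
    by_cases hkn : n ≤ k
    · exact le_Age hkn (SetLike.coe_mem _)
    · rw [h k (by omega)]; exact Submodule.zero_mem _

lemma coe_decompose_mul_of_mem_Age {i j : ℕ} {a b : A} (ha : a ∈ Age 𝒜 i) (hb : b ∈ Age 𝒜 j) :
    (decompose 𝒜 (a * b) (i + j) : A) = (decompose 𝒜 a i : A) * (decompose 𝒜 b j : A) := by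
  classical
  rw [DirectSum.decompose_mul, DirectSum.coe_mul_apply_eq_sum_antidiagonal]
  rw [Finset.sum_eq_single (i, j)]
  · rintro ⟨p, q⟩ hpq hne
    rw [Finset.mem_antidiagonal] at hpq
    simp only at hpq
    by_cases hp : p < i
    · rw [(mem_Age_iff 𝒜).1 ha p hp, zero_mul]
    · have hq : q < j := by
        rcases Nat.lt_or_ge q j with h | h
        · exact h
        · exfalso; apply hne; ext <;> simp <;> omega
      rw [(mem_Age_iff 𝒜).1 hb q hq, mul_zero]
  · intro h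
    exact absurd (Finset.mem_antidiagonal.2 (rfl : (i, j).1 + (i, j).2 = i + j)) h

lemma pow_Age_one_le (n : ℕ) : Age 𝒜 1 ^ n ≤ Age 𝒜 n := by
  induction n with
  | zero => rw [Age_zero]; exact le_top
  | succ n ih =>
    rw [pow_succ]
    exact (mul_le_mul' ih le_rfl).trans (Age_mul_le 𝒜 n 1)

lemma pow_le_Age (n : ℕ) : 𝒜 1 ^ n ≤ Age 𝒜 n :=
  (pow_le_pow_left' (le_Age (le_refl 1)) n).trans (pow_Age_one_le 𝒜 n)

lemma map_proj_Age_mul_le (i j : ℕ) :
    Submodule.map (GradedAlgebra.proj 𝒜 (i + j)) (Age 𝒜 i * Age 𝒜 j) ≤ 𝒜 i * 𝒜 j := by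
  rw [Submodule.map_le_iff_le_comap, Submodule.mul_le]
  intro a ha b hb
  rw [Submodule.mem_comap, GradedAlgebra.proj_apply, coe_decompose_mul_of_mem_Age 𝒜 ha hb]
  exact Submodule.mul_mem_mul (SetLike.coe_mem _) (SetLike.coe_mem _)

lemma map_proj_pow_Age_one_le (n : ℕ) :
    Submodule.map (GradedAlgebra.proj 𝒜 n) (Age 𝒜 1 ^ n) ≤ 𝒜 1 ^ n := by
  induction n with
  | zero =>
    rw [pow_zero, pow_zero, Submodule.one_eq_span, Submodule.map_span, Submodule.span_le]
    rintro _ ⟨x, rfl, rfl⟩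
    rw [GradedAlgebra.proj_apply, DirectSum.decompose_of_mem_same 𝒜 (SetLike.GradedOne.one_mem)]
    exact Submodule.subset_span rfl
  | succ n ih =>
    rw [pow_succ, pow_succ, Submodule.map_le_iff_le_comap, Submodule.mul_le]
    intro a ha b hb
    rw [Submodule.mem_comap, GradedAlgebra.proj_apply,
      coe_decompose_mul_of_mem_Age 𝒜 (pow_Age_one_le 𝒜 n ha) hb]
    exact Submodule.mul_mem_mul (ih ⟨a, ha, rfl⟩) (SetLike.coe_mem _)

lemma proj_of_mem {n : ℕ} {x : A} (hx : x ∈ 𝒜 n) : GradedAlgebra.proj 𝒜 n x = x := by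
  rw [GradedAlgebra.proj_apply, DirectSum.decompose_of_mem_same 𝒜 hx]

/-- `A_{≥ n+1} = A_{≥ 1} A_{≥ n}` for `n ≥ n₀` iff `A_{n+1} = A_1 A_n` for `n ≥ n₀`. -/
lemma Age_succ_iff (n₀ : ℕ) :
    (∀ n, n₀ ≤ n → Age 𝒜 (1 + n) = Age 𝒜 1 * Age 𝒜 n) ↔
      (∀ n, n₀ ≤ n → 𝒜 (n + 1) = 𝒜 1 * 𝒜 n) := by
  constructor
  · intro h n hn
    apply le_antisymm
    · intro x hx
      have hx' : x ∈ Age 𝒜 1 * Age 𝒜 n := by
        rw [← h n hn]; exact le_Age (by omega) hx
      have := map_proj_Age_mul_le 𝒜 1 n ⟨x, hx', rfl⟩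
      rwa [proj_of_mem 𝒜 (by rwa [Nat.add_comm] at hx)] at this
    · rw [Submodule.mul_le]
      intro a ha b hb
      rw [Nat.add_comm]
      exact SetLike.GradedMul.mul_mem ha hb
  · intro h n hn
    apply le_antisymm
    · unfold Age
      refine iSup₂_le fun m hm => ?_
      obtain ⟨k, rfl⟩ : ∃ k, m = k + 1 := ⟨m - 1, by omega⟩
      rw [h k (by omega)]
      exact mul_le_mul' (le_Age (le_refl 1)) (le_Age (by omega))
    · exact Age_mul_le 𝒜 1 n

/-- `A_{≥ n} = (A_{≥ 1})^n` for `n ≥ n₀` iff `A_n = A_1^n` for `n ≥ n₀` (`n₀ ≥ 1`). -/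
lemma Age_pow_iff (n₀ : ℕ) (hn₀ : 1 ≤ n₀) :
    (∀ n, n₀ ≤ n → Age 𝒜 n = Age 𝒜 1 ^ n) ↔ (∀ n, n₀ ≤ n → 𝒜 n = 𝒜 1 ^ n) := by
  constructor
  · intro h n hn
    apply le_antisymm
    · intro x hx
      have hx' : x ∈ Age 𝒜 1 ^ n := by
        rw [← h n hn]; exact le_Age le_rfl hx
      have := map_proj_pow_Age_one_le 𝒜 n ⟨x, hx', rfl⟩
      rwa [proj_of_mem 𝒜 hx] at this
    · have : ∀ k, 𝒜 1 ^ k ≤ 𝒜 k := by
        intro k
        induction k with
        | zero =>
          rw [pow_zero, Submodule.one_le]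
          exact SetLike.GradedOne.one_mem
        | succ k ih =>
          rw [pow_succ, Submodule.mul_le]
          intro a ha b hb
          exact SetLike.GradedMul.mul_mem (ih ha) hb
      exact this n
  · intro h n hn
    apply le_antisymm
    · have key : ∀ m, n ≤ m → 𝒜 m ≤ Age 𝒜 1 ^ n := by
        intro m hm
        rw [h m (by omega)]
        obtain ⟨k, rfl⟩ : ∃ k, n = k + 1 := ⟨n - 1, by omega⟩
        obtain ⟨l, rfl⟩ : ∃ l, m = k + (l + 1) := ⟨m - k - 1, by omega⟩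
        rw [pow_add, pow_succ (Age 𝒜 1) k]
        refine mul_le_mul' (pow_le_pow_left' (le_Age le_rfl) k) ?_
        exact (pow_le_Age 𝒜 (l + 1)).trans (Age_antitone 𝒜 (by omega))
      exact iSup₂_le key
    · exact pow_Age_one_le 𝒜 n

lemma map_mon_mul (P Q : Submodule R A) (i j : ℕ) :
    Submodule.map (mon i) P * Submodule.map (mon j) Q = Submodule.map (mon (i + j)) (P * Q) := by
  apply le_antisymm
  · rw [Submodule.mul_le]
    rintro _ ⟨a, ha, rfl⟩ _ ⟨b, hb, rfl⟩
    refine ⟨a * b, Submodule.mul_mem_mul ha hb, ?_⟩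
    simp [Polynomial.monomial_mul_monomial]
  · rw [Submodule.map_le_iff_le_comap, Submodule.mul_le]
    intro a ha b hb
    rw [Submodule.mem_comap]
    have : mon (R := R) (i + j) (a * b) = mon (R := R) i a * mon (R := R) j b := by
      simp [Polynomial.monomial_mul_monomial]
    rw [this]
    exact Submodule.mul_mem_mul ⟨a, ha, rfl⟩ ⟨b, hb, rfl⟩

lemma map_mon_one :
    Submodule.map (mon (R := R) (A := A) 0) (1 : Submodule R A) = (1 : Submodule R A[X]) := by
  rw [Submodule.one_eq_span, Submodule.map_span, Submodule.one_eq_span]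
  simp

lemma map_mon_pow (P : Submodule R A) (n : ℕ) :
    Submodule.map (mon 1) P ^ n = Submodule.map (mon n) (P ^ n) := by
  induction n with
  | zero => simp [map_mon_one]
  | succ n ih => rw [pow_succ, ih, map_mon_mul, pow_succ]

section hdeg

variable (hφ : Function.Injective φ)
    (hdeg : ∀ n : ℕ, Submodule.map φ.toLinearMap (ℬ n) =
      Submodule.map ((Polynomial.monomial n : A →ₗ[A] Polynomial A).restrictScalars R)
        (⨆ (m : ℕ) (_ : n ≤ m), 𝒜 m))

include hdeg in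
lemma hdeg' (n : ℕ) : Submodule.map φ.toLinearMap (ℬ n) = Submodule.map (mon n) (Age 𝒜 n) :=
  hdeg n

include hdeg in
lemma exists_lift {n : ℕ} {a : A} (ha : a ∈ Age 𝒜 n) :
    ∃ b ∈ ℬ n, φ b = Polynomial.monomial n a := by
  have : mon (R := R) n a ∈ Submodule.map φ.toLinearMap (ℬ n) := by
    rw [hdeg' 𝒜 ℬ φ hdeg]; exact ⟨a, ha, rfl⟩
  obtain ⟨b, hb, hba⟩ := this
  exact ⟨b, hb, hba⟩

include hdeg in
lemma exists_of_mem {n : ℕ} {b : B} (hb : b ∈ ℬ n) :
    ∃ a ∈ Age 𝒜 n, φ b = Polynomial.monomial n a := by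
  have : φ.toLinearMap b ∈ Submodule.map (mon n) (Age 𝒜 n) := by
    rw [← hdeg' 𝒜 ℬ φ hdeg]; exact ⟨b, hb, rfl⟩
  obtain ⟨a, ha, hab⟩ := this
  exact ⟨a, ha, hab.symm⟩

include hφ hdeg in
lemma mem_of_map_eq {n : ℕ} {a : A} {b : B} (ha : a ∈ Age 𝒜 n)
    (h : φ b = Polynomial.monomial n a) : b ∈ ℬ n := by
  obtain ⟨b', hb', hb'a⟩ := exists_lift 𝒜 ℬ φ hdeg ha
  have : b = b' := hφ (h.trans hb'a.symm)
  exact this ▸ hb'

include hφ hdeg in
lemma nat_mul_iff (i j : ℕ) :
    ℬ (i + j) = ℬ i * ℬ j ↔ Age 𝒜 (i + j) = Age 𝒜 i * Age 𝒜 j := by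
  rw [← (Submodule.map_injective_of_injective (f := φ.toLinearMap) hφ).eq_iff,
    Submodule.map_mul, hdeg' 𝒜 ℬ φ hdeg, hdeg' 𝒜 ℬ φ hdeg, hdeg' 𝒜 ℬ φ hdeg, map_mon_mul,
    (Submodule.map_injective_of_injective (f := mon (R := R) (A := A) (i + j))
      (mon_injective _)).eq_iff]

include hφ hdeg in
lemma nat_pow_iff (n : ℕ) :
    ℬ n = ℬ 1 ^ n ↔ Age 𝒜 n = Age 𝒜 1 ^ n := by
  rw [← (Submodule.map_injective_of_injective (f := φ.toLinearMap) hφ).eq_iff,
    Submodule.map_pow, hdeg' 𝒜 ℬ φ hdeg, hdeg' 𝒜 ℬ φ hdeg, map_mon_pow,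
    (Submodule.map_injective_of_injective (f := mon (R := R) (A := A) n)
      (mon_injective _)).eq_iff]

lemma mem_irrelevant_iff_mem_Age {a : A} :
    a ∈ (HomogeneousIdeal.irrelevant 𝒜).toIdeal ↔ a ∈ Age 𝒜 1 := by
  rw [mem_Age_iff]
  constructor
  · intro h m hm
    obtain rfl : m = 0 := by omega
    exact h
  · intro h
    exact h 0 Nat.one_pos

include hφ hdeg in
/-- If `A₊` is finitely generated, so is `B₊` (generated by `e X^j`, `1 ≤ j ≤ deg e`). -/
lemma irrelevant_fg_of_fg (h : (HomogeneousIdeal.irrelevant 𝒜).toIdeal.FG) :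
    (HomogeneousIdeal.irrelevant ℬ).toIdeal.FG := by
  classical
  obtain ⟨s, hs, hspan⟩ := Groth.Agent.H22.exists_finset_homogeneous_span_eq_irrelevant_of_fg 𝒜 h
  choose! d hd using hs
  -- the finite set of polynomials `e X^j`
  let F : Finset (Polynomial A) :=
    s.biUnion fun e => (Finset.Icc 1 (d e)).image fun j => Polynomial.monomial j e
  have hFmem : ∀ p, p ∈ F ↔ ∃ e ∈ s, ∃ j, 1 ≤ j ∧ j ≤ d e ∧ Polynomial.monomial j e = p := by
    intro p
    simp only [F, Finset.mem_biUnion, Finset.mem_image, Finset.mem_Icc]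
    constructor
    · rintro ⟨e, he, j, ⟨h1, h2⟩, rfl⟩; exact ⟨e, he, j, h1, h2, rfl⟩
    · rintro ⟨e, he, j, h1, h2, rfl⟩; exact ⟨e, he, j, ⟨h1, h2⟩, rfl⟩
  have hTfin : (φ ⁻¹' (F : Set (Polynomial A))).Finite :=
    Set.Finite.preimage hφ.injOn F.finite_toSet
  set T : Set B := φ ⁻¹' (F : Set (Polynomial A)) with hT
  have hTmem : ∀ b, b ∈ T ↔ ∃ e ∈ s, ∃ j, 1 ≤ j ∧ j ≤ d e ∧ Polynomial.monomial j e = φ b := by
    intro b
    rw [hT, Set.mem_preimage, Finset.mem_coe, hFmem]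
  refine ⟨hTfin.toFinset, ?_⟩
  rw [Set.Finite.coe_toFinset]
  apply le_antisymm
  · rw [Ideal.span_le]
    intro b hb
    obtain ⟨e, he, j, h1, h2, hb⟩ := (hTmem b).1 hb
    have : b ∈ ℬ j :=
      mem_of_map_eq 𝒜 ℬ φ hφ hdeg (le_Age h2 (hd e he).2) hb.symm
    exact HomogeneousIdeal.mem_irrelevant_of_mem ℬ h1 this
  · rw [HomogeneousIdeal.toIdeal_irrelevant_le]
    intro k hk g hg
    change g ∈ Ideal.span T
    -- the submodule of `a` with `a X^k ∈ φ (span T)`
    let N : Submodule R A := Submodule.comap (mon k)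
      (Submodule.map φ.toLinearMap ((Ideal.span T).restrictScalars R))
    have hN : ∀ m, k ≤ m → 𝒜 m ≤ N := by
      intro m hm a ha
      have ha' : a ∈ Ideal.span (s : Set A) := by
        rw [← hspan]
        exact HomogeneousIdeal.mem_irrelevant_of_mem 𝒜 (by omega) ha
      obtain ⟨c, hc, hsum⟩ := Submodule.mem_span_set.mp ha'
      have ham : a = (decompose 𝒜 a m : A) := (DirectSum.decompose_of_mem_same 𝒜 ha).symm
      change mon (R := R) k a ∈
        Submodule.map φ.toLinearMap ((Ideal.span T).restrictScalars R)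
      rw [ham, ← hsum, Finsupp.sum, DirectSum.decompose_sum, DFinsupp.finsetSum_apply,
        AddSubmonoidClass.coe_finsetSum, map_sum]
      refine Submodule.sum_mem _ fun e he => ?_
      have hes : e ∈ s := hc he
      obtain ⟨hde, hed⟩ := hd e hes
      rw [smul_eq_mul, DirectSum.coe_decompose_mul_of_right_mem 𝒜 m hed]
      split_ifs with hdm
      · set c' : A := (decompose 𝒜 (c e) (m - d e) : A) with hc'
        have hc'mem : c' ∈ 𝒜 (m - d e) := SetLike.coe_mem _
        set j := min k (d e) with hj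
        have hj1 : 1 ≤ j := le_min hk hde
        have hj2 : j ≤ d e := min_le_right _ _
        have hjk : j ≤ k := min_le_left _ _
        have hle : k - j ≤ m - d e := by
          rcases le_total k (d e) with h | h
          · rw [hj, min_eq_left h]; omega
          · rw [hj, min_eq_right h]; omega
        obtain ⟨w, _, hw⟩ := exists_lift 𝒜 ℬ φ hdeg (le_Age hle hc'mem)
        obtain ⟨b, _, hb⟩ := exists_lift 𝒜 ℬ φ hdeg (le_Age hj2 hed)
        have hbT : b ∈ T := (hTmem b).2 ⟨e, hes, j, hj1, hj2, hb.symm⟩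
        refine ⟨w * b, Ideal.mul_mem_left _ _ (Ideal.subset_span hbT), ?_⟩
        change φ (w * b) = Polynomial.monomial k (c' * e)
        rw [map_mul, hw, hb, Polynomial.monomial_mul_monomial, Nat.sub_add_cancel hjk]
      · simp
    obtain ⟨a, ha, hga⟩ := exists_of_mem 𝒜 ℬ φ hdeg hg
    have : a ∈ N := (iSup₂_le hN : Age 𝒜 k ≤ N) ha
    obtain ⟨g', hg', hg'a⟩ := this
    have : g = g' := hφ (hga.trans hg'a.symm)
    rw [this]; exact hg'

include hdeg in
/-- If `B₊` is finitely generated, so is `A₊`. -/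
lemma irrelevant_fg_of_fg' (h : (HomogeneousIdeal.irrelevant ℬ).toIdeal.FG) :
    (HomogeneousIdeal.irrelevant 𝒜).toIdeal.FG := by
  classical
  obtain ⟨s, hs, hspan⟩ := Groth.Agent.H22.exists_finset_homogeneous_span_eq_irrelevant_of_fg ℬ h
  refine ⟨s.image fun e => (φ e).coeff 1, ?_⟩
  have hs' : ∀ e ∈ s, (φ e).coeff 0 = 0 ∧ (φ e).coeff 1 ∈ Age 𝒜 1 := by
    intro e he
    obtain ⟨d, hd, hed⟩ := hs e he
    obtain ⟨a, ha, hea⟩ := exists_of_mem 𝒜 ℬ φ hdeg hed
    rw [hea, Polynomial.coeff_monomial, Polynomial.coeff_monomial]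
    refine ⟨if_neg (by omega), ?_⟩
    split_ifs with h1
    · exact h1 ▸ ha
    · exact Submodule.zero_mem _
  apply le_antisymm
  · rw [Ideal.span_le]
    intro x hx
    rw [Finset.coe_image] at hx
    obtain ⟨e, he, rfl⟩ := hx
    exact (mem_irrelevant_iff_mem_Age 𝒜).2 (hs' e he).2
  · intro a ha
    rw [mem_irrelevant_iff_mem_Age] at ha
    obtain ⟨g, hg, hga⟩ := exists_lift 𝒜 ℬ φ hdeg ha
    have hg' : g ∈ Ideal.span (s : Set B) := by
      rw [← hspan]; exact HomogeneousIdeal.mem_irrelevant_of_mem ℬ Nat.one_pos hg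
    obtain ⟨c, hc, hsum⟩ := Submodule.mem_span_set.mp hg'
    have : a = (φ g).coeff 1 := by rw [hga, Polynomial.coeff_monomial, if_pos rfl]
    rw [this, ← hsum, Finsupp.sum, map_sum, Polynomial.finsetSum_coeff]
    refine Ideal.sum_mem _ fun e he => ?_
    have hes : e ∈ s := hc he
    rw [smul_eq_mul, map_mul, Polynomial.mul_coeff_one, (hs' e hes).1, mul_zero, add_zero]
    exact Ideal.mul_mem_left _ _ (Ideal.subset_span (Finset.mem_image_of_mem _ hes))

include hφ hdeg in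
lemma irrelevant_fg_iff :
    (HomogeneousIdeal.irrelevant ℬ).toIdeal.FG ↔ (HomogeneousIdeal.irrelevant 𝒜).toIdeal.FG :=
  ⟨irrelevant_fg_of_fg' 𝒜 ℬ φ hdeg, irrelevant_fg_of_fg 𝒜 ℬ φ hφ hdeg⟩

/-- The ring hom `B → A`, `b ↦` constant coefficient of `φ b`. -/
noncomputable def psi : B →+* A := Polynomial.constantCoeff.comp (φ : B →+* Polynomial A)

include hdeg in
lemma psi_zero_surjective : Function.Surjective ((psi φ).comp (algebraMap (ℬ 0) B)) := by
  intro a
  have ha : a ∈ Age 𝒜 0 := by rw [Age_zero]; trivial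
  obtain ⟨b, hb, hba⟩ := exists_lift 𝒜 ℬ φ hdeg ha
  refine ⟨⟨b, hb⟩, ?_⟩
  change Polynomial.constantCoeff (φ b) = a
  rw [hba]; simp

include hφ hdeg in
lemma psi_zero_injective : Function.Injective ((psi φ).comp (algebraMap (ℬ 0) B)) := by
  rw [injective_iff_map_eq_zero]
  rintro ⟨b, hb⟩ h
  obtain ⟨a, ha, hba⟩ := exists_of_mem 𝒜 ℬ φ hdeg hb
  have h' : Polynomial.constantCoeff (φ b) = 0 := h
  rw [hba] at h'
  have ha0 : a = 0 := by simpa using h'
  have : b = 0 := hφ (by rw [hba, ha0]; simp)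
  exact Subtype.ext this

include hφ hdeg in
lemma isNoetherianRing_iff : IsNoetherianRing B ↔ IsNoetherianRing A := by
  constructor
  · intro _
    refine isNoetherianRing_of_surjective B A (psi φ) ?_
    intro a
    obtain ⟨b, hb⟩ := psi_zero_surjective 𝒜 ℬ φ hdeg a
    exact ⟨_, hb⟩
  · intro hA
    have e : ℬ 0 ≃+* A := RingEquiv.ofBijective _
      ⟨psi_zero_injective 𝒜 ℬ φ hφ hdeg, psi_zero_surjective 𝒜 ℬ φ hdeg⟩
    have : IsNoetherianRing (ℬ 0) := isNoetherianRing_of_ringEquiv A e.symm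
    have hfg : (HomogeneousIdeal.irrelevant 𝒜).toIdeal.FG := IsNoetherian.noetherian _
    have : Algebra.FiniteType (ℬ 0) B :=
      (Groth.Agent.H22.irrelevant_fg_iff_finiteType ℬ).1
        (irrelevant_fg_of_fg 𝒜 ℬ φ hφ hdeg hfg)
    exact Algebra.FiniteType.isNoetherianRing (ℬ 0) B

include hφ hdeg in
lemma irrelevant_le_radical {ι : Type*} (d : ι → ℕ) (hd : ∀ a, 0 < d a) (f : ι → A)
    (hf : ∀ a, f a ∈ 𝒜 (d a))
    (hrad : ∀ g ∈ (HomogeneousIdeal.irrelevant 𝒜).toIdeal,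
      ∃ n : ℕ, 0 < n ∧ g ^ n ∈ Ideal.span (Set.range f))
    (fn : ι → B) (hfn : ∀ a, φ (fn a) = Polynomial.monomial (d a) (f a)) :
    (HomogeneousIdeal.irrelevant ℬ).toIdeal ≤ (Ideal.span (Set.range fn)).radical := by
  classical
  set J := Ideal.span (Set.range fn) with hJ
  -- Step 1
  have step1 : ∀ (α : ι) (j e : ℕ) (c : A) (h : B), c ∈ 𝒜 j → 1 ≤ e → e ≤ j + d α →
      φ h = Polynomial.monomial e (c * f α) → h ∈ J.radical := by
    intro α j e c h hc he1 he2 hh
    refine ⟨d α, ?_⟩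
    have hdα := hd α
    have hmem : c ^ d α * f α ^ (d α - 1) ∈ Age 𝒜 ((e - 1) * d α) := by
      have h1 : c ^ d α ∈ 𝒜 (d α • j) := SetLike.pow_mem_graded _ hc
      have h2 : f α ^ (d α - 1) ∈ 𝒜 ((d α - 1) • d α) := SetLike.pow_mem_graded _ (hf α)
      refine le_Age ?_ (SetLike.GradedMul.mul_mem h1 h2)
      simp only [smul_eq_mul]
      have : e - 1 ≤ j + (d α - 1) := by omega
      calc (e - 1) * d α ≤ (j + (d α - 1)) * d α := Nat.mul_le_mul_right _ this
        _ = d α * j + (d α - 1) * d α := by ring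
    obtain ⟨w, _, hw⟩ := exists_lift 𝒜 ℬ φ hdeg hmem
    have : h ^ d α = w * fn α := by
      apply hφ
      have e1 : e * d α = (e - 1) * d α + d α := by
        obtain ⟨e', rfl⟩ : ∃ e', e = e' + 1 := ⟨e - 1, by omega⟩
        simp only [Nat.add_sub_cancel]; ring
      have e2 : (c * f α) ^ d α = c ^ d α * f α ^ (d α - 1) * f α := by
        rw [mul_pow, mul_assoc, ← pow_succ, Nat.sub_add_cancel hdα]
      rw [map_pow, map_mul, hh, hw, hfn, Polynomial.monomial_pow,
        Polynomial.monomial_mul_monomial, e1, e2]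
    rw [this]; exact Ideal.mul_mem_left _ _ (Ideal.subset_span ⟨α, rfl⟩)
  -- Step 2
  have step2 : ∀ (k m : ℕ) (a : A) (b : B), 1 ≤ k → k ≤ m → a ∈ 𝒜 m →
      φ b = Polynomial.monomial k a → b ∈ J.radical := by
    intro k m a b hk hkm ha hb
    obtain ⟨n, hn, han⟩ := hrad a (HomogeneousIdeal.mem_irrelevant_of_mem 𝒜 (by omega) ha)
    obtain ⟨c, hc⟩ := Finsupp.mem_ideal_span_range_iff_exists_finsupp.mp han
    have hanm : a ^ n ∈ 𝒜 (n * m) := by
      have := SetLike.pow_mem_graded n ha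
      rwa [smul_eq_mul] at this
    let N' : Submodule R A := Submodule.comap (mon (k * n))
      (Submodule.map φ.toLinearMap (J.radical.restrictScalars R))
    have haN : a ^ n ∈ N' := by
      have e1 : a ^ n = (decompose 𝒜 (a ^ n) (n * m) : A) :=
        (DirectSum.decompose_of_mem_same 𝒜 hanm).symm
      rw [e1, ← hc, Finsupp.sum, DirectSum.decompose_sum, DFinsupp.finsetSum_apply,
        AddSubmonoidClass.coe_finsetSum]
      refine Submodule.sum_mem _ fun i _ => ?_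
      rw [DirectSum.coe_decompose_mul_of_right_mem 𝒜 (n * m) (hf i)]
      split_ifs with hdi
      · set c' : A := (decompose 𝒜 (c i) (n * m - d i) : A) with hc'
        have hc'mem : c' ∈ 𝒜 (n * m - d i) := SetLike.coe_mem _
        have hle : k * n ≤ n * m := by
          rw [Nat.mul_comm k n]; exact Nat.mul_le_mul_left _ hkm
        have hcf : c' * f i ∈ 𝒜 (n * m) := by
          have := SetLike.GradedMul.mul_mem hc'mem (hf i)
          rwa [Nat.sub_add_cancel hdi] at this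
        obtain ⟨h, _, hh⟩ := exists_lift 𝒜 ℬ φ hdeg (le_Age hle hcf)
        have hk1 : 1 ≤ k * n := Nat.mul_pos hk hn
        have hh' := step1 i (n * m - d i) (k * n) c' h hc'mem hk1 (by omega) hh
        exact ⟨h, hh', hh⟩
      · exact Submodule.zero_mem _
    obtain ⟨g', hg', hg'a⟩ := haN
    have : b ^ n = g' := by
      apply hφ
      rw [map_pow, hb, Polynomial.monomial_pow]
      exact hg'a.symm
    exact Ideal.mem_radical_of_pow_mem (this ▸ hg')
  -- Step 3
  rw [HomogeneousIdeal.toIdeal_irrelevant_le]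
  intro k hk g hg
  change g ∈ J.radical
  let N : Submodule R A := Submodule.comap (mon k)
    (Submodule.map φ.toLinearMap (J.radical.restrictScalars R))
  have hN : ∀ m, k ≤ m → 𝒜 m ≤ N := by
    intro m hm a ha
    obtain ⟨b, _, hb⟩ := exists_lift 𝒜 ℬ φ hdeg (le_Age hm ha)
    exact ⟨b, step2 k m a b hk hm ha hb, hb⟩
  obtain ⟨a, ha, hga⟩ := exists_of_mem 𝒜 ℬ φ hdeg hg
  have : a ∈ N := (iSup₂_le hN : Age 𝒜 k ≤ N) ha
  obtain ⟨g', hg', hg'a⟩ := this
  have : g = g' := hφ (hga.trans hg'a.symm)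
  rw [this]; exact hg'

end hdeg

end Groth.Agent.H41.Natural
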