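import Groth.Agent.H41.PConeIso
import Groth.Agent.H41.Natural
import Groth.Agent.H18.ProjBasic
import Groth.Agent.H22.Graded

/-!
# `ℬ n = ℬ 1 ^ n` eventually when `Proj ℬ → Proj (⊕ ℬ 1 ^ n)` is an isomorphism
-/

set_option autoImplicit false
set_option linter.unusedSectionVars false
universe u

open AlgebraicGeometry CategoryTheory HomogeneousLocalization DirectSum

namespace Groth.Agent.H41.DegOneGen

open Groth.Agent.H41.Natural

variable {R A B : Type u} [CommRing R] [CommRing A] [Algebra R A] {𝒜 : ℕ → Submodule R A}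
  [GradedAlgebra 𝒜] [CommRing B] [Algebra R B] {ℬ : ℕ → Submodule R B} [GradedAlgebra ℬ]
  (φ : 𝒜 →+*ᵍ ℬ)

/-- From surjectivity of `Away.map φ f`, `f` of degree one: a power of `φ f` multiplies any
homogeneous `b` into the range of `φ`. -/
theorem exists_pow_mul_eq {f : A} (hf : f ∈ 𝒜 1) (hs : Function.Surjective (Away.map φ f))
    {m : ℕ} {b : B} (hb : b ∈ ℬ m) : ∃ (N : ℕ) (a : A), φ a = φ f ^ N * b := by
  have hb' : b ∈ ℬ (m • 1) := by simpa using hb
  obtain ⟨z, hz⟩ := hs (Away.mk ℬ (φ.map_mem hf) m b hb')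
  obtain ⟨k, a, ha, rfl⟩ := Away.mk_surjective 𝒜 hf z
  rw [Away.map_mk] at hz
  have hz' := congrArg HomogeneousLocalization.val hz
  rw [Away.val_mk, Away.val_mk, Localization.mk_eq_mk_iff, Localization.r_iff_exists] at hz'
  obtain ⟨⟨_, N, rfl⟩, hN⟩ := hz'
  dsimp only at hN
  refine ⟨N + k, f ^ (N + m) * a, ?_⟩
  rw [map_mul, map_pow, pow_add, pow_add, mul_assoc, hN]
  ring

/-- An injective graded ring hom reflects homogeneity. -/
theorem mem_of_map_mem (hφ : Function.Injective φ) {n : ℕ} {a : A} (h : φ a ∈ ℬ n) : a ∈ 𝒜 n := by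
  classical
  rw [← DirectSum.sum_support_decompose 𝒜 a]
  refine Submodule.sum_mem _ fun i _ => ?_
  by_cases hi : i = n
  · subst hi; exact SetLike.coe_mem _
  · have h1 : φ (decompose 𝒜 a i) = 0 := by
      rw [GradedRingHom.map_directSumDecompose, DirectSum.decompose_of_mem_ne ℬ h (Ne.symm hi)]
    have h2 : ((decompose 𝒜 a i : 𝒜 i) : A) = 0 := hφ (h1.trans (map_zero φ).symm)
    rw [h2]; exact zero_mem _

theorem map_mem_pow (n : ℕ) (hn : 1 ≤ n) : ∀ {x : A}, x ∈ 𝒜 1 ^ n → φ x ∈ ℬ 1 ^ n := by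
  induction n, hn using Nat.le_induction with
  | base => intro x hx; rw [pow_one] at hx ⊢; exact φ.map_mem hx
  | succ n hn ih =>
    intro x hx
    rw [pow_succ] at hx ⊢
    induction hx using Submodule.mul_induction_on' with
    | mem_mul_mem a ha b hb =>
      rw [map_mul]
      exact Submodule.mul_mem_mul (ih ha) (φ.map_mem hb)
    | add a _ b _ ha hb => rw [map_add]; exact add_mem ha hb

theorem pow_le_graded (ℬ : ℕ → Submodule R B) [GradedAlgebra ℬ] (n : ℕ) : ℬ 1 ^ n ≤ ℬ n := by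
  induction n with
  | zero => rw [pow_zero, Submodule.one_le]; exact SetLike.GradedOne.one_mem
  | succ n ih =>
    rw [pow_succ, Submodule.mul_le]
    intro a ha b hb
    exact SetLike.GradedMul.mul_mem (ih ha) hb

theorem pow_le_span_pow (P : Submodule R A) (n : ℕ) :
    ∀ {x : A}, x ∈ P ^ n → x ∈ (Ideal.span (P : Set A)) ^ n := by
  induction n with
  | zero => intro x _; rw [pow_zero, Ideal.one_eq_top]; exact Submodule.mem_top
  | succ n ih =>
    intro x hx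
    rw [pow_succ] at hx ⊢
    induction hx using Submodule.mul_induction_on' with
    | mem_mul_mem a ha b hb => exact Ideal.mul_mem_mul (ih ha) (Ideal.subset_span hb)
    | add a _ b _ ha hb => exact add_mem ha hb

theorem graded_le_span_pow (hgen : ∀ n : ℕ, 1 ≤ n → 𝒜 n = 𝒜 1 ^ n) (n : ℕ) {x : A}
    (hx : x ∈ 𝒜 n) : x ∈ (Ideal.span (𝒜 1 : Set A)) ^ n := by
  rcases Nat.eq_zero_or_pos n with rfl | hn
  · rw [pow_zero, Ideal.one_eq_top]; exact Submodule.mem_top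
  · rw [hgen n hn] at hx
    exact pow_le_span_pow _ n hx

/-- The ideal of `a` with `φ a * b` in the range of `φ`. -/
def colon (b : B) : Ideal A where
  carrier := {a | ∃ c : A, φ c = φ a * b}
  add_mem' := by
    rintro a a' ⟨c, hc⟩ ⟨c', hc'⟩
    exact ⟨c + c', by rw [map_add, map_add, add_mul, hc, hc']⟩
  zero_mem' := ⟨0, by simp⟩
  smul_mem' := by
    rintro r a ⟨c, hc⟩
    exact ⟨r * c, by rw [smul_eq_mul, map_mul, map_mul, hc, mul_assoc]⟩

theorem mem_colon {b : B} {a : A} : a ∈ colon φ b ↔ ∃ c : A, φ c = φ a * b := Iff.rfl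

theorem span_le_radical_colon {b : B}
    (h : ∀ f ∈ 𝒜 1, ∃ (N : ℕ) (a : A), φ a = φ f ^ N * b) :
    Ideal.span (𝒜 1 : Set A) ≤ (colon φ b).radical := by
  rw [Ideal.span_le]
  intro f hf
  obtain ⟨N, a, ha⟩ := h f hf
  exact ⟨N, a, by rw [ha, map_pow]⟩


/-- `𝒜₊ = (𝒜 1)` is a finitely generated ideal when `ℬ` is of finite type over `ℬ 0`. -/
theorem span_degOne_fg [Algebra.FiniteType (ℬ 0) B] (hφ : Function.Injective φ)
    (h0 : Set.SurjOn φ (𝒜 0) (ℬ 0)) (h1 : Set.SurjOn φ (𝒜 1) (ℬ 1)) :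
    (Ideal.span (𝒜 1 : Set A)).FG := by
  classical
  obtain ⟨s, hs1, hs2⟩ := GradedAlgebra.exists_finset_adjoin_eq_top_and_homogeneous_ne_zero ℬ
  have hs : ∀ e ∈ (s : Set B), ∃ d : ℕ, 0 < d ∧ e ∈ ℬ d := by
    intro e he
    obtain ⟨n, hn, hen⟩ := hs2 e he
    exact ⟨n, Nat.pos_of_ne_zero hn, hen⟩
  have hspan : (HomogeneousIdeal.irrelevant ℬ).toIdeal = Ideal.span (s : Set B) :=
    (Groth.Agent.H22.irrelevant_eq_span_iff_adjoin_eq_top ℬ (s : Set B) hs).mpr hs1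
  let t : B → A := fun e => if h : e ∈ ℬ 1 then (h1 h).choose else 0
  have ht1 : ∀ e, t e ∈ 𝒜 1 := by
    intro e
    by_cases h : e ∈ ℬ 1
    · simp only [t, dif_pos h]; exact (h1 h).choose_spec.1
    · simp only [t, dif_neg h]; exact zero_mem _
  have ht2 : ∀ e, e ∈ ℬ 1 → φ (t e) = e := by
    intro e h
    simp only [t, dif_pos h]; exact (h1 h).choose_spec.2
  refine ⟨s.image t, le_antisymm ?_ ?_⟩
  · rw [Ideal.span_le]
    intro x hx
    obtain ⟨e, -, rfl⟩ := Finset.mem_image.mp (Finset.mem_coe.mp hx)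
    exact Ideal.subset_span (ht1 e)
  · rw [Ideal.span_le]
    intro x hx
    have hx1 : φ x ∈ ℬ 1 := φ.map_mem hx
    have hx2 : φ x ∈ Ideal.span (s : Set B) :=
      hspan ▸ HomogeneousIdeal.mem_irrelevant_of_mem ℬ Nat.one_pos hx1
    obtain ⟨c, hc, hsum⟩ := Submodule.mem_span_set.mp hx2
    have hxn : φ x = (decompose ℬ (φ x) 1 : B) := (DirectSum.decompose_of_mem_same ℬ hx1).symm
    have key : ∃ y ∈ Ideal.span ((s.image t : Finset A) : Set A), φ y = φ x := by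
      rw [hxn, ← hsum, Finsupp.sum, DirectSum.decompose_sum, DFinsupp.finsetSum_apply,
        AddSubmonoidClass.coe_finsetSum]
      refine Finset.sum_induction _ (fun z => ∃ y ∈ Ideal.span ((s.image t : Finset A) : Set A),
        φ y = z) ?_ ⟨0, zero_mem _, map_zero φ⟩ ?_
      · rintro _ _ ⟨y, hy, rfl⟩ ⟨y', hy', rfl⟩
        exact ⟨y + y', add_mem hy hy', map_add φ y y'⟩
      · intro e he
        obtain ⟨d, hd, hed⟩ := hs e (hc he)
        rw [smul_eq_mul, DirectSum.coe_decompose_mul_of_right_mem ℬ 1 hed]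
        split_ifs with hd1
        · have hd1' : d = 1 := by omega
          subst hd1'
          obtain ⟨a0, ha0, ha0e⟩ := h0 (SetLike.coe_mem (decompose ℬ (c e) (1 - 1)))
          refine ⟨a0 * t e, Ideal.mul_mem_left _ _ (Ideal.subset_span ?_), ?_⟩
          · exact Finset.mem_coe.mpr (Finset.mem_image.mpr ⟨e, hc he, rfl⟩)
          · rw [map_mul, ha0e, ht2 e hed]
        · exact ⟨0, zero_mem _, map_zero φ⟩
    obtain ⟨y, hy, hyx⟩ := key
    rw [← hφ hyx]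
    exact hy

/-- Multiplication by any element of `B` preserves `φ (A_{≥ M})`, provided the homogeneous
generators of `B` multiply `φ (𝒜 n)`, `n ≥ M`, into the range of `φ`. -/
theorem exists_mul_eq_of_generators (hφ : Function.Injective φ)
    (h0 : Set.SurjOn φ (𝒜 0) (ℬ 0)) (s : Set B) (hs1 : Algebra.adjoin (ℬ 0) s = ⊤)
    (hs2 : ∀ e ∈ s, ∃ n : ℕ, e ∈ ℬ n) (M : ℕ)
    (hM : ∀ e ∈ s, ∀ n : ℕ, M ≤ n → ∀ a ∈ 𝒜 n, ∃ c : A, φ c = φ a * e) (x : B) :
    ∀ a ∈ Age 𝒜 M, ∃ a' ∈ Age 𝒜 M, φ a' = φ a * x := by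
  classical
  have hx : x ∈ Algebra.adjoin (ℬ 0) s := hs1 ▸ Algebra.mem_top
  induction hx using Algebra.adjoin_induction with
  | mem e he =>
    intro a ha
    obtain ⟨ne, hne⟩ := hs2 e he
    rw [← DirectSum.sum_support_decompose 𝒜 a, map_sum, Finset.sum_mul]
    refine Finset.sum_induction _ (fun z => ∃ a' ∈ Age 𝒜 M, φ a' = z) ?_
      ⟨0, zero_mem _, map_zero φ⟩ ?_
    · rintro _ _ ⟨y, hy, rfl⟩ ⟨y', hy', rfl⟩
      exact ⟨y + y', add_mem hy hy', map_add φ y y'⟩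
    · intro i _
      by_cases hi : i < M
      · refine ⟨0, zero_mem _, ?_⟩
        rw [(mem_Age_iff 𝒜).1 ha i hi, map_zero, zero_mul]
      · obtain ⟨c, hc⟩ := hM e he i (by omega) _ (SetLike.coe_mem (decompose 𝒜 a i))
        refine ⟨c, ?_, hc⟩
        have hmem : φ c ∈ ℬ (i + ne) := by
          rw [hc]
          exact SetLike.GradedMul.mul_mem (φ.map_mem (SetLike.coe_mem _)) hne
        exact le_Age (by omega) (mem_of_map_mem φ hφ hmem)
  | algebraMap r =>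
    intro a ha
    obtain ⟨a0, ha0, ha0r⟩ := h0 r.2
    refine ⟨a * a0, ?_, ?_⟩
    · have := Age_mul_le 𝒜 M 0 (Submodule.mul_mem_mul ha (le_Age (le_refl 0) ha0))
      simpa using this
    · rw [map_mul, ha0r]; rfl
  | add y z _ _ hy hz =>
    intro a ha
    obtain ⟨y', hy', hy''⟩ := hy a ha
    obtain ⟨z', hz', hz''⟩ := hz a ha
    exact ⟨y' + z', add_mem hy' hz', by rw [map_add, hy'', hz'', mul_add]⟩
  | mul y z _ _ hy hz =>
    intro a ha
    obtain ⟨y', hy', hy''⟩ := hy a ha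
    obtain ⟨z', hz', hz''⟩ := hz y' hy'
    exact ⟨z', hz', by rw [hz'', hy'', mul_assoc]⟩

/-- Consequently the ideal of `B` generated by `φ (𝒜 M)` lies in `φ (A_{≥ M})`. -/
theorem span_image_subset (M : ℕ)
    (hT : ∀ x : B, ∀ a ∈ Age 𝒜 M, ∃ a' ∈ Age 𝒜 M, φ a' = φ a * x) {y : B}
    (hy : y ∈ Ideal.span (φ '' (𝒜 M : Set A))) : ∃ a ∈ Age 𝒜 M, φ a = y := by
  induction hy using Submodule.span_induction with
  | mem y hy =>
    obtain ⟨a, ha, rfl⟩ := hy
    exact ⟨a, le_Age (le_refl M) ha, rfl⟩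
  | zero => exact ⟨0, zero_mem _, map_zero φ⟩
  | add y z _ _ hy hz =>
    obtain ⟨y', hy', rfl⟩ := hy
    obtain ⟨z', hz', rfl⟩ := hz
    exact ⟨y' + z', add_mem hy' hz', map_add φ y' z'⟩
  | smul r y _ hy =>
    obtain ⟨y', hy', rfl⟩ := hy
    obtain ⟨a', ha', h⟩ := hT r y' hy'
    exact ⟨a', ha', by rw [h, smul_eq_mul, mul_comm]⟩


/-- If the morphism induced by `φ` is everywhere defined, the irrelevant ideal of `ℬ` lies in the
radical of the ideal generated by `φ (𝒜 M)`. -/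
theorem irrelevant_le_radical_span_image (hgen : ∀ n : ℕ, 1 ≤ n → 𝒜 n = 𝒜 1 ^ n)
    (hdom : PCone.dom φ = ⊤) (M : ℕ) :
    (HomogeneousIdeal.irrelevant ℬ).toIdeal ≤ (Ideal.span (φ '' (𝒜 M : Set A))).radical := by
  have hI : (Ideal.span (φ '' (𝒜 M : Set A))).IsHomogeneous ℬ := by
    apply Ideal.homogeneous_span
    rintro _ ⟨a, ha, rfl⟩
    exact ⟨M, φ.map_mem ha⟩
  rw [← Groth.Agent.H18.zeroLocus_eq_empty_iff ℬ _ hI, Set.eq_empty_iff_forall_notMem]
  intro x hx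
  have hx' : Ideal.span (φ '' (𝒜 M : Set A)) ≤ x.asHomogeneousIdeal.toIdeal := hx
  have hxtop : x ∈ PCone.dom φ := by rw [hdom]; trivial
  obtain ⟨⟨f, d, hd, hf⟩, hxf⟩ := TopologicalSpace.Opens.mem_iSup.mp hxtop
  have hxf' : φ f ∉ x.asHomogeneousIdeal := hxf
  apply hxf'
  have h1 : Ideal.span (𝒜 1 : Set A) ≤ Ideal.comap (φ : A →+* B) x.asHomogeneousIdeal.toIdeal := by
    rw [Ideal.span_le]
    intro g hg
    have hgM : g ^ M ∈ 𝒜 M := by simpa using SetLike.pow_mem_graded M hg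
    have h2 : φ (g ^ M) ∈ x.asHomogeneousIdeal.toIdeal :=
      hx' (Ideal.subset_span ⟨g ^ M, hgM, rfl⟩)
    rw [map_pow] at h2
    exact x.isPrime.mem_of_pow_mem M h2
  have h3 : f ∈ Ideal.span (𝒜 1 : Set A) :=
    Ideal.pow_le_self (by omega) (graded_le_span_pow hgen d hf)
  exact h1 h3

theorem main [Algebra.FiniteType (ℬ 0) B] (hφ : Function.Injective φ)
    (h0 : Set.BijOn φ (𝒜 0) (ℬ 0)) (h1 : Set.BijOn φ (𝒜 1) (ℬ 1))
    (hgen : ∀ n : ℕ, 1 ≤ n → 𝒜 n = 𝒜 1 ^ n)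
    (hdom : PCone.dom φ = ⊤)
    (hsurj : ∀ f ∈ 𝒜 1, Function.Surjective (Away.map φ f)) :
    ∃ n₀ : ℕ, ∀ n : ℕ, n₀ ≤ n → ℬ n = ℬ 1 ^ n := by
  classical
  obtain ⟨s, hs1, hs2⟩ := GradedAlgebra.exists_finset_adjoin_eq_top_and_homogeneous_ne_zero ℬ
  have hfgA : (Ideal.span (𝒜 1 : Set A)).FG := span_degOne_fg φ hφ h0.surjOn h1.surjOn
  have hk : ∀ e ∈ s, ∃ k : ℕ, Ideal.span (𝒜 1 : Set A) ^ k ≤ colon φ e := by
    intro e he
    obtain ⟨n, -, hen⟩ := hs2 e he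
    refine Ideal.exists_pow_le_of_le_radical_of_fg (span_le_radical_colon φ ?_) hfgA
    intro f hf
    exact exists_pow_mul_eq φ hf (hsurj f hf) hen
  choose! k hk using hk
  let M : ℕ := s.sup k
  have hM : ∀ e ∈ (s : Set B), ∀ n : ℕ, M ≤ n → ∀ a ∈ 𝒜 n, ∃ c : A, φ c = φ a * e := by
    intro e he n hn a ha
    have hkM : k e ≤ n := (Finset.le_sup (f := k) he).trans hn
    exact hk e he (Ideal.pow_le_pow_right hkM (graded_le_span_pow hgen n ha))
  have hT := exists_mul_eq_of_generators φ hφ h0.surjOn (s : Set B) hs1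
    (fun e he => let ⟨n, _, h⟩ := hs2 e he; ⟨n, h⟩) M hM
  have hfgB : (HomogeneousIdeal.irrelevant ℬ).toIdeal.FG :=
    (Groth.Agent.H22.irrelevant_fg_iff_finiteType ℬ).mpr inferInstance
  obtain ⟨L, hL⟩ := Ideal.exists_pow_le_of_le_radical_of_fg
    (irrelevant_le_radical_span_image φ hgen hdom M) hfgB
  obtain ⟨D, hD⟩ := Groth.Agent.H18.exists_irrelevant_le_lowIdeal ℬ hfgB
  refine ⟨L * D + 1, fun n hn => le_antisymm ?_ (pow_le_graded ℬ n)⟩
  intro x hx
  have hx1 : x ∈ (HomogeneousIdeal.irrelevant ℬ).toIdeal ^ L :=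
    Groth.Agent.H18.graded_le_irrelevant_pow ℬ D hD L n (by omega) (by omega) x hx
  obtain ⟨a, -, rfl⟩ := span_image_subset φ M hT (hL hx1)
  have ha : a ∈ 𝒜 n := mem_of_map_mem φ hφ hx
  rw [hgen n (by omega)] at ha
  exact map_mem_pow φ n (by omega) ha

end Groth.Agent.H41.DegOneGen
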