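import Groth.Agent.H44.HomOfBasis
import Groth.Prelude.Def_RelProj2

/-!
# The projection of a quasi-coherent graded algebra onto its degree `d` part, as a module endomorphism (helper41)
-/

set_option autoImplicit false
universe u

open CategoryTheory CategoryTheory.Limits AlgebraicGeometry TopologicalSpace Opposite

namespace Groth.Agent.H41.DegProj

variable {Y : Scheme.{u}} (𝒮 : RelProj.QCGrAlg Y) (d : ℕ)

theorem isBasis_affine : Opens.IsBasis (Set.range (fun U : Y.affineOpens => (U.1 : Y.Opens))) := by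
  rw [Subtype.range_coe]
  exact Y.isBasis_affineOpens

/-- the projection over an affine open -/
noncomputable def projFun (U : Y.affineOpens) (x : 𝒮.presheaf.obj (op U.1)) : 𝒮.presheaf.obj (op U.1) :=
  (DirectSum.decompose (𝒮.deg U.1 U.2) x d : 𝒮.presheaf.obj (op U.1))

theorem projFun_mem (U : Y.affineOpens) (x : 𝒮.presheaf.obj (op U.1)) :
    projFun 𝒮 d U x ∈ 𝒮.deg U.1 U.2 d := SetLike.coe_mem _

theorem projFun_of_mem (U : Y.affineOpens) {x : 𝒮.presheaf.obj (op U.1)} (hx : x ∈ 𝒮.deg U.1 U.2 d) :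
    projFun 𝒮 d U x = x := by
  unfold projFun
  rw [DirectSum.decompose_of_mem_same _ hx]

theorem projFun_add (U : Y.affineOpens) (x y : 𝒮.presheaf.obj (op U.1)) :
    projFun 𝒮 d U (x + y) = projFun 𝒮 d U x + projFun 𝒮 d U y := by
  unfold projFun
  rw [DirectSum.decompose_add, DirectSum.add_apply, AddSubgroup.coe_add]

theorem projFun_str_mul (U : Y.affineOpens) (r : Γ(Y, U.1)) (x : 𝒮.presheaf.obj (op U.1)) :
    projFun 𝒮 d U ((𝒮.str.app (op U.1)).hom r * x) = (𝒮.str.app (op U.1)).hom r * projFun 𝒮 d U x := by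
  unfold projFun
  rw [DirectSum.coe_decompose_mul_of_left_mem_zero _ (𝒮.str_mem U.1 U.2 r)]

theorem projFun_res (U V : Y.affineOpens) (h : V.1 ≤ U.1) (x : 𝒮.presheaf.obj (op U.1)) :
    projFun 𝒮 d V ((𝒮.presheaf.map (homOfLE h).op).hom x) =
      (𝒮.presheaf.map (homOfLE h).op).hom (projFun 𝒮 d U x) := by
  unfold projFun
  have h1 : (𝒮.res U.2 V.2 h) (DirectSum.decompose (𝒮.deg U.1 U.2) x d) =
      DirectSum.decompose (𝒮.deg V.1 V.2) ((𝒮.res U.2 V.2 h) x) d :=
    GradedRingHom.map_directSumDecompose _ _ (𝒮.res U.2 V.2 h)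
  exact h1.symm

/-- the projection over an affine open, as a linear map -/
noncomputable def projLin (U : Y.affineOpens) :
    Γ(𝒮.toModule, U.1) →ₗ[Γ(Y, U.1)] Γ(𝒮.toModule, U.1) where
  toFun x := projFun 𝒮 d U x
  map_add' x y := projFun_add 𝒮 d U x y
  map_smul' r x := projFun_str_mul 𝒮 d U r x

/-- The projection of `𝒮` onto its degree `d` part. -/
noncomputable def proj : 𝒮.toModule ⟶ 𝒮.toModule :=
  Groth.Agent.H44.homOfBasis (fun U : Y.affineOpens => (U.1 : Y.Opens)) isBasis_affine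
    (projLin 𝒮 d) (fun U V h x => projFun_res 𝒮 d U V h x)

theorem proj_app (U : Y.Opens) (hU : IsAffineOpen U) (x : Γ(𝒮.toModule, U)) :
    (proj 𝒮 d).app U x = projFun 𝒮 d ⟨U, hU⟩ x :=
  Groth.Agent.H44.homOfBasis_app (fun U : Y.affineOpens => (U.1 : Y.Opens)) isBasis_affine
    (projLin 𝒮 d) (fun U V h x => projFun_res 𝒮 d U V h x) ⟨U, hU⟩ x

end Groth.Agent.H41.DegProj
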