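import Groth.Prelude.Def_RelSpec2
import Groth.Agent.H18.AffAlgBij
import Groth.Agent.H12.QCohIso
import Groth.Agent.H8.PushQCoh
import Mathlib.AlgebraicGeometry.Morphisms.IsIso

/-!
# Isomorphisms of schemes affine over a base, and of quasi-coherent modules on them, detected on the base (helper41)
-/

set_option autoImplicit false
universe u

namespace Groth.Agent.H41.DiIso

open CategoryTheory CategoryTheory.Limits AlgebraicGeometry TopologicalSpace Opposite

theorem isIso_map_eqToHom_op {C D : Type*} [Category C] [Category D] (F : Cᵒᵖ ⥤ D) {a b : C}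
    (e : a = b) : IsIso (F.map (eqToHom e).op) := by
  subst e
  rw [eqToHom_refl, op_id, F.map_id]
  infer_instance

variable {X Y S : Scheme.{u}} (gX : X ⟶ S) (gY : Y ⟶ S) (h : Y ⟶ X) (hh : h ≫ gX = gY)

include hh in
theorem preimage_eq (U : S.Opens) : h ⁻¹ᵁ (gX ⁻¹ᵁ U) = gY ⁻¹ᵁ U := by
  subst hh; rfl

theorem isIso_appLE_of_isIso [IsIso h] (W : X.Opens) (V : Y.Opens) (e : V = h ⁻¹ᵁ W) :
    IsIso (h.appLE W V e.le) := by
  subst e
  rw [← Scheme.Hom.app_eq_appLE]
  infer_instance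

theorem isIso_app_of_isIso_appLE (W : X.Opens) (V : Y.Opens) (e : V = h ⁻¹ᵁ W)
    (hi : IsIso (h.appLE W V e.le)) : IsIso (h.app W) := by
  subst e
  rw [← Scheme.Hom.app_eq_appLE] at hi
  exact hi

theorem isIso_algHom_of_isIso [IsIso h] : IsIso (AffAlg.algHom gX gY h hh) := by
  have : ∀ U, IsIso ((AffAlg.algHom gX gY h hh).app U) := fun U => by
    have e := Groth.Agent.H18.algHom_app_eq_appLE gX gY h hh U.unop
    have e' : (AffAlg.algHom gX gY h hh).app U =
        h.appLE (gX ⁻¹ᵁ U.unop) (gY ⁻¹ᵁ U.unop) (by subst hh; exact le_rfl) := e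
    rw [e']
    exact isIso_appLE_of_isIso h _ _ (by subst hh; rfl)
  exact NatIso.isIso_of_isIso_app _

include hh in
theorem isIso_app_of_isIso_algHom (hA : IsIso (AffAlg.algHom gX gY h hh)) (U : S.Opens) :
    IsIso (h.app (gX ⁻¹ᵁ U)) := by
  have h1 : IsIso ((AffAlg.algHom gX gY h hh).app (op U)) := inferInstance
  rw [Groth.Agent.H18.algHom_app_eq_appLE gX gY h hh U] at h1
  exact isIso_app_of_isIso_appLE h _ _ (by subst hh; rfl) h1

include hh in
theorem isIso_of_isIso_algHom [IsAffineHom gX] [IsAffineHom gY]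
    (hA : IsIso (AffAlg.algHom gX gY h hh)) : IsIso h := by
  have hcov : (⨆ U : S.affineOpens, ((⟨gX ⁻¹ᵁ U.1, U.2.preimage gX⟩ : X.affineOpens) : X.Opens)) = ⊤ :=
    Groth.Agent.H18.iSup_preimage_affineOpens gX
  change MorphismProperty.isomorphisms Scheme.{u} h
  refine (HasAffineProperty.iff_of_iSup_eq_top (P := MorphismProperty.isomorphisms Scheme.{u})
    (fun U : S.affineOpens => (⟨gX ⁻¹ᵁ U.1, U.2.preimage gX⟩ : X.affineOpens)) hcov).mpr fun U => ?_
  refine ⟨?_, ?_⟩
  · change IsAffineOpen (h ⁻¹ᵁ (gX ⁻¹ᵁ U.1))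
    rw [preimage_eq gX gY h hh]
    exact U.2.preimage gY
  · rw [morphismRestrict_appTop]
    have key : ∀ W : X.Opens, W = gX ⁻¹ᵁ U.1 → IsIso (h.app W) := by
      rintro W rfl
      exact isIso_app_of_isIso_algHom gX gY h hh hA U.1
    have h1 := key _ (Scheme.Opens.ι_image_top (gX ⁻¹ᵁ U.1))
    refine @IsIso.comp_isIso _ _ _ _ _ _ _ h1 ?_
    exact isIso_map_eqToHom_op Y.presheaf _

theorem isIso_of_isIso_pushforward_map [IsAffineHom gX] {F G : X.Modules} [F.IsQuasicoherent]
    [G.IsQuasicoherent] (v : F ⟶ G) (hv : IsIso ((Scheme.Modules.pushforward gX).map v)) : IsIso v := by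
  refine Groth.Agent.H12.QCohIso.isIso_of_bijective_on_cover v
    (fun U : S.affineOpens => gX ⁻¹ᵁ U.1) ?_ (fun U => U.2.preimage gX) (fun U => ?_)
  · intro x
    have hx : x ∈ (⨆ V : S.affineOpens, gX ⁻¹ᵁ V.1) := by
      rw [Groth.Agent.H18.iSup_preimage_affineOpens gX]; trivial
    exact Opens.mem_iSup.mp hx
  · have h1 : IsIso (((Scheme.Modules.pushforward gX).map v).app U.1) := inferInstance
    exact ConcreteCategory.bijective_of_isIso (((Scheme.Modules.pushforward gX).map v).app U.1)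

end Groth.Agent.H41.DiIso
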