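import Groth.Agent.H41.QCAlgPushout

/-!
# The direct-image algebra of a fibre product of affine schemes over a base is the tensor product (helper41)
-/

set_option autoImplicit false
universe u

namespace Groth.Agent.H41.DirImgPushout

open CategoryTheory CategoryTheory.Limits AlgebraicGeometry TopologicalSpace Opposite RelSpec

variable {X X' Y Z : Scheme.{u}} (f : X ⟶ Y) (f' : X' ⟶ Y) (p : Z ⟶ X) (p' : Z ⟶ X')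
  (hZ : IsPullback p p' f f')

include hZ in
theorem preimage_eq (V : Y.Opens) : p ⁻¹ᵁ (f ⁻¹ᵁ V) = p' ⁻¹ᵁ (f' ⁻¹ᵁ V) := by
  rw [← Scheme.Hom.comp_preimage, ← Scheme.Hom.comp_preimage, hZ.w]

include hZ in
/-- Sections over the preimages of an affine open of `Y` form a pushout square of rings. -/
theorem isPushout_appLE [IsAffineHom f] [IsAffineHom f'] (V : Y.Opens) (hV : IsAffineOpen V) :
    IsPushout (f.appLE V (f ⁻¹ᵁ V) le_rfl) (f'.appLE V (f' ⁻¹ᵁ V) le_rfl)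
      (p.appLE (f ⁻¹ᵁ V) (p ⁻¹ᵁ (f ⁻¹ᵁ V)) le_rfl)
      (p'.appLE (f' ⁻¹ᵁ V) (p ⁻¹ᵁ (f ⁻¹ᵁ V)) (preimage_eq f f' p p' hZ V).le) := by
  have hUY : p ⁻¹ᵁ (f ⁻¹ᵁ V) = p ⁻¹ᵁ (f ⁻¹ᵁ V) ⊓ p' ⁻¹ᵁ (f' ⁻¹ᵁ V) := by
    rw [← preimage_eq f f' p p' hZ V, inf_idem]
  have hpb := Scheme.Hom.isPullback_resLE hZ (US := V) (UT := f' ⁻¹ᵁ V) (UX := f ⁻¹ᵁ V) le_rfl le_rfl
    (UY := p ⁻¹ᵁ (f ⁻¹ᵁ V)) hUY
  haveI : IsAffine (V : Scheme.{u}) := hV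
  haveI : IsAffine ((f ⁻¹ᵁ V : X.Opens) : Scheme.{u}) := hV.preimage f
  haveI : IsAffine ((f' ⁻¹ᵁ V : X'.Opens) : Scheme.{u}) := hV.preimage f'
  have hpo := isPushout_appTop_of_isPullback hpb
  refine hpo.of_iso V.topIso (f ⁻¹ᵁ V).topIso (f' ⁻¹ᵁ V).topIso (p ⁻¹ᵁ (f ⁻¹ᵁ V)).topIso ?_ ?_ ?_ ?_
  · exact (arrowResLEAppIso f V (f ⁻¹ᵁ V) le_rfl).hom.w.symm
  · exact (arrowResLEAppIso f' V (f' ⁻¹ᵁ V) le_rfl).hom.w.symm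
  · exact (arrowResLEAppIso p (f ⁻¹ᵁ V) (p ⁻¹ᵁ (f ⁻¹ᵁ V)) le_rfl).hom.w.symm
  · exact (arrowResLEAppIso p' (f' ⁻¹ᵁ V) (p ⁻¹ᵁ (f ⁻¹ᵁ V)) (preimage_eq f f' p p' hZ V).le).hom.w.symm

end Groth.Agent.H41.DirImgPushout
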