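import Groth.Agent.H41.SymInvertible

/-!
# `Proj(Sym L) → X` is an isomorphism for `L` invertible (helper41)
-/

set_option autoImplicit false
universe u

namespace Groth.Agent.H41.SymInvIso

open CategoryTheory CategoryTheory.Limits AlgebraicGeometry TopologicalSpace Opposite RelSpec
open Groth.Agent.H41.SymInvertible

variable {X : Scheme.{u}} (L : X.Modules) [L.IsQuasicoherent]
  (𝒮L : RelProj.QCGrAlg X) (j : L ⟶ 𝒮L.toModule) (hj : RelProj.IsGrSymAlg L 𝒮L j)

include hj in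
/-- Over an affine open on which `L` is free of rank one, `Proj 𝒮L(V) → Spec O(V)` is an isomorphism. -/
theorem isIso_toSpec_of_free (V : X.Opens) (hV : IsAffineOpen V) (e : Γ(L, V))
    (he : Function.Bijective (fun r : Γ(X, V) => r • e)) :
    IsIso (Proj.toSpecZero (𝒮L.deg V hV) ≫ Spec.map (𝒮L.strZero V hV)) := by
  obtain ⟨ε, hε1, hε2⟩ := exists_retraction L 𝒮L.toQCAlg j hj.1 V hV e he
  exact Groth.Agent.H41.PolyGrade.isIso_toSpec (𝒮L.deg V hV) (𝒮L.str.app (op V)).hom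
    (𝒮L.str_mem V hV) (T := jSec L 𝒮L.toQCAlg j V e) (hj.2 V hV e)
    (exists_poly L 𝒮L.toQCAlg j hj.1 V hV e he) ε hε1 hε2

include hj in
theorem isIso_of_isInvertible (hL : PicF.IsInvertible L) {PL : Scheme.{u}} (pL : PL ⟶ X)
    (chartL : ∀ (U : X.Opens) (hU : IsAffineOpen U),
      (((pL ⁻¹ᵁ U : PL.Opens) : Scheme.{u}) ≅ Proj (𝒮L.deg U hU)))
    (hPL : RelProj.IsRelProj 𝒮L pL chartL) : IsIso pL := by
  have hx : ∀ x : X, ∃ (V : X.Opens) (hV : IsAffineOpen V) (e : Γ(L, V)), x ∈ V ∧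
      Function.Bijective (fun r : Γ(X, V) => r • e) := by
    intro x
    obtain ⟨U, hxU, σ, hσ⟩ := Groth.Agent.H8.exists_isFreeGen_of_isInvertible hL x
    obtain ⟨_, ⟨V, hV : IsAffineOpen V, rfl⟩, hxV, hVU⟩ :=
      X.isBasis_affineOpens.exists_subset_of_mem_open hxU U.2
    have hVU' : V ≤ U := hVU
    exact ⟨V, hV, L.presheaf.map (homOfLE hVU').op σ, hxV, hσ V hVU'⟩
  choose V hV e hxV he using hx
  have hcov : ⨆ x, V x = ⊤ := by
    rw [eq_top_iff]
    intro x _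
    exact Opens.mem_iSup.mpr ⟨x, hxV x⟩
  refine (IsZariskiLocalAtTarget.iff_of_iSup_eq_top (P := MorphismProperty.isomorphisms Scheme.{u})
    V hcov).mpr fun x => ?_
  change IsIso (pL ∣_ V x)
  have key : pL ∣_ V x = (chartL (V x) (hV x)).hom ≫
      (Proj.toSpecZero (𝒮L.deg (V x) (hV x)) ≫ Spec.map (𝒮L.strZero (V x) (hV x))) ≫
        (hV x).isoSpec.inv := by
    rw [← cancel_mono (V x).ι, morphismRestrict_ι]
    simp only [Category.assoc]
    rw [IsAffineOpen.isoSpec_inv_ι]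
    exact (hPL.chart_over (V x) (hV x)).symm
  rw [key]
  haveI := isIso_toSpec_of_free L 𝒮L j hj (V x) (hV x) (e x) (he x)
  infer_instance

end Groth.Agent.H41.SymInvIso
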