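import Groth.Agent.H41.RelPMap7
import Groth.Agent.H41.SymInvIso

/-!
# `G(ψ)` for a filtered colimit of graded algebras (helper41)
-/

set_option autoImplicit false
universe u
open CategoryTheory CategoryTheory.Limits AlgebraicGeometry Opposite TopologicalSpace
open scoped HomogeneousIdeal

namespace Groth.Agent.H41.DomQColim

variable {Y X PL : Scheme.{u}} (q : X ⟶ Y)
  (𝒮 : RelProj.QCGrAlg Y) (𝒮L : RelProj.QCGrAlg X)
  (u : RelProj.QGrHom q 𝒮 𝒮L)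
  (pL : PL ⟶ X)
  (chartL : ∀ (U : X.Opens) (hU : IsAffineOpen U),
    (((pL ⁻¹ᵁ U : PL.Opens) : Scheme.{u}) ≅ Proj (𝒮L.deg U hU)))
  (Λ : Type u)
  (𝒮i : Λ → RelProj.QCGrAlg Y) (φ : ∀ i, (𝒮i i).toQCAlg ⟶ 𝒮.toQCAlg) (hφ : ∀ i, RelProj.IsGradedHom (φ i))
  (hsurj : ∀ (U : Y.Opens), IsAffineOpen U → ∀ x : 𝒮.presheaf.obj (op U),
    ∃ (i : Λ) (y : (𝒮i i).presheaf.obj (op U)), ((φ i).hom.app (op U)).hom y = x)
  (ui : ∀ i, RelProj.QGrHom q (𝒮i i) 𝒮L) (hui : ∀ i (U : Y.Opens), (ui i).app U = (φ i).hom.app (op U) ≫ u.app U)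

include hφ hsurj hui in
/-- `G(ψ)` is the union of the `G(ψ_i)`. -/
theorem domQ_le_iSup : RelProj.domQ u pL chartL ≤ ⨆ i, RelProj.domQ (ui i) pL chartL := by
  classical
  intro z hz
  obtain ⟨⟨⟨⟨U, hU⟩, ⟨U', hU'⟩⟩, hle⟩, hzW⟩ := Opens.mem_iSup.mp hz
  have hzW' : z ∈ RelPMap2.W u pL chartL U hU U' hU' hle := hzW
  obtain ⟨hzU', hy⟩ := (RelPMap2.mem_W_iff u pL chartL U hU U' hU' hle z).mp hzW'
  obtain ⟨d, f, hd, hf, hyf⟩ := PMap.exists_homogeneous_of_mem _ _ hy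
  obtain ⟨i, y0, hy0⟩ := hsurj U hU f
  -- the degree `d` component of `y0`
  let yd : (𝒮i i).presheaf.obj (op U) := (DirectSum.decompose ((𝒮i i).deg U hU) y0 d : _)
  have hyd : yd ∈ (𝒮i i).deg U hU d := SetLike.coe_mem _
  have hφyd : RelProj.gradedHomAt (φ i) (hφ i) U hU yd = f := by
    change RelProj.gradedHomAt (φ i) (hφ i) U hU
      (DirectSum.decompose ((𝒮i i).deg U hU) y0 d : (𝒮i i).presheaf.obj (op U)) = f
    rw [GradedRingHom.map_directSumDecompose]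
    have : RelProj.gradedHomAt (φ i) (hφ i) U hU y0 = f := hy0
    rw [this, DirectSum.decompose_of_mem_same _ hf]
  have hga := RelPMap5.gradedAt_apply q 𝒮 𝒮L u (𝒮i i) (φ i) (hφ i) (ui i) (hui i) U hU U' hU' hle yd
  rw [hφyd] at hga
  have hmem : (chartL U' hU').hom ⟨z, hzU'⟩ ∈
      RelCone.domOpen ((ui i).gradedAt U hU U' hU' hle) := by
    refine PMap.basicOpen_le ((ui i).gradedAt U hU U' hU' hle) hyd hd ?_
    rw [hga]
    exact hyf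
  refine Opens.mem_iSup.mpr ⟨i, ?_⟩
  exact RelPMap2.W_le_domQ (ui i) pL chartL U hU U' hU' hle
    ((RelPMap2.mem_W_iff (ui i) pL chartL U hU U' hU' hle z).mpr ⟨hzU', hmem⟩)

include hφ hui in
theorem domQ_ui_le (i : Λ) : RelProj.domQ (ui i) pL chartL ≤ RelProj.domQ u pL chartL :=
  RelPMap7.domQ_le q 𝒮 𝒮L u pL chartL (𝒮i i) (φ i) (hφ i) (ui i) (hui i)

variable [Preorder Λ]
  (t : ∀ i j, i ≤ j → ((𝒮i i).toQCAlg ⟶ (𝒮i j).toQCAlg)) (ht : ∀ i j (h : i ≤ j), RelProj.IsGradedHom (t i j h))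
  (hφt : ∀ i j (h : i ≤ j), t i j h ≫ φ j = φ i)

include ht hφt hui in
theorem domQ_ui_mono {i j : Λ} (h : i ≤ j) :
    RelProj.domQ (ui i) pL chartL ≤ RelProj.domQ (ui j) pL chartL := by
  refine RelPMap7.domQ_le q (𝒮i j) 𝒮L (ui j) pL chartL (𝒮i i) (t i j h) (ht i j h) (ui i) fun U => ?_
  rw [hui i U, hui j U, ← Category.assoc, ← hφt i j h]
  rfl

end Groth.Agent.H41.DomQColim
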