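import Groth.Agent.H41.SymSheaf

/-!
# Structure of an arbitrary symmetric algebra `IsSymAlg E A j` (helper41)

For `E` quasi-coherent and `(A, j)` any symmetric algebra of `E` (universal property `RelSpec.IsSymAlg`), over every affine
open `U` the ring homomorphism `Sym_{Γ(S,U)} Γ(E,U) → A(U)` induced by `j` is bijective (`bijective_liftApp`).
-/

set_option autoImplicit false
universe u

namespace Groth.Agent.H41.SymStruct

open CategoryTheory CategoryTheory.Limits AlgebraicGeometry TopologicalSpace Opposite RelSpec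
open Groth.Agent.H41.SymRing Groth.Agent.H41.SymSheaf

variable {S : Scheme.{u}}

theorem toModuleMap_id (A : QCAlg S) : QCAlg.Hom.toModuleMap (𝟙 A) = 𝟙 A.toModule := by
  refine Scheme.Modules.hom_ext _ _ fun W => ?_
  rfl

theorem toModuleMap_comp {A B C : QCAlg S} (f : A ⟶ B) (g : B ⟶ C) :
    QCAlg.Hom.toModuleMap (f ≫ g) = QCAlg.Hom.toModuleMap f ≫ QCAlg.Hom.toModuleMap g := by
  refine Scheme.Modules.hom_ext _ _ fun W => ?_
  rfl

theorem toModuleMap_app {A B : QCAlg S} (f : A ⟶ B) (W : S.Opens) (a : A.presheaf.obj (op W)) :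
    ((QCAlg.Hom.toModuleMap f).app W).hom a = (f.hom.app (op W)).hom a := rfl

variable (E : S.Modules) [E.IsQuasicoherent] (A : QCAlg S) (j' : E ⟶ A.toModule) (hA : IsSymAlg E A j')

include hA in
/-- The comparison homomorphism `symAlg E ⟶ A` is an isomorphism. -/
theorem isIso_lift : IsIso (lift E A j') := by
  obtain ⟨θ', hθ', -⟩ := hA (symAlg E) (j E)
  have h1 : lift E A j' ≫ θ' = 𝟙 _ := by
    have u := (isSymAlg E (symAlg E) (j E)).unique
      (y₁ := lift E A j' ≫ θ') (y₂ := 𝟙 _)
      (by rw [toModuleMap_comp, ← Category.assoc, j_lift, hθ'])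
      (by rw [toModuleMap_id, Category.comp_id])
    exact u
  have h2 : θ' ≫ lift E A j' = 𝟙 _ := by
    have u := (hA A j').unique (y₁ := θ' ≫ lift E A j') (y₂ := 𝟙 _)
      (by rw [toModuleMap_comp, ← Category.assoc, hθ', j_lift])
      (by rw [toModuleMap_id, Category.comp_id])
    exact u
  exact ⟨θ', h1, h2⟩

include hA in
/-- **Structure theorem**: over an affine open `U`, `A(U)` is the symmetric algebra of `Γ(E,U)` over `Γ(S,U)`. -/
theorem bijective_liftApp (U : S.Opens) (hU : IsAffineOpen U) : Function.Bijective (liftApp E A j' U) := by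
  haveI := isIso_lift E A j' hA
  have hiso : IsIso ((lift E A j').hom.app (op U)) := by
    refine ⟨(inv (lift E A j')).hom.app (op U), ?_, ?_⟩
    · rw [← NatTrans.comp_app, ← QCAlg.comp_hom, IsIso.hom_inv_id]; rfl
    · rw [← NatTrans.comp_app, ← QCAlg.comp_hom, IsIso.inv_hom_id]; rfl
  have hb := ConcreteCategory.bijective_of_isIso ((lift E A j').hom.app (op U))
  have hg := ConcreteCategory.bijective_of_isIso (gam E U hU)
  have heq : ∀ a, ((lift E A j').hom.app (op U)).hom a = liftApp E A j' U ((gam E U hU).hom a) :=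
    lift_app E A j' U hU
  constructor
  · intro x y hxy
    obtain ⟨a, rfl⟩ := hg.2 x
    obtain ⟨b, rfl⟩ := hg.2 y
    have : a = b := hb.1 (by
      change ((lift E A j').hom.app (op U)).hom a = ((lift E A j').hom.app (op U)).hom b
      rw [heq, heq]; exact hxy)
    rw [this]
  · intro y
    obtain ⟨a, ha⟩ := hb.2 y
    exact ⟨(gam E U hU).hom a, (heq a).symm.trans ha⟩

end Groth.Agent.H41.SymStruct
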