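import Groth.Agent.H41.RelTwistGenLocus
import Groth.Agent.H41.SymStruct
import Groth.Agent.H18.NegTwist

/-!
# On a projective bundle `P(E)`, the canonical map `p^*E ⟶ O_P(1)` is an epimorphism (helper41)
-/

set_option autoImplicit false
universe u

open CategoryTheory CategoryTheory.Limits AlgebraicGeometry TopologicalSpace Opposite
open scoped HomogeneousIdeal

namespace Groth.Agent.H41.ProjBundleO1

section ring

variable {A σ : Type u} [CommRing A] [SetLike σ A] [AddSubgroupClass σ A]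
  {𝒜 : ℕ → σ} [GradedRing 𝒜] (T : Set A) (hT : ∀ t ∈ T, t ∈ 𝒜 1)
  (hgen : Subring.closure ((𝒜 0 : Set A) ∪ T) = ⊤)

include hT hgen in
theorem irrelevant_le_span : (𝒜₊).toIdeal ≤ Ideal.span T := by
  classical
  have key : ∀ x : A, ∀ n : ℕ, 1 ≤ n → (DirectSum.decompose 𝒜 x n : A) ∈ Ideal.span T := by
    intro x
    have hx : x ∈ Subring.closure ((𝒜 0 : Set A) ∪ T) := by rw [hgen]; trivial
    induction hx using Subring.closure_induction with
    | mem x hx =>
      intro n hn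
      rcases hx with hx | hx
      · rw [DirectSum.decompose_of_mem_ne 𝒜 hx (by omega)]; exact zero_mem _
      · by_cases h1 : n = 1
        · subst h1
          rw [DirectSum.decompose_of_mem_same 𝒜 (hT x hx)]
          exact Ideal.subset_span hx
        · rw [DirectSum.decompose_of_mem_ne 𝒜 (hT x hx) (Ne.symm h1)]; exact zero_mem _
    | zero => intro n _; simp
    | one =>
      intro n hn
      rw [DirectSum.decompose_of_mem_ne 𝒜 (SetLike.GradedOne.one_mem) (by omega)]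
      exact zero_mem _
    | add x y _ _ hx hy =>
      intro n hn
      rw [DirectSum.decompose_add, DirectSum.add_apply, AddMemClass.coe_add]
      exact add_mem (hx n hn) (hy n hn)
    | neg x _ hx =>
      intro n hn
      rw [DirectSum.decompose_neg]
      have : ((-(DirectSum.decompose 𝒜 x)) n : A) = -((DirectSum.decompose 𝒜 x) n : A) := rfl
      rw [this]
      exact neg_mem (hx n hn)
    | mul x y _ _ hx hy =>
      intro n hn
      rw [DirectSum.decompose_mul, DirectSum.coe_mul_apply_eq_sum_antidiagonal]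
      refine Ideal.sum_mem _ ?_
      rintro ⟨i, j⟩ hij
      rw [Finset.HasAntidiagonal.mem_antidiagonal] at hij
      simp only at hij ⊢
      rcases Nat.eq_zero_or_pos i with rfl | hi
      · exact Ideal.mul_mem_left _ _ (hy j (by omega))
      · exact Ideal.mul_mem_right _ _ (hx i hi)
  rw [HomogeneousIdeal.toIdeal_irrelevant_le]
  intro k hk x hx
  have := key x k hk
  rwa [DirectSum.decompose_of_mem_same 𝒜 hx] at this

include hT hgen in
theorem exists_notMem (y : ProjectiveSpectrum 𝒜) : ∃ g ∈ T, g ∉ y.asHomogeneousIdeal := by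
  by_contra hcon
  push Not at hcon
  apply y.not_irrelevant_le
  intro x hx
  have h1 : x ∈ Ideal.span T := irrelevant_le_span T hT hgen hx
  have h2 : Ideal.span T ≤ y.asHomogeneousIdeal.toIdeal := Ideal.span_le.mpr fun g hg => hcon g hg
  exact h2 h1

end ring

open Groth.Agent.H18 Groth.Agent.H41.RelTwistTriv Groth.Agent.H41
open Groth.Agent.H41.SymSheaf Groth.Agent.H41.SymStruct

variable {Y P : Scheme.{u}} (E : Y.Modules) [E.IsQuasicoherent]
  (𝒮 : RelProj.QCGrAlg Y) (j : E ⟶ 𝒮.toModule) (hj : RelProj.IsGrSymAlg E 𝒮 j) (p : P ⟶ Y)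
  (chart : ∀ (U : Y.Opens) (hU : IsAffineOpen U), ((p ⁻¹ᵁ U : P.Opens) : Scheme.{u}) ≅ Proj (𝒮.deg U hU))

include hj in
/-- A point of `Proj 𝒮(U)` avoids some `j(e)`. -/
theorem exists_section_notMem (U : Y.Opens) (hU : IsAffineOpen U) (y : ProjectiveSpectrum (𝒮.deg U hU)) :
    ∃ e : Γ(E, U), ((j.app U).hom e : 𝒮.presheaf.obj (op U)) ∉ y.asHomogeneousIdeal := by
  have hgen : Subring.closure (((𝒮.deg U hU 0 : AddSubgroup (𝒮.presheaf.obj (op U))) :
      Set (𝒮.presheaf.obj (op U))) ∪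
      Set.range (fun e : Γ(E, U) => ((j.app U).hom e : 𝒮.presheaf.obj (op U)))) = ⊤ := by
    rw [eq_top_iff]
    rintro b -
    obtain ⟨z, rfl⟩ := (bijective_liftApp E 𝒮.toQCAlg j hj.1 U hU).2 b
    induction z using SymmetricAlgebra.induction with
    | algebraMap r =>
      rw [liftApp_algebraMap]
      exact Subring.subset_closure (Or.inl (𝒮.str_mem U hU r))
    | ι x =>
      rw [liftApp_ι]
      exact Subring.subset_closure (Or.inr ⟨x, rfl⟩)
    | mul a b ha hb => rw [map_mul]; exact Subring.mul_mem _ ha hb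
    | add a b ha hb => rw [map_add]; exact Subring.add_mem _ ha hb
  obtain ⟨g, ⟨e, rfl⟩, hg⟩ := exists_notMem _ (by rintro _ ⟨e, rfl⟩; exact hj.2 U hU e) hgen y
  exact ⟨e, hg⟩

variable (O1 : P.Modules)
  (lam : ∀ (U : Y.Opens) (hU : IsAffineOpen U),
    O1 ⟶ (Scheme.Modules.pushforward (RelProj.emb p chart U hU)).obj (GrTwist.twist (𝒮.deg U hU) 1))
  (hO1 : RelProj.IsRelTwist 𝒮 p chart 1 O1 lam)
  (φ : E ⟶ (Scheme.Modules.pushforward p).obj O1)
  (hφ : ∀ (U : Y.Opens) (hU : IsAffineOpen U) (e : Γ(E, U))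
      (y : ↥(RelProj.emb p chart U hU ⁻¹ᵁ (p ⁻¹ᵁ U))),
      GrTwist.val (V := RelProj.emb p chart U hU ⁻¹ᵁ (p ⁻¹ᵁ U))
          ((lam U hU).app (p ⁻¹ᵁ U) ((φ.app U) e)) y =
        algebraMap (𝒮.presheaf.obj (op U)) (GrTwist.Loc (𝒮.deg U hU) y.1)
          ((j.app U) e : 𝒮.presheaf.obj (op U)))

include hj hO1 hφ in
/-- The adjoint `p^*E ⟶ O_P(1)` of the canonical map is an epimorphism. -/
theorem epi_adj :
    Epi (((Scheme.Modules.pullbackPushforwardAdjunction p).homEquiv E O1).symm φ) := by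
  set adj := Scheme.Modules.pullbackPushforwardAdjunction p with hadj
  set ψ := (adj.homEquiv E O1).symm φ with hψ
  have hφψ : φ = adj.unit.app E ≫ (Scheme.Modules.pushforward p).map ψ := by
    have h1 := adj.homEquiv_unit (X := E) (Y := O1) (f := ψ)
    rw [← h1, hψ, Equiv.apply_symm_apply]
  apply epi_of_locally_mem_range
  intro V τ x hxV
  obtain ⟨_, ⟨U, hU : IsAffineOpen U, rfl⟩, hxU', -⟩ :=
    Y.isBasis_affineOpens.exists_subset_of_mem_open (show p x ∈ (⊤ : Y.Opens) from trivial)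
      (⊤ : Y.Opens).2
  have hxU : x ∈ p ⁻¹ᵁ U := hxU'
  obtain ⟨g, hg1, he, e, hge⟩ : ∃ g : 𝒮.presheaf.obj (op U), g ∈ 𝒮.deg U hU 1 ∧
      g ∉ (((chart U hU).hom ⟨x, hxU⟩ : Proj (𝒮.deg U hU)) :
        ProjectiveSpectrum (𝒮.deg U hU)).asHomogeneousIdeal ∧
      ∃ e : Γ(E, U), g = (j.app U).hom e := by
    obtain ⟨e, he⟩ := exists_section_notMem E 𝒮 j hj U hU ((chart U hU).hom ⟨x, hxU⟩)
    exact ⟨_, hj.2 U hU e, he, e, rfl⟩
  have hWU : V ⊓ (RelProj.emb p chart U hU) ''ᵁ Proj.basicOpen (𝒮.deg U hU) g ≤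
      p ⁻¹ᵁ U := by
    refine inf_le_right.trans ?_
    rw [← opensRange_emb 𝒮 p chart U hU]
    exact Scheme.Hom.image_le_opensRange _ _
  have hxW : x ∈ V ⊓ (RelProj.emb p chart U hU) ''ᵁ
      Proj.basicOpen (𝒮.deg U hU) g :=
    ⟨hxV, (chart U hU).hom ⟨x, hxU⟩, (Proj.mem_basicOpen _ _ _).mpr he,
      RelPMap2.emb_chart_apply p chart U hU x hxU⟩
  have hpre : ∀ z : ProjectiveSpectrum (𝒮.deg U hU),
      z ∈ (RelProj.emb p chart U hU) ⁻¹ᵁ (V ⊓ (RelProj.emb p chart U hU) ''ᵁ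
        Proj.basicOpen (𝒮.deg U hU) g) →
      g ∉ z.asHomogeneousIdeal := by
    intro z hz
    have h1 : (RelProj.emb p chart U hU) z ∈
        (RelProj.emb p chart U hU) ''ᵁ Proj.basicOpen (𝒮.deg U hU) g := hz.2
    obtain ⟨z', hz', e'⟩ := h1
    have : z' = z := (RelProj.emb p chart U hU).isOpenEmbedding.injective e'
    rw [← this]
    exact (Proj.mem_basicOpen _ _ _).mp hz'
  have hone : ∀ (W' : (Proj (𝒮.deg U hU)).Opens) (z : ProjectiveSpectrum (𝒮.deg U hU)), z ∈ W' →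
      (1 : 𝒮.presheaf.obj (op U)) ∉ z.asHomogeneousIdeal := fun _ z _ h =>
    z.isPrime.ne_top ((Ideal.eq_top_iff_one _).mpr h)
  have h01 : ((1 : ℕ) : ℤ) = ((0 : ℕ) : ℤ) + 1 := by simp
  have hone_mem : (1 : 𝒮.presheaf.obj (op U)) ∈ 𝒮.deg U hU 0 := SetLike.GradedOne.one_mem
  have ht₀ : (lam U hU).app (p ⁻¹ᵁ U) ((φ.app U) e) =
      GrTwistTriv.fracTw (𝒮.deg U hU) hg1 hone_mem h01
        ((RelProj.emb p chart U hU) ⁻¹ᵁ (p ⁻¹ᵁ U)) (hone _) := by
    apply GrTwistTriv.twist_sect_ext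
    intro z
    exact ((hφ U hU e z).trans (congrArg _ hge.symm)).trans
      (Localization.mk_one_eq_algebraMap g).symm
  have hσ : (lam U hU).app _ (mres O1 hWU ((φ.app U) e)) =
      GrTwistTriv.fracTw (𝒮.deg U hU) hg1 hone_mem h01
        ((RelProj.emb p chart U hU) ⁻¹ᵁ (V ⊓ (RelProj.emb p chart U hU) ''ᵁ
        Proj.basicOpen (𝒮.deg U hU) g)) (hone _) := by
    rw [app_mres, ht₀]
    rfl
  obtain ⟨r, hr⟩ := (bijective_smul_of_lam_eq 𝒮 p chart 1 O1 lam hO1 U hU hg1 hone_mem h01 _ hWU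
    hpre (hone _) (mres O1 hWU ((φ.app U) e)) hσ _ le_rfl).2 (mres O1 inf_le_left τ)
  simp only [mres_self] at hr
  have hu₀ : ψ.app (p ⁻¹ᵁ U) ((adj.unit.app E).app U e) = (φ.app U) e := by
    rw [hφψ]
    rfl
  refine ⟨_, inf_le_left, hxW, r • mres _ hWU ((adj.unit.app E).app U e), ?_⟩
  rw [Scheme.Modules.Hom.app_smul, app_mres, hu₀]
  exact hr

end Groth.Agent.H41.ProjBundleO1
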