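import Groth.Agent.H41.GrTwistAmple
import Groth.Agent.H41.RelTwistChartIso
import Groth.Agent.H41.ProjBundleO1
import Groth.Agent.H67.AmplePullback

/-!
# The pullback of `O_{P(E)}(1)` along a topological embedding is relatively ample (helper41)
-/

set_option autoImplicit false
set_option linter.style.haveILetI false
universe u

open CategoryTheory AlgebraicGeometry TopologicalSpace Opposite

namespace Groth.Agent.H41.EmbAmple

open Groth.Agent.H18 Groth.Agent.H18.STL Scheme.Modules Groth.Agent.H67.PullBasis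

variable {X Y P : Scheme.{u}} (E : Y.Modules) [E.IsQuasicoherent]
  (𝒮 : RelProj.QCGrAlg Y) (j : E ⟶ 𝒮.toModule) (hj : RelProj.IsGrSymAlg E 𝒮 j) (p : P ⟶ Y)
  (chart : ∀ (U : Y.Opens) (hU : IsAffineOpen U), ((p ⁻¹ᵁ U : P.Opens) : Scheme.{u}) ≅ Proj (𝒮.deg U hU))
  (O1 : P.Modules)
  (lam : ∀ (U : Y.Opens) (hU : IsAffineOpen U),
    O1 ⟶ (Scheme.Modules.pushforward (RelProj.emb p chart U hU)).obj (GrTwist.twist (𝒮.deg U hU) 1))
  (hO1 : RelProj.IsRelTwist 𝒮 p chart 1 O1 lam)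
  (g : X ⟶ P) (hemb : Topology.IsEmbedding g.base)

include hj hO1 hemb in
theorem isAmple_restrict (V : Y.Opens) (hV : IsAffineOpen V)
    (hc : IsCompact ((g ⁻¹ᵁ (p ⁻¹ᵁ V) : X.Opens) : Set X)) :
    CohB1.IsAmple (((Scheme.Modules.pullback g).obj O1).restrict (g ⁻¹ᵁ (p ⁻¹ᵁ V)).ι) := by
  classical
  set PV : P.Opens := p ⁻¹ᵁ V with hPV
  set c := chart V hV with hc'
  -- the morphism to `Proj`
  set jj : ((g ⁻¹ᵁ PV : X.Opens) : Scheme.{u}) ⟶ Proj (𝒮.deg V hV) := (g ∣_ PV) ≫ c.hom with hjj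
  -- the module is the pullback of `O(1)`
  obtain ⟨e0⟩ := RelTwistChartIso.nonempty_restrict_iso_pullback_chart 𝒮 p chart 1 O1 lam hO1 V hV
  have iso1 : ((Scheme.Modules.pullback g).obj O1).restrict (g ⁻¹ᵁ PV).ι ≅
      (Scheme.Modules.pullback jj).obj (GrTwist.twist (𝒮.deg V hV) 1) :=
    pbRestrictIso g PV O1 ≪≫ (Scheme.Modules.pullback (g ∣_ PV)).mapIso e0 ≪≫
      (pullbackComp (g ∣_ PV) c.hom).app _
  refine isAmple_of_iso iso1.symm ?_
  haveI : CompactSpace ((g ⁻¹ᵁ PV : X.Opens) : Scheme.{u}) := isCompact_iff_compactSpace.mp hc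
  -- `jj` is an embedding
  have hembjj : Topology.IsEmbedding jj.base := by
    have h1 : Topology.IsEmbedding (g ∣_ PV).base := by
      rw [morphismRestrict_base]
      exact hemb.restrictPreimage _
    have h2 : Topology.IsEmbedding c.hom.base := (Scheme.homeoOfIso c).isEmbedding
    rw [hjj]
    exact h2.comp h1
  -- degree one elements covering the image
  choose e he using fun x : ((g ⁻¹ᵁ PV : X.Opens) : Scheme.{u}) =>
    ProjBundleO1.exists_section_notMem E 𝒮 j hj V hV (jj x)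
  set a : ((g ⁻¹ᵁ PV : X.Opens) : Scheme.{u}) → 𝒮.presheaf.obj (op V) :=
    fun x => ((j.app V).hom (e x) : 𝒮.presheaf.obj (op V)) with ha
  have ha1 : ∀ x, a x ∈ 𝒮.deg V hV 1 := fun x => hj.2 V hV (e x)
  have hea : ∀ x, jj x ∈ Proj.basicOpen (𝒮.deg V hV) (a x) := fun x => he x
  obtain ⟨t, ht⟩ := CompactSpace.elim_nhds_subcover
    (fun x : ((g ⁻¹ᵁ PV : X.Opens) : Scheme.{u}) =>
      ((jj ⁻¹ᵁ Proj.basicOpen (𝒮.deg V hV) (a x) :
        ((g ⁻¹ᵁ PV : X.Opens) : Scheme.{u}).Opens) : Set ((g ⁻¹ᵁ PV : X.Opens) : Scheme.{u})))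
    (fun x => (jj ⁻¹ᵁ Proj.basicOpen (𝒮.deg V hV) (a x)).isOpen.mem_nhds (hea x))
  set W : (Proj (𝒮.deg V hV)).Opens := ⨆ x ∈ t, Proj.basicOpen (𝒮.deg V hV) (a x) with hW
  have hleW : ∀ x ∈ t, Proj.basicOpen (𝒮.deg V hV) (a x) ≤ W :=
    fun x hx => le_iSup₂ (f := fun x (_ : x ∈ t) => Proj.basicOpen (𝒮.deg V hV) (a x)) x hx
  have hrange : Set.range jj.base ⊆ (W : Set (Proj (𝒮.deg V hV))) := by
    rintro _ ⟨x', rfl⟩
    have hx' : x' ∈ ⋃ x ∈ t, ((jj ⁻¹ᵁ Proj.basicOpen (𝒮.deg V hV) (a x) :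
        ((g ⁻¹ᵁ PV : X.Opens) : Scheme.{u}).Opens) : Set ((g ⁻¹ᵁ PV : X.Opens) : Scheme.{u})) := by
      rw [ht]; trivial
    obtain ⟨x, hxt, hx'x⟩ := Set.mem_iUnion₂.1 hx'
    exact hleW x hxt hx'x
  -- factor through `W`
  set j' : ((g ⁻¹ᵁ PV : X.Opens) : Scheme.{u}) ⟶ (W : Scheme.{u}) :=
    IsOpenImmersion.lift W.ι jj (by rw [Scheme.Opens.range_ι]; exact hrange) with hj'
  have hfac : j' ≫ W.ι = jj := IsOpenImmersion.lift_fac _ _ _
  have hembj' : Topology.IsEmbedding j'.base := by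
    have h3 : Topology.IsEmbedding (W.ι.base ∘ j'.base) := by
      have : (W.ι.base ∘ j'.base : _ → _) = jj.base := by
        rw [← hfac]; rfl
      rw [this]; exact hembjj
    exact Topology.IsEmbedding.of_comp j'.base.hom.continuous W.ι.base.hom.continuous h3
  -- `W` is quasi-compact
  haveI : CompactSpace (W : Scheme.{u}) := by
    have h5 : IsCompact (W : Set (Proj (𝒮.deg V hV))) := by
      have : (W : Set (Proj (𝒮.deg V hV))) = ⋃ x ∈ t,
          (Proj.basicOpen (𝒮.deg V hV) (a x) : Set (Proj (𝒮.deg V hV))) := by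
        rw [hW]; simp
      rw [this]
      exact t.isCompact_biUnion fun x _ =>
        (Proj.isAffineOpen_basicOpen (𝒮.deg V hV) _ (ha1 x) Nat.one_pos).isCompact
    exact isCompact_iff_compactSpace.mp h5
  -- `O(1)` restricted to `W` is ample
  have hampleW : CohB1.IsAmple ((Scheme.Modules.pullback W.ι).obj
      (GrTwist.twist (𝒮.deg V hV) ((1 : ℕ) : ℤ))) := by
    refine GrTwistAmple.isAmple_pullback_twist (𝒮.deg V hV) W.ι 1 fun w => ?_
    obtain ⟨x, hx⟩ := Opens.mem_iSup.1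
      (show W.ι w ∈ ⨆ x ∈ t, Proj.basicOpen (𝒮.deg V hV) (a x) from w.2)
    obtain ⟨hxt, hwx⟩ := Opens.mem_iSup.1 hx
    refine ⟨a x, ha1 x, hwx, ?_⟩
    refine (Proj.isAffineOpen_basicOpen (𝒮.deg V hV) _ (ha1 x)
      Nat.one_pos).preimage_of_isOpenImmersion W.ι ?_
    rw [Scheme.Opens.opensRange_ι]
    exact hleW x hxt
  rw [Nat.cast_one] at hampleW
  have h4 := Groth.Agent.H67.AmplePullback.isAmple_pullback_of_isEmbedding j' hembj' _ hampleW
  exact isAmple_of_iso ((pullbackComp j' W.ι).app _ ≪≫ (pullbackCongr hfac).app _) h4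

end Groth.Agent.H41.EmbAmple
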