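import Groth.Agent.H12.QCohIso

/-!
# A section which freely generates locally freely generates (helper41)
-/

set_option autoImplicit false
universe u

open CategoryTheory CategoryTheory.Limits AlgebraicGeometry TopologicalSpace Opposite

namespace Groth.Agent.H41.FreeGenLocal

open Groth.Agent.H18

variable {X : Scheme.{u}}

/-- restriction of functions -/
noncomputable abbrev rres {W W' : X.Opens} (h : W' ≤ W) : Γ(X, W) ⟶ Γ(X, W') :=
  X.presheaf.map (homOfLE h).op

theorem rres_rres {W W' W'' : X.Opens} (h : W' ≤ W) (h' : W'' ≤ W') (x : Γ(X, W)) :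
    rres h' (rres h x) = rres (h'.trans h) x := by
  simp only [rres, ← ConcreteCategory.comp_apply, ← Functor.map_comp]
  rfl

theorem functions_eq_of_locally_eq {W : X.Opens} (s t : Γ(X, W))
    (h : ∀ x ∈ W, ∃ (V : X.Opens) (hV : V ≤ W), x ∈ V ∧ rres hV s = rres hV t) : s = t := by
  choose V hV hxV hst using h
  refine TopCat.Sheaf.eq_of_locally_eq' X.sheaf (fun x : W => V x.1 x.2) W
    (fun x => homOfLE (hV x.1 x.2)) ?_ s t (fun x => hst x.1 x.2)
  intro x hx
  exact Opens.mem_iSup.mpr ⟨⟨x, hx⟩, hxV x hx⟩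

/-- A section of a module over `X₀` which freely generates over the members of an open cover of `X₀` freely generates. -/
theorem bijective_smul_of_local (M : X.Modules) (X₀ : X.Opens) {ι : Type*} (W : ι → X.Opens)
    (hW : ∀ i, W i ≤ X₀) (hcov : X₀ ≤ ⨆ i, W i) (σ : Γ(M, X₀))
    (h : ∀ (i : ι) (W' : X.Opens) (hW' : W' ≤ W i),
      Function.Bijective (fun r : Γ(X, W') => r • mres M (hW'.trans (hW i)) σ))
    (W' : X.Opens) (hW' : W' ≤ X₀) :
    Function.Bijective (fun r : Γ(X, W') => r • mres M hW' σ) := by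
  have hloc : ∀ x ∈ W', ∃ i, x ∈ W' ⊓ W i := fun x hx => by
    obtain ⟨i, hi⟩ := Opens.mem_iSup.mp (hcov (hW' hx))
    exact ⟨i, hx, hi⟩
  have hres : ∀ (i : ι) (V : X.Opens) (hV : V ≤ W' ⊓ W i) (r : Γ(X, W')),
      mres M (hV.trans inf_le_left) (r • mres M hW' σ) =
        rres (hV.trans inf_le_left) r • mres M ((hV.trans inf_le_right).trans (hW i)) σ := by
    intro i V hV r
    rw [mres_smul, mres_mres]
  constructor
  · intro r r' hrr'
    apply functions_eq_of_locally_eq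
    intro x hx
    obtain ⟨i, hxi⟩ := hloc x hx
    refine ⟨W' ⊓ W i, inf_le_left, hxi, ?_⟩
    apply (h i (W' ⊓ W i) inf_le_right).1
    have h1 := congrArg (mres M (inf_le_left : W' ⊓ W i ≤ W')) hrr'
    rw [hres i _ le_rfl, hres i _ le_rfl] at h1
    exact h1
  · intro τ
    -- local solutions
    have hsol : ∀ i : ι, ∃ r : Γ(X, W' ⊓ W i),
        r • mres M ((inf_le_right : W' ⊓ W i ≤ W i).trans (hW i)) σ =
          mres M (inf_le_left : W' ⊓ W i ≤ W') τ := fun i => (h i (W' ⊓ W i) inf_le_right).2 _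
    choose rr hrr using hsol
    have hcompat : TopCat.Presheaf.IsCompatible X.sheaf.1 (fun i => W' ⊓ W i) rr := by
      intro i j
      change rres (inf_le_left : (W' ⊓ W i) ⊓ (W' ⊓ W j) ≤ W' ⊓ W i) (rr i) =
        rres (inf_le_right : (W' ⊓ W i) ⊓ (W' ⊓ W j) ≤ W' ⊓ W j) (rr j)
      have hle : (W' ⊓ W i) ⊓ (W' ⊓ W j) ≤ W i := inf_le_left.trans inf_le_right
      apply (h i _ hle).1
      have h1 := congrArg (mres M (inf_le_left : (W' ⊓ W i) ⊓ (W' ⊓ W j) ≤ W' ⊓ W i)) (hrr i)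
      have h2 := congrArg (mres M (inf_le_right : (W' ⊓ W i) ⊓ (W' ⊓ W j) ≤ W' ⊓ W j)) (hrr j)
      rw [mres_smul, mres_mres, mres_mres] at h1 h2
      exact h1.trans h2.symm
    obtain ⟨r₀, hr₀, -⟩ := X.sheaf.existsUnique_gluing' (fun i => W' ⊓ W i) W'
      (fun i => homOfLE inf_le_left)
      (fun x hx => by
        obtain ⟨i, hxi⟩ := hloc x hx
        exact Opens.mem_iSup.mpr ⟨i, hxi⟩) rr hcompat
    let r : Γ(X, W') := r₀
    have hr : ∀ i, rres (inf_le_left : W' ⊓ W i ≤ W') r = rr i := hr₀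
    refine ⟨r, ?_⟩
    apply Groth.Agent.H12.QCohIso.modules_eq_of_locally_eq
    intro x hx
    obtain ⟨i, hxi⟩ := hloc x hx
    refine ⟨W' ⊓ W i, inf_le_left, hxi, ?_⟩
    change mres M _ (r • mres M hW' σ) = _
    rw [hres i _ le_rfl]
    have hri : rres (inf_le_left : W' ⊓ W i ≤ W') r = rr i := hr i
    rw [hri]
    exact hrr i

end Groth.Agent.H41.FreeGenLocal
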