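import Mathlib.AlgebraicGeometry.ProjectiveSpectrum.Basic
import Mathlib.RingTheory.FiniteType
import Mathlib.RingTheory.GradedAlgebra.Homogeneous.Ideal

/-!
# Graded rings of finite type: `Proj` is covered by finitely many `D₊(f)`, `f` of a common degree (helper41)
-/

set_option autoImplicit false
universe u

open AlgebraicGeometry
open scoped HomogeneousIdeal

namespace Groth.Agent.H41.GrFTCover

variable {A σ : Type u} [CommRing A] [SetLike σ A] [AddSubgroupClass σ A]
  (𝒜 : ℕ → σ) [GradedRing 𝒜]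

/-- homogeneous elements of positive degree which, together with degree zero, generate the ring, generate the
irrelevant ideal -/
theorem irrelevant_le_span (T : Set A) (hT : ∀ t ∈ T, ∃ d : ℕ, 0 < d ∧ t ∈ 𝒜 d)
    (hgen : Subring.closure ((𝒜 0 : Set A) ∪ T) = ⊤) : (𝒜₊).toIdeal ≤ Ideal.span T := by
  classical
  have key : ∀ x : A, ∀ n : ℕ, 1 ≤ n → (DirectSum.decompose 𝒜 x n : A) ∈ Ideal.span T := by
    intro x
    have hx : x ∈ Subring.closure ((𝒜 0 : Set A) ∪ T) := by rw [hgen]; trivial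
    induction hx using Subring.closure_induction with
    | mem x hx =>
      intro n hn
      rcases hx with hx | hx
      · rw [DirectSum.decompose_of_mem_ne 𝒜 hx (by omega)]; exact zero_mem _
      · obtain ⟨d, hd, hxd⟩ := hT x hx
        by_cases h1 : n = d
        · subst h1
          rw [DirectSum.decompose_of_mem_same 𝒜 hxd]
          exact Ideal.subset_span hx
        · rw [DirectSum.decompose_of_mem_ne 𝒜 hxd (Ne.symm h1)]; exact zero_mem _
    | zero => intro n _; simp
    | one =>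
      intro n hn
      rw [DirectSum.decompose_of_mem_ne 𝒜 (SetLike.GradedOne.one_mem) (by omega)]
      exact zero_mem _
    | add x y _ _ hx hy =>
      intro n hn
      rw [DirectSum.decompose_add, DirectSum.add_apply, AddMemClass.coe_add]
      exact add_mem (hx n hn) (hy n hn)
    | neg x _ hx =>
      intro n hn
      rw [DirectSum.decompose_neg]
      have : ((-(DirectSum.decompose 𝒜 x)) n : A) = -((DirectSum.decompose 𝒜 x) n : A) := rfl
      rw [this]
      exact neg_mem (hx n hn)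
    | mul x y _ _ hx hy =>
      intro n hn
      rw [DirectSum.decompose_mul, DirectSum.coe_mul_apply_eq_sum_antidiagonal]
      refine Ideal.sum_mem _ ?_
      rintro ⟨i, j⟩ hij
      rw [Finset.HasAntidiagonal.mem_antidiagonal] at hij
      simp only at hij ⊢
      rcases Nat.eq_zero_or_pos i with rfl | hi
      · exact Ideal.mul_mem_left _ _ (hy j (by omega))
      · exact Ideal.mul_mem_right _ _ (hx i hi)
  rw [HomogeneousIdeal.toIdeal_irrelevant_le]
  intro k hk x hx
  have := key x k hk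
  rwa [DirectSum.decompose_of_mem_same 𝒜 hx] at this

/-- a graded ring of finite type over a ring mapping to degree zero has finitely many homogeneous elements of
positive degree generating the irrelevant ideal -/
theorem exists_finset_irrelevant_le_span {R : Type u} [CommRing R] (φ : R →+* A)
    (hφ0 : ∀ r, φ r ∈ 𝒜 0) (hft : φ.FiniteType) :
    ∃ T : Finset A, (∀ t ∈ T, ∃ d : ℕ, 0 < d ∧ t ∈ 𝒜 d) ∧ (𝒜₊).toIdeal ≤ Ideal.span (T : Set A) := by
  classical
  letI := φ.toAlgebra
  obtain ⟨s, hs⟩ := (show Algebra.FiniteType R A from hft).out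
  let T : Finset A := s.biUnion fun x =>
    ((DirectSum.decompose 𝒜 x).support.filter (fun i => 0 < i)).image
      (fun i => (DirectSum.decompose 𝒜 x i : A))
  have hT : ∀ t ∈ T, ∃ d : ℕ, 0 < d ∧ t ∈ 𝒜 d := by
    intro t ht
    obtain ⟨x, -, ht⟩ := Finset.mem_biUnion.1 ht
    obtain ⟨i, hi, rfl⟩ := Finset.mem_image.1 ht
    exact ⟨i, (Finset.mem_filter.1 hi).2, SetLike.coe_mem _⟩
  refine ⟨T, hT, irrelevant_le_span 𝒜 (T : Set A) hT ?_⟩
  rw [eq_top_iff]
  have h1 : (Algebra.adjoin R (s : Set A)).toSubring = ⊤ := by rw [hs]; rfl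
  rw [← h1, Algebra.adjoin_eq_ring_closure, Subring.closure_le]
  rintro x (⟨r, rfl⟩ | hx)
  · exact Subring.subset_closure (Or.inl (hφ0 r))
  · rw [← DirectSum.sum_support_decompose 𝒜 x]
    refine Subring.sum_mem _ fun i hi => ?_
    rcases Nat.eq_zero_or_pos i with rfl | hi0
    · exact Subring.subset_closure (Or.inl (SetLike.coe_mem _))
    · refine Subring.subset_closure (Or.inr ?_)
      exact Finset.mem_biUnion.2 ⟨x, hx, Finset.mem_image.2 ⟨i, Finset.mem_filter.2 ⟨hi, hi0⟩, rfl⟩⟩

/-- a common degree in which every point of `Proj` is avoided by some element -/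
theorem exists_degree_cover (T : Finset A) (hT : ∀ t ∈ T, ∃ d : ℕ, 0 < d ∧ t ∈ 𝒜 d)
    (hspan : (𝒜₊).toIdeal ≤ Ideal.span (T : Set A)) :
    ∃ d : ℕ, 0 < d ∧ ∀ m : ℕ, 0 < m → d ∣ m → ∀ y : ProjectiveSpectrum 𝒜,
      ∃ f : A, f ∈ 𝒜 m ∧ f ∉ y.asHomogeneousIdeal := by
  classical
  choose! deg hdeg using hT
  refine ⟨∏ t ∈ T, deg t, Finset.prod_pos fun t ht => (hdeg t ht).1, fun m hm hdm y => ?_⟩
  obtain ⟨t, htT, hty⟩ : ∃ t ∈ T, t ∉ y.asHomogeneousIdeal := by
    by_contra hcon
    push Not at hcon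
    apply y.not_irrelevant_le
    intro x hx
    exact (Ideal.span_le.mpr fun g hg => hcon g hg : Ideal.span (T : Set A) ≤ y.asHomogeneousIdeal.toIdeal)
      (hspan hx)
  obtain ⟨q, hq⟩ : deg t ∣ m := (Finset.dvd_prod_of_mem deg htT).trans hdm
  refine ⟨t ^ q, ?_, fun h => hty (y.isPrime.mem_of_pow_mem q h)⟩
  have := SetLike.pow_mem_graded q (hdeg t htT).2
  rw [hq, mul_comm]
  simpa [smul_eq_mul] using this

/-- `Proj` of such a ring is quasi-compact -/
theorem compactSpace_proj (T : Finset A) (hT : ∀ t ∈ T, ∃ d : ℕ, 0 < d ∧ t ∈ 𝒜 d)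
    (hspan : (𝒜₊).toIdeal ≤ Ideal.span (T : Set A)) : CompactSpace (Proj 𝒜) := by
  have hcov : ⨆ i : (T : Set A), Proj.basicOpen 𝒜 (i : A) = ⊤ :=
    Proj.iSup_basicOpen_eq_top 𝒜 (ι := (T : Set A)) (↑) (by simpa using hspan)
  have H (i : (T : Set A)) : IsCompact (Proj.basicOpen 𝒜 (i : A)).1 := by
    obtain ⟨d, hd, hid⟩ := hT _ i.2
    exact (Proj.isAffineOpen_basicOpen 𝒜 _ hid hd).isCompact
  have := congr($(hcov).1)
  simp only [TopologicalSpace.Opens.iSup_mk, TopologicalSpace.Opens.carrier_eq_coe,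
    TopologicalSpace.Opens.coe_mk, TopologicalSpace.Opens.coe_top] at this
  rw [← isCompact_univ_iff, ← this]
  exact isCompact_iUnion H

end Groth.Agent.H41.GrFTCover
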