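import Groth.Agent.H41.GrSymSheaf

/-!
# The graded homomorphism `Sym(E) ⟶ 𝒮` extending a map `E ⟶ 𝒮_1` (helper41)
-/

set_option autoImplicit false
universe u

open CategoryTheory CategoryTheory.Limits AlgebraicGeometry TopologicalSpace Opposite

namespace Groth.Agent.H41.GrSymLift

open RelSpec Groth.Agent.H41.SymSheaf Groth.Agent.H41.SymGrading Groth.Agent.H41.GrSymSheaf

variable {S : Scheme.{u}} (E : S.Modules) [E.IsQuasicoherent] (𝒮 : RelProj.QCGrAlg S)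
  (φ : E ⟶ 𝒮.toModule)
  (hφ : ∀ (U : S.Opens) (hU : IsAffineOpen U) (x : Γ(E, U)), (φ.app U) x ∈ 𝒮.deg U hU 1)

/-- the homomorphism of algebras extending `φ` -/
noncomputable def glift : (grSymAlg E).toQCAlg ⟶ 𝒮.toQCAlg := lift E 𝒮.toQCAlg φ

theorem j_glift : j E ≫ QCAlg.Hom.toModuleMap (glift E 𝒮 φ) = φ := j_lift E 𝒮.toQCAlg φ

theorem glift_jU (U : S.Opens) (hU : IsAffineOpen U) (x : Γ(E, U)) :
    ((glift E 𝒮 φ).hom.app (op U)).hom (jU E U hU x) = (φ.app U).hom x := by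
  refine (lift_app E 𝒮.toQCAlg φ U hU (jU E U hU x)).trans ?_
  rw [gam_jU, liftApp_ι]

include hφ in
theorem liftApp_mem (U : S.Opens) (hU : IsAffineOpen U) {d : ℕ}
    {y : SymmetricAlgebra Γ(S, U) Γ(E, U)} (hy : y ∈ symDeg Γ(S, U) Γ(E, U) d) :
    liftApp E 𝒮.toQCAlg φ U y ∈ 𝒮.deg U hU d := by
  unfold symDeg at hy
  induction hy using Submodule.pow_induction_on_left' with
  | algebraMap r =>
    rw [liftApp_algebraMap]
    exact 𝒮.str_mem U hU r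
  | add x y k hx hy ihx ihy =>
    rw [map_add]
    exact add_mem ihx ihy
  | mem_mul m hm k x hx ih =>
    obtain ⟨e, rfl⟩ := hm
    obtain ⟨a, ha, ha1⟩ : ∃ a : 𝒮.presheaf.obj (op U), a = (φ.app U).hom e ∧ a ∈ 𝒮.deg U hU 1 :=
      ⟨_, rfl, hφ U hU e⟩
    rw [map_mul, liftApp_ι, ← ha]
    have h2 : a * liftApp E 𝒮.toQCAlg φ U x ∈ 𝒮.deg U hU (1 + k) :=
      SetLike.GradedMul.mul_mem ha1 ih
    rwa [add_comm] at h2

include hφ in
theorem isGradedHom_glift : RelProj.IsGradedHom (glift E 𝒮 φ) := by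
  intro U hU d x hx
  have h1 : ((glift E 𝒮 φ).hom.app (op U)).hom x =
      liftApp E 𝒮.toQCAlg φ U ((gam E U hU).hom x) := lift_app E 𝒮.toQCAlg φ U hU x
  rw [h1]
  exact liftApp_mem E 𝒮 φ hφ U hU ((mem_deg E U hU).mp hx)

end Groth.Agent.H41.GrSymLift
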