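import Groth.Agent.H41.SymSheaf
import Groth.Agent.H41.SymGrading
import Groth.Prelude.Def_RelProj2

/-!
# The graded symmetric algebra of a quasi-coherent module (helper41)

`grSymAlg E : RelProj.QCGrAlg S` with `IsGrSymAlg E (grSymAlg E) (j E)`; it is generated in degree one.
-/

set_option autoImplicit false
universe u

open CategoryTheory CategoryTheory.Limits AlgebraicGeometry TopologicalSpace Opposite

namespace Groth.Agent.H41.GrSymSheaf

open RelSpec Groth.Agent.H41.SymSheaf Groth.Agent.H41.SymGrading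

variable {S : Scheme.{u}} (E : S.Modules) [E.IsQuasicoherent]

section affine

variable (U : S.Opens) (hU : IsAffineOpen U)

/-- `gam` as a ring isomorphism -/
noncomputable def gamEquiv :
    (symAlg E).presheaf.obj (op U) ≃+* SymmetricAlgebra Γ(S, U) Γ(E, U) :=
  (asIso (gam E U hU)).commRingCatIsoToRingEquiv

@[simp] theorem gamEquiv_apply (a : (symAlg E).presheaf.obj (op U)) :
    gamEquiv E U hU a = (gam E U hU).hom a := rfl

/-- the graded pieces over an affine open -/
noncomputable def deg (n : ℕ) : AddSubgroup ((symAlg E).presheaf.obj (op U)) :=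
  comapGr (gamEquiv E U hU) (symDeg Γ(S, U) Γ(E, U)) n

theorem mem_deg {n : ℕ} {a : (symAlg E).presheaf.obj (op U)} :
    a ∈ deg E U hU n ↔ (gam E U hU).hom a ∈ symDeg Γ(S, U) Γ(E, U) n := Iff.rfl

noncomputable instance : GradedRing (deg E U hU) :=
  comapGr_gradedRing (gamEquiv E U hU) (symDeg Γ(S, U) Γ(E, U))

theorem str_mem_deg (r : Γ(S, U)) : ((symAlg E).str.app (op U)).hom r ∈ deg E U hU 0 := by
  rw [mem_deg, str_gam]
  unfold symDeg
  rw [pow_zero]
  exact Submodule.algebraMap_mem r

theorem jU_mem_deg (x : Γ(E, U)) : jU E U hU x ∈ deg E U hU 1 := by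
  rw [mem_deg, gam_jU]
  exact ι_mem _ _ x

theorem res_jU {V : S.Opens} (hV : IsAffineOpen V) (i : V ⟶ U) (x : Γ(E, U)) :
    ((symAlg E).presheaf.map i.op).hom (jU E U hU x) = jU E V hV ((E.presheaf.map i.op).hom x) := by
  rw [← j₀_app E U hU, ← j₀_app E V hV]
  exact j₀_res E i x

theorem symm_gam (y : SymmetricAlgebra Γ(S, U) Γ(E, U)) :
    (gam E U hU).hom ((gamEquiv E U hU).symm y) = y :=
  (gamEquiv E U hU).apply_symm_apply y

theorem res_mem_deg {V : S.Opens} (hV : IsAffineOpen V) (i : V ⟶ U) {d : ℕ}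
    {x : (symAlg E).presheaf.obj (op U)} (hx : x ∈ deg E U hU d) :
    ((symAlg E).presheaf.map i.op).hom x ∈ deg E V hV d := by
  obtain ⟨y, rfl⟩ : ∃ y, x = (gamEquiv E U hU).symm y :=
    ⟨gamEquiv E U hU x, ((gamEquiv E U hU).symm_apply_apply x).symm⟩
  have hy : y ∈ symDeg Γ(S, U) Γ(E, U) d := by
    have := (mem_deg E U hU).mp hx
    rwa [symm_gam] at this
  clear hx
  unfold symDeg at hy
  induction hy using Submodule.pow_induction_on_left' with
  | algebraMap r =>
    have h1 : (gamEquiv E U hU).symm (algebraMap Γ(S, U) _ r) =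
        ((symAlg E).str.app (op U)).hom r := by
      apply (gamEquiv E U hU).injective
      rw [RingEquiv.apply_symm_apply, gamEquiv_apply, str_gam]
    rw [h1, str_res]
    exact str_mem_deg E V hV _
  | add x y k hx hy ihx ihy =>
    rw [map_add, map_add]
    exact add_mem ihx ihy
  | mem_mul m hm k x hx ih =>
    obtain ⟨e, rfl⟩ := hm
    have h1 : (gamEquiv E U hU).symm (SymmetricAlgebra.ι Γ(S, U) Γ(E, U) e) = jU E U hU e := by
      apply (gamEquiv E U hU).injective
      rw [RingEquiv.apply_symm_apply, gamEquiv_apply, gam_jU]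
    rw [map_mul, map_mul, h1, res_jU E U hU hV]
    have h2 := SetLike.GradedMul.mul_mem (A := deg E V hV)
      (jU_mem_deg E V hV ((E.presheaf.map i.op).hom e)) ih
    rwa [add_comm] at h2

end affine

/-- The graded symmetric algebra of the quasi-coherent module `E`. -/
noncomputable def grSymAlg : RelProj.QCGrAlg S where
  toQCAlg := symAlg E
  deg U hU := deg E U hU
  graded U hU := inferInstance
  map_mem := by
    intro U V hU hV i d x hx
    exact res_mem_deg E U hU hV (homOfLE i) hx
  str_mem U hU r := str_mem_deg E U hU r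

theorem isGrSymAlg : RelProj.IsGrSymAlg E (grSymAlg E) (j E) := by
  refine ⟨isSymAlg E, fun U hU x => ?_⟩
  change ((j E).app U).hom x ∈ deg E U hU 1
  rw [j_app_affine E U hU]
  exact jU_mem_deg E U hU x

theorem isGenDegOne : (grSymAlg E).IsGenDegOne := by
  intro U hU
  rw [eq_top_iff]
  rintro x -
  obtain ⟨y, rfl⟩ : ∃ y, x = (gamEquiv E U hU).symm y :=
    ⟨gamEquiv E U hU x, ((gamEquiv E U hU).symm_apply_apply x).symm⟩
  induction y using SymmetricAlgebra.induction with
  | algebraMap r =>
    have h1 : (gamEquiv E U hU).symm (algebraMap Γ(S, U) _ r) =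
        ((symAlg E).str.app (op U)).hom r := by
      apply (gamEquiv E U hU).injective
      rw [RingEquiv.apply_symm_apply, gamEquiv_apply, str_gam]
    rw [h1]
    exact Subring.subset_closure (Or.inl (str_mem_deg E U hU r))
  | ι m =>
    have h1 : (gamEquiv E U hU).symm (SymmetricAlgebra.ι Γ(S, U) Γ(E, U) m) = jU E U hU m := by
      apply (gamEquiv E U hU).injective
      rw [RingEquiv.apply_symm_apply, gamEquiv_apply, gam_jU]
    rw [h1]
    exact Subring.subset_closure (Or.inr (jU_mem_deg E U hU m))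
  | mul a b ha hb =>
    rw [map_mul]
    exact Subring.mul_mem _ ha hb
  | add a b ha hb =>
    rw [map_add]
    exact Subring.add_mem _ ha hb

/-- Existence of the graded symmetric algebra. -/
theorem exists_isGrSymAlg (E : S.Modules) (hE : Coh.IsQCoh E) :
    ∃ (𝒮 : RelProj.QCGrAlg S) (j : E ⟶ 𝒮.toModule), RelProj.IsGrSymAlg E 𝒮 j := by
  have : E.IsQuasicoherent := hE
  exact ⟨grSymAlg E, j E, isGrSymAlg E⟩

end Groth.Agent.H41.GrSymSheaf
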