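import Groth.Agent.H41.GrTwistTriv
import Groth.Agent.H67.ProjOpenAmple

/-!
# Ampleness of pullbacks of `GrTwist.twist 𝒜 d` (helper41)

Port of helper18's / helper67's lemmas on `Twist.twist` (`H18.TwistAmple2`, `H67.TwistLocal`,
`H67.ProjOpenAmple.isAmple_pullback_twist`) to the twisting sheaves `GrTwist.twist` of rings graded by
arbitrary additive subgroups.
-/

set_option autoImplicit false
set_option linter.style.haveILetI false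
universe u

open CategoryTheory AlgebraicGeometry TopologicalSpace Opposite

namespace Groth.Agent.H41.GrTwistAmple

open Groth.Agent.H18 Groth.Agent.H18.PUP Groth.Agent.H18.STL Scheme.Modules
open Groth.Agent.H67.PullGenLocus Groth.Agent.H67.PullBasis

variable {A σ : Type u} [CommRing A] [SetLike σ A] [AddSubgroupClass σ A] (𝒜 : ℕ → σ) [GradedRing 𝒜]

theorem one_nin (x : ProjectiveSpectrum 𝒜) : (1 : A) ∉ x.asHomogeneousIdeal := fun h =>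
  x.isPrime.ne_top ((Ideal.eq_top_iff_one _).mpr h)

/-- a nowhere vanishing fraction `a / b` of degree `e` on `W` is a basis of `O(e)` over `W` -/
theorem isBasisOn_fracTw {i j : ℕ} {a b : A} (ha : a ∈ 𝒜 i) (hb : b ∈ 𝒜 j) {e : ℤ}
    (he : (i : ℤ) = j + e) (W : (Proj 𝒜).Opens)
    (hWa : ∀ x : ProjectiveSpectrum 𝒜, x ∈ W → a ∉ x.asHomogeneousIdeal)
    (hWb : ∀ x : ProjectiveSpectrum 𝒜, x ∈ W → b ∉ x.asHomogeneousIdeal) :
    IsBasisOn (GrTwist.twist 𝒜 e) W (GrTwistTriv.fracTw 𝒜 ha hb he W hWb) := by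
  intro V hV
  simp only [GrTwistTriv.fracTw_res]
  exact ⟨GrTwistTriv.smul_fracTw_injective 𝒜 ha hb he V (fun x hx => hWa x (hV hx)) (fun x hx => hWb x (hV hx)),
    GrTwistTriv.smul_fracTw_surjective 𝒜 ha hb he V (fun x hx => hWa x (hV hx)) (fun x hx => hWb x (hV hx))⟩

/-- the global section `b / 1` of `O(n)` -/
noncomputable def secN {n : ℕ} {b : A} (hb : b ∈ 𝒜 n) :
    Γ(GrTwist.twist 𝒜 (n : ℤ), (⊤ : (Proj 𝒜).Opens)) :=
  GrTwistTriv.fracTw 𝒜 hb (SetLike.GradedOne.one_mem : (1 : A) ∈ 𝒜 0) (by simp) ⊤ (fun x _ => one_nin 𝒜 x)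

/-- the basis `f / 1` of `O(d)` over `D₊(f)` -/
theorem isBasisOn_fracTw_basicOpen {d : ℕ} {f : A} (hf : f ∈ 𝒜 d) :
    IsBasisOn (GrTwist.twist 𝒜 (d : ℤ)) (Proj.basicOpen 𝒜 f)
      (GrTwistTriv.fracTw 𝒜 hf (SetLike.GradedOne.one_mem : (1 : A) ∈ 𝒜 0)
        (by simp : ((d : ℕ) : ℤ) = ((0 : ℕ) : ℤ) + (d : ℤ)) (Proj.basicOpen 𝒜 f)
        (fun x _ => one_nin 𝒜 x)) :=
  isBasisOn_fracTw 𝒜 hf _ _ _ (fun _ hx => hx) (fun x _ => one_nin 𝒜 x)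

theorem isIso_restrict_sectionHom_secN {n : ℕ} {f : A} (hf : f ∈ 𝒜 n) :
    IsIso ((Scheme.Modules.restrictFunctor (Proj.basicOpen 𝒜 f).ι).map
      (sectionHom (GrTwist.twist 𝒜 (n : ℤ)) (secN 𝒜 hf))) := by
  rw [Groth.Agent.H67.GenLocusAffine.isIso_restrict_iff]
  intro W hW
  have he : ((n : ℕ) : ℤ) = ((0 : ℕ) : ℤ) + (n : ℤ) := by simp
  have h1 : ∀ x : ProjectiveSpectrum 𝒜, x ∈ W → (1 : A) ∉ x.asHomogeneousIdeal :=
    fun x _ => one_nin 𝒜 x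
  have hf' : ∀ x : ProjectiveSpectrum 𝒜, x ∈ W → f ∉ x.asHomogeneousIdeal := fun x hx => hW hx
  have hfun : ((sectionHom (GrTwist.twist 𝒜 (n : ℤ)) (secN 𝒜 hf)).app W :
      Γ(Coh.structureModule (Proj 𝒜), W) → Γ(GrTwist.twist 𝒜 (n : ℤ), W)) =
      fun r : Γ(Proj 𝒜, W) => r • GrTwistTriv.fracTw 𝒜 hf
        (SetLike.GradedOne.one_mem : (1 : A) ∈ 𝒜 0) he W h1 :=
    funext (fun r => sectionHom_app (GrTwist.twist 𝒜 (n : ℤ)) (secN 𝒜 hf) _ r)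
  rw [hfun]
  exact ⟨GrTwistTriv.smul_fracTw_injective 𝒜 _ _ he _ hf' h1, GrTwistTriv.smul_fracTw_surjective 𝒜 _ _ he _ hf' h1⟩

/-- pointwise: where `f / 1` generates `O(n)`, `f` does not vanish -/
theorem mem_basicOpen_of_isIso_restrict_secN {n : ℕ} {f : A} (hf : f ∈ 𝒜 n)
    (U : (Proj 𝒜).Opens)
    (h : IsIso ((Scheme.Modules.restrictFunctor U.ι).map
      (sectionHom (GrTwist.twist 𝒜 (n : ℤ)) (secN 𝒜 hf))))
    (y : Proj 𝒜) (hy : y ∈ U)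
    (hk : ∃ (i j : ℕ) (a b : A), a ∈ 𝒜 i ∧ b ∈ 𝒜 j ∧ (i : ℤ) = j + (n : ℤ) ∧
      a ∉ y.asHomogeneousIdeal ∧ b ∉ y.asHomogeneousIdeal) :
    y ∈ Proj.basicOpen 𝒜 f := by
  obtain ⟨i, j, a, b, ha, hb, he', hay, hby⟩ := hk
  let W : (Proj 𝒜).Opens := U ⊓ (Proj.basicOpen 𝒜 a ⊓ Proj.basicOpen 𝒜 b)
  have hyW : y ∈ W := ⟨hy, hay, hby⟩
  have hWa : ∀ x : ProjectiveSpectrum 𝒜, x ∈ W → a ∉ x.asHomogeneousIdeal := fun x hx => hx.2.1
  have hWb : ∀ x : ProjectiveSpectrum 𝒜, x ∈ W → b ∉ x.asHomogeneousIdeal := fun x hx => hx.2.2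
  have he : ((n : ℕ) : ℤ) = ((0 : ℕ) : ℤ) + (n : ℤ) := by simp
  have h1 : ∀ x : ProjectiveSpectrum 𝒜, x ∈ W → (1 : A) ∉ x.asHomogeneousIdeal :=
    fun x _ => one_nin 𝒜 x
  have hb' := (Groth.Agent.H67.GenLocusAffine.isIso_restrict_iff _ U).1 h W inf_le_left
  obtain ⟨r, hr⟩ := hb'.2 (GrTwistTriv.fracTw 𝒜 ha hb he' W hWb)
  have hr' : (show Γ(Proj 𝒜, W) from r) • GrTwistTriv.fracTw 𝒜 hf (SetLike.GradedOne.one_mem : (1 : A) ∈ 𝒜 0) he W h1 =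
      GrTwistTriv.fracTw 𝒜 ha hb he' W hWb :=
    (sectionHom_app (GrTwist.twist 𝒜 (n : ℤ)) (secN 𝒜 hf) _ r).symm.trans hr
  have hval := congrArg (fun s : Γ(GrTwist.twist 𝒜 (n : ℤ), W) =>
    (((s : GrTwist.sectN (𝒜 := 𝒜) (n : ℤ) (op W)).1 ⟨y, hyW⟩ : GrTwist.twistAt 𝒜 (n : ℤ) (show ProjectiveSpectrum 𝒜 from y)) :
      GrTwist.Loc 𝒜 (show ProjectiveSpectrum 𝒜 from y))) hr'
  simp only [GrTwistTriv.twist_smul_val, GrTwistTriv.fracTw_val] at hval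
  have hunit : IsUnit (Localization.mk a (⟨b, hby⟩ : y.asHomogeneousIdeal.toIdeal.primeCompl) :
      GrTwist.Loc 𝒜 (show ProjectiveSpectrum 𝒜 from y)) := by
    rw [Localization.mk_eq_mk']
    exact (IsLocalization.AtPrime.isUnit_mk'_iff (Localization.AtPrime y.asHomogeneousIdeal.toIdeal)
      y.asHomogeneousIdeal.toIdeal a _).mpr hay
  have h1eq : (⟨1, h1 y hyW⟩ : y.asHomogeneousIdeal.toIdeal.primeCompl) = 1 := rfl
  rw [h1eq] at hval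
  rw [← hval] at hunit
  have hunit2 := isUnit_of_mul_isUnit_right hunit
  rw [Localization.mk_one_eq_algebraMap] at hunit2
  exact (IsLocalization.AtPrime.isUnit_to_map_iff (Localization.AtPrime y.asHomogeneousIdeal.toIdeal)
    y.asHomogeneousIdeal.toIdeal f).mp hunit2

/-- pointwise description of the locus where `f / 1` generates `O(n)` -/
theorem mem_genLocus_sectionHom_secN_iff {n : ℕ} {f : A} (hf : f ∈ 𝒜 n) (y : Proj 𝒜)
    (hk : ∃ (i j : ℕ) (a b : A), a ∈ 𝒜 i ∧ b ∈ 𝒜 j ∧ (i : ℤ) = j + (n : ℤ) ∧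
      a ∉ y.asHomogeneousIdeal ∧ b ∉ y.asHomogeneousIdeal) :
    y ∈ CohB1.genLocus (GrTwist.twist 𝒜 (n : ℤ))
        (sectionHom (GrTwist.twist 𝒜 (n : ℤ)) (secN 𝒜 hf)) ↔
      y ∈ Proj.basicOpen 𝒜 f := by
  constructor
  · intro hy
    unfold CohB1.genLocus at hy
    obtain ⟨U, hU, hyU⟩ := Opens.mem_sSup.1 hy
    exact mem_basicOpen_of_isIso_restrict_secN 𝒜 hf U hU y hyU hk
  · intro hy
    have hle : Proj.basicOpen 𝒜 f ≤ CohB1.genLocus (GrTwist.twist 𝒜 (n : ℤ))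
        (sectionHom (GrTwist.twist 𝒜 (n : ℤ)) (secN 𝒜 hf)) :=
      le_sSup (isIso_restrict_sectionHom_secN 𝒜 hf)
    exact hle hy

/-- if `X` is quasi-compact and covered by affine preimages of opens `D₊(f)`, `f` of degree `d`,
then the pullback of `O(d)` to `X` is ample -/
theorem isAmple_pullback_twist {X : Scheme.{u}} [CompactSpace X] (j : X ⟶ Proj 𝒜) (d : ℕ)
    (hcov : ∀ x : X, ∃ f : A, f ∈ 𝒜 d ∧ j x ∈ Proj.basicOpen 𝒜 f ∧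
      IsAffineOpen (j ⁻¹ᵁ Proj.basicOpen 𝒜 f)) :
    CohB1.IsAmple ((pullback j).obj (GrTwist.twist 𝒜 (d : ℤ))) := by
  have hM : PicF.IsInvertible ((pullback j).obj (GrTwist.twist 𝒜 (d : ℤ))) := by
    refine isInvertible_of_local_bases _ (fun x => ?_)
    obtain ⟨f, hf, hxf, -⟩ := hcov x
    exact ⟨j ⁻¹ᵁ Proj.basicOpen 𝒜 f, OmegaSh.pullSect j _ _ _, hxf,
      isBasisOn_pullSect j _ _ _ (isBasisOn_fracTw_basicOpen 𝒜 hf)⟩
  refine ⟨hM, inferInstance, fun x => ?_⟩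
  obtain ⟨f, hf, hxf, haff⟩ := hcov x
  obtain ⟨s₀, hs₀⟩ : ∃ s₀ : Coh.structureModule X ⟶ (pullback j).obj (GrTwist.twist 𝒜 (d : ℤ)),
      s₀ = (asIso (Groth.Agent.H54.PB.unitMap j)).hom ≫
        (pullback j).map (sectionHom (GrTwist.twist 𝒜 (d : ℤ)) (secN 𝒜 hf)) := ⟨_, rfl⟩
  have hgen : CohB1.genLocus _ s₀ = j ⁻¹ᵁ Proj.basicOpen 𝒜 f := by
    ext z
    obtain ⟨g, hg, hzg, -⟩ := hcov z
    rw [hs₀]
    have h1 := mem_genLocus_pullback_iff j (GrTwist.twist 𝒜 (d : ℤ))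
      (sectionHom (GrTwist.twist 𝒜 (d : ℤ)) (secN 𝒜 hf))
      (asIso (Groth.Agent.H54.PB.unitMap j)) z (Proj.basicOpen 𝒜 g) _ hzg
      (isBasisOn_fracTw_basicOpen 𝒜 hg)
    have h2 := mem_genLocus_sectionHom_secN_iff 𝒜 hf (j z)
      ⟨d, 0, g, 1, hg, SetLike.GradedOne.one_mem, by simp, hzg, one_nin 𝒜 _⟩
    exact h1.trans h2
  obtain ⟨𝔄⟩ := nonempty_atlas hM
  obtain ⟨b, -, hb⟩ := (hasWeight_self 𝔄).exists_transfer (hasWeight_tensorPow 𝔄 (0 + 1)) s₀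
  refine ⟨0, b, ?_, ?_⟩
  · rw [hb, hgen]; exact hxf
  · rw [hb, hgen]; exact haff

end Groth.Agent.H41.GrTwistAmple
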