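import Groth.Agent.H41.GrTwistTriv

/-!
# Products of sections of the twisting sheaves `O(m)`, `O(n)` on `Proj` (helper41)
-/

set_option autoImplicit false
universe u

open CategoryTheory CategoryTheory.Limits AlgebraicGeometry TopologicalSpace Opposite

namespace Groth.Agent.H41.GrTwistMul

open Groth.Agent.H18 Groth.Agent.H41.GrTwistTriv

variable {A σ : Type u} [CommRing A] [SetLike σ A] [AddSubgroupClass σ A] (𝒜 : ℕ → σ) [GradedRing 𝒜]

theorem mul_mem_twistAt {m n : ℤ} (x : ProjectiveSpectrum 𝒜) {q q' : GrTwist.Loc 𝒜 x}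
    (hq : q ∈ GrTwist.twistAt 𝒜 m x) (hq' : q' ∈ GrTwist.twistAt 𝒜 n x) :
    q * q' ∈ GrTwist.twistAt 𝒜 (m + n) x := by
  induction hq using Submodule.span_induction with
  | mem q h =>
    obtain ⟨i, j, a, s, hs, hij, rfl⟩ := h
    induction hq' using Submodule.span_induction with
    | mem q' h' =>
      obtain ⟨i', j', a', s', hs', hij', rfl⟩ := h'
      rw [Localization.mk_mul]
      refine Submodule.subset_span ⟨i + i', j + j', ⟨(a : A) * a', SetLike.mul_mem_graded a.2 a'.2⟩,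
        ⟨(s : A) * s', SetLike.mul_mem_graded s.2 s'.2⟩,
        fun h => (x.isPrime.mem_or_mem h).elim hs hs', by push_cast; omega, rfl⟩
    | zero => rw [mul_zero]; exact zero_mem _
    | add y z _ _ hy hz => rw [mul_add]; exact add_mem hy hz
    | smul c y _ hy =>
      rw [mul_smul_comm]
      exact Submodule.smul_mem _ c hy
  | zero => rw [zero_mul]; exact zero_mem _
  | add y z _ _ hy hz => rw [add_mul]; exact add_mem hy hz
  | smul c y _ hy =>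
    rw [smul_mul_assoc]
    exact Submodule.smul_mem _ c hy

/-- the product of a section of `O(m)` and a section of `O(n)`, a section of `O(m + n)` -/
noncomputable def mulSect {m n : ℤ} {V : (Proj 𝒜).Opens} (s : Γ(GrTwist.twist 𝒜 m, V))
    (t : Γ(GrTwist.twist 𝒜 n, V)) : Γ(GrTwist.twist 𝒜 (m + n), V) :=
  (⟨fun x => ⟨(((s : GrTwist.sectN (𝒜 := 𝒜) m (op V)).1 x : GrTwist.twistAt 𝒜 m x.1) : GrTwist.Loc 𝒜 x.1) *
      (((t : GrTwist.sectN (𝒜 := 𝒜) n (op V)).1 x : GrTwist.twistAt 𝒜 n x.1) : GrTwist.Loc 𝒜 x.1),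
      mul_mem_twistAt 𝒜 x.1 ((s : GrTwist.sectN (𝒜 := 𝒜) m (op V)).1 x).2
        ((t : GrTwist.sectN (𝒜 := 𝒜) n (op V)).1 x).2⟩, by
    intro x
    rcases (s : GrTwist.sectN (𝒜 := 𝒜) m (op V)).2 x with
      ⟨Va, ma, ia, i, j, ⟨a, a_mem⟩, ⟨d, d_mem⟩, nina, ca, wa⟩
    rcases (t : GrTwist.sectN (𝒜 := 𝒜) n (op V)).2 x with
      ⟨Vb, mb, ib, i', j', ⟨b, b_mem⟩, ⟨d', d'_mem⟩, ninb, cb, wb⟩
    replace ca : (i : ℤ) = j + m ∨ a = 0 := ca
    replace cb : (i' : ℤ) = j' + n ∨ b = 0 := cb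
    have nin : ∀ y : (Va ⊓ Vb : Opens _), d * d' ∉ y.1.asHomogeneousIdeal := fun y h =>
      ((y.1.isPrime.mem_or_mem h).elim (nina ⟨y.1, y.2.1⟩)) (ninb ⟨y.1, y.2.2⟩)
    refine ⟨Va ⊓ Vb, ⟨ma, mb⟩, Opens.infLELeft _ _ ≫ ia, i + i', j + j',
      ⟨a * b, SetLike.mul_mem_graded a_mem b_mem⟩, ⟨d * d', SetLike.mul_mem_graded d_mem d'_mem⟩,
      nin, ?_, fun y => ?_⟩
    · rcases ca with ha | ha
      · rcases cb with hb | hb
        · exact Or.inl (by push_cast; omega)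
        · exact Or.inr (show a * b = 0 by rw [hb, mul_zero])
      · exact Or.inr (show a * b = 0 by rw [ha, zero_mul])
    · have e1 := wa ⟨y.1, y.2.1⟩
      have e2 := wb ⟨y.1, y.2.2⟩
      dsimp only at e1 e2 ⊢
      erw [e1, e2]
      rw [Localization.mk_mul]
      rfl⟩ : GrTwist.sectN (𝒜 := 𝒜) (m + n) (op V))

theorem mulSect_val {m n : ℤ} {V : (Proj 𝒜).Opens} (s : Γ(GrTwist.twist 𝒜 m, V))
    (t : Γ(GrTwist.twist 𝒜 n, V)) (z : V) :
    GrTwist.val (mulSect 𝒜 s t) z = GrTwist.val s z * GrTwist.val t z := rfl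

theorem mulSect_add_left {m n : ℤ} {V : (Proj 𝒜).Opens} (s s' : Γ(GrTwist.twist 𝒜 m, V))
    (t : Γ(GrTwist.twist 𝒜 n, V)) :
    mulSect 𝒜 (s + s') t = mulSect 𝒜 s t + mulSect 𝒜 s' t := by
  apply twist_sect_ext
  intro z
  exact add_mul (GrTwist.val s z) (GrTwist.val s' z) (GrTwist.val t z)

theorem mulSect_add_right {m n : ℤ} {V : (Proj 𝒜).Opens} (s : Γ(GrTwist.twist 𝒜 m, V))
    (t t' : Γ(GrTwist.twist 𝒜 n, V)) :
    mulSect 𝒜 s (t + t') = mulSect 𝒜 s t + mulSect 𝒜 s t' := by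
  apply twist_sect_ext
  intro z
  exact mul_add (GrTwist.val s z) (GrTwist.val t z) (GrTwist.val t' z)

theorem mulSect_smul_left {m n : ℤ} {V : (Proj 𝒜).Opens} (r : Γ(Proj 𝒜, V))
    (s : Γ(GrTwist.twist 𝒜 m, V)) (t : Γ(GrTwist.twist 𝒜 n, V)) :
    mulSect 𝒜 (r • s) t = r • mulSect 𝒜 s t := by
  apply twist_sect_ext
  intro z
  have h1 := twist_smul_val 𝒜 m V r s z
  have h2 := twist_smul_val 𝒜 (m + n) V r (mulSect 𝒜 s t) z
  refine Eq.trans ?_ h2.symm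
  change GrTwist.val (r • s) z * GrTwist.val t z = _
  rw [show GrTwist.val (r • s) z = _ from h1, mul_assoc]
  rfl

theorem mulSect_smul_right {m n : ℤ} {V : (Proj 𝒜).Opens} (r : Γ(Proj 𝒜, V))
    (s : Γ(GrTwist.twist 𝒜 m, V)) (t : Γ(GrTwist.twist 𝒜 n, V)) :
    mulSect 𝒜 s (r • t) = r • mulSect 𝒜 s t := by
  apply twist_sect_ext
  intro z
  have h1 := twist_smul_val 𝒜 n V r t z
  have h2 := twist_smul_val 𝒜 (m + n) V r (mulSect 𝒜 s t) z
  refine Eq.trans ?_ h2.symm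
  change GrTwist.val s z * GrTwist.val (r • t) z = _
  rw [show GrTwist.val (r • t) z = _ from h1, mul_left_comm]
  rfl

theorem mulSect_res {m n : ℤ} {V V' : (Proj 𝒜).Opens} (h : V' ≤ V) (s : Γ(GrTwist.twist 𝒜 m, V))
    (t : Γ(GrTwist.twist 𝒜 n, V)) :
    mres (GrTwist.twist 𝒜 (m + n)) h (mulSect 𝒜 s t) =
      mulSect 𝒜 (mres (GrTwist.twist 𝒜 m) h s) (mres (GrTwist.twist 𝒜 n) h t) := rfl

theorem mulSect_fracTw {m n : ℤ} {i j i' j' : ℕ} {a b a' b' : A} (ha : a ∈ 𝒜 i) (hb : b ∈ 𝒜 j)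
    (ha' : a' ∈ 𝒜 i') (hb' : b' ∈ 𝒜 j') (he : (i : ℤ) = j + m) (he' : (i' : ℤ) = j' + n)
    (V : (Proj 𝒜).Opens) (hV : ∀ x : ProjectiveSpectrum 𝒜, x ∈ V → b ∉ x.asHomogeneousIdeal)
    (hV' : ∀ x : ProjectiveSpectrum 𝒜, x ∈ V → b' ∉ x.asHomogeneousIdeal) :
    mulSect 𝒜 (fracTw 𝒜 ha hb he V hV) (fracTw 𝒜 ha' hb' he' V hV') =
      fracTw 𝒜 (SetLike.mul_mem_graded ha ha') (SetLike.mul_mem_graded hb hb')
        (by push_cast; omega : ((i + i' : ℕ) : ℤ) = (j + j' : ℕ) + (m + n)) V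
        (fun x hx h => (x.isPrime.mem_or_mem h).elim (hV x hx) (hV' x hx)) := by
  apply twist_sect_ext
  intro z
  exact Localization.mk_mul _ _ _ _

end Groth.Agent.H41.GrTwistMul
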