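import Groth.Prelude.Def_GrTwist
import Groth.Agent.H18.RestrictUnit

/-!
# Trivializing the twisting sheaves `GrTwist.twist` by nowhere vanishing fractions (helper41)

Port of helper18's `H18.TwistTriv` (for `Twist.twist`, gradings by submodules) to `GrTwist.twist` (gradings by any
additive subgroups).
-/

set_option autoImplicit false
universe u

open CategoryTheory CategoryTheory.Limits AlgebraicGeometry TopologicalSpace Opposite
open HomogeneousLocalization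

namespace Groth.Agent.H41.GrTwistTriv

open Groth.Agent.H18

section

variable {A σ : Type u} [CommRing A] [SetLike σ A] [AddSubgroupClass σ A] (𝒜 : ℕ → σ) [GradedRing 𝒜]

theorem projSection_ext {W : (Proj 𝒜).Opens} (r r' : Γ(Proj 𝒜, W))
    (h : ∀ x : W, (r.1 x).val = (r'.1 x).val) : r = r' := by
  apply Subtype.ext
  funext x
  exact HomogeneousLocalization.val_injective _ (h x)

/-- the section `a / b` of `O(e)` over an open where `b` does not vanish -/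
noncomputable def fracTw {i j : ℕ} {a b : A} (ha : a ∈ 𝒜 i) (hb : b ∈ 𝒜 j) {e : ℤ}
    (he : (i : ℤ) = j + e) (V : (Proj 𝒜).Opens)
    (hV : ∀ x : ProjectiveSpectrum 𝒜, x ∈ V → b ∉ x.asHomogeneousIdeal) :
    Γ(GrTwist.twist 𝒜 e, V) :=
  (⟨fun x => ⟨Localization.mk a ⟨b, hV x.1 x.2⟩,
      Submodule.subset_span ⟨i, j, ⟨a, ha⟩, ⟨b, hb⟩, hV x.1 x.2, he, rfl⟩⟩,
    fun x => ⟨V, x.2, 𝟙 _, i, j, ⟨a, ha⟩, ⟨b, hb⟩, fun y => hV y.1 y.2, Or.inl he,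
      fun _ => rfl⟩⟩ : GrTwist.sectN (𝒜 := 𝒜) e (op V))

theorem fracTw_val {i j : ℕ} {a b : A} (ha : a ∈ 𝒜 i) (hb : b ∈ 𝒜 j) {e : ℤ}
    (he : (i : ℤ) = j + e) (V : (Proj 𝒜).Opens)
    (hV : ∀ x : ProjectiveSpectrum 𝒜, x ∈ V → b ∉ x.asHomogeneousIdeal) (z : V) :
    ((((fracTw 𝒜 ha hb he V hV : Γ(GrTwist.twist 𝒜 e, V)) : GrTwist.sectN (𝒜 := 𝒜) e (op V)).1 z :
      GrTwist.twistAt 𝒜 e z.1) : GrTwist.Loc 𝒜 z.1) = Localization.mk a ⟨b, hV z.1 z.2⟩ := rfl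

theorem twist_smul_val (e : ℤ) (V : (Proj 𝒜).Opens) (r : Γ(Proj 𝒜, V))
    (s : Γ(GrTwist.twist 𝒜 e, V)) (z : V) :
    ((((r • s : Γ(GrTwist.twist 𝒜 e, V)) : GrTwist.sectN (𝒜 := 𝒜) e (op V)).1 z :
      GrTwist.twistAt 𝒜 e z.1) : GrTwist.Loc 𝒜 z.1) =
    (r.1 z).val * (((s : GrTwist.sectN (𝒜 := 𝒜) e (op V)).1 z : GrTwist.twistAt 𝒜 e z.1) :
      GrTwist.Loc 𝒜 z.1) :=
  GrTwist.coe_smul_val e z.1 (r.1 z) ((s : GrTwist.sectN (𝒜 := 𝒜) e (op V)).1 z)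

theorem twist_sect_ext (e : ℤ) (V : (Proj 𝒜).Opens) (s t : Γ(GrTwist.twist 𝒜 e, V))
    (h : ∀ z : V, (((s : GrTwist.sectN (𝒜 := 𝒜) e (op V)).1 z : GrTwist.twistAt 𝒜 e z.1) : GrTwist.Loc 𝒜 z.1) =
      (((t : GrTwist.sectN (𝒜 := 𝒜) e (op V)).1 z : GrTwist.twistAt 𝒜 e z.1) : GrTwist.Loc 𝒜 z.1)) :
    s = t := by
  apply Subtype.ext
  funext z
  exact Subtype.ext (h z)

theorem smul_fracTw_injective {i j : ℕ} {a b : A} (ha : a ∈ 𝒜 i) (hb : b ∈ 𝒜 j) {e : ℤ}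
    (he : (i : ℤ) = j + e) (V : (Proj 𝒜).Opens)
    (hVa : ∀ x : ProjectiveSpectrum 𝒜, x ∈ V → a ∉ x.asHomogeneousIdeal)
    (hVb : ∀ x : ProjectiveSpectrum 𝒜, x ∈ V → b ∉ x.asHomogeneousIdeal) :
    Function.Injective (fun r : Γ(Proj 𝒜, V) => r • fracTw 𝒜 ha hb he V hVb) := by
  intro r r' h
  refine projSection_ext 𝒜 _ _ (fun z => ?_)
  have h1 := congrArg (fun s : Γ(GrTwist.twist 𝒜 e, V) =>
    (((s : GrTwist.sectN (𝒜 := 𝒜) e (op V)).1 z : GrTwist.twistAt 𝒜 e z.1) : GrTwist.Loc 𝒜 z.1)) h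
  simp only [twist_smul_val, fracTw_val] at h1
  have h2 := congrArg (fun q : GrTwist.Loc 𝒜 z.1 => q * Localization.mk b ⟨a, hVa z.1 z.2⟩) h1
  simp only [mul_assoc, Localization.mk_mul] at h2
  have h3 : Localization.mk (a * b) (⟨b, hVb z.1 z.2⟩ * ⟨a, hVa z.1 z.2⟩ :
      z.1.asHomogeneousIdeal.toIdeal.primeCompl) = 1 := by
    have : (⟨b, hVb z.1 z.2⟩ * ⟨a, hVa z.1 z.2⟩ : z.1.asHomogeneousIdeal.toIdeal.primeCompl) =
        ⟨a * b, fun h => (z.1.isPrime.mem_or_mem h).elim (hVa z.1 z.2) (hVb z.1 z.2)⟩ :=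
      Subtype.ext (mul_comm b a)
    rw [this]
    exact Localization.mk_self (M := A) (S := z.1.asHomogeneousIdeal.toIdeal.primeCompl)
      ⟨a * b, fun h => (z.1.isPrime.mem_or_mem h).elim (hVa z.1 z.2) (hVb z.1 z.2)⟩
  rw [h3, mul_one, mul_one] at h2
  exact h2

theorem smul_fracTw_surjective {i j : ℕ} {a b : A} (ha : a ∈ 𝒜 i) (hb : b ∈ 𝒜 j) {e : ℤ}
    (he : (i : ℤ) = j + e) (V : (Proj 𝒜).Opens)
    (hVa : ∀ x : ProjectiveSpectrum 𝒜, x ∈ V → a ∉ x.asHomogeneousIdeal)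
    (hVb : ∀ x : ProjectiveSpectrum 𝒜, x ∈ V → b ∉ x.asHomogeneousIdeal) :
    Function.Surjective (fun r : Γ(Proj 𝒜, V) => r • fracTw 𝒜 ha hb he V hVb) := by
  intro s
  let s' : GrTwist.sectN (𝒜 := 𝒜) e (op V) := s
  -- local description
  have stepA : ∀ z : V, ∃ (V' : Opens (ProjectiveSpectrum.top 𝒜)) (_ : z.1 ∈ V') (iV : V' ⟶ V)
      (k : ℕ) (p q : 𝒜 k) (q_nin : ∀ y : V', q.1 ∉ y.1.asHomogeneousIdeal),
      ∀ y : V', ((s'.1 (iV y) : GrTwist.twistAt 𝒜 e (iV y).1) : GrTwist.Loc 𝒜 (iV y).1) *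
        Localization.mk b ⟨a, hVa (iV y).1 (iV y).2⟩ =
        (HomogeneousLocalization.mk ⟨k, p, q, q_nin y⟩ : GrTwist.A0 𝒜 y.1).val := by
    intro z
    obtain ⟨V', mV, iV, i', j', m, t, nin, c, w⟩ := s'.2 z
    rcases c with c | c
    · have hdeg : i' + j = j' + i := by
        have : ((i' + j : ℕ) : ℤ) = ((j' + i : ℕ) : ℤ) := by push_cast; rw [c, he]; ring
        exact_mod_cast this
      refine ⟨V', mV, iV, j' + i, ⟨m.1 * b, hdeg ▸ SetLike.mul_mem_graded m.2 hb⟩,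
        ⟨t.1 * a, SetLike.mul_mem_graded t.2 ha⟩,
        fun y h => (y.1.isPrime.mem_or_mem h).elim (nin y) (hVa (iV y).1 (iV y).2), fun y => ?_⟩
      rw [w y, Localization.mk_mul]
      rfl
    · refine ⟨V', mV, iV, 0, 0, ⟨1, SetLike.GradedOne.one_mem⟩,
        fun y h => y.1.isPrime.ne_top ((Ideal.eq_top_iff_one _).mpr h), fun y => ?_⟩
      rw [w y, c, Localization.mk_zero, zero_mul]
      change _ = Localization.mk (0 : A) _
      rw [Localization.mk_zero]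
  have stepB : ∀ z : V, ∃ c : GrTwist.A0 𝒜 z.1, c.val =
      ((s'.1 z : GrTwist.twistAt 𝒜 e z.1) : GrTwist.Loc 𝒜 z.1) * Localization.mk b ⟨a, hVa z.1 z.2⟩ := by
    intro z
    obtain ⟨V', mV, iV, k, p, q, q_nin, w⟩ := stepA z
    exact ⟨HomogeneousLocalization.mk ⟨k, p, q, q_nin ⟨z.1, mV⟩⟩, (w ⟨z.1, mV⟩).symm⟩
  choose r₀ hr₀ using stepB
  have hr₀loc : (ProjectiveSpectrum.StructureSheaf.isLocallyFraction 𝒜).pred r₀ := by
    intro z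
    obtain ⟨V', mV, iV, k, p, q, q_nin, w⟩ := stepA z
    refine ⟨V', mV, iV, k, p, q, q_nin, fun y => ?_⟩
    apply HomogeneousLocalization.val_injective
    exact (hr₀ (iV y)).trans (w y)
  let r : Γ(Proj 𝒜, V) := ⟨r₀, hr₀loc⟩
  refine ⟨r, ?_⟩
  refine twist_sect_ext 𝒜 e V _ _ (fun z => ?_)
  rw [twist_smul_val, fracTw_val]
  change (r₀ z).val * _ = _
  rw [hr₀ z, mul_assoc, Localization.mk_mul]
  have h3 : Localization.mk (b * a) (⟨a, hVa z.1 z.2⟩ * ⟨b, hVb z.1 z.2⟩ :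
      z.1.asHomogeneousIdeal.toIdeal.primeCompl) = 1 := by
    have : (⟨a, hVa z.1 z.2⟩ * ⟨b, hVb z.1 z.2⟩ : z.1.asHomogeneousIdeal.toIdeal.primeCompl) =
        ⟨b * a, fun h => (z.1.isPrime.mem_or_mem h).elim (hVb z.1 z.2) (hVa z.1 z.2)⟩ :=
      Subtype.ext (mul_comm a b)
    rw [this]
    exact Localization.mk_self (M := A) (S := z.1.asHomogeneousIdeal.toIdeal.primeCompl)
      ⟨b * a, fun h => (z.1.isPrime.mem_or_mem h).elim (hVb z.1 z.2) (hVa z.1 z.2)⟩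
  rw [h3, mul_one]

theorem fracTw_res {i j : ℕ} {a b : A} (ha : a ∈ 𝒜 i) (hb : b ∈ 𝒜 j) {e : ℤ}
    (he : (i : ℤ) = j + e) {W V : (Proj 𝒜).Opens} (hV : V ≤ W)
    (hW : ∀ x : ProjectiveSpectrum 𝒜, x ∈ W → b ∉ x.asHomogeneousIdeal) :
    mres (GrTwist.twist 𝒜 e) hV (fracTw 𝒜 ha hb he W hW) =
      fracTw 𝒜 ha hb he V (fun x hx => hW x (hV hx)) := rfl

/-- A nowhere vanishing fraction `a / b` of degree `e` on an open `W` of `Proj` trivialises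
`O(e)` over `W`. -/
theorem nonempty_twist_restrict_iso {i j : ℕ} {a b : A} (ha : a ∈ 𝒜 i) (hb : b ∈ 𝒜 j) {e : ℤ}
    (he : (i : ℤ) = j + e) (W : (Proj 𝒜).Opens)
    (hWa : ∀ x : ProjectiveSpectrum 𝒜, x ∈ W → a ∉ x.asHomogeneousIdeal)
    (hWb : ∀ x : ProjectiveSpectrum 𝒜, x ∈ W → b ∉ x.asHomogeneousIdeal) :
    Nonempty ((GrTwist.twist 𝒜 e).restrict W.ι ≅
      (SheafOfModules.unit (W : Scheme.{u}).ringCatSheaf : (W : Scheme.{u}).Modules)) := by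
  refine nonempty_restrict_iso_unit (GrTwist.twist 𝒜 e) W (fracTw 𝒜 ha hb he W hWb) ?_
  intro V hV
  simp only [fracTw_res]
  exact ⟨smul_fracTw_injective 𝒜 ha hb he V (fun x hx => hWa x (hV hx)) (fun x hx => hWb x (hV hx)),
    smul_fracTw_surjective 𝒜 ha hb he V (fun x hx => hWa x (hV hx)) (fun x hx => hWb x (hV hx))⟩

end

end Groth.Agent.H41.GrTwistTriv
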