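import Mathlib.RingTheory.GradedAlgebra.Basic
import Mathlib.Algebra.Group.Subgroup.Pointwise

/-!
# Ring homomorphisms of graded rings that are graded on generators (helper41)

`A`, `B` `ℕ`-graded rings (by additive subgroups), `φ : A →+* B`.  Put `T n = {x ∈ 𝒜 n | φ x ∈ ℬ n}`.  The additive subgroup
`⨆ n, T n` is closed under multiplication, and if it is everything then `φ` preserves degrees.
-/

set_option autoImplicit false

namespace Groth.Agent.H41.GradedGen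

variable {A B : Type*} [CommRing A] [CommRing B] (𝒜 : ℕ → AddSubgroup A) (ℬ : ℕ → AddSubgroup B)
  [GradedRing 𝒜] [GradedRing ℬ] (φ : A →+* B)

/-- The homogeneous elements of degree `n` mapped to degree `n`. -/
def T (n : ℕ) : AddSubgroup A := 𝒜 n ⊓ (ℬ n).comap φ.toAddMonoidHom

theorem mem_T {n : ℕ} {x : A} : x ∈ T 𝒜 ℬ φ n ↔ x ∈ 𝒜 n ∧ φ x ∈ ℬ n := Iff.rfl

theorem one_mem_iSup : (1 : A) ∈ ⨆ n, T 𝒜 ℬ φ n :=
  AddSubgroup.mem_iSup_of_mem 0 ((mem_T 𝒜 ℬ φ).mpr ⟨SetLike.GradedOne.one_mem, by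
    rw [map_one]
    exact SetLike.GradedOne.one_mem⟩)

theorem mul_mem_iSup {x y : A} (hx : x ∈ ⨆ n, T 𝒜 ℬ φ n) (hy : y ∈ ⨆ n, T 𝒜 ℬ φ n) :
    x * y ∈ ⨆ n, T 𝒜 ℬ φ n := by
  refine AddSubgroup.iSup_induction (T 𝒜 ℬ φ) (C := fun x => x * y ∈ ⨆ n, T 𝒜 ℬ φ n) hx ?_ ?_ ?_
  · intro i x hxi
    refine AddSubgroup.iSup_induction (T 𝒜 ℬ φ) (C := fun y => x * y ∈ ⨆ n, T 𝒜 ℬ φ n) hy ?_ ?_ ?_
    · intro j y hyj
      rw [mem_T] at hxi hyj
      refine AddSubgroup.mem_iSup_of_mem (i + j)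
        ((mem_T 𝒜 ℬ φ).mpr ⟨SetLike.GradedMul.mul_mem hxi.1 hyj.1, ?_⟩)
      rw [map_mul]
      exact SetLike.GradedMul.mul_mem hxi.2 hyj.2
    · rw [mul_zero]; exact zero_mem _
    · intro a b ha hb
      rw [mul_add]; exact add_mem ha hb
  · rw [zero_mul]; exact zero_mem _
  · intro a b ha hb
    rw [add_mul]; exact add_mem ha hb

/-- If every element is a sum of homogeneous elements on which `φ` preserves the degree, `φ` preserves degrees. -/
theorem map_mem_of_forall_mem_iSup (h : ∀ x : A, x ∈ ⨆ n, T 𝒜 ℬ φ n) {n : ℕ} {x : A} (hx : x ∈ 𝒜 n) :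
    φ x ∈ ℬ n := by
  classical
  have key : ∀ x : A, x ∈ ⨆ n, T 𝒜 ℬ φ n → ∀ n, φ ((DirectSum.decompose 𝒜 x n : A)) ∈ ℬ n := by
    intro x hx
    refine AddSubgroup.iSup_induction (T 𝒜 ℬ φ)
      (C := fun x => ∀ n, φ ((DirectSum.decompose 𝒜 x n : A)) ∈ ℬ n) hx ?_ ?_ ?_
    · intro i x hxi n
      rw [mem_T] at hxi
      by_cases hin : i = n
      · subst hin
        rw [DirectSum.decompose_of_mem_same 𝒜 hxi.1]
        exact hxi.2
      · rw [DirectSum.decompose_of_mem_ne 𝒜 hxi.1 hin, map_zero]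
        exact zero_mem _
    · intro n
      rw [DirectSum.decompose_zero]
      change φ ((0 : 𝒜 n) : A) ∈ ℬ n
      rw [ZeroMemClass.coe_zero, map_zero]
      exact zero_mem _
    · intro a b ha hb n
      rw [DirectSum.decompose_add]
      change φ (((DirectSum.decompose 𝒜 a n + DirectSum.decompose 𝒜 b n : 𝒜 n)) : A) ∈ ℬ n
      rw [AddMemClass.coe_add, map_add]
      exact add_mem (ha n) (hb n)
  have := key x (h x) n
  rwa [DirectSum.decompose_of_mem_same 𝒜 hx] at this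

end Groth.Agent.H41.GradedGen
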