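import Groth.Agent.H41.TwistBC1
import Groth.Agent.H41.GenDegOne

/-!
# The irrelevant-ideal hypothesis from a local generation hypothesis (helper41)

For a graded `ψ`-morphism `u : 𝒮 → 𝒮'` with `𝒮'` generated in degree one: if locally on the source the degree one
part of `𝒮'` is generated by the image of one section of `𝒮` of degree one, then for EVERY affine pair the irrelevant
ideal of `𝒮'(U')` is contained in the ideal generated by the image of the irrelevant ideal of `𝒮(U)`.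
-/

set_option autoImplicit false
universe u

open CategoryTheory CategoryTheory.Limits AlgebraicGeometry TopologicalSpace Opposite
open scoped HomogeneousIdeal

namespace Groth.Agent.H41.IrrLocal

open Groth.Agent.H41.TwistBC1

section one

variable {Y : Scheme.{u}} (𝒮 : RelProj.QCGrAlg Y)

/-- a homogeneous element over a basic open is, up to a power of the function, the restriction of a homogeneous
element of the same degree -/
theorem exists_res_eq (U : Y.Opens) (hU : IsAffineOpen U) (r : Γ(Y, U)) (W : Y.Opens) (hW : IsAffineOpen W)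
    (hWr : W = Y.basicOpen r) (i : W ≤ U) {d : ℕ} (b : 𝒮.presheaf.obj (op W)) (hb : b ∈ 𝒮.deg W hW d) :
    ∃ (k : ℕ) (b₀ : 𝒮.presheaf.obj (op U)), b₀ ∈ 𝒮.deg U hU d ∧
      𝒮.res hU hW i b₀ = b * 𝒮.res hU hW i ((𝒮.str.app (op U)).hom r ^ k) := by
  classical
  subst hWr
  let ψ := 𝒮.res hU hW i
  let _inst := (𝒮.presheaf.map (homOfLE (Y.basicOpen_le r)).op).hom.toAlgebra
  let c := (𝒮.str.app (op U)).hom r
  have hloc : IsLocalization.Away c (𝒮.presheaf.obj (op (Y.basicOpen r))) := 𝒮.isQC U hU r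
  obtain ⟨⟨x, s, hs⟩, hxs⟩ := IsLocalization.surj (Submonoid.powers c) b
  obtain ⟨k, rfl⟩ := (Submonoid.mem_powers_iff _ _).mp hs
  change b * ψ (c ^ k) = ψ x at hxs
  have hc0 : ψ (c ^ k) ∈ 𝒮.deg (Y.basicOpen r) hW 0 := by
    rw [map_pow]
    exact SetLike.pow_mem_graded _ (ψ.map_mem (𝒮.str_mem U hU r))
  have hbi : b * ψ (c ^ k) ∈ 𝒮.deg (Y.basicOpen r) hW d := by
    simpa only [add_zero] using SetLike.mul_mem_graded (A := 𝒮.deg (Y.basicOpen r) hW) hb hc0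
  refine ⟨k, (DirectSum.decompose (𝒮.deg U hU) x d : 𝒮.presheaf.obj (op U)), SetLike.coe_mem _, ?_⟩
  change ψ _ = b * ψ (c ^ k)
  rw [GradedRingHom.map_directSumDecompose, ← hxs, DirectSum.decompose_of_mem_same _ hbi]

/-- membership in an ideal descends from a basic open, up to a power of the function -/
theorem exists_pow_mul_mem (U : Y.Opens) (hU : IsAffineOpen U) (r : Γ(Y, U))
    (I : Ideal (𝒮.presheaf.obj (op U))) (t : 𝒮.presheaf.obj (op U))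
    (ht : 𝒮.res hU (hU.basicOpen r) (Y.basicOpen_le r) t ∈
      I.map (𝒮.res hU (hU.basicOpen r) (Y.basicOpen_le r))) :
    ∃ n : ℕ, (𝒮.str.app (op U)).hom r ^ n * t ∈ I := by
  let _inst := (𝒮.presheaf.map (homOfLE (Y.basicOpen_le r)).op).hom.toAlgebra
  let c := (𝒮.str.app (op U)).hom r
  have hloc : IsLocalization.Away c (𝒮.presheaf.obj (op (Y.basicOpen r))) := 𝒮.isQC U hU r
  have ht' : algebraMap (𝒮.presheaf.obj (op U)) (𝒮.presheaf.obj (op (Y.basicOpen r))) t ∈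
      I.map (algebraMap (𝒮.presheaf.obj (op U)) (𝒮.presheaf.obj (op (Y.basicOpen r)))) := ht
  rw [IsLocalization.mem_map_algebraMap_iff (Submonoid.powers c)] at ht'
  obtain ⟨⟨⟨a, ha⟩, ⟨s, hs⟩⟩, h1⟩ := ht'
  obtain ⟨k, rfl⟩ := (Submonoid.mem_powers_iff _ _).mp hs
  simp only at h1
  rw [← map_mul] at h1
  obtain ⟨⟨s', hs'⟩, h2⟩ := (IsLocalization.eq_iff_exists (Submonoid.powers c) _).mp h1
  obtain ⟨k', rfl⟩ := (Submonoid.mem_powers_iff _ _).mp hs'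
  simp only at h2
  refine ⟨k' + k, ?_⟩
  have : c ^ (k' + k) * t = c ^ k' * a := by
    rw [← h2, pow_add]
    ring
  change c ^ (k' + k) * t ∈ I
  rw [this]
  exact Ideal.mul_mem_left _ _ ha

theorem isUnit_res_str (U : Y.Opens) (hU : IsAffineOpen U) (W : Y.Opens) (hW : IsAffineOpen W)
    (i : W ≤ U) (r : Γ(Y, U)) (hWr : W ≤ Y.basicOpen r) :
    IsUnit (𝒮.res hU hW i ((𝒮.str.app (op U)).hom r)) := by
  have h1 : 𝒮.res hU hW i ((𝒮.str.app (op U)).hom r) =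
      (𝒮.str.app (op W)).hom (Y.presheaf.map (homOfLE i).op r) :=
    (ConcreteCategory.congr_hom (𝒮.str.naturality (homOfLE i).op) r).symm
  rw [h1]
  apply IsUnit.map
  have h2 : Y.presheaf.map (homOfLE i).op r =
      Y.presheaf.map (homOfLE hWr).op (Y.presheaf.map (homOfLE (Y.basicOpen_le r)).op r) := by
    rw [← ConcreteCategory.comp_apply, ← Functor.map_comp]
    rfl
  rw [h2]
  exact (RingedSpace.isUnit_res_basicOpen Y.toRingedSpace r).map _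

end one

section main

variable {Y Y' : Scheme.{u}} (ψ : Y' ⟶ Y) (𝒮 : RelProj.QCGrAlg Y) (𝒮' : RelProj.QCGrAlg Y')
  (u : RelProj.QGrHom ψ 𝒮 𝒮')
  (hsurj : ∀ x : Y', ∃ (U : Y.Opens) (hU : IsAffineOpen U) (e : 𝒮.presheaf.obj (op U))
      (_ : e ∈ 𝒮.deg U hU 1) (V : Y'.Opens) (hV : IsAffineOpen V) (hVU : V ≤ ψ ⁻¹ᵁ U), x ∈ V ∧
        ((𝒮'.deg V hV 1 : AddSubgroup (𝒮'.presheaf.obj (op V))) : Set (𝒮'.presheaf.obj (op V))) ⊆
          (Ideal.span {(u.appLE U V hVU).hom e} : Set (𝒮'.presheaf.obj (op V))))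

include hsurj in
theorem local_claim (U : Y.Opens) (hU : IsAffineOpen U) (V : Y'.Opens) (hV : IsAffineOpen V)
    (hle : V ≤ ψ ⁻¹ᵁ U) (s : 𝒮'.presheaf.obj (op V)) (hs : s ∈ 𝒮'.deg V hV 1) (x : Y') (hxV : x ∈ V) :
    ∃ g : Γ(Y', V), x ∈ Y'.basicOpen g ∧ ∃ n : ℕ, (𝒮'.str.app (op V)).hom g ^ n * s ∈
      Ideal.map (u.gradedAt U hU V hV hle) ((𝒮.deg U hU)₊.toIdeal) := by
  obtain ⟨U₁, hU₁, e, he, V₁, hV₁, hVU₁, hxV₁, hsub⟩ := hsurj x
  obtain ⟨a, a₁, hD, hxa⟩ := exists_basicOpen_le_affine_inter hU hU₁ (ψ.base x)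
    ⟨hle hxV, hVU₁ hxV₁⟩
  obtain ⟨g, g₁, hDg, hxg, hgle⟩ := exists_basicOpen_le_affine_inter' hV hV₁
    (ψ ⁻¹ᵁ Y.basicOpen a) x ⟨hxV, hxV₁⟩ hxa
  refine ⟨g, hxg, ?_⟩
  have hU₂ := hU.basicOpen a
  have hV₂ := hV.basicOpen g
  have iU : Y.basicOpen a ≤ U := Y.basicOpen_le a
  have iU₁ : Y.basicOpen a ≤ U₁ := hD.le.trans (Y.basicOpen_le a₁)
  have iV : Y'.basicOpen g ≤ V := Y'.basicOpen_le g
  have iV₁ : Y'.basicOpen g ≤ V₁ := hDg.le.trans (Y'.basicOpen_le g₁)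
  obtain ⟨k, e₀, he₀, hk⟩ := exists_res_eq 𝒮 U hU a (Y.basicOpen a) hU₂ rfl iU
    (𝒮.res hU₁ hU₂ iU₁ e) ((𝒮.res hU₁ hU₂ iU₁).map_mem he)
  obtain ⟨m, t, ht, hm⟩ := exists_res_eq 𝒮' V₁ hV₁ g₁ (Y'.basicOpen g) hV₂ hDg iV₁
    (𝒮'.res hV hV₂ iV s) ((𝒮'.res hV hV₂ iV).map_mem hs)
  obtain ⟨b, hb⟩ := Ideal.mem_span_singleton'.mp (hsub ht)
  replace hb : b * u.gradedAt U₁ hU₁ V₁ hV₁ hVU₁ e = t := hb
  apply exists_pow_mul_mem 𝒮' V hV g _ s
  have c1 : (𝒮'.res hV₁ hV₂ iV₁) (u.gradedAt U₁ hU₁ V₁ hV₁ hVU₁ e) =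
      u.gradedAt (Y.basicOpen a) hU₂ (Y'.basicOpen g) hV₂ hgle (𝒮.res hU₁ hU₂ iU₁ e) :=
    DFunLike.congr_fun (Groth.Agent.H41.RelProjQMap.gradedAt_comm ψ 𝒮 𝒮' u U₁ hU₁ V₁ hV₁ hVU₁
      (Y.basicOpen a) hU₂ (Y'.basicOpen g) hV₂ hgle iU₁ iV₁) e
  have c2 : (𝒮'.res hV hV₂ iV) (u.gradedAt U hU V hV hle e₀) =
      u.gradedAt (Y.basicOpen a) hU₂ (Y'.basicOpen g) hV₂ hgle (𝒮.res hU hU₂ iU e₀) :=
    DFunLike.congr_fun (Groth.Agent.H41.RelProjQMap.gradedAt_comm ψ 𝒮 𝒮' u U hU V hV hle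
      (Y.basicOpen a) hU₂ (Y'.basicOpen g) hV₂ hgle iU iV) e₀
  have hu1 : IsUnit (𝒮'.res hV₁ hV₂ iV₁ ((𝒮'.str.app (op V₁)).hom g₁ ^ m)) := by
    rw [map_pow]
    exact (isUnit_res_str 𝒮' V₁ hV₁ (Y'.basicOpen g) hV₂ iV₁ g₁ hDg.le).pow m
  have hu2 : IsUnit (u.gradedAt (Y.basicOpen a) hU₂ (Y'.basicOpen g) hV₂ hgle
      (𝒮.res hU hU₂ iU ((𝒮.str.app (op U)).hom a ^ k))) := by
    rw [map_pow, map_pow]
    exact ((isUnit_res_str 𝒮 U hU (Y.basicOpen a) hU₂ iU a le_rfl).map _).pow k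
  have key : 𝒮'.res hV hV₂ iV s *
      (𝒮'.res hV₁ hV₂ iV₁ ((𝒮'.str.app (op V₁)).hom g₁ ^ m) *
        u.gradedAt (Y.basicOpen a) hU₂ (Y'.basicOpen g) hV₂ hgle
          (𝒮.res hU hU₂ iU ((𝒮.str.app (op U)).hom a ^ k))) =
      𝒮'.res hV₁ hV₂ iV₁ b * 𝒮'.res hV hV₂ iV (u.gradedAt U hU V hV hle e₀) := by
    rw [← mul_assoc, ← hm, ← hb, map_mul, c1, c2, hk, map_mul]
    ring
  have hI : 𝒮'.res hV hV₂ iV (u.gradedAt U hU V hV hle e₀) ∈
      Ideal.map (𝒮'.res hV hV₂ iV)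
        (Ideal.map (u.gradedAt U hU V hV hle) ((𝒮.deg U hU)₊.toIdeal)) :=
    Ideal.mem_map_of_mem _ (Ideal.mem_map_of_mem _
      (HomogeneousIdeal.mem_irrelevant_of_mem _ one_pos he₀))
  rw [← Ideal.mul_unit_mem_iff_mem _ (hu1.mul hu2), key]
  exact Ideal.mul_mem_left _ _ hI

include hsurj in
/-- the irrelevant-ideal hypothesis for every affine pair -/
theorem irr_of_local (hgen' : 𝒮'.IsGenDegOne)
    (U : Y.Opens) (hU : IsAffineOpen U) (V : Y'.Opens) (hV : IsAffineOpen V) (hle : V ≤ ψ ⁻¹ᵁ U) :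
    (𝒮'.deg V hV)₊ ≤ ((𝒮.deg U hU)₊).map (u.gradedAt U hU V hV hle) := by
  rw [HomogeneousIdeal.irrelevant_le]
  intro i hi b hb
  change b ∈ Ideal.map (u.gradedAt U hU V hV hle) ((𝒮.deg U hU)₊.toIdeal)
  have hb1 := Groth.Agent.H41.GenDegOne.irrelevant_le_span_degOne (hgen' V hV)
    (HomogeneousIdeal.mem_irrelevant_of_mem _ hi hb)
  refine (Ideal.span_le.mpr ?_) hb1
  intro s hs
  let G : Set Γ(Y', V) := {g | ∃ n : ℕ, (𝒮'.str.app (op V)).hom g ^ n * s ∈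
    Ideal.map (u.gradedAt U hU V hV hle) ((𝒮.deg U hU)₊.toIdeal)}
  have hcov : V ≤ ⨆ g : G, Y'.basicOpen g.1 := by
    intro x hx
    obtain ⟨g, hxg, hn⟩ := local_claim ψ 𝒮 𝒮' u hsurj U hU V hV hle s hs x hx
    exact Opens.mem_iSup.mpr ⟨⟨g, hn⟩, hxg⟩
  have hspan : Ideal.span G = ⊤ := hV.self_le_iSup_basicOpen_iff.mp hcov
  have hspan' : Ideal.span ((𝒮'.str.app (op V)).hom '' G) = ⊤ := by
    rw [← Ideal.map_span, hspan, Ideal.map_top]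
  refine Submodule.mem_of_span_eq_top_of_smul_pow_mem
    (Ideal.map (u.gradedAt U hU V hV hle) ((𝒮.deg U hU)₊.toIdeal)) _ hspan' s ?_
  rintro ⟨_, g, hg, rfl⟩
  exact hg

end main

end Groth.Agent.H41.IrrLocal
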