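import Groth.Agent.H18.PUP.LocalBasis
import Groth.Agent.H67.UnitIso
import Groth.Agent.H67.GenLocusAffine

/-!
# A morphism of modules carrying local bases to local bases is an isomorphism (helper41)
-/

set_option autoImplicit false
universe u

open CategoryTheory CategoryTheory.Limits AlgebraicGeometry TopologicalSpace Opposite

namespace Groth.Agent.H41.IsoOfBases

open Groth.Agent.H18 Groth.Agent.H18.PUP

variable {X : Scheme.{u}}

theorem app_mres {M N : X.Modules} (φ : M ⟶ N) {W W' : X.Opens} (h : W' ≤ W)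
    (x : Γ(M, W)) : φ.app W' (mres M h x) = mres N h (φ.app W x) := by
  have hnat := φ.mapPresheaf.naturality (homOfLE h).op
  exact ConcreteCategory.congr_hom hnat x

/-- If `t` is a basis of `M` over `W` and `φ t` is a basis of `N` over `W`, then `φ` is bijective on
sections over every open inside `W`. -/
theorem bijective_app_of_isBasisOn {M N : X.Modules} (φ : M ⟶ N) {W : X.Opens} {t : Γ(M, W)}
    (ht : IsBasisOn M W t) (ht' : IsBasisOn N W (φ.app W t)) (V : X.Opens) (hV : V ≤ W) :
    Function.Bijective (φ.app V) := by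
  have h1 := ht V hV
  have h2 := ht' V hV
  have hcomp : ((φ.app V : Γ(M, V) → Γ(N, V))) ∘ (fun r : Γ(X, V) => r • mres M hV t) =
      fun r : Γ(X, V) => r • mres N hV (φ.app W t) := by
    funext r
    change φ.app V (r • mres M hV t) = _
    rw [Scheme.Modules.Hom.app_smul, app_mres]
  have h3 : Function.Bijective (((φ.app V : Γ(M, V) → Γ(N, V))) ∘
      (fun r : Γ(X, V) => r • mres M hV t)) := by
    rw [hcomp]; exact h2
  exact (Function.Bijective.of_comp_iff (φ.app V : Γ(M, V) → Γ(N, V)) h1).mp h3

/-- A morphism carrying local bases to local bases is an isomorphism. -/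
theorem isIso_of_local_bases {M N : X.Modules} (φ : M ⟶ N)
    (h : ∀ x : X, ∃ (W : X.Opens) (t : Γ(M, W)), x ∈ W ∧ IsBasisOn M W t ∧
      IsBasisOn N W (φ.app W t)) : IsIso φ := by
  refine Groth.Agent.H67.UnitIso.isIso_of_isIso_restrict φ fun x => ?_
  obtain ⟨W, t, hxW, ht, ht'⟩ := h x
  refine ⟨W, hxW, ?_⟩
  rw [Groth.Agent.H67.GenLocusAffine.isIso_restrict_iff]
  intro V hV
  exact bijective_app_of_isBasisOn φ ht ht' V hV

end Groth.Agent.H41.IsoOfBases
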