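import Groth.Prelude.Def_W4bkmilneecrracsp2Inv
import Groth.Agent.H17.LambdaAug
import Groth.Agent.H43.Gamma

set_option autoImplicit false
universe u

namespace Groth.Agent.H41

open LambdaRing PowerSeries Finset

variable {K : Type u} [CommRing K] [LambdaOps K]

theorem lamSeries_finset_sum {ι : Type*} (s : Finset ι) (a : ι → K) :
    lamSeries (∑ i ∈ s, a i) = ∏ i ∈ s, lamSeries (a i) := by
  classical
  induction s using Finset.induction_on with
  | empty => simp [Groth.Agent.H43.lamSeries_zero]
  | insert i s hi ih => rw [Finset.sum_insert hi, Finset.prod_insert hi,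
      Groth.Agent.H17.lamSeries_add, ih]

/-- `λ^k` of a sum of line elements is the `k`-th elementary symmetric function -/
theorem lam_sum_lines (P : PosStructure K) {n : ℕ} (y : Fin n → K) (hy : ∀ i, P.IsLine (y i))
    (k : ℕ) :
    LambdaOps.lam k (∑ i, y i) = ∑ t ∈ (univ : Finset (Fin n)).powersetCard k, ∏ i ∈ t, y i := by
  classical
  rw [← Groth.Agent.H17.coeff_lamSeries, lamSeries_finset_sum,
    ← Groth.Agent.H43.coeff_prod_one_add_C_mul_X]
  congr 1
  refine Finset.prod_congr rfl fun i _ => ?_
  exact Groth.Agent.H17.lamSeries_of_isLine P (y i) (hy i)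

/-- alternating sum of the `λ^i` of a sum of `n` line elements -/
theorem lamAlt_sum_lines (P : PosStructure K) {n : ℕ} (y : Fin n → K) (hy : ∀ i, P.IsLine (y i)) :
    ∑ i ∈ range (n + 1), (-1 : K) ^ i * LambdaOps.lam i (∑ j, y j) = ∏ j, (1 - y j) := by
  classical
  have h1 : ∏ j : Fin n, (1 - y j) = ∑ t ∈ (univ : Finset (Fin n)).powerset, ∏ j ∈ t, (-(y j)) := by
    rw [← Finset.prod_one_add]
    refine Finset.prod_congr rfl fun j _ => ?_
    ring
  rw [h1, Finset.powerset_card_disjiUnion, Finset.sum_disjiUnion, Finset.card_univ, Fintype.card_fin]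
  refine Finset.sum_congr rfl fun i _ => ?_
  rw [lam_sum_lines P y hy, Finset.mul_sum]
  refine Finset.sum_congr rfl fun t ht => ?_
  rw [Finset.prod_neg, (Finset.mem_powersetCard.mp ht).2]

theorem map_gamma {K' : Type u} [CommRing K'] [LambdaOps K'] (f : K →+* K') (hf : IsLambdaHom f)
    (k : ℕ) (x : K) : f (gamma k x) = gamma k (f x) := by
  unfold gamma
  split_ifs with h
  · simp
  · rw [map_sum]
    refine Finset.sum_congr rfl fun j _ => ?_
    rw [map_mul, map_natCast]
    split_ifs
    · simp
    · rw [hf]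

theorem aug_finset_sum_lines (P : PosStructure K) {n : ℕ} (y : Fin n → K) (hy : ∀ i, P.IsLine (y i)) :
    P.aug (∑ i, y i) = n := by
  rw [map_sum]
  simp [fun i => (hy i).2]

theorem lam_one_of_lines (P : PosStructure K) (k : ℕ) (hk : 2 ≤ k) :
    LambdaOps.lam k (1 : K) = 0 := by
  apply P.lam_eq_zero 1 (Groth.Agent.H17.isLine_one P).1
  rw [map_one]
  exact_mod_cast hk

theorem lam_line_eq_zero (P : PosStructure K) {u : K} (hu : P.IsLine u) (k : ℕ) (hk : 2 ≤ k) :
    LambdaOps.lam k u = 0 := by
  apply P.lam_eq_zero u hu.1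
  rw [hu.2]
  exact_mod_cast hk

/-- `γ^n(Σ y - n)` for `n` line elements -/
theorem gamma_top_sum_lines (P : PosStructure K) {n : ℕ} (y : Fin n → K) (hy : ∀ i, P.IsLine (y i)) :
    gamma n (∑ i, y i - (n : K)) = ∏ i, (y i - 1) := by
  classical
  rw [Groth.Agent.H43.gamma_sum_sub_card (lam_one_of_lines P) n y
    (fun i j hj => lam_line_eq_zero P (hy i) j hj) n]
  have : (univ : Finset (Fin n)).powersetCard n = {univ} := by
    have := Finset.powersetCard_self (univ : Finset (Fin n))
    rwa [Finset.card_univ, Fintype.card_fin] at this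
  rw [this, Finset.sum_singleton]

section Inv

variable {P : PosStructure K} {inv : K → K}

theorem inv_zero (hV : IsInvolution P inv) : inv 0 = 0 := by
  have := hV.map_add 0 0
  rw [add_zero] at this
  exact left_eq_add.mp this

theorem inv_finset_sum (hV : IsInvolution P inv) {ι : Type*} (s : Finset ι) (a : ι → K) :
    inv (∑ i ∈ s, a i) = ∑ i ∈ s, inv (a i) := by
  classical
  induction s using Finset.induction_on with
  | empty => simp [inv_zero hV]
  | insert i s hi ih => rw [Finset.sum_insert hi, Finset.sum_insert hi, hV.map_add, ih]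

/-- The splitting data used by the proofs below. -/
theorem exists_inv_split (hS : HasInvSplitting P inv) (e : K) (he : e ∈ P.pos) :
    ∃ (L : Type u) (_ : CommRing L) (_ : LambdaOps L) (P' : PosStructure L) (inv' : L → L)
      (f : K →+* L), IsExtension P P' f ∧ IsInvolution P' inv' ∧ (∀ x : K, f (inv x) = inv' (f x)) ∧
      ∃ (n : ℕ) (y : Fin n → L), (∀ i, P'.IsLine (y i)) ∧ ∑ i, y i = f e ∧ (P.aug e).toNat = n := by
  obtain ⟨L, inv', f, hf, hV', hcomp, s, hs, hsum⟩ := hS e he
  refine ⟨L.carrier, L.commRing, L.lambdaOps, L.posStr, inv', f, hf, hV', hcomp, ?_⟩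
  refine ⟨s.toList.length, fun i => s.toList.get i, ?_, ?_, ?_⟩
  · intro i
    apply hs
    rw [← Multiset.mem_toList]
    exact List.get_mem _ _
  · rw [← hsum, ← List.sum_ofFn]
    have : List.ofFn (fun i : Fin s.toList.length => s.toList.get i) = s.toList := List.ofFn_get _
    rw [this, Multiset.sum_toList]
  · have h1 : L.posStr.aug (f e) = P.aug e := hf.aug_comp e
    rw [← h1, ← hsum, Groth.Agent.H17.aug_sum_lines L.posStr s hs, Int.toNat_natCast,
      Multiset.length_toList]

end Inv

end Groth.Agent.H41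

namespace Groth.Agent.H41

open LambdaRing PowerSeries Finset

variable {K : Type u} [CommRing K] [LambdaOps K]

/-- splitting of one positive element, indexed by `Fin n` -/
theorem exists_split_fin (P : PosStructure K) (hK : HasSplitting K P) (e : K) (he : e ∈ P.pos) :
    ∃ (L : Type u) (_ : CommRing L) (_ : LambdaOps L) (P' : PosStructure L)
      (f : K →+* L), IsExtension P P' f ∧
      ∃ (n : ℕ) (y : Fin n → L), (∀ i, P'.IsLine (y i)) ∧ ∑ i, y i = f e ∧ (P.aug e).toNat = n := by
  obtain ⟨L, _, _, P', f, -, hf, s, hs, hsum⟩ := Groth.Agent.H17.exists_split_one P hK e he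
  refine ⟨L, _, _, P', f, hf, s.toList.length, fun i => s.toList.get i, ?_, ?_, ?_⟩
  · intro i
    apply hs
    rw [← Multiset.mem_toList]
    exact List.get_mem _ _
  · rw [← hsum, ← List.sum_ofFn]
    have : List.ofFn (fun i : Fin s.toList.length => s.toList.get i) = s.toList := List.ofFn_get _
    rw [this, Multiset.sum_toList]
  · have h1 : P'.aug (f e) = P.aug e := hf.aug_comp e
    rw [← h1, ← hsum, Groth.Agent.H17.aug_sum_lines P' s hs, Int.toNat_natCast,
      Multiset.length_toList]

/-- `λ_{-1}(q) = (-1)^d γ^d(q - d)` for a positive element of augmentation `d` -/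
theorem lamAlt_eq_gamma (P : PosStructure K) (hK : HasSplitting K P) (q : K) (hq : q ∈ P.pos) :
    ∑ i ∈ range ((P.aug q).toNat + 1), (-1 : K) ^ i * LambdaOps.lam i q =
      (-1 : K) ^ (P.aug q).toNat * gamma (P.aug q).toNat (q - ((P.aug q).toNat : K)) := by
  obtain ⟨L, _, _, P', f, hf, n, y, hy, hsum, hn⟩ := exists_split_fin P hK q hq
  apply hf.injective
  rw [hn, map_sum, map_mul, map_pow, map_neg, map_one, map_gamma f hf.isLambdaHom, map_sub,
    map_natCast, ← hsum, gamma_top_sum_lines P' y hy]
  have h1 : ∑ i ∈ range (n + 1), f ((-1 : K) ^ i * LambdaOps.lam i q) =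
      ∑ i ∈ range (n + 1), (-1 : L) ^ i * LambdaOps.lam i (∑ j, y j) := by
    refine Finset.sum_congr rfl fun i _ => ?_
    rw [map_mul, map_pow, map_neg, map_one, hf.isLambdaHom, hsum]
  rw [h1, lamAlt_sum_lines P' y hy]
  have : ∀ j : Fin n, 1 - y j = (-1 : L) * (y j - 1) := fun j => by ring
  rw [Finset.prod_congr rfl (fun j _ => this j), Finset.prod_mul_distrib, Finset.prod_const,
    Finset.card_univ, Fintype.card_fin]

theorem lamAlt_mem_gammaFiltration (P : PosStructure K) (hK : HasSplitting K P) (q : K)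
    (hq : q ∈ P.pos) :
    ∑ i ∈ range ((P.aug q).toNat + 1), (-1 : K) ^ i * LambdaOps.lam i q ∈
      gammaFiltration P (P.aug q).toNat := by
  rw [lamAlt_eq_gamma P hK q hq]
  have haugq : P.aug q = ((P.aug q).toNat : ℤ) := (Int.toNat_of_nonneg (P.aug_pos q hq).le).symm
  set d := (P.aug q).toNat with hd
  have hgen : gamma d (q - (d : K)) ∈ gammaFiltration P d := by
    unfold gammaFiltration
    split_ifs with h0
    · trivial
    · apply AddSubgroup.subset_closure
      refine ⟨[(d, q - (d : K))], ?_, ?_, ?_⟩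
      · intro p hp
        simp only [List.mem_cons, List.not_mem_nil, or_false] at hp
        subst hp
        simp [haugq]
      · simp
      · simp
  rcases Nat.even_or_odd d with he | ho
  · rw [he.neg_one_pow, one_mul]; exact hgen
  · rw [ho.neg_one_pow, neg_one_mul]; exact neg_mem hgen

/-- a surjective augmented λ-homomorphism is surjective on each step of the γ-filtration -/
theorem exists_lift_gammaFiltration {KY KX : Type u} [CommRing KY] [LambdaOps KY]
    [CommRing KX] [LambdaOps KX] (PY : PosStructure KY) (PX : PosStructure KX)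
    (g : KY →+* KX) (hg : IsLambdaHom g) (hgaug : ∀ y : KY, PX.aug (g y) = PY.aug y)
    (hgsurj : Function.Surjective g) (m : ℕ) (x : KX) (hx : x ∈ gammaFiltration PX m) :
    ∃ y ∈ gammaFiltration PY m, g y = x := by
  by_cases hm : m = 0
  · obtain ⟨y, hy⟩ := hgsurj x
    refine ⟨y, ?_, hy⟩
    subst hm
    simp [gammaFiltration]
  · unfold gammaFiltration at hx ⊢
    rw [if_neg hm] at hx ⊢
    induction hx using AddSubgroup.closure_induction with
    | mem x hx =>
      obtain ⟨l, hl0, hlsum, rfl⟩ := hx
      choose c hc using hgsurj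
      refine ⟨((l.map fun p => (p.1, c p.2)).map fun p => gamma p.1 p.2).prod,
        AddSubgroup.subset_closure ⟨l.map fun p => (p.1, c p.2), ?_, ?_, rfl⟩, ?_⟩
      · intro p hp
        obtain ⟨p', hp', rfl⟩ := List.mem_map.mp hp
        simp only
        rw [← hgaug, hc]
        exact hl0 p' hp'
      · simpa [List.map_map, Function.comp_def] using hlsum
      · rw [map_list_prod, List.map_map, List.map_map]
        congr 1
        apply List.map_congr_left
        intro p _
        simp only [Function.comp_apply]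
        rw [map_gamma g hg, hc]
    | zero => exact ⟨0, zero_mem _, map_zero g⟩
    | add a b _ _ ha hb =>
      obtain ⟨ya, hya, rfl⟩ := ha
      obtain ⟨yb, hyb, rfl⟩ := hb
      exact ⟨ya + yb, add_mem hya hyb, map_add g ya yb⟩
    | neg a _ ha =>
      obtain ⟨ya, hya, rfl⟩ := ha
      exact ⟨-ya, neg_mem hya, map_neg g ya⟩

end Groth.Agent.H41
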