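import Mathlib.AlgebraicGeometry.Morphisms.Basic
import Mathlib.AlgebraicGeometry.Morphisms.Immersion

/-!
# Checking a property local on the target on a family of cartesian squares over open immersions (helper41)
-/

set_option autoImplicit false
universe u

open CategoryTheory CategoryTheory.Limits AlgebraicGeometry TopologicalSpace

namespace Groth.Agent.H41.LocalTarget

variable {D P : Scheme.{u}} (r : D ⟶ P) {ι : Type u} {T T' : ι → Scheme.{u}}
  (φ : ∀ a, T' a ⟶ T a) (κ : ∀ a, T' a ⟶ D) (lam : ∀ a, T a ⟶ P) [∀ a, IsOpenImmersion (lam a)]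
  (hpb : ∀ a, IsPullback (φ a) (κ a) (lam a) r)

include hpb in
/-- A property local on the target holds for `r` iff it holds for its base changes to a jointly surjective family of
open immersions. -/
theorem iff_of_isPullback_family (hcov : ∀ x : P, ∃ a y, lam a y = x)
    (Q : MorphismProperty Scheme.{u}) [IsZariskiLocalAtTarget Q] : Q r ↔ ∀ a, Q (φ a) := by
  let 𝒰 : P.OpenCover := Scheme.Cover.mkOfCovers ι T lam hcov
  rw [IsZariskiLocalAtTarget.iff_of_openCover (P := Q) 𝒰]
  refine forall_congr' fun a => ?_
  have hf := (hpb a).flip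
  have e : hf.isoPullback.hom ≫ pullback.snd r (lam a) = φ a := hf.isoPullback_hom_snd
  change Q (pullback.snd r (lam a)) ↔ Q (φ a)
  rw [← e, Q.cancel_left_of_respectsIso]

end Groth.Agent.H41.LocalTarget
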