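import Groth.Agent.H22.ProjIso

/-!
A graded ring hom bijective in all degrees `≥ n₀` induces an isomorphism on `Proj`.
-/

set_option autoImplicit false
universe u

open AlgebraicGeometry HomogeneousLocalization CategoryTheory

namespace Groth.Agent.H41

section

variable {R A : Type u} [CommRing R] [CommRing A] [Algebra R A]
variable {𝒜 : ℕ → Submodule R A} [GradedAlgebra 𝒜]
variable {B : Type u} [CommRing B] [Algebra R B] {ℬ : ℕ → Submodule R B} [GradedAlgebra ℬ]

theorem mul_pow_mem_add_smul {d : ℕ} {f : A} (hf : f ∈ 𝒜 d) (n k : ℕ) (x : A)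
    (hx : x ∈ 𝒜 (n • d)) : x * f ^ k ∈ 𝒜 ((n + k) • d) := by
  have := SetLike.mul_mem_graded hx (SetLike.pow_mem_graded k hf)
  rwa [show n • d + k • d = (n + k) • d by simp [add_mul]] at this

/-- `x / f^n = (x * f^k) / f^(n+k)` in the degree-zero localization. -/
theorem away_mk_eq_mk_add {d : ℕ} {f : A} (hf : f ∈ 𝒜 d) (n k : ℕ) (x : A) (hx : x ∈ 𝒜 (n • d)) :
    Away.mk 𝒜 hf n x hx = Away.mk 𝒜 hf (n + k) (x * f ^ k) (mul_pow_mem_add_smul hf n k x hx) := by
  apply HomogeneousLocalization.val_injective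
  rw [Away.val_mk, Away.val_mk, Localization.mk_eq_mk_iff, Localization.r_iff_exists]
  refine ⟨1, ?_⟩
  simp only [OneMemClass.coe_one, one_mul]
  ring

/-- A graded ring homomorphism that is bijective in degrees `≥ n₀` induces bijections on
degree-zero localizations at homogeneous elements of positive degree. -/
theorem awayMap_bijective_of_bijOn_ge (φ : 𝒜 →+*ᵍ ℬ) (n₀ : ℕ)
    (hbij : ∀ n : ℕ, n₀ ≤ n → Set.BijOn φ (𝒜 n) (ℬ n))
    {d : ℕ} (hd : 0 < d) {s : A} (hs : s ∈ 𝒜 d) : Function.Bijective (Away.map φ s) := by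
  constructor
  · rw [injective_iff_map_eq_zero]
    intro x hx
    obtain ⟨n, b, hb, rfl⟩ := Away.mk_surjective 𝒜 hs x
    rw [Away.map_mk] at hx
    have hx' := congrArg HomogeneousLocalization.val hx
    rw [Away.val_mk, HomogeneousLocalization.val_zero, Localization.mk_eq_mk',
      IsLocalization.mk'_eq_zero_iff] at hx'
    obtain ⟨⟨_, k, rfl⟩, hk⟩ := hx'
    dsimp only at hk
    have hdeg : s ^ (k + n₀) * b ∈ 𝒜 ((k + n₀) • d + n • d) :=
      SetLike.mul_mem_graded (SetLike.pow_mem_graded _ hs) hb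
    have hge : n₀ ≤ (k + n₀) • d + n • d := by
      have : n₀ * 1 ≤ (k + n₀) * d := Nat.mul_le_mul (by omega) hd
      simp only [smul_eq_mul]
      omega
    have hzero : φ (s ^ (k + n₀) * b) = φ 0 := by
      rw [map_zero, map_mul, map_pow, pow_add, mul_comm (φ s ^ k), mul_assoc, hk, mul_zero]
    have h0 := (hbij _ hge).injOn hdeg (zero_mem _) hzero
    apply HomogeneousLocalization.val_injective
    rw [Away.val_mk, HomogeneousLocalization.val_zero, Localization.mk_eq_mk',
      IsLocalization.mk'_eq_zero_iff]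
    exact ⟨⟨s ^ (k + n₀), k + n₀, rfl⟩, h0⟩
  · intro x
    obtain ⟨n, a, ha, rfl⟩ := Away.mk_surjective ℬ (Graded.map_mem φ hs) x
    have ha' := mul_pow_mem_add_smul (Graded.map_mem φ hs) n n₀ a ha
    have hge : n₀ ≤ (n + n₀) • d := by
      have : n₀ * 1 ≤ (n + n₀) * d := Nat.mul_le_mul (by omega) hd
      simp only [smul_eq_mul]
      omega
    obtain ⟨b, hb, hba⟩ := (hbij _ hge).surjOn ha'
    refine ⟨Away.mk 𝒜 hs (n + n₀) b hb, ?_⟩
    rw [Away.map_mk, away_mk_eq_mk_add (Graded.map_mem φ hs) n n₀ a ha]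
    congr 1

theorem isIso_projMap_of_bijOn_ge (φ : ℬ →+*ᵍ 𝒜) (n₀ : ℕ)
    (hbij : ∀ n : ℕ, n₀ ≤ n → Set.BijOn φ (ℬ n) (𝒜 n))
    (hφ : HomogeneousIdeal.irrelevant 𝒜 ≤ (HomogeneousIdeal.irrelevant ℬ).map φ) :
    CategoryTheory.IsIso (Proj.map φ hφ) := by
  change CategoryTheory.MorphismProperty.isomorphisms Scheme.{u} (Proj.map φ hφ)
  rw [IsZariskiLocalAtTarget.iff_of_openCover
    (P := CategoryTheory.MorphismProperty.isomorphisms Scheme.{u})
    (Proj.affineOpenCover ℬ).openCover]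
  intro i
  apply Groth.Agent.H18.pullbackHom_affineOpenCover_of
    (CategoryTheory.MorphismProperty.isomorphisms Scheme.{u}) φ hφ i
  have hb := awayMap_bijective_of_bijOn_ge φ n₀ hbij i.1.2 i.2.2
  have : CategoryTheory.IsIso
      (CommRingCat.ofHom (HomogeneousLocalization.Away.map φ (i.2 : B))) := by
    rw [CategoryTheory.ConcreteCategory.isIso_iff_bijective]
    exact hb
  change CategoryTheory.IsIso
    (Spec.map (CommRingCat.ofHom (HomogeneousLocalization.Away.map φ (i.2 : B))))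
  infer_instance

end

end Groth.Agent.H41
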