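import Groth.Agent.H41.Natural
import Groth.Agent.H41.ProjIsoGe
import Mathlib.AlgebraicGeometry.ProjectiveSpectrum.Functor
import Mathlib.RingTheory.GradedAlgebra.Homogeneous.Ideal

/-!
`Proj S → Proj T` for `T = S♮ ⊗_S S_0` (EGA II 8.7.x).
-/

set_option autoImplicit false
set_option linter.unusedSectionVars false
universe u

namespace Groth.Agent.H41.Natural

open DirectSum Polynomial AlgebraicGeometry

variable {R A B C : Type u} [CommRing R] [CommRing A] [Algebra R A]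
    (𝒜 : ℕ → Submodule R A) [GradedAlgebra 𝒜] [CommRing B] [Algebra R B]
    (ℬ : ℕ → Submodule R B) [GradedAlgebra ℬ]
    (φ : B →ₐ[R] Polynomial A) (hφ : Function.Injective φ)
    (hdeg : ∀ n : ℕ, Submodule.map φ.toLinearMap (ℬ n) =
      Submodule.map ((Polynomial.monomial n : A →ₗ[A] Polynomial A).restrictScalars R)
        (⨆ (m : ℕ) (_ : n ≤ m), 𝒜 m))
    [CommRing C] [Algebra R C] (𝒞 : ℕ → Submodule R C) [GradedAlgebra 𝒞]
    (π : ℬ →+*ᵍ 𝒞) (hπ : Function.Surjective π)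
    (hker : RingHom.ker π.toRingHom =
      Ideal.span (⇑φ ⁻¹' (⇑(Polynomial.C : A →+* Polynomial A) ''
        ((HomogeneousIdeal.irrelevant 𝒜).toIdeal : Set A))))
    (ρ : 𝒞 →+*ᵍ 𝒜)
    (hρ : ∀ (n : ℕ) (b : B), b ∈ ℬ n → ρ (π b) = GradedRing.proj 𝒜 n ((φ b).coeff n))

include hdeg hρ in
lemma rho_surjOn (n : ℕ) : Set.SurjOn ρ (𝒞 n) (𝒜 n) := by
  intro a ha
  obtain ⟨b, hb, hba⟩ := exists_lift 𝒜 ℬ φ hdeg (le_Age le_rfl ha)
  refine ⟨π b, Graded.map_mem π hb, ?_⟩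
  rw [hρ n b hb, hba, Polynomial.coeff_monomial, if_pos rfl, GradedRing.proj_apply,
    DirectSum.decompose_of_mem_same 𝒜 ha]

include hdeg hρ in
lemma rho_surjective : Function.Surjective ρ := by
  classical
  intro a
  rw [← DirectSum.sum_support_decompose 𝒜 a]
  choose c _ hc using fun n : ℕ => rho_surjOn 𝒜 ℬ φ hdeg 𝒞 π ρ hρ n (SetLike.coe_mem (decompose 𝒜 a n))
  exact ⟨∑ n ∈ (decompose 𝒜 a).support, c n, by rw [map_sum]; exact Finset.sum_congr rfl fun n _ => hc n⟩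

include hφ hdeg hker in
/-- If `φ b = a Xⁿ` with `a ∈ A₊ · A_{≥ n}` then `π b = 0`. -/
lemma pi_eq_zero_of_mem_mul {n : ℕ} {a : A} {b : B} (ha : a ∈ Age 𝒜 1 * Age 𝒜 n)
    (hb : φ b = Polynomial.monomial n a) : π b = 0 := by
  let N : Submodule R A := Submodule.comap (mon n)
    (Submodule.map φ.toLinearMap ((RingHom.ker π.toRingHom).restrictScalars R))
  have hN : Age 𝒜 1 * Age 𝒜 n ≤ N := by
    rw [Submodule.mul_le]
    intro u hu v hv
    have hu0 : u ∈ Age 𝒜 0 := Age_antitone 𝒜 (Nat.zero_le 1) hu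
    obtain ⟨U, _, hU⟩ := exists_lift 𝒜 ℬ φ hdeg hu0
    obtain ⟨V, _, hV⟩ := exists_lift 𝒜 ℬ φ hdeg hv
    have hUker : U ∈ RingHom.ker π.toRingHom := by
      rw [hker]
      refine Ideal.subset_span ⟨u, (mem_irrelevant_iff_mem_Age 𝒜).2 hu, ?_⟩
      rw [hU]; simp
    refine ⟨U * V, Ideal.mul_mem_right _ _ hUker, ?_⟩
    change φ (U * V) = Polynomial.monomial n (u * v)
    rw [map_mul, hU, hV, Polynomial.monomial_mul_monomial, zero_add]
  obtain ⟨g', hg', hg'a⟩ := hN ha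
  have : b = g' := hφ (hb.trans hg'a.symm)
  rw [this]; exact hg'

include hdeg hρ in
/-- If `b ∈ ℬ n`, `φ b = a Xⁿ` and `ρ (π b) = 0` then `a ∈ A_{≥ n+1}`. -/
lemma mem_Age_succ_of_rho_eq_zero {n : ℕ} {a : A} {b : B} (hbn : b ∈ ℬ n)
    (hb : φ b = Polynomial.monomial n a) (h0 : ρ (π b) = 0) : a ∈ Age 𝒜 (n + 1) := by
  obtain ⟨a', ha', hba'⟩ := exists_of_mem 𝒜 ℬ φ hdeg hbn
  obtain rfl : a' = a := Polynomial.monomial_injective n (hba'.symm.trans hb)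
  rw [hρ n b hbn, hb, Polynomial.coeff_monomial, if_pos rfl, GradedRing.proj_apply] at h0
  rw [mem_Age_iff]
  intro m hm
  rcases Nat.lt_succ_iff_lt_or_eq.1 hm with h | rfl
  · exact (mem_Age_iff 𝒜).1 ha' m h
  · exact h0

include hφ hdeg hπ hker hρ in
lemma rho_bijOn_of_gen (n₀ : ℕ) (hgen : ∀ n : ℕ, n₀ ≤ n → 𝒜 (n + 1) = 𝒜 1 * 𝒜 n)
    (n : ℕ) (hn : n₀ ≤ n) : Set.BijOn ρ (𝒞 n) (𝒜 n) := by
  refine ⟨fun c hc => Graded.map_mem ρ hc, ?_, rho_surjOn 𝒜 ℬ φ hdeg 𝒞 π ρ hρ n⟩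
  have key : ∀ c ∈ 𝒞 n, ρ c = 0 → c = 0 := by
    intro c hc h0
    obtain ⟨b, hb, rfl⟩ := Groth.Agent.H18.gradedRingHom_surjective_on_pieces π hπ n c hc
    obtain ⟨a, ha, hba⟩ := exists_of_mem 𝒜 ℬ φ hdeg hb
    have ha1 := mem_Age_succ_of_rho_eq_zero 𝒜 ℬ φ hdeg 𝒞 π ρ hρ hb hba h0
    rw [Nat.add_comm, (Age_succ_iff 𝒜 n₀).2 hgen n hn] at ha1
    exact pi_eq_zero_of_mem_mul 𝒜 ℬ φ hφ hdeg 𝒞 π hker ha1 hba
  intro c hc c' hc' h
  have := key (c - c') (Submodule.sub_mem _ hc hc') (by rw [map_sub, h, sub_self])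
  exact sub_eq_zero.1 this

include hφ hdeg hπ hker hρ in
theorem isIso_projMap_of_gen
    (hirr : HomogeneousIdeal.irrelevant 𝒜 ≤ (HomogeneousIdeal.irrelevant 𝒞).map ρ)
    (hgen : ∃ n₀ : ℕ, ∀ n : ℕ, n₀ ≤ n → 𝒜 (n + 1) = 𝒜 1 * 𝒜 n) :
    CategoryTheory.IsIso (Proj.map ρ hirr) := by
  obtain ⟨n₀, hgen⟩ := hgen
  exact Groth.Agent.H41.isIso_projMap_of_bijOn_ge ρ n₀
    (rho_bijOn_of_gen 𝒜 ℬ φ hφ hdeg 𝒞 π hπ hker ρ hρ n₀ hgen) hirr

include hφ hdeg hπ hker hρ in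
lemma ker_rho_le_nilradical : RingHom.ker ρ.toRingHom ≤ nilradical C := by
  classical
  intro c hc
  have hc0 : ρ c = 0 := hc
  rw [← DirectSum.sum_support_decompose 𝒞 c]
  refine Ideal.sum_mem _ fun n _ => ?_
  have hcn : ρ (decompose 𝒞 c n : C) = 0 := by
    rw [GradedRingHom.map_directSumDecompose, hc0, DirectSum.decompose_zero]; rfl
  obtain ⟨b, hb, hbc⟩ := Groth.Agent.H18.gradedRingHom_surjective_on_pieces π hπ n _
    (SetLike.coe_mem (decompose 𝒞 c n))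
  rw [← hbc] at hcn ⊢
  obtain ⟨a, ha, hba⟩ := exists_of_mem 𝒜 ℬ φ hdeg hb
  have ha1 := mem_Age_succ_of_rho_eq_zero 𝒜 ℬ φ hdeg 𝒞 π ρ hρ hb hba hcn
  let N : Submodule R A := Submodule.comap (mon n)
    (Submodule.map φ.toLinearMap (((nilradical C).comap π.toRingHom).restrictScalars R))
  have hN : ∀ m, n + 1 ≤ m → 𝒜 m ≤ N := by
    intro m hm x hx
    obtain ⟨g, _, hg⟩ := exists_lift 𝒜 ℬ φ hdeg (le_Age (by omega : n ≤ m) hx)
    refine ⟨g, ?_, hg⟩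
    change π g ∈ nilradical C
    refine ⟨m, ?_⟩
    rw [← map_pow]
    have hxm : x ^ m ∈ Age 𝒜 1 * Age 𝒜 (n * m) := by
      obtain ⟨m', rfl⟩ : ∃ m', m = m' + 1 := ⟨m - 1, by omega⟩
      rw [pow_succ']
      refine Submodule.mul_mem_mul (le_Age (by omega) hx) ?_
      have := SetLike.pow_mem_graded m' hx
      refine le_Age ?_ this
      rw [smul_eq_mul]
      exact Nat.mul_le_mul_right _ (by omega)
    refine pi_eq_zero_of_mem_mul 𝒜 ℬ φ hφ hdeg 𝒞 π hker hxm ?_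
    rw [map_pow, hg, Polynomial.monomial_pow]
  obtain ⟨g', hg', hg'a⟩ := (iSup₂_le hN : Age 𝒜 (n + 1) ≤ N) ha1
  have : b = g' := hφ (hba.trans hg'a.symm)
  rw [this]; exact hg'

include hφ hdeg hπ hker hρ in
theorem comap_rho_bijective
    (hirr : HomogeneousIdeal.irrelevant 𝒜 ≤ (HomogeneousIdeal.irrelevant 𝒞).map ρ) :
    Function.Bijective (ProjectiveSpectrum.comap ρ hirr) := by
  have hsurj : Function.Surjective ρ.toRingHom := rho_surjective 𝒜 ℬ φ hdeg 𝒞 π ρ hρ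
  have hnil := ker_rho_le_nilradical 𝒜 ℬ φ hφ hdeg 𝒞 π hπ hker ρ hρ
  constructor
  · intro p p' h
    have h1 : (ProjectiveSpectrum.comap ρ hirr p).asHomogeneousIdeal.toIdeal =
        (ProjectiveSpectrum.comap ρ hirr p').asHomogeneousIdeal.toIdeal := by rw [h]
    have h2 : p.asHomogeneousIdeal.toIdeal.comap ρ.toRingHom =
        p'.asHomogeneousIdeal.toIdeal.comap ρ.toRingHom := h1
    have h3 := Ideal.comap_injective_of_surjective ρ.toRingHom hsurj h2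
    exact ProjectiveSpectrum.ext (HomogeneousIdeal.toIdeal_injective h3)
  · intro q
    have hkq : RingHom.ker ρ.toRingHom ≤ q.asHomogeneousIdeal.toIdeal :=
      hnil.trans (nilradical_le_prime _)
    have hcm : (q.asHomogeneousIdeal.toIdeal.map ρ.toRingHom).comap ρ.toRingHom =
        q.asHomogeneousIdeal.toIdeal := by
      rw [Ideal.comap_map_of_surjective _ hsurj]
      exact sup_eq_left.2 hkq
    refine ⟨⟨q.asHomogeneousIdeal.map ρ, ?_, ?_⟩, ?_⟩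
    · exact Ideal.map_isPrime_of_surjective hsurj hkq
    · intro hle
      apply q.not_irrelevant_le
      intro c hc
      have : ρ c ∈ (q.asHomogeneousIdeal.map ρ).toIdeal := by
        apply hle
        change (decompose 𝒜 (ρ c) 0 : A) = 0
        rw [← GradedRingHom.map_directSumDecompose]
        have : (decompose 𝒞 c 0 : C) = 0 := hc
        rw [this, map_zero]
      have h' : c ∈ (q.asHomogeneousIdeal.toIdeal.map ρ.toRingHom).comap ρ.toRingHom := this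
      rwa [hcm] at h'
    · exact ProjectiveSpectrum.ext (HomogeneousIdeal.toIdeal_injective hcm)

end Groth.Agent.H41.Natural
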