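import Mathlib.AlgebraicGeometry.Morphisms.ClosedImmersion
import Mathlib.AlgebraicGeometry.Restrict

/-!
If `f ≫ g` is an open immersion and `g` is a closed immersion, then `f` is an open immersion.
-/

set_option autoImplicit false
universe u
open CategoryTheory CategoryTheory.Limits AlgebraicGeometry

namespace Groth.Agent.H41.OpenOfComp

theorem isOpenImmersion_of_comp {X Z W : Scheme.{u}} (f : X ⟶ Z) (g : Z ⟶ W)
    [IsClosedImmersion g] [IsOpenImmersion (f ≫ g)] : IsOpenImmersion f := by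
  let V := (f ≫ g).opensRange
  have hrange : Set.range f.base ⊆ Set.range (g ⁻¹ᵁ V).ι.base := by
    rw [Scheme.Opens.range_ι]
    rintro _ ⟨x, rfl⟩
    exact ⟨x, rfl⟩
  let f' := IsOpenImmersion.lift (g ⁻¹ᵁ V).ι f hrange
  have hf' : f' ≫ (g ⁻¹ᵁ V).ι = f := IsOpenImmersion.lift_fac _ _ _
  let e := (f ≫ g).isoOpensRange
  have he : e.hom ≫ V.ι = f ≫ g := (f ≫ g).isoOpensRange_hom_ι
  have h1 : f' ≫ (g ∣_ V) = e.hom := by
    rw [← cancel_mono V.ι, Category.assoc, morphismRestrict_ι, reassoc_of% hf', he]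
  have hsplit : IsSplitEpi (g ∣_ V) :=
    ⟨⟨e.inv ≫ f', by rw [Category.assoc, h1, Iso.inv_hom_id]⟩⟩
  have hmono : Mono (g ∣_ V) := inferInstance
  have hiso : IsIso (g ∣_ V) := isIso_of_mono_of_isSplitEpi _
  have hf'iso : IsIso f' := by
    have : f' = e.hom ≫ inv (g ∣_ V) := by
      rw [← h1, Category.assoc, IsIso.hom_inv_id, Category.comp_id]
    rw [this]
    infer_instance
  rw [← hf']
  infer_instance

end Groth.Agent.H41.OpenOfComp
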