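import Groth.Prelude.Def_RelSpec2
import Groth.Agent.H18.Glue
import Groth.Agent.H41.ProjGen

/-!
# The partial morphism `G(ψ) ⟶ Proj 𝒜` induced by a graded ring homomorphism `ψ : 𝒜 → ℬ`

For gradings by arbitrary `AddSubgroupClass` families (generalizing `Groth.Agent.H18.PConeGlue`,
which is for `Submodule`-gradings).  `G(ψ) = RelCone.domOpen ψ`.
-/

set_option autoImplicit false
universe u

open AlgebraicGeometry CategoryTheory CategoryTheory.Limits HomogeneousLocalization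
open TopologicalSpace
open scoped HomogeneousIdeal

namespace Groth.Agent.H41.PMap

section

variable {A B σ τ : Type u} [CommRing A] [SetLike σ A] [AddSubgroupClass σ A]
  [CommRing B] [SetLike τ B] [AddSubgroupClass τ B]
  {𝒜 : ℕ → σ} {ℬ : ℕ → τ} [GradedRing 𝒜] [GradedRing ℬ] (ψ : 𝒜 →+*ᵍ ℬ)

/-- Basic opens at images of homogeneous elements of positive degree lie in `G(ψ)`. -/
theorem basicOpen_le {d : ℕ} {f : A} (hf : f ∈ 𝒜 d) (hd : 0 < d) :
    Proj.basicOpen ℬ (ψ f) ≤ RelCone.domOpen ψ := by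
  intro x hx
  exact (RelCone.mem_domOpen ψ x).mpr
    ⟨f, HomogeneousIdeal.mem_irrelevant_of_mem _ hd hf, (Proj.mem_basicOpen _ _ _).mp hx⟩

/-- A point of `G(ψ)` lies in some `D₊(ψ f)` with `f` homogeneous of positive degree. -/
theorem exists_homogeneous_of_mem (x : Proj ℬ) (hx : x ∈ RelCone.domOpen ψ) :
    ∃ (d : ℕ) (f : A), 0 < d ∧ f ∈ 𝒜 d ∧ x ∈ Proj.basicOpen ℬ (ψ f) := by
  classical
  obtain ⟨f, hf, hfx⟩ := (RelCone.mem_domOpen ψ x).mp hx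
  have hex : ∃ i, ψ (DirectSum.decompose 𝒜 f i : A) ∉ x.asHomogeneousIdeal := by
    by_contra hall
    push Not at hall
    apply hfx
    rw [← DirectSum.sum_support_decompose 𝒜 f, map_sum]
    exact Ideal.sum_mem _ fun i _ => hall i
  obtain ⟨i, hi⟩ := hex
  have hi0 : i ≠ 0 := by
    rintro rfl
    have h0 : (DirectSum.decompose 𝒜 f 0 : A) = 0 := hf
    rw [h0, map_zero] at hi
    exact hi (zero_mem _)
  exact ⟨i, (DirectSum.decompose 𝒜 f i : A), Nat.pos_of_ne_zero hi0, SetLike.coe_mem _,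
    (Proj.mem_basicOpen _ _ _).mpr hi⟩

theorem range_awayι_subset {d : ℕ} {f : A} (hf : f ∈ 𝒜 d) (hd : 0 < d) :
    Set.range (Proj.awayι ℬ (ψ f) (ψ.map_mem hf) hd).base ⊆
      Set.range (RelCone.domOpen ψ).ι.base := by
  rw [Scheme.Opens.range_ι]
  intro x hx
  have hx' : x ∈ Proj.basicOpen ℬ (ψ f) := by
    rw [← Proj.opensRange_awayι ℬ (ψ f) (ψ.map_mem hf) hd]; exact hx
  exact basicOpen_le ψ hf hd hx'

/-- The standard chart `Spec ℬ_(ψ f) ⟶ G(ψ)`. -/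
noncomputable def chart {d : ℕ} {f : A} (hf : f ∈ 𝒜 d) (hd : 0 < d) :
    Spec (CommRingCat.of (Away ℬ (ψ f))) ⟶ (RelCone.domOpen ψ : Scheme.{u}) :=
  IsOpenImmersion.lift (RelCone.domOpen ψ).ι (Proj.awayι ℬ (ψ f) (ψ.map_mem hf) hd)
    (range_awayι_subset ψ hf hd)

@[reassoc]
theorem chart_ι {d : ℕ} {f : A} (hf : f ∈ 𝒜 d) (hd : 0 < d) :
    chart ψ hf hd ≫ (RelCone.domOpen ψ).ι = Proj.awayι ℬ (ψ f) (ψ.map_mem hf) hd :=
  IsOpenImmersion.lift_fac _ _ _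

instance isOpenImmersion_chart {d : ℕ} {f : A} (hf : f ∈ 𝒜 d) (hd : 0 < d) :
    IsOpenImmersion (chart ψ hf hd) := by
  have : IsOpenImmersion (chart ψ hf hd ≫ (RelCone.domOpen ψ).ι) := by
    rw [chart_ι]
    infer_instance
  exact IsOpenImmersion.of_comp _ (RelCone.domOpen ψ).ι

theorem range_chart {d : ℕ} {f : A} (hf : f ∈ 𝒜 d) (hd : 0 < d) :
    Set.range (chart ψ hf hd) =
      (RelCone.domOpen ψ).ι ⁻¹' (Proj.basicOpen ℬ (ψ f) : Set (Proj ℬ)) := by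
  ext x
  have hr : ((RelCone.domOpen ψ).ι x ∈ (Proj.basicOpen ℬ (ψ f) : Set (Proj ℬ))) ↔
      (RelCone.domOpen ψ).ι x ∈ Set.range (Proj.awayι ℬ (ψ f) (ψ.map_mem hf) hd) := by
    rw [← Proj.opensRange_awayι ℬ (ψ f) (ψ.map_mem hf) hd]
    rfl
  rw [Set.mem_preimage, hr]
  constructor
  · rintro ⟨y, rfl⟩
    refine ⟨y, ?_⟩
    rw [← chart_ι ψ hf hd]
    rfl
  · rintro ⟨y, hy⟩
    refine ⟨y, (RelCone.domOpen ψ).ι.isOpenEmbedding.injective ?_⟩
    rw [← hy, ← chart_ι ψ hf hd]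
    rfl

/-- The index type of the standard charts of `G(ψ)`. -/
abbrev Idx (𝒜 : ℕ → σ) : Type u := Σ d : ℕ, {f : A // 0 < d ∧ f ∈ 𝒜 d}

/-- The standard charts form an open cover of `G(ψ)`. -/
noncomputable def cover : (RelCone.domOpen ψ : Scheme.{u}).OpenCover :=
  Scheme.Cover.mkOfCovers (Idx 𝒜)
    (fun j => Spec (CommRingCat.of (Away ℬ (ψ j.2.1))))
    (fun j => chart ψ j.2.2.2 j.2.2.1)
    (by
      intro x
      obtain ⟨d, f, hd, hf, hxf⟩ := exists_homogeneous_of_mem ψ x.1 x.2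
      have : x ∈ Set.range (chart ψ hf hd) := by
        rw [range_chart]
        exact hxf
      obtain ⟨y, hy⟩ := this
      exact ⟨⟨d, f, hd, hf⟩, y, hy⟩)
    (fun j => isOpenImmersion_chart ψ j.2.2.2 j.2.2.1)

/-- Naturality of `awayMap` with respect to a graded ring hom. -/
theorem awayMap_comp_awayMap {d e : ℕ} {f g : A} (hf : f ∈ 𝒜 d) (hg : g ∈ 𝒜 e) {x : A}
    (hx : x = f * g) :
    (awayMap ℬ (ψ.map_mem hg) (show ψ x = ψ f * ψ g by rw [hx, map_mul])).comp (Away.map ψ f) =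
      (Away.map ψ x).comp (awayMap 𝒜 hg hx) := by
  ext y
  obtain ⟨n, a, ha, rfl⟩ := Away.mk_surjective 𝒜 hf y
  simp only [RingHom.comp_apply]
  rw [Away.map_mk, awayMap_mk, awayMap_mk, Away.map_mk]
  simp [map_mul, map_pow]

/-- The chartwise morphisms to `Proj 𝒜` are compatible with passing to a smaller chart. -/
theorem compat {d e : ℕ} {f g : A} (hf : f ∈ 𝒜 d) (hd : 0 < d) (hg : g ∈ 𝒜 e) {x : A}
    (hx : x = f * g) {k : ℕ} (hk : d + e = k) (hxmem : x ∈ 𝒜 k) (hpos : 0 < k) :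
    Spec.map (CommRingCat.ofHom (awayMap ℬ (ψ.map_mem hg)
        (show ψ x = ψ f * ψ g by rw [hx, map_mul]))) ≫
      Spec.map (CommRingCat.ofHom (Away.map ψ f)) ≫ Proj.awayι 𝒜 f hf hd =
    Spec.map (CommRingCat.ofHom (Away.map ψ x)) ≫ Proj.awayι 𝒜 x hxmem hpos := by
  subst hk
  rw [← Spec.map_comp_assoc, ← CommRingCat.ofHom_comp, awayMap_comp_awayMap ψ hf hg hx,
    CommRingCat.ofHom_comp, Spec.map_comp_assoc, Proj.SpecMap_awayMap_awayι 𝒜 hf hd hg hx]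

/-- Existence and uniqueness of the morphism `G(ψ) ⟶ Proj 𝒜` given on charts. -/
theorem existsUnique_map :
    ∃! p : (RelCone.domOpen ψ : Scheme.{u}) ⟶ Proj 𝒜,
      ∀ (d : ℕ) (f : A) (hd : 0 < d) (hf : f ∈ 𝒜 d),
        chart ψ hf hd ≫ p =
          Spec.map (CommRingCat.ofHom (Away.map ψ f)) ≫ Proj.awayι 𝒜 f hf hd := by
  have key := Groth.Agent.H18.existsUnique_glue (cover ψ)
    (fun j => Spec.map (CommRingCat.ofHom (Away.map ψ j.2.1)) ≫
      Proj.awayι 𝒜 j.2.1 j.2.2.2 j.2.2.1) ?_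
  · obtain ⟨p, hp, huniq⟩ := key
    refine ⟨p, fun d f hd hf => hp ⟨d, f, hd, hf⟩, fun p' hp' => huniq p' fun j => ?_⟩
    exact hp' j.1 j.2.1 j.2.2.1 j.2.2.2
  · rintro ⟨d, f, hd, hf⟩ ⟨e, g, he, hg⟩
    have hfg : f * g ∈ 𝒜 (d + e) := SetLike.mul_mem_graded hf hg
    have hgf : f * g = g * f := mul_comm f g
    refine ⟨⟨d + e, f * g, by omega, hfg⟩,
      Spec.map (CommRingCat.ofHom (awayMap ℬ (ψ.map_mem hg)
        (show ψ (f * g) = ψ f * ψ g by rw [map_mul]))),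
      Spec.map (CommRingCat.ofHom (awayMap ℬ (ψ.map_mem hf)
        (show ψ (f * g) = ψ g * ψ f by rw [map_mul, mul_comm]))), ?_, ?_, ?_, ?_⟩
    · change _ ≫ chart ψ hf hd = chart ψ hfg _
      rw [← cancel_mono (RelCone.domOpen ψ).ι, Category.assoc, chart_ι, chart_ι]
      exact Proj.SpecMap_awayMap_awayι ℬ (ψ.map_mem hf) hd (ψ.map_mem hg) _
    · change _ ≫ chart ψ hg he = chart ψ hfg _
      rw [← cancel_mono (RelCone.domOpen ψ).ι, Category.assoc, chart_ι, chart_ι]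
      exact Proj.SpecMap_awayMap_awayι ℬ (ψ.map_mem hg) he (ψ.map_mem hf) _
    · change Set.range (chart ψ hfg _) =
        Set.range (chart ψ hf hd) ∩ Set.range (chart ψ hg he)
      rw [range_chart, range_chart, range_chart, ← Set.preimage_inter, map_mul,
        Proj.basicOpen_mul]
      rfl
    · exact (compat ψ hf hd hg rfl rfl hfg (by omega)).trans
        (compat ψ hg he hf hgf (by omega) hfg (by omega)).symm

/-- The morphism `G(ψ) ⟶ Proj 𝒜` induced by `ψ`. -/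
noncomputable def map : (RelCone.domOpen ψ : Scheme.{u}) ⟶ Proj 𝒜 :=
  (existsUnique_map ψ).choose

@[reassoc]
theorem chart_map {d : ℕ} {f : A} (hf : f ∈ 𝒜 d) (hd : 0 < d) :
    chart ψ hf hd ≫ map ψ =
      Spec.map (CommRingCat.ofHom (Away.map ψ f)) ≫ Proj.awayι 𝒜 f hf hd :=
  (existsUnique_map ψ).choose_spec.1 d f hd hf

theorem map_unique (p : (RelCone.domOpen ψ : Scheme.{u}) ⟶ Proj 𝒜)
    (hp : ∀ (d : ℕ) (f : A) (hd : 0 < d) (hf : f ∈ 𝒜 d),
      chart ψ hf hd ≫ p = Spec.map (CommRingCat.ofHom (Away.map ψ f)) ≫ Proj.awayι 𝒜 f hf hd) :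
    p = map ψ :=
  (existsUnique_map ψ).choose_spec.2 p hp

/-- On the domain of definition, Mathlib's `Proj.map` (when available) is the partial map. -/
theorem ι_projMap (hirr : ℬ₊ ≤ 𝒜₊.map ψ) :
    (RelCone.domOpen ψ).ι ≫ Proj.map ψ hirr = map ψ := by
  apply map_unique
  intro d f hd hf
  rw [chart_ι_assoc, Proj.awayι_comp_map ψ hirr hd f hf]

theorem map_isLocalizationElem {d e : ℕ} {f g : A} (hf : f ∈ 𝒜 d) (hg : g ∈ 𝒜 e) :
    Away.map ψ f (Away.isLocalizationElem hf hg) =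
      Away.isLocalizationElem (ψ.map_mem hf) (ψ.map_mem hg) := by
  rw [Away.map_mk]
  congr 1
  exact map_pow ψ g d

/-- The preimage of `D₊(g)` under the partial map is `D₊(ψ g) ∩ G(ψ)`. -/
theorem map_preimage_basicOpen {e : ℕ} {g : A} (hg : g ∈ 𝒜 e) (he : 0 < e) :
    (map ψ) ⁻¹ᵁ (Proj.basicOpen 𝒜 g) =
      (RelCone.domOpen ψ).ι ⁻¹ᵁ (Proj.basicOpen ℬ (ψ g)) := by
  ext y
  obtain ⟨d, f, hd, hf, hyf⟩ := exists_homogeneous_of_mem ψ y.1 y.2
  obtain ⟨z, rfl⟩ : y ∈ Set.range (chart ψ hf hd) := by rw [range_chart]; exact hyf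
  have h1 : (chart ψ hf hd z ∈ ((map ψ) ⁻¹ᵁ (Proj.basicOpen 𝒜 g) : Set _)) ↔
      z ∈ (chart ψ hf hd ≫ map ψ) ⁻¹ᵁ (Proj.basicOpen 𝒜 g) := Iff.rfl
  have h2 : (chart ψ hf hd z ∈
      ((RelCone.domOpen ψ).ι ⁻¹ᵁ (Proj.basicOpen ℬ (ψ g)) : Set _)) ↔
      z ∈ (chart ψ hf hd ≫ (RelCone.domOpen ψ).ι) ⁻¹ᵁ (Proj.basicOpen ℬ (ψ g)) := Iff.rfl
  have hA : Proj.awayι 𝒜 f hf hd ⁻¹ᵁ Proj.basicOpen 𝒜 g =
      PrimeSpectrum.basicOpen (Away.isLocalizationElem hf hg) :=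
    Proj.awayι_preimage_basicOpen 𝒜 hf hd hg he
  have hB : Proj.awayι ℬ (ψ f) (ψ.map_mem hf) hd ⁻¹ᵁ Proj.basicOpen ℬ (ψ g) =
      PrimeSpectrum.basicOpen (Away.isLocalizationElem (ψ.map_mem hf) (ψ.map_mem hg)) :=
    Proj.awayι_preimage_basicOpen ℬ (ψ.map_mem hf) hd (ψ.map_mem hg) he
  have hL : z ∈ (Spec.map (CommRingCat.ofHom (Away.map ψ f)) ≫ Proj.awayι 𝒜 f hf hd) ⁻¹ᵁ
      (Proj.basicOpen 𝒜 g) ↔
      Away.map ψ f (Away.isLocalizationElem hf hg) ∉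
        (show PrimeSpectrum (Away ℬ (ψ f)) from z).asIdeal := by
    have := SetLike.ext_iff.mp hA ((Spec.map (CommRingCat.ofHom (Away.map ψ f))) z)
    exact this
  have hR : z ∈ (Proj.awayι ℬ (ψ f) (ψ.map_mem hf) hd) ⁻¹ᵁ (Proj.basicOpen ℬ (ψ g)) ↔
      Away.isLocalizationElem (ψ.map_mem hf) (ψ.map_mem hg) ∉
        (show PrimeSpectrum (Away ℬ (ψ f)) from z).asIdeal := by
    have := SetLike.ext_iff.mp hB z
    exact this
  rw [h1, h2, chart_map, chart_ι, hL, hR, map_isLocalizationElem]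

/-- The chart square of the partial map is cartesian. -/
theorem isPullback_chart_map {d : ℕ} {f : A} (hf : f ∈ 𝒜 d) (hd : 0 < d) :
    IsPullback (Spec.map (CommRingCat.ofHom (Away.map ψ f))) (chart ψ hf hd)
      (Proj.awayι 𝒜 f hf hd) (map ψ) := by
  refine IsOpenImmersion.isPullback _ _ _ _ (chart_map ψ hf hd) ?_
  rw [Proj.opensRange_awayι, map_preimage_basicOpen ψ hf hd]
  ext1
  exact (range_chart ψ hf hd).symm

/-- A property local at the target holds for the partial map as soon as it holds for all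
`Spec.map (Away.map ψ s)`. -/
theorem map_of_forall_away (P : MorphismProperty Scheme.{u}) [IsZariskiLocalAtTarget P]
    (h : ∀ (d : ℕ) (_ : 0 < d) (s : A) (_ : s ∈ 𝒜 d),
      P (Spec.map (CommRingCat.ofHom (Away.map ψ s)))) :
    P (map ψ) := by
  rw [IsZariskiLocalAtTarget.iff_of_openCover (P := P) (Proj.affineOpenCover 𝒜).openCover]
  intro i
  have hpb := (isPullback_chart_map ψ i.2.2 i.1.2).flip
  change P (Limits.pullback.snd (map ψ) ((Proj.affineOpenCover 𝒜).openCover.f i))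
  have e : hpb.isoPullback.hom ≫
      Limits.pullback.snd (map ψ) (Proj.awayι 𝒜 (i.2 : A) i.2.2 i.1.2) =
      Spec.map (CommRingCat.ofHom (Away.map ψ (i.2 : A))) := hpb.isoPullback_hom_snd
  have h' := h _ i.1.2 _ i.2.2
  rw [← e] at h'
  exact (P.cancel_left_of_respectsIso hpb.isoPullback.hom _).mp h'

/-- Surjectivity in high degrees gives surjectivity on degree-zero localizations. -/
theorem awayMap_surjective_of_surjOn_ge (n₀ : ℕ)
    (hsurj : ∀ n : ℕ, n₀ ≤ n → ∀ b ∈ ℬ n, ∃ a ∈ 𝒜 n, ψ a = b)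
    {d : ℕ} (hd : 0 < d) {s : A} (hs : s ∈ 𝒜 d) : Function.Surjective (Away.map ψ s) := by
  intro x
  obtain ⟨n, a, ha, rfl⟩ := Away.mk_surjective ℬ (ψ.map_mem hs) x
  have ha' := ProjGen.mul_pow_mem_add_smul (ψ.map_mem hs) n n₀ a ha
  have hge : n₀ ≤ (n + n₀) • d := by
    have : n₀ * 1 ≤ (n + n₀) * d := Nat.mul_le_mul (by omega) hd
    simp only [smul_eq_mul]
    omega
  obtain ⟨b, hb, hba⟩ := hsurj _ hge _ ha'
  refine ⟨Away.mk 𝒜 hs (n + n₀) b hb, ?_⟩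
  rw [Away.map_mk, ProjGen.away_mk_eq_mk_add (ψ.map_mem hs) n n₀ a ha]
  congr 1

/-- Surjectivity in high degrees makes the induced map everywhere defined. -/
theorem domOpen_eq_top_of_surjOn_ge (n₀ : ℕ)
    (hsurj : ∀ n : ℕ, n₀ ≤ n → ∀ b ∈ ℬ n, ∃ a ∈ 𝒜 n, ψ a = b) :
    RelCone.domOpen ψ = ⊤ := by
  rw [eq_top_iff]
  intro y _
  rw [RelCone.mem_domOpen]
  by_contra hcon
  push Not at hcon
  apply y.not_irrelevant_le
  rw [HomogeneousIdeal.irrelevant_le]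
  intro k hk t ht
  have h1 : t ^ (n₀ + 1) ∈ ℬ ((n₀ + 1) • k) := SetLike.pow_mem_graded _ ht
  have hge : n₀ ≤ (n₀ + 1) • k := by
    have : (n₀ + 1) * 1 ≤ (n₀ + 1) * k := Nat.mul_le_mul le_rfl hk
    simp only [smul_eq_mul]
    omega
  obtain ⟨a, ha, hat⟩ := hsurj _ hge _ h1
  have hpos : 0 < (n₀ + 1) • k := by
    simp only [smul_eq_mul]
    exact Nat.mul_pos (by omega) hk
  have h2 : ψ a ∈ y.asHomogeneousIdeal :=
    hcon a (HomogeneousIdeal.mem_irrelevant_of_mem 𝒜 hpos ha)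
  rw [hat] at h2
  exact y.isPrime.mem_of_pow_mem _ h2

theorem isClosedImmersion_map_of_surjOn_ge (n₀ : ℕ)
    (hsurj : ∀ n : ℕ, n₀ ≤ n → ∀ b ∈ ℬ n, ∃ a ∈ 𝒜 n, ψ a = b) :
    IsClosedImmersion (map ψ) := by
  apply map_of_forall_away ψ @IsClosedImmersion
  intro d hd s hs
  exact IsClosedImmersion.spec_of_surjective _ (awayMap_surjective_of_surjOn_ge ψ n₀ hsurj hd hs)

theorem isIso_map_of_bijOn_ge (n₀ : ℕ)
    (hbij : ∀ n : ℕ, n₀ ≤ n → Set.BijOn ψ (𝒜 n) (ℬ n)) :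
    IsIso (map ψ) := by
  change MorphismProperty.isomorphisms Scheme.{u} (map ψ)
  apply map_of_forall_away ψ
  intro d hd s hs
  have hb := ProjGen.awayMap_bijective_of_bijOn_ge ψ n₀ hbij hd hs
  have : IsIso (CommRingCat.ofHom (Away.map ψ s)) := by
    rw [ConcreteCategory.isIso_iff_bijective]
    exact hb
  change IsIso (Spec.map (CommRingCat.ofHom (Away.map ψ s)))
  infer_instance

set_option backward.isDefEq.respectTransparency false in
@[reassoc]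
theorem map_toSpecZero :
    map ψ ≫ Proj.toSpecZero 𝒜 =
      (RelCone.domOpen ψ).ι ≫ Proj.toSpecZero ℬ ≫
        Spec.map (CommRingCat.ofHom ψ.gradedZeroRingHom) := by
  refine (cover ψ).hom_ext _ _ fun s => ?_
  change chart ψ s.2.2.2 s.2.2.1 ≫ _ = chart ψ s.2.2.2 s.2.2.1 ≫ _
  rw [chart_map_assoc, chart_ι_assoc, Proj.awayι_toSpecZero, Proj.awayι_toSpecZero_assoc,
    ← Spec.map_comp, ← Spec.map_comp]
  congr 1
  ext x
  simp [fromZeroRingHom, Away.map, HomogeneousLocalization.map_mk]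

section total

variable (hG : RelCone.domOpen ψ = ⊤)

include hG in
theorem isIso_ι : IsIso (RelCone.domOpen ψ).ι := by
  have : (RelCone.domOpen ψ).ι = ((Proj ℬ).isoOfEq hG).hom ≫ (⊤ : (Proj ℬ).Opens).ι :=
    ((Proj ℬ).isoOfEq_hom_ι hG).symm
  rw [this]
  have : IsIso (⊤ : (Proj ℬ).Opens).ι := (Proj ℬ).topIso.isIso_hom
  infer_instance

/-- The everywhere-defined morphism `Proj ℬ ⟶ Proj 𝒜` when `G(ψ) = ⊤`. -/
noncomputable def total : Proj ℬ ⟶ Proj 𝒜 :=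
  have := isIso_ι ψ hG
  inv (RelCone.domOpen ψ).ι ≫ map ψ

@[reassoc]
theorem ι_total : (RelCone.domOpen ψ).ι ≫ total ψ hG = map ψ := by
  have := isIso_ι ψ hG
  rw [total, IsIso.hom_inv_id_assoc]

@[reassoc]
theorem awayι_total {d : ℕ} {f : A} (hf : f ∈ 𝒜 d) (hd : 0 < d) :
    Proj.awayι ℬ (ψ f) (ψ.map_mem hf) hd ≫ total ψ hG =
      Spec.map (CommRingCat.ofHom (Away.map ψ f)) ≫ Proj.awayι 𝒜 f hf hd := by
  rw [← chart_ι ψ hf hd, Category.assoc, ι_total, chart_map]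

theorem total_iff (P : MorphismProperty Scheme.{u}) [P.RespectsIso] :
    P (total ψ hG) ↔ P (map ψ) := by
  have := isIso_ι ψ hG
  rw [total, P.cancel_left_of_respectsIso]

include hG in
theorem total_ext {T : Scheme.{u}} (a b : Proj ℬ ⟶ T)
    (hab : ∀ (d : ℕ) (f : A) (hd : 0 < d) (hf : f ∈ 𝒜 d),
      Proj.awayι ℬ (ψ f) (ψ.map_mem hf) hd ≫ a = Proj.awayι ℬ (ψ f) (ψ.map_mem hf) hd ≫ b) :
    a = b := by
  have := isIso_ι ψ hG
  rw [← cancel_epi (RelCone.domOpen ψ).ι]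
  refine (cover ψ).hom_ext _ _ fun s => ?_
  change chart ψ s.2.2.2 s.2.2.1 ≫ _ = chart ψ s.2.2.2 s.2.2.1 ≫ _
  rw [chart_ι_assoc, chart_ι_assoc]
  exact hab s.1 s.2.1 s.2.2.1 s.2.2.2

@[reassoc]
theorem total_toSpecZero :
    total ψ hG ≫ Proj.toSpecZero 𝒜 =
      Proj.toSpecZero ℬ ≫ Spec.map (CommRingCat.ofHom ψ.gradedZeroRingHom) := by
  have := isIso_ι ψ hG
  rw [← cancel_epi (RelCone.domOpen ψ).ι, ι_total_assoc, map_toSpecZero]

end total

end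

end Groth.Agent.H41.PMap
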