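import Groth.Agent.H41.PMapComp

/-!
# Composition of partial `Proj` maps
-/

set_option autoImplicit false
universe u

open AlgebraicGeometry CategoryTheory CategoryTheory.Limits HomogeneousLocalization
open TopologicalSpace
open scoped HomogeneousIdeal

namespace Groth.Agent.H41.PMap

section comp2

variable {A B C σ τ υ : Type u} [CommRing A] [SetLike σ A] [AddSubgroupClass σ A]
  [CommRing B] [SetLike τ B] [AddSubgroupClass τ B]
  [CommRing C] [SetLike υ C] [AddSubgroupClass υ C]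
  {𝒜 : ℕ → σ} {ℬ : ℕ → τ} {𝒞 : ℕ → υ} [GradedRing 𝒜] [GradedRing ℬ] [GradedRing 𝒞]
  (ρ : 𝒜 →+*ᵍ ℬ) (ψ : ℬ →+*ᵍ 𝒞)

/-- `G(ψ ∘ ρ) ⊆ G(ψ)`. -/
theorem domOpen_comp_le : RelCone.domOpen (ψ.comp ρ) ≤ RelCone.domOpen ψ := by
  intro y hy
  obtain ⟨f, hf, h⟩ := (RelCone.mem_domOpen _ _).mp hy
  exact (RelCone.mem_domOpen _ _).mpr ⟨ρ f, map_mem_irrelevant ρ hf, h⟩

/-- The partial map of `ψ` sends `G(ψ ∘ ρ)` exactly onto the part lying in `G(ρ)`. -/
theorem map_preimage_domOpen :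
    (map ψ) ⁻¹ᵁ (RelCone.domOpen ρ) =
      (RelCone.domOpen ψ).ι ⁻¹ᵁ (RelCone.domOpen (ψ.comp ρ)) := by
  ext y
  change (map ψ) y ∈ RelCone.domOpen ρ ↔ (RelCone.domOpen ψ).ι y ∈ RelCone.domOpen (ψ.comp ρ)
  constructor
  · intro h
    obtain ⟨d, f, hd, hf, hyf⟩ := exists_homogeneous_of_mem ρ _ h
    have h1 : y ∈ (map ψ) ⁻¹ᵁ (Proj.basicOpen ℬ (ρ f)) := hyf
    have h2 := (SetLike.ext_iff.mp (map_preimage_basicOpen ψ (g := ρ f) (ρ.map_mem hf) hd) y).mp h1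
    exact basicOpen_le (ψ.comp ρ) hf hd h2
  · intro h
    obtain ⟨d, f, hd, hf, hyf⟩ := exists_homogeneous_of_mem (ψ.comp ρ) _ h
    have h1 : y ∈ (RelCone.domOpen ψ).ι ⁻¹ᵁ (Proj.basicOpen 𝒞 (ψ (ρ f))) := hyf
    have h2 := (SetLike.ext_iff.mp (map_preimage_basicOpen ψ (g := ρ f) (ρ.map_mem hf) hd) y).mpr h1
    exact basicOpen_le ρ hf hd h2

set_option backward.isDefEq.respectTransparency false in
/-- The partial map of a composite is the composite of the partial maps. -/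
theorem comp_map {T : Scheme.{u}}
    (a : T ⟶ (RelCone.domOpen (ψ.comp ρ) : Scheme.{u}))
    (b : T ⟶ (RelCone.domOpen ψ : Scheme.{u}))
    (c : T ⟶ (RelCone.domOpen ρ : Scheme.{u}))
    (hab : a ≫ (RelCone.domOpen (ψ.comp ρ)).ι = b ≫ (RelCone.domOpen ψ).ι)
    (hbc : b ≫ map ψ = c ≫ (RelCone.domOpen ρ).ι) :
    a ≫ map (ψ.comp ρ) = c ≫ map ρ := by
  let k := (Proj 𝒞).homOfLE (domOpen_comp_le ρ ψ)
  have hk : k ≫ (RelCone.domOpen ψ).ι = (RelCone.domOpen (ψ.comp ρ)).ι :=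
    Scheme.homOfLE_ι _ _
  have hrange : Set.range (k ≫ map ψ).base ⊆ Set.range (RelCone.domOpen ρ).ι.base := by
    rw [Scheme.Opens.range_ι]
    rintro _ ⟨y, rfl⟩
    have h1 : k y ∈ (RelCone.domOpen ψ).ι ⁻¹ᵁ (RelCone.domOpen (ψ.comp ρ)) := by
      change (RelCone.domOpen ψ).ι (k y) ∈ RelCone.domOpen (ψ.comp ρ)
      rw [← Scheme.Hom.comp_apply, hk]
      exact y.2
    rw [← map_preimage_domOpen ρ ψ] at h1
    exact h1
  let c₀ := IsOpenImmersion.lift (RelCone.domOpen ρ).ι (k ≫ map ψ) hrange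
  have hc₀ : c₀ ≫ (RelCone.domOpen ρ).ι = k ≫ map ψ := IsOpenImmersion.lift_fac _ _ _
  have hb : b = a ≫ k := by
    rw [← cancel_mono (RelCone.domOpen ψ).ι, Category.assoc, hk, hab]
  have hc : c = a ≫ c₀ := by
    rw [← cancel_mono (RelCone.domOpen ρ).ι, Category.assoc, hc₀, ← hbc, hb, Category.assoc]
  have key : c₀ ≫ map ρ = map (ψ.comp ρ) := by
    apply map_unique
    intro d f hd hf
    have h1 : chart (ψ.comp ρ) hf hd ≫ k = chart ψ (f := ρ f) (ρ.map_mem hf) hd := by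
      rw [← cancel_mono (RelCone.domOpen ψ).ι, Category.assoc, hk, chart_ι, chart_ι]
      rfl
    have h2 : chart (ψ.comp ρ) hf hd ≫ c₀ =
        Spec.map (CommRingCat.ofHom (Away.map ψ (ρ f))) ≫ chart ρ hf hd := by
      rw [← cancel_mono (RelCone.domOpen ρ).ι, Category.assoc, hc₀, reassoc_of% h1, chart_map,
        Category.assoc, chart_ι]
    rw [reassoc_of% h2, chart_map, ← Spec.map_comp_assoc, ← CommRingCat.ofHom_comp,
      ← Away.map_comp]
  rw [hc, Category.assoc, key]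

end comp2

end Groth.Agent.H41.PMap
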