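import Groth.Agent.H41.PMapComp2

/-!
# Composition of partial `Proj` maps, transported along an equality of graded homomorphisms
-/

set_option autoImplicit false
universe u

open AlgebraicGeometry CategoryTheory CategoryTheory.Limits HomogeneousLocalization
open TopologicalSpace
open scoped HomogeneousIdeal

namespace Groth.Agent.H41.PMap

section comp3

variable {A B C σ τ υ : Type u} [CommRing A] [SetLike σ A] [AddSubgroupClass σ A]
  [CommRing B] [SetLike τ B] [AddSubgroupClass τ B]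
  [CommRing C] [SetLike υ C] [AddSubgroupClass υ C]
  {𝒜 : ℕ → σ} {ℬ : ℕ → τ} {𝒞 : ℕ → υ} [GradedRing 𝒜] [GradedRing ℬ] [GradedRing 𝒞]
  (ρ : 𝒜 →+*ᵍ ℬ) (ψ : ℬ →+*ᵍ 𝒞) (Ψ : 𝒜 →+*ᵍ 𝒞) (hE : Ψ = ψ.comp ρ)

include hE in
theorem domOpen_le_of_eq_comp : RelCone.domOpen Ψ ≤ RelCone.domOpen ψ := by
  subst hE
  exact domOpen_comp_le ρ ψ

include hE in
theorem map_mem_domOpen_of_eq_comp (y : (RelCone.domOpen ψ : Scheme.{u}))
    (hy : (RelCone.domOpen ψ).ι y ∈ RelCone.domOpen Ψ) : (map ψ) y ∈ RelCone.domOpen ρ := by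
  subst hE
  have : y ∈ (RelCone.domOpen ψ).ι ⁻¹ᵁ (RelCone.domOpen (ψ.comp ρ)) := hy
  rw [← map_preimage_domOpen ρ ψ] at this
  exact this

include hE in
theorem comp_map' {T : Scheme.{u}}
    (a : T ⟶ (RelCone.domOpen Ψ : Scheme.{u}))
    (b : T ⟶ (RelCone.domOpen ψ : Scheme.{u}))
    (c : T ⟶ (RelCone.domOpen ρ : Scheme.{u}))
    (hab : a ≫ (RelCone.domOpen Ψ).ι = b ≫ (RelCone.domOpen ψ).ι)
    (hbc : b ≫ map ψ = c ≫ (RelCone.domOpen ρ).ι) :
    a ≫ map Ψ = c ≫ map ρ := by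
  subst hE
  exact comp_map ρ ψ a b c hab hbc

end comp3

end Groth.Agent.H41.PMap
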