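import Mathlib.AlgebraicGeometry.ProjectiveSpectrum.Basic
import Mathlib.Algebra.Polynomial.AlgebraMap
import Mathlib.RingTheory.GradedAlgebra.Homogeneous.Maps

/-!
# The graded ring `A[z]` (one variable of degree one) for gradings by additive subgroups

`φ : 𝒜 →+*ᵍ ℬ` a homomorphism of graded rings, `z ∈ ℬ 1`, and `A[X] → B`, `X ↦ z`, bijective
(the shape of the frozen `RelCone.IsPolyOver`).  Port of `H18/PConeAlg.lean` (gradings by
submodules) to Mathlib's general setting.
-/

set_option autoImplicit false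
universe u

open HomogeneousLocalization

namespace Groth.Agent.H41.PolyCone

variable {A B σ τ : Type u} [CommRing A] [CommRing B] [SetLike σ A] [AddSubgroupClass σ A]
  [SetLike τ B] [AddSubgroupClass τ B]
variable (𝒜 : ℕ → σ) [GradedRing 𝒜] (ℬ : ℕ → τ) [GradedRing ℬ]
variable (φ : 𝒜 →+*ᵍ ℬ) (z : B) (hz : z ∈ ℬ 1)

include hz in
theorem pow_mem (k : ℕ) : z ^ k ∈ ℬ k := by
  have := SetLike.pow_mem_graded k hz
  simpa using this

include hz in
/-- In `B = A[z]` with `z` of degree one, a homogeneous element of degree `m` is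
`∑_{k ≤ m} φ(q k) z ^ k` with `q k` homogeneous of degree `m - k`. -/
theorem exists_homogeneous_coeffs
    (hsurj : Function.Surjective (Polynomial.eval₂RingHom φ.toRingHom z))
    (m : ℕ) (b : B) (hb : b ∈ ℬ m) :
    ∃ q : ℕ → A, (∀ k, q k ∈ 𝒜 (m - k)) ∧
      b = ∑ k ∈ Finset.range (m + 1), φ (q k) * z ^ k := by
  classical
  obtain ⟨p, rfl⟩ := hsurj b
  refine ⟨fun k => DirectSum.decompose 𝒜 (p.coeff k) (m - k), fun k => Subtype.prop _, ?_⟩
  have hzk : ∀ k, z ^ k ∈ ℬ k := pow_mem ℬ z hz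
  set N := max (p.natDegree + 1) (m + 1) with hN
  have h1 : Polynomial.eval₂RingHom φ.toRingHom z p =
      ∑ k ∈ Finset.range N, φ (p.coeff k) * z ^ k := by
    rw [Polynomial.coe_eval₂RingHom, Polynomial.eval₂_eq_sum_range' (n := N) _ (by omega)]
    rfl
  have h2 : Polynomial.eval₂RingHom φ.toRingHom z p =
      ((DirectSum.decompose ℬ (Polynomial.eval₂RingHom φ.toRingHom z p) m : ℬ m) : B) := by
    rw [DirectSum.decompose_of_mem_same ℬ hb]
  rw [h2, h1, DirectSum.decompose_sum, DFinsupp.finsetSum_apply, AddSubmonoidClass.coe_finsetSum]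
  have h3 : ∀ k, ((DirectSum.decompose ℬ (φ (p.coeff k) * z ^ k) m : ℬ m) : B) =
      if k ≤ m then φ (DirectSum.decompose 𝒜 (p.coeff k) (m - k)) * z ^ k else 0 := by
    intro k
    rw [DirectSum.coe_decompose_mul_of_right_mem ℬ m (hzk k)]
    split_ifs
    · rw [GradedRingHom.map_directSumDecompose]
    · rfl
  simp_rw [h3]
  rw [← Finset.sum_filter]
  congr 1
  ext k
  simp only [Finset.mem_filter, Finset.mem_range]
  omega

variable (hbij : Function.Bijective (Polynomial.eval₂RingHom φ.toRingHom z))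

/-- The presentation `A[X] ≃ B`. -/
noncomputable def polyEquiv : Polynomial A ≃+* B := RingEquiv.ofBijective _ hbij

omit [AddSubgroupClass σ A] [AddSubgroupClass τ B] [GradedRing 𝒜] [GradedRing ℬ] in
theorem polyEquiv_apply (p : Polynomial A) :
    polyEquiv 𝒜 ℬ φ z hbij p = Polynomial.eval₂ φ.toRingHom z p := rfl

/-- Evaluation at `z = 1` on `B = A[z]`. -/
noncomputable def evalOne : B →+* A :=
  (Polynomial.evalRingHom 1).comp (polyEquiv 𝒜 ℬ φ z hbij).symm.toRingHom

omit [AddSubgroupClass σ A] [AddSubgroupClass τ B] [GradedRing 𝒜] [GradedRing ℬ] in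
theorem evalOne_φ (x : A) : evalOne 𝒜 ℬ φ z hbij (φ x) = x := by
  have e : polyEquiv 𝒜 ℬ φ z hbij (Polynomial.C x) = φ x := by
    rw [polyEquiv_apply, Polynomial.eval₂_C]; rfl
  rw [evalOne, RingHom.comp_apply, ← e]
  simp

omit [AddSubgroupClass σ A] [AddSubgroupClass τ B] [GradedRing 𝒜] [GradedRing ℬ] in
theorem evalOne_z : evalOne 𝒜 ℬ φ z hbij z = 1 := by
  have e : (polyEquiv 𝒜 ℬ φ z hbij).symm z = Polynomial.X := by
    rw [RingEquiv.symm_apply_eq, polyEquiv_apply, Polynomial.eval₂_X]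
  rw [evalOne, RingHom.comp_apply]
  change Polynomial.evalRingHom 1 ((polyEquiv 𝒜 ℬ φ z hbij).symm z) = 1
  rw [e]
  simp

/-- Evaluation at `z = 0` on `B = A[z]`. -/
noncomputable def evalZero : B →+* A :=
  (Polynomial.evalRingHom 0).comp (polyEquiv 𝒜 ℬ φ z hbij).symm.toRingHom

omit [AddSubgroupClass σ A] [AddSubgroupClass τ B] [GradedRing 𝒜] [GradedRing ℬ] in
theorem evalZero_φ (x : A) : evalZero 𝒜 ℬ φ z hbij (φ x) = x := by
  have e : polyEquiv 𝒜 ℬ φ z hbij (Polynomial.C x) = φ x := by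
    rw [polyEquiv_apply, Polynomial.eval₂_C]; rfl
  rw [evalZero, RingHom.comp_apply, ← e]
  simp

omit [AddSubgroupClass σ A] [AddSubgroupClass τ B] [GradedRing 𝒜] [GradedRing ℬ] in
theorem evalZero_z : evalZero 𝒜 ℬ φ z hbij z = 0 := by
  have e : (polyEquiv 𝒜 ℬ φ z hbij).symm z = Polynomial.X := by
    rw [RingEquiv.symm_apply_eq, polyEquiv_apply, Polynomial.eval₂_X]
  rw [evalZero, RingHom.comp_apply]
  change Polynomial.evalRingHom 0 ((polyEquiv 𝒜 ℬ φ z hbij).symm z) = 0
  rw [e]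
  simp

/-- The ring map `B_(z) → A`, `b / z ^ n ↦ b(1)` (the shape of the frozen
`RelCone.IsPolyOver.awayZToBase`). -/
noncomputable def awayToBase : Away ℬ z →+* A :=
  (IsLocalization.Away.lift z (g := evalOne 𝒜 ℬ φ z hbij)
      (by rw [evalOne_z]; exact isUnit_one)).comp
    (algebraMap (Away ℬ z) (Localization.Away z))

omit [AddSubgroupClass σ A] [GradedRing 𝒜] in
theorem awayToBase_of_val (q : Away ℬ z) (x : B) (k : ℕ)
    (hq : q.val = Localization.mk x ⟨z ^ k, _root_.pow_mem (Submonoid.mem_powers _) k⟩) :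
    awayToBase 𝒜 ℬ φ z hbij q = evalOne 𝒜 ℬ φ z hbij x := by
  rw [awayToBase, RingHom.comp_apply, HomogeneousLocalization.algebraMap_apply, hq,
    Localization.mk_eq_mk', IsLocalization.Away.lift, IsLocalization.lift_mk',
    Units.mul_inv_eq_iff_eq_mul, IsUnit.coe_liftRight]
  simp [map_pow, evalOne_z]

omit [AddSubgroupClass σ A] [GradedRing 𝒜] in
include hz in
theorem awayToBase_mk (n : ℕ) (b : B) (hb : b ∈ ℬ (n • 1)) :
    awayToBase 𝒜 ℬ φ z hbij (Away.mk ℬ hz n b hb) = evalOne 𝒜 ℬ φ z hbij b :=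
  awayToBase_of_val 𝒜 ℬ φ z hbij _ b n (Away.val_mk ..)

include hz in
theorem awayToBase_surjective : Function.Surjective (awayToBase 𝒜 ℬ φ z hbij) := by
  classical
  intro a
  have hmem : ∀ n : ℕ, φ (DirectSum.decompose 𝒜 a n : A) ∈ ℬ (n • 1) := fun n => by
    rw [smul_eq_mul, mul_one]
    exact φ.map_mem (Subtype.prop _)
  refine ⟨∑ n ∈ (DirectSum.decompose 𝒜 a).support,
    Away.mk ℬ hz n (φ (DirectSum.decompose 𝒜 a n : A)) (hmem n), ?_⟩
  rw [map_sum]
  conv_rhs => rw [← DirectSum.sum_support_decompose 𝒜 a]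
  refine Finset.sum_congr rfl fun n _ => ?_
  rw [awayToBase_mk 𝒜 ℬ φ z hz hbij, evalOne_φ]

include hz in
theorem awayToBase_injective : Function.Injective (awayToBase 𝒜 ℬ φ z hbij) := by
  classical
  rw [injective_iff_map_eq_zero]
  intro x hx
  obtain ⟨n, b, hb, rfl⟩ := Away.mk_surjective ℬ hz x
  rw [awayToBase_mk 𝒜 ℬ φ z hz hbij] at hx
  have hb' : b ∈ ℬ n := by simpa using hb
  obtain ⟨q, hq, hbq⟩ := exists_homogeneous_coeffs 𝒜 ℬ φ z hz hbij.2 n b hb'
  have hsum : ∑ k ∈ Finset.range (n + 1), q k = 0 := by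
    rw [← hx, hbq, map_sum]
    refine Finset.sum_congr rfl fun k _ => ?_
    rw [map_mul, map_pow, evalOne_z, one_pow, mul_one, evalOne_φ]
  have hq0 : ∀ k ∈ Finset.range (n + 1), q k = 0 := by
    intro k hk
    have h1 : ((DirectSum.decompose 𝒜 (∑ j ∈ Finset.range (n + 1), q j) (n - k) : 𝒜 (n - k)) : A)
        = 0 := by
      rw [hsum]
      simp
    rw [DirectSum.decompose_sum, DFinsupp.finsetSum_apply, AddSubmonoidClass.coe_finsetSum] at h1
    rw [Finset.sum_eq_single_of_mem k hk, DirectSum.decompose_of_mem_same 𝒜 (hq k)] at h1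
    · exact h1
    · intro j hj hjk
      rw [DirectSum.decompose_of_mem_ne 𝒜 (hq j)]
      simp only [Finset.mem_range] at hj hk
      omega
  have hb0 : b = 0 := by
    rw [hbq]
    refine Finset.sum_eq_zero fun k hk => ?_
    rw [hq0 k hk, map_zero, zero_mul]
  subst hb0
  rw [HomogeneousLocalization.ext_iff_val, Away.val_mk, val_zero, Localization.mk_zero]

include hz in
theorem awayToBase_bijective : Function.Bijective (awayToBase 𝒜 ℬ φ z hbij) :=
  ⟨awayToBase_injective 𝒜 ℬ φ z hz hbij, awayToBase_surjective 𝒜 ℬ φ z hz hbij⟩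

include hz in
/-- `evalZero` preserves degrees. -/
theorem evalZero_mem {m : ℕ} {b : B} (hb : b ∈ ℬ m) : evalZero 𝒜 ℬ φ z hbij b ∈ 𝒜 m := by
  obtain ⟨q, hq, rfl⟩ := exists_homogeneous_coeffs 𝒜 ℬ φ z hz hbij.2 m b hb
  rw [map_sum]
  refine sum_mem fun k hk => ?_
  rw [map_mul, map_pow, evalZero_z, evalZero_φ]
  rcases Nat.eq_zero_or_pos k with rfl | hk0
  · simpa using hq 0
  · rw [zero_pow hk0.ne', mul_zero]
    exact zero_mem _

/-- The graded retraction `B = A[z] → A`, `z ↦ 0`. -/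
noncomputable def retr : ℬ →+*ᵍ 𝒜 :=
  { evalZero 𝒜 ℬ φ z hbij with map_mem := fun hb => evalZero_mem 𝒜 ℬ φ z hz hbij hb }

omit [AddSubgroupClass σ A] [AddSubgroupClass τ B] [GradedRing 𝒜] [GradedRing ℬ] in
/-- Every element of `B = A[z]` is congruent mod `z` to `φ (ψ b)`, for any retraction `ψ` of
`φ` killing `z`. -/
theorem exists_eq_add_z_mul (ψ : B →+* A) (hψφ : ∀ a : A, ψ (φ a) = a) (hψz : ψ z = 0)
    (hsurj : Function.Surjective (Polynomial.eval₂RingHom φ.toRingHom z)) (b : B) :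
    ∃ c : B, b = φ (ψ b) + z * c := by
  obtain ⟨p, rfl⟩ := hsurj b
  refine ⟨Polynomial.eval₂RingHom φ.toRingHom z p.divX, ?_⟩
  have h1 : Polynomial.eval₂RingHom φ.toRingHom z p =
      φ (p.coeff 0) + z * Polynomial.eval₂RingHom φ.toRingHom z p.divX := by
    conv_lhs => rw [← Polynomial.divX_mul_X_add p]
    rw [map_add, map_mul, Polynomial.coe_eval₂RingHom, Polynomial.eval₂_X, Polynomial.eval₂_C]
    change _ * z + φ _ = _
    ring
  have h2 : ψ (Polynomial.eval₂RingHom φ.toRingHom z p) = p.coeff 0 := by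
    rw [h1, map_add, map_mul, hψz, zero_mul, add_zero, hψφ]
  rw [h2]
  exact h1

omit [AddSubgroupClass σ A] [AddSubgroupClass τ B] [GradedRing 𝒜] [GradedRing ℬ] in
/-- Two ring homomorphisms out of `B = A[z]` agreeing on `φ(A)` and on `z` are equal. -/
theorem ringHom_ext {C : Type*} [Semiring C] (f g : B →+* C)
    (hsurj : Function.Surjective (Polynomial.eval₂RingHom φ.toRingHom z))
    (hφ : ∀ a : A, f (φ a) = g (φ a)) (hz' : f z = g z) : f = g := by
  have : f.comp (Polynomial.eval₂RingHom φ.toRingHom z) =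
      g.comp (Polynomial.eval₂RingHom φ.toRingHom z) := by
    refine Polynomial.ringHom_ext (fun a => ?_) ?_
    · simp only [RingHom.comp_apply, Polynomial.coe_eval₂RingHom, Polynomial.eval₂_C]
      exact hφ a
    · simp only [RingHom.comp_apply, Polynomial.coe_eval₂RingHom, Polynomial.eval₂_X]
      exact hz'
  ext b
  obtain ⟨p, rfl⟩ := hsurj b
  exact RingHom.congr_fun this p

include hz in
/-- A homogeneous prime of `B = A[z]` not containing the irrelevant ideal avoids `z` or some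
`φ f`, `f` homogeneous of positive degree. -/
theorem exists_notMem (hsurj : Function.Surjective (Polynomial.eval₂RingHom φ.toRingHom z))
    (y : ProjectiveSpectrum ℬ) (hzy : z ∈ y.asHomogeneousIdeal) :
    ∃ (d : ℕ) (_ : 0 < d) (f : A) (_ : f ∈ 𝒜 d), φ f ∉ y.asHomogeneousIdeal := by
  classical
  by_contra hcon
  push Not at hcon
  apply y.not_irrelevant_le
  intro b hb
  -- `b` is a sum of its positive-degree components
  rw [← DirectSum.sum_support_decompose ℬ b]
  refine sum_mem fun m hm => ?_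
  by_cases hm0 : m = 0
  · subst hm0
    have : (DirectSum.decompose ℬ b 0 : B) = 0 := by
      have := (HomogeneousIdeal.mem_irrelevant_iff ℬ b).mp hb
      simpa [GradedRing.proj_apply] using this
    rw [this]
    exact zero_mem _
  · obtain ⟨q, hq, hbq⟩ := exists_homogeneous_coeffs 𝒜 ℬ φ z hz hsurj m
      (DirectSum.decompose ℬ b m : B) (Subtype.prop _)
    rw [hbq]
    refine sum_mem fun k hk => ?_
    rcases Nat.eq_zero_or_pos k with rfl | hk0
    · rw [pow_zero, mul_one]
      exact hcon m (Nat.pos_of_ne_zero hm0) (q 0) (by simpa using hq 0)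
    · refine Ideal.mul_mem_left _ _ ?_
      exact Ideal.pow_mem_of_mem _ hzy k hk0

end Groth.Agent.H41.PolyCone
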