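import Groth.Agent.H41.PolyCone
import Groth.Agent.H41.PMapComp

/-!
# The affine cone inside the projective cone, ring level

For `B = A[z]` (graded, `z` of degree one): the open immersion `Spec A ⟶ Proj B` onto `D₊(z)`,
its relation to the open of definition `G(φ)` of the retraction `Proj B ⇢ Proj A`, and the
section at infinity.
-/

set_option autoImplicit false
universe u

open AlgebraicGeometry CategoryTheory CategoryTheory.Limits HomogeneousLocalization
open TopologicalSpace
open scoped HomogeneousIdeal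

namespace Groth.Agent.H41.PolyCone

variable {A B σ τ : Type u} [CommRing A] [CommRing B] [SetLike σ A] [AddSubgroupClass σ A]
  [SetLike τ B] [AddSubgroupClass τ B]
variable {𝒜 : ℕ → σ} [GradedRing 𝒜] {ℬ : ℕ → τ} [GradedRing ℬ]
variable (φ : 𝒜 →+*ᵍ ℬ)

section retraction

variable (ψ : ℬ →+*ᵍ 𝒜) (hψφ : ∀ a : A, ψ (φ a) = a) (hirr : 𝒜₊ ≤ ℬ₊.map ψ)

include hψφ in
theorem comp_eq_id : ψ.comp φ = GradedRingHom.id 𝒜 := by
  ext a
  exact hψφ a

theorem domOpen_id : RelCone.domOpen (GradedRingHom.id 𝒜) = ⊤ := by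
  ext y
  simp only [Opens.coe_top, Set.mem_univ, iff_true]
  change y ∈ RelCone.domOpen (GradedRingHom.id 𝒜)
  rw [RelCone.mem_domOpen]
  by_contra hcon
  push Not at hcon
  exact y.not_irrelevant_le fun f hf => hcon f hf

include hψφ in
/-- The section at infinity lands in the open of definition of the retraction. -/
theorem preimage_domOpen_eq_top : (Proj.map ψ hirr) ⁻¹ᵁ (RelCone.domOpen φ) = ⊤ := by
  rw [PMap.preimage_domOpen φ ψ hirr, comp_eq_id φ ψ hψφ, domOpen_id]

include hψφ in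
theorem range_projMap_subset :
    Set.range (Proj.map ψ hirr).base ⊆ ((RelCone.domOpen φ : (Proj ℬ).Opens) : Set (Proj ℬ)) := by
  rintro _ ⟨y, rfl⟩
  have : y ∈ (Proj.map ψ hirr) ⁻¹ᵁ (RelCone.domOpen φ) := by
    rw [preimage_domOpen_eq_top φ ψ hψφ hirr]; trivial
  exact this

theorem map_id : PMap.map (GradedRingHom.id 𝒜) = (RelCone.domOpen (GradedRingHom.id 𝒜)).ι := by
  rw [← PMap.ι_projMap (GradedRingHom.id 𝒜) (by simp), Proj.map_id, Category.comp_id]

include hψφ in
/-- The retraction composed with the section at infinity is the identity (on `T`-points). -/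
theorem section_map {T : Scheme.{u}} (t : T ⟶ Proj 𝒜)
    (b : T ⟶ (RelCone.domOpen φ : Scheme.{u}))
    (hb : b ≫ (RelCone.domOpen φ).ι = t ≫ Proj.map ψ hirr) : b ≫ PMap.map φ = t := by
  have hle : (⊤ : (Proj 𝒜).Opens) ≤ RelCone.domOpen (ψ.comp φ) := by
    rw [comp_eq_id φ ψ hψφ, domOpen_id]
  let a : T ⟶ (RelCone.domOpen (ψ.comp φ) : Scheme.{u}) :=
    t ≫ (Proj 𝒜).topIso.inv ≫ (Proj 𝒜).homOfLE hle
  have ha : a ≫ (RelCone.domOpen (ψ.comp φ)).ι = t := by
    simp only [a, Category.assoc, Scheme.homOfLE_ι]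
    rw [Scheme.toIso_inv_ι, Category.comp_id]
  have h1 := PMap.comp_left_map φ ψ hirr a b (by rw [← Category.assoc, ha, hb])
  rw [← h1]
  -- `map (ψ.comp φ) = map id = ι`
  let a' : T ⟶ (RelCone.domOpen (GradedRingHom.id 𝒜) : Scheme.{u}) :=
    t ≫ (Proj 𝒜).topIso.inv ≫ (Proj 𝒜).homOfLE (by rw [domOpen_id])
  have ha' : a' ≫ (RelCone.domOpen (GradedRingHom.id 𝒜)).ι = t := by
    simp only [a', Category.assoc, Scheme.homOfLE_ι]
    rw [Scheme.toIso_inv_ι, Category.comp_id]
  rw [PMap.map_congr (comp_eq_id φ ψ hψφ) a a' (by rw [ha, ha']), map_id, ha']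

include hψφ hirr in
theorem map_surjective : Function.Surjective (PMap.map φ).base := by
  intro x
  have hx : (Proj.map ψ hirr) x ∈ RelCone.domOpen φ :=
    range_projMap_subset φ ψ hψφ hirr ⟨x, rfl⟩
  let b : Proj 𝒜 ⟶ (RelCone.domOpen φ : Scheme.{u}) :=
    IsOpenImmersion.lift (RelCone.domOpen φ).ι (Proj.map ψ hirr)
      (by rw [Scheme.Opens.range_ι]; exact range_projMap_subset φ ψ hψφ hirr)
  have hb : b ≫ (RelCone.domOpen φ).ι = 𝟙 _ ≫ Proj.map ψ hirr := by
    rw [Category.id_comp]; exact IsOpenImmersion.lift_fac _ _ _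
  have := section_map φ ψ hψφ hirr (𝟙 _) b hb
  refine ⟨b x, ?_⟩
  rw [← Scheme.Hom.comp_apply, this]
  rfl

end retraction

section poly

variable (z : B) (hz : z ∈ ℬ 1)
  (hbij : Function.Bijective (Polynomial.eval₂RingHom φ.toRingHom z))

include hz in
theorem isIso_specMap_awayToBase :
    IsIso (Spec.map (CommRingCat.ofHom (awayToBase 𝒜 ℬ φ z hbij))) := by
  have : IsIso (CommRingCat.ofHom (awayToBase 𝒜 ℬ φ z hbij)) := by
    rw [ConcreteCategory.isIso_iff_bijective]
    exact awayToBase_bijective 𝒜 ℬ φ z hz hbij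
  infer_instance

/-- The canonical open immersion of the affine cone into the projective cone. -/
noncomputable def coneChart : Spec (CommRingCat.of A) ⟶ Proj ℬ :=
  Spec.map (CommRingCat.ofHom (awayToBase 𝒜 ℬ φ z hbij)) ≫ Proj.awayι ℬ z hz one_pos

instance isOpenImmersion_coneChart : IsOpenImmersion (coneChart φ z hz hbij) := by
  have := isIso_specMap_awayToBase φ z hz hbij
  unfold coneChart
  infer_instance

theorem opensRange_coneChart : (coneChart φ z hz hbij).opensRange = Proj.basicOpen ℬ z := by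
  have := isIso_specMap_awayToBase φ z hz hbij
  unfold coneChart
  rw [Scheme.Hom.opensRange_comp_of_isIso, Proj.opensRange_awayι]

theorem range_coneChart :
    Set.range (coneChart φ z hz hbij).base = ((Proj.basicOpen ℬ z : (Proj ℬ).Opens) : Set _) := by
  rw [← opensRange_coneChart φ z hz hbij]
  rfl

/-- Under the cone chart, `D₊(φ f)` pulls back to `D(f)`. -/
theorem coneChart_preimage_basicOpen {d : ℕ} (hd : 0 < d) {f : A} (hf : f ∈ 𝒜 d) :
    (coneChart φ z hz hbij) ⁻¹ᵁ (Proj.basicOpen ℬ (φ f)) = PrimeSpectrum.basicOpen f := by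
  have h1 : Proj.awayι ℬ z hz one_pos ⁻¹ᵁ Proj.basicOpen ℬ (φ f) =
      PrimeSpectrum.basicOpen (Away.isLocalizationElem hz (φ.map_mem hf)) :=
    Proj.awayι_preimage_basicOpen ℬ hz one_pos (φ.map_mem hf) hd
  have h2 : awayToBase 𝒜 ℬ φ z hbij (Away.isLocalizationElem hz (φ.map_mem hf)) = f := by
    rw [Away.isLocalizationElem, awayToBase_mk 𝒜 ℬ φ z hz hbij, pow_one]
    exact evalOne_φ 𝒜 ℬ φ z hbij f
  ext c
  change (Proj.awayι ℬ z hz one_pos) ((Spec.map (CommRingCat.ofHom (awayToBase 𝒜 ℬ φ z hbij))) c) ∈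
    Proj.basicOpen ℬ (φ f) ↔ _
  have h3 := SetLike.ext_iff.mp h1 ((Spec.map (CommRingCat.ofHom (awayToBase 𝒜 ℬ φ z hbij))) c)
  refine h3.trans ?_
  change awayToBase 𝒜 ℬ φ z hbij (Away.isLocalizationElem hz (φ.map_mem hf)) ∉ c.asIdeal ↔
    f ∉ c.asIdeal
  rw [h2]

/-- The cone chart carries exactly the complement of the vertex `V(A₊)` into `G(φ)`. -/
theorem coneChart_mem_domOpen_iff (c : Spec (CommRingCat.of A)) :
    (coneChart φ z hz hbij) c ∈ RelCone.domOpen φ ↔
      ∃ f ∈ (𝒜₊).toIdeal, f ∉ c.asIdeal := by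
  classical
  constructor
  · intro h
    obtain ⟨d, f, hd, hf, hyf⟩ := PMap.exists_homogeneous_of_mem φ _ h
    refine ⟨f, HomogeneousIdeal.mem_irrelevant_of_mem _ hd hf, ?_⟩
    have : c ∈ (coneChart φ z hz hbij) ⁻¹ᵁ (Proj.basicOpen ℬ (φ f)) := hyf
    rw [coneChart_preimage_basicOpen φ z hz hbij hd hf] at this
    exact this
  · rintro ⟨f, hf, hfc⟩
    -- some homogeneous component of positive degree is not in `c`
    have : ∃ d, 0 < d ∧ (DirectSum.decompose 𝒜 f d : A) ∉ c.asIdeal := by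
      by_contra hcon
      push Not at hcon
      apply hfc
      rw [← DirectSum.sum_support_decompose 𝒜 f]
      refine sum_mem fun d _ => ?_
      rcases Nat.eq_zero_or_pos d with rfl | hd
      · have h0 : (DirectSum.decompose 𝒜 f 0 : A) = 0 := hf
        rw [h0]; exact zero_mem _
      · exact hcon d hd
    obtain ⟨d, hd, hdc⟩ := this
    apply PMap.basicOpen_le φ (Subtype.prop (DirectSum.decompose 𝒜 f d)) hd
    have : c ∈ (coneChart φ z hz hbij) ⁻¹ᵁ
        (Proj.basicOpen ℬ (φ (DirectSum.decompose 𝒜 f d : A))) := by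
      rw [coneChart_preimage_basicOpen φ z hz hbij hd (Subtype.prop _)]
      exact hdc
    exact this

include hz in
/-- The part at infinity `V₊(z)` lies in `G(φ)`. -/
theorem mem_domOpen_of_notMem_basicOpen
    (hsurj : Function.Surjective (Polynomial.eval₂RingHom φ.toRingHom z))
    (y : Proj ℬ) (hy : y ∉ Proj.basicOpen ℬ z) : y ∈ RelCone.domOpen φ := by
  have hzy : z ∈ y.asHomogeneousIdeal := by
    by_contra h
    exact hy ((Proj.mem_basicOpen ℬ z y).mpr h)
  obtain ⟨d, hd, f, hf, hfy⟩ := exists_notMem 𝒜 ℬ φ z hz hsurj y hzy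
  exact PMap.basicOpen_le φ hf hd ((Proj.mem_basicOpen ℬ (φ f) y).mpr hfy)

include hz in
/-- The image of the section at infinity is `V₊(z)`. -/
theorem range_projMap_eq (ψ : ℬ →+*ᵍ 𝒜) (hψφ : ∀ a : A, ψ (φ a) = a) (hψz : ψ z = 0)
    (hirr : 𝒜₊ ≤ ℬ₊.map ψ)
    (hsurj : Function.Surjective (Polynomial.eval₂RingHom φ.toRingHom z)) :
    Set.range (Proj.map ψ hirr).base = ((Proj.basicOpen ℬ z : (Proj ℬ).Opens) : Set _)ᶜ := by
  apply Set.Subset.antisymm
  · rintro _ ⟨y, rfl⟩ hy
    have h1 : z ∉ ((Proj.map ψ hirr) y).asHomogeneousIdeal := (Proj.mem_basicOpen ℬ z _).mp hy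
    apply h1
    change ψ z ∈ y.asHomogeneousIdeal
    rw [hψz]
    exact zero_mem _
  · intro x hx
    have hzx : z ∈ x.asHomogeneousIdeal := by
      by_contra h
      exact hx ((Proj.mem_basicOpen ℬ z x).mpr h)
    have hxd : x ∈ RelCone.domOpen φ :=
      mem_domOpen_of_notMem_basicOpen φ z hz hsurj x hx
    -- the point `φ⁻¹ x` of `Proj 𝒜`
    let y : Proj 𝒜 :=
      { asHomogeneousIdeal := x.asHomogeneousIdeal.comap φ
        isPrime := x.isPrime.comap φ
        not_irrelevant_le := by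
          intro hle
          obtain ⟨f, hf, hfx⟩ := (RelCone.mem_domOpen φ x).mp hxd
          exact hfx (hle hf) }
    refine ⟨y, ?_⟩
    apply ProjectiveSpectrum.ext
    apply HomogeneousIdeal.ext
    ext b
    change φ (ψ b) ∈ x.asHomogeneousIdeal ↔ b ∈ x.asHomogeneousIdeal
    obtain ⟨c, hc⟩ := exists_eq_add_z_mul 𝒜 ℬ φ z ψ.toRingHom hψφ hψz hsurj b
    have hzc : z * c ∈ x.asHomogeneousIdeal.toIdeal := Ideal.mul_mem_right _ _ hzx
    constructor
    · intro h
      have : b ∈ x.asHomogeneousIdeal.toIdeal := by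
        rw [hc]; exact add_mem h hzc
      exact this
    · intro h
      have h' : φ (ψ b) + z * c ∈ x.asHomogeneousIdeal.toIdeal := by
        have hb : b ∈ x.asHomogeneousIdeal.toIdeal := h
        rw [hc] at hb; exact hb
      exact (Ideal.add_mem_iff_left _ hzc).mp h'

include hz in
/-- The graded retraction `retr` satisfies Mathlib's condition on irrelevant ideals. -/
theorem retr_irr : 𝒜₊ ≤ ℬ₊.map (retr 𝒜 ℬ φ z hz hbij) := by
  intro a ha
  have h1 : φ a ∈ (ℬ₊).toIdeal := PMap.map_mem_irrelevant φ ha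
  have h2 : (retr 𝒜 ℬ φ z hz hbij) (φ a) = a := evalZero_φ 𝒜 ℬ φ z hbij a
  rw [← h2]
  exact Ideal.mem_map_of_mem _ h1

include hz hbij in
/-- The canonical retraction of the pointed projective cone is surjective. -/
theorem map_surjective_of_poly : Function.Surjective (PMap.map φ).base :=
  map_surjective φ (retr 𝒜 ℬ φ z hz hbij) (evalZero_φ 𝒜 ℬ φ z hbij) (retr_irr φ z hz hbij)

end poly

end Groth.Agent.H41.PolyCone
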