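import Groth.Agent.H41.RelPMap2

/-!
# Pointwise description of `Proj(u)` on `G(u)`, basic opens of a relative `Proj`
-/

set_option autoImplicit false
universe u
open CategoryTheory CategoryTheory.Limits AlgebraicGeometry Opposite TopologicalSpace
  HomogeneousLocalization
open scoped HomogeneousIdeal

namespace Groth.Agent.H41.RelPMap4

section ring

variable {A σ : Type u} [CommRing A] [SetLike σ A] [AddSubgroupClass σ A]
  {𝒜 : ℕ → σ} [GradedRing 𝒜]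

/-- A point of `Proj 𝒜` lies in some `D₊(g)` with `g` homogeneous of positive degree. -/
theorem exists_pos_homogeneous_notMem (y : Proj 𝒜) :
    ∃ (e : ℕ) (g : A), 0 < e ∧ g ∈ 𝒜 e ∧ g ∉ y.asHomogeneousIdeal := by
  by_contra hcon
  push Not at hcon
  apply y.not_irrelevant_le
  rw [HomogeneousIdeal.irrelevant_le]
  intro k hk t ht
  exact hcon k t hk ht

/-- The basic opens `D₊(f)`, `f` homogeneous of positive degree, form a basis of `Proj 𝒜`. -/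
theorem exists_basicOpen_le (V : (Proj 𝒜).Opens) (y : Proj 𝒜) (hy : y ∈ V) :
    ∃ (d : ℕ) (f : A), 0 < d ∧ f ∈ 𝒜 d ∧ y ∈ Proj.basicOpen 𝒜 f ∧ Proj.basicOpen 𝒜 f ≤ V := by
  classical
  obtain ⟨_, ⟨_, ⟨f, rfl⟩, rfl⟩, hyf, hfV⟩ :=
    (Proj.isBasis_basicOpen 𝒜).exists_subset_of_mem_open hy V.2
  have hyf' : y ∈ Proj.basicOpen 𝒜 f := hyf
  rw [Proj.basicOpen_eq_iSup_proj] at hyf'
  obtain ⟨i, hi⟩ := Opens.mem_iSup.mp hyf'
  have hle : Proj.basicOpen 𝒜 (GradedRing.proj 𝒜 i f) ≤ V := by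
    refine le_trans ?_ (show Proj.basicOpen 𝒜 f ≤ V from hfV)
    rw [Proj.basicOpen_eq_iSup_proj 𝒜 f]
    exact le_iSup (fun i => Proj.basicOpen 𝒜 (GradedRing.proj 𝒜 i f)) i
  have hmem : GradedRing.proj 𝒜 i f ∈ 𝒜 i := by
    rw [GradedRing.proj_apply]
    exact SetLike.coe_mem _
  by_cases h0 : 0 < i
  · exact ⟨i, _, h0, hmem, hi, hle⟩
  · have hi0 : i = 0 := by omega
    subst hi0
    obtain ⟨e, g, he, hg, hgy⟩ := exists_pos_homogeneous_notMem y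
    refine ⟨0 + e, GradedRing.proj 𝒜 0 f * g, by omega, SetLike.mul_mem_graded hmem hg, ?_, ?_⟩
    · rw [Proj.basicOpen_mul]
      exact ⟨hi, (Proj.mem_basicOpen 𝒜 g y).mpr hgy⟩
    · rw [Proj.basicOpen_mul]
      exact inf_le_left.trans hle

/-- `D₊(f)` is nonempty for `f` homogeneous of positive degree and not nilpotent. -/
theorem exists_mem_basicOpen_of_not_isNilpotent {d : ℕ} (hd : 0 < d) {f : A} (hf : f ∈ 𝒜 d)
    (hnil : ¬ IsNilpotent f) : ∃ y : Proj 𝒜, y ∈ Proj.basicOpen 𝒜 f := by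
  have := ProjGen.nontrivial_away_of_not_isNilpotent (𝒜 := 𝒜) hnil
  obtain ⟨z⟩ : Nonempty (Spec (CommRingCat.of (Away 𝒜 f))) :=
    inferInstanceAs (Nonempty (PrimeSpectrum (Away 𝒜 f)))
  refine ⟨(Proj.awayι 𝒜 f hf hd) z, ?_⟩
  rw [← Proj.opensRange_awayι 𝒜 f hf hd]
  exact ⟨z, rfl⟩

end ring

section rel

variable {Y Y' P P' : Scheme.{u}} {g : Y' ⟶ Y} {𝒮 : RelProj.QCGrAlg Y} {𝒮' : RelProj.QCGrAlg Y'}
  (u : RelProj.QGrHom g 𝒮 𝒮')
  (p : P ⟶ Y)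
  (chart : ∀ (U : Y.Opens) (hU : IsAffineOpen U),
    (((p ⁻¹ᵁ U : P.Opens) : Scheme.{u}) ≅ Proj (𝒮.deg U hU)))
  (hP : RelProj.IsRelProj 𝒮 p chart)
  (p' : P' ⟶ Y')
  (chart' : ∀ (U' : Y'.Opens) (hU' : IsAffineOpen U'),
    (((p' ⁻¹ᵁ U' : P'.Opens) : Scheme.{u}) ≅ Proj (𝒮'.deg U' hU')))
  (hP' : RelProj.IsRelProj 𝒮' p' chart')

/-- Basic opens `emb(U)(D₊(f))` form a basis of a relative `Proj`. -/
theorem exists_emb_basicOpen_le (V : P.Opens) (z : P) (hz : z ∈ V) :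
    ∃ (U : Y.Opens) (hU : IsAffineOpen U) (d : ℕ) (f : 𝒮.presheaf.obj (op U)), 0 < d ∧
      f ∈ 𝒮.deg U hU d ∧ z ∈ (RelProj.emb p chart U hU) ''ᵁ Proj.basicOpen (𝒮.deg U hU) f ∧
      (RelProj.emb p chart U hU) ''ᵁ Proj.basicOpen (𝒮.deg U hU) f ≤ V := by
  obtain ⟨U, hzU⟩ : ∃ U : Y.affineOpens, p z ∈ (U : Y.Opens) := by
    have : p z ∈ (⊤ : Y.Opens) := trivial
    rw [← iSup_affineOpens_eq_top Y] at this
    exact Opens.mem_iSup.mp this
  have hz' : z ∈ p ⁻¹ᵁ (U : Y.Opens) := hzU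
  have hmem : (chart U.1 U.2).hom ⟨z, hz'⟩ ∈ (RelProj.emb p chart U.1 U.2) ⁻¹ᵁ V := by
    change (RelProj.emb p chart U.1 U.2) ((chart U.1 U.2).hom ⟨z, hz'⟩) ∈ V
    rw [RelPMap2.emb_chart_apply p chart U.1 U.2 z hz']
    exact hz
  obtain ⟨d, f, hd, hf, hyf, hfV⟩ := exists_basicOpen_le _ _ hmem
  refine ⟨U.1, U.2, d, f, hd, hf, ⟨_, hyf, RelPMap2.emb_chart_apply p chart U.1 U.2 z hz'⟩, ?_⟩
  rintro _ ⟨y, hy, rfl⟩
  exact hfV hy

variable (v : (RelProj.domQ u p' chart' : Scheme.{u}) ⟶ P)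
  (hv : RelProj.IsProjQMapOn u p chart p' chart' (RelProj.domQ u p' chart') v)

include hP' hv in
/-- Pointwise description of the preimage of a basic open under `Proj(u)`. -/
theorem apply_mem_emb_basicOpen_iff (U : Y.Opens) (hU : IsAffineOpen U) (U' : Y'.Opens)
    (hU' : IsAffineOpen U') (hle : U' ≤ g ⁻¹ᵁ U) {d : ℕ} (hd : 0 < d)
    (f : 𝒮.presheaf.obj (op U)) (hf : f ∈ 𝒮.deg U hU d)
    (x : (RelProj.domQ u p' chart' : Scheme.{u}))
    (hx : (RelProj.domQ u p' chart').ι x ∈ p' ⁻¹ᵁ U') :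
    v x ∈ (RelProj.emb p chart U hU) ''ᵁ Proj.basicOpen (𝒮.deg U hU) f ↔
      (chart' U' hU').hom ⟨(RelProj.domQ u p' chart').ι x, hx⟩ ∈
        Proj.basicOpen (𝒮'.deg U' hU') (u.gradedAt U hU U' hU' hle f) := by
  have hxW : (RelProj.domQ u p' chart').ι x ∈ RelPMap2.W u p' chart' U hU U' hU' hle := by
    rw [← RelPMap2.domQ_inf_preimage u p' chart' hP' U hU U' hU' hle]
    exact ⟨x.2, hx⟩
  obtain ⟨_, hy⟩ := (RelPMap2.mem_W_iff u p' chart' U hU U' hU' hle _).mp hxW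
  set y := (chart' U' hU').hom ⟨(RelProj.domQ u p' chart').ι x, hx⟩ with hydef
  have hxj : x = (RelPMap2.j u p' chart' U hU U' hU' hle) ⟨y, hy⟩ := by
    apply (RelProj.domQ u p' chart').ι.isOpenEmbedding.injective
    rw [← Scheme.Hom.comp_apply, RelPMap2.j_ι, Scheme.Hom.comp_apply]
    exact (RelPMap2.emb_chart_apply p' chart' U' hU' _ hx).symm
  have hvx : v x = (RelProj.emb p chart U hU) ((PMap.map (u.gradedAt U hU U' hU' hle)) ⟨y, hy⟩) := by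
    rw [hxj, ← Scheme.Hom.comp_apply,
      (RelPMap2.isProjQMapOn_iff u p chart p' chart' v).mp hv U hU U' hU' hle,
      Scheme.Hom.comp_apply]
  rw [hvx]
  have hpre := PMap.map_preimage_basicOpen (u.gradedAt U hU U' hU' hle) hf hd
  have h1 : (PMap.map (u.gradedAt U hU U' hU' hle)) ⟨y, hy⟩ ∈ Proj.basicOpen (𝒮.deg U hU) f ↔
      y ∈ Proj.basicOpen (𝒮'.deg U' hU') (u.gradedAt U hU U' hU' hle f) :=
    SetLike.ext_iff.mp hpre ⟨y, hy⟩
  rw [← h1]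
  constructor
  · rintro ⟨w, hw, hwe⟩
    have := (RelProj.emb p chart U hU).isOpenEmbedding.injective hwe
    rw [← this]
    exact hw
  · intro h
    exact ⟨_, h, rfl⟩

end rel

end Groth.Agent.H41.RelPMap4
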