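import Groth.Agent.H41.PolyConeChart
import Groth.Agent.H41.RelPMap4

/-!
# The retraction of the pointed affine cone onto `Proj`, ring level: surjectivity
-/

set_option autoImplicit false
universe u

open AlgebraicGeometry CategoryTheory CategoryTheory.Limits HomogeneousLocalization
open TopologicalSpace
open scoped HomogeneousIdeal

namespace Groth.Agent.H41.PolyCone

variable {A B σ τ : Type u} [CommRing A] [CommRing B] [SetLike σ A] [AddSubgroupClass σ A]
  [SetLike τ B] [AddSubgroupClass τ B]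
variable {𝒜 : ℕ → σ} [GradedRing 𝒜] {ℬ : ℕ → τ} [GradedRing ℬ]

/-- Points of `Proj` are separated by the basic opens of homogeneous elements of positive
degree. -/
theorem proj_ext (x x' : Proj 𝒜)
    (h : ∀ (d : ℕ) (f : A), 0 < d → f ∈ 𝒜 d →
      (x ∈ Proj.basicOpen 𝒜 f ↔ x' ∈ Proj.basicOpen 𝒜 f)) : x = x' := by
  have hins : Inseparable x x' := by
    rw [inseparable_iff_forall_isOpen]
    intro s hs
    constructor
    · intro hx
      obtain ⟨d, f, hd, hf, hxf, hfs⟩ := RelPMap4.exists_basicOpen_le (𝒜 := 𝒜) ⟨s, hs⟩ x hx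
      exact hfs ((h d f hd hf).mp hxf)
    · intro hx
      obtain ⟨d, f, hd, hf, hxf, hfs⟩ := RelPMap4.exists_basicOpen_le (𝒜 := 𝒜) ⟨s, hs⟩ x' hx
      exact hfs ((h d f hd hf).mpr hxf)
  exact hins.eq

variable (φ : 𝒜 →+*ᵍ ℬ) (z : B) (hz : z ∈ ℬ 1)
  (hbij : Function.Bijective (Polynomial.eval₂RingHom φ.toRingHom z))

/-- Every point of `Proj 𝒜` is the image, under the retraction of the pointed projective cone, of
a point of the pointed affine cone. -/
theorem exists_cone_point (w : Proj 𝒜) :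
    ∃ c : Spec (CommRingCat.of A), (∃ f ∈ (𝒜₊).toIdeal, f ∉ c.asIdeal) ∧
      ∃ hc : (coneChart φ z hz hbij) c ∈ RelCone.domOpen φ,
        (PMap.map φ) ⟨(coneChart φ z hz hbij) c, hc⟩ = w := by
  let c : Spec (CommRingCat.of A) := ⟨w.asHomogeneousIdeal.toIdeal, w.isPrime⟩
  have hcv : ∃ f ∈ (𝒜₊).toIdeal, f ∉ c.asIdeal := by
    by_contra hcon
    push Not at hcon
    exact w.not_irrelevant_le fun f hf => hcon f hf
  have hc : (coneChart φ z hz hbij) c ∈ RelCone.domOpen φ :=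
    (coneChart_mem_domOpen_iff φ z hz hbij c).mpr hcv
  refine ⟨c, hcv, hc, ?_⟩
  apply proj_ext
  intro d f hd hf
  have h1 : (⟨(coneChart φ z hz hbij) c, hc⟩ : (RelCone.domOpen φ : Scheme.{u})) ∈
      (PMap.map φ) ⁻¹ᵁ (Proj.basicOpen 𝒜 f) ↔
      (⟨(coneChart φ z hz hbij) c, hc⟩ : (RelCone.domOpen φ : Scheme.{u})) ∈
        (RelCone.domOpen φ).ι ⁻¹ᵁ (Proj.basicOpen ℬ (φ f)) := by
    rw [PMap.map_preimage_basicOpen φ hf hd]
  have h2 : c ∈ (coneChart φ z hz hbij) ⁻¹ᵁ (Proj.basicOpen ℬ (φ f)) ↔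
      c ∈ PrimeSpectrum.basicOpen f := by
    rw [coneChart_preimage_basicOpen φ z hz hbij hd hf]
    exact Iff.rfl
  change (⟨(coneChart φ z hz hbij) c, hc⟩ : (RelCone.domOpen φ : Scheme.{u})) ∈
      (PMap.map φ) ⁻¹ᵁ (Proj.basicOpen 𝒜 f) ↔ _
  rw [h1]
  change c ∈ (coneChart φ z hz hbij) ⁻¹ᵁ (Proj.basicOpen ℬ (φ f)) ↔ _
  rw [h2]
  change f ∉ w.asHomogeneousIdeal.toIdeal ↔ _
  exact (Proj.mem_basicOpen 𝒜 f w).symm

end Groth.Agent.H41.PolyCone
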