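import Groth.Agent.H41.PolyConeChart

/-!
# Functoriality of the cone chart `Spec A ⟶ Proj A[z]`
-/

set_option autoImplicit false
universe u

open AlgebraicGeometry CategoryTheory CategoryTheory.Limits HomogeneousLocalization
open TopologicalSpace
open scoped HomogeneousIdeal

namespace Groth.Agent.H41.PolyCone

variable {A B σ τ : Type u} [CommRing A] [CommRing B] [SetLike σ A] [AddSubgroupClass σ A]
  [SetLike τ B] [AddSubgroupClass τ B]
variable {𝒜 : ℕ → σ} [GradedRing 𝒜] {ℬ : ℕ → τ} [GradedRing ℬ]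
variable (φ : 𝒜 →+*ᵍ ℬ) (z : B) (hz : z ∈ ℬ 1)
  (hbij : Function.Bijective (Polynomial.eval₂RingHom φ.toRingHom z))
variable {A' B' σ' τ' : Type u} [CommRing A'] [CommRing B'] [SetLike σ' A']
  [AddSubgroupClass σ' A'] [SetLike τ' B'] [AddSubgroupClass τ' B']
variable {𝒜' : ℕ → σ'} [GradedRing 𝒜'] {ℬ' : ℕ → τ'} [GradedRing ℬ']
variable (φ' : 𝒜' →+*ᵍ ℬ') (z' : B') (hz' : z' ∈ ℬ' 1)
  (hbij' : Function.Bijective (Polynomial.eval₂RingHom φ'.toRingHom z'))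
variable (ρ : A →+* A') (ρh : ℬ →+*ᵍ ℬ')
  (hcomm : ∀ a : A, ρh (φ a) = φ' (ρ a)) (hρz : ρh z = z')

include hcomm hρz in
theorem evalOne_comm (b : B) :
    evalOne 𝒜' ℬ' φ' z' hbij' (ρh b) = ρ (evalOne 𝒜 ℬ φ z hbij b) := by
  have := ringHom_ext 𝒜 ℬ φ z ((evalOne 𝒜' ℬ' φ' z' hbij').comp ρh.toRingHom)
    (ρ.comp (evalOne 𝒜 ℬ φ z hbij)) hbij.2 ?_ ?_
  · exact RingHom.congr_fun this b
  · intro a
    simp only [RingHom.comp_apply]
    change evalOne 𝒜' ℬ' φ' z' hbij' (ρh (φ a)) = ρ (evalOne 𝒜 ℬ φ z hbij (φ a))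
    rw [hcomm, evalOne_φ, evalOne_φ]
  · simp only [RingHom.comp_apply]
    change evalOne 𝒜' ℬ' φ' z' hbij' (ρh z) = ρ (evalOne 𝒜 ℬ φ z hbij z)
    rw [hρz, evalOne_z, evalOne_z, map_one]

include hcomm in
theorem awayToBase_comm (hz : z ∈ ℬ 1)
    (hbij'' : Function.Bijective (Polynomial.eval₂RingHom φ'.toRingHom (ρh z)))
    (q : Away ℬ z) :
    awayToBase 𝒜' ℬ' φ' (ρh z) hbij'' (Away.map ρh z q) = ρ (awayToBase 𝒜 ℬ φ z hbij q) := by
  obtain ⟨n, b, hb, rfl⟩ := Away.mk_surjective ℬ hz q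
  rw [Away.map_mk, awayToBase_mk 𝒜 ℬ φ z hz hbij,
    awayToBase_mk 𝒜' ℬ' φ' (ρh z) (ρh.map_mem hz) hbij'']
  exact evalOne_comm φ z hbij φ' (ρh z) hbij'' ρ ρh hcomm rfl b

include hcomm hρz in
/-- The cone charts commute with a morphism of polynomial presentations. -/
theorem coneChart_square (hirr : ℬ'₊ ≤ ℬ₊.map ρh) :
    Spec.map (CommRingCat.ofHom ρ) ≫ coneChart φ z hz hbij =
      coneChart φ' z' hz' hbij' ≫ Proj.map ρh hirr := by
  subst hρz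
  unfold coneChart
  rw [Category.assoc, Proj.awayι_comp_map ρh hirr one_pos z hz, ← Spec.map_comp_assoc,
    ← Spec.map_comp_assoc]
  congr 2
  ext q
  exact (awayToBase_comm φ z hbij φ' ρ ρh hcomm hz hbij' q).symm

end Groth.Agent.H41.PolyCone
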