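import Groth.Agent.H41.PolyConeSquare

/-!
# Functoriality of the cone chart `Spec A ⟶ Proj A[z]`, partial-map version
-/

set_option autoImplicit false
universe u

open AlgebraicGeometry CategoryTheory CategoryTheory.Limits HomogeneousLocalization
open TopologicalSpace
open scoped HomogeneousIdeal

namespace Groth.Agent.H41.PolyCone

variable {A B σ τ : Type u} [CommRing A] [CommRing B] [SetLike σ A] [AddSubgroupClass σ A]
  [SetLike τ B] [AddSubgroupClass τ B]
variable {𝒜 : ℕ → σ} [GradedRing 𝒜] {ℬ : ℕ → τ} [GradedRing ℬ]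
variable (φ : 𝒜 →+*ᵍ ℬ) (z : B) (hz : z ∈ ℬ 1)
  (hbij : Function.Bijective (Polynomial.eval₂RingHom φ.toRingHom z))
variable {A' B' σ' τ' : Type u} [CommRing A'] [CommRing B'] [SetLike σ' A']
  [AddSubgroupClass σ' A'] [SetLike τ' B'] [AddSubgroupClass τ' B']
variable {𝒜' : ℕ → σ'} [GradedRing 𝒜'] {ℬ' : ℕ → τ'} [GradedRing ℬ']
variable (φ' : 𝒜' →+*ᵍ ℬ') (z' : B') (hz' : z' ∈ ℬ' 1)
  (hbij' : Function.Bijective (Polynomial.eval₂RingHom φ'.toRingHom z'))
variable (ρ : A →+* A') (ρh : ℬ →+*ᵍ ℬ')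
  (hcomm : ∀ a : A, ρh (φ a) = φ' (ρ a)) (hρz : ρh z = z')

include hz hρz in
/-- The cone chart of the source lands in `G(ρh)`. -/
theorem range_coneChart_subset_domOpen :
    Set.range (coneChart φ' z' hz' hbij').base ⊆ Set.range (RelCone.domOpen ρh).ι.base := by
  rw [Scheme.Opens.range_ι, range_coneChart]
  subst hρz
  exact PMap.basicOpen_le ρh hz one_pos

include hcomm hρz in
/-- The cone charts commute with a morphism of polynomial presentations, the induced morphism of
homogeneous spectra being only partially defined. -/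
theorem coneChart_square' {T : Scheme.{u}} (b : T ⟶ (RelCone.domOpen ρh : Scheme.{u}))
    (s : T ⟶ Spec (CommRingCat.of A'))
    (hbs : b ≫ (RelCone.domOpen ρh).ι = s ≫ coneChart φ' z' hz' hbij') :
    b ≫ PMap.map ρh = s ≫ Spec.map (CommRingCat.ofHom ρ) ≫ coneChart φ z hz hbij := by
  subst hρz
  have h1 : b = s ≫ Spec.map (CommRingCat.ofHom (awayToBase 𝒜' ℬ' φ' (ρh z) hbij')) ≫
      PMap.chart ρh hz one_pos := by
    rw [← cancel_mono (RelCone.domOpen ρh).ι, hbs, Category.assoc, Category.assoc, PMap.chart_ι]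
    rfl
  rw [h1, Category.assoc, Category.assoc, PMap.chart_map]
  unfold coneChart
  rw [← Spec.map_comp_assoc, ← Spec.map_comp_assoc]
  congr 3
  ext q
  exact awayToBase_comm φ z hbij φ' ρ ρh hcomm hz hbij' q

end Groth.Agent.H41.PolyCone
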