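import Groth.Agent.H41.PolyCone

/-!
# Characterisation of the isomorphism `A[z]_(z) ≅ A` by its values on the fractions `φ x / z ^ k`
-/

set_option autoImplicit false
universe u

open HomogeneousLocalization

namespace Groth.Agent.H41.PolyCone

variable {A B σ τ : Type u} [CommRing A] [CommRing B] [SetLike σ A] [AddSubgroupClass σ A]
  [SetLike τ B] [AddSubgroupClass τ B]
variable (𝒜 : ℕ → σ) [GradedRing 𝒜] (ℬ : ℕ → τ) [GradedRing ℬ]
variable (φ : 𝒜 →+*ᵍ ℬ) (z : B) (hz : z ∈ ℬ 1)
variable (hbij : Function.Bijective (Polynomial.eval₂RingHom φ.toRingHom z))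

include hz in
/-- Every element of `A[z]_(z)` is a sum of fractions `φ (a k) / z ^ (n - k)`. -/
theorem exists_sum_eq (hsurj : Function.Surjective (Polynomial.eval₂RingHom φ.toRingHom z))
    (q : Away ℬ z) :
    ∃ (n : ℕ) (a : ℕ → A) (ha : ∀ k, a k ∈ 𝒜 (n - k)),
      q = ∑ k ∈ Finset.range (n + 1), Away.mk ℬ hz (n - k) (φ (a k))
        (by rw [smul_eq_mul, mul_one]; exact φ.map_mem (ha k)) := by
  classical
  obtain ⟨n, b, hb, rfl⟩ := Away.mk_surjective ℬ hz q
  have hb' : b ∈ ℬ n := by simpa using hb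
  obtain ⟨a, ha, hba⟩ := exists_homogeneous_coeffs 𝒜 ℬ φ z hz hsurj n b hb'
  refine ⟨n, a, ha, ?_⟩
  rw [HomogeneousLocalization.ext_iff_val, Away.val_mk,
    ← HomogeneousLocalization.algebraMap_apply, map_sum]
  simp only [HomogeneousLocalization.algebraMap_apply, Away.val_mk]
  rw [Localization.mk_eq_mk', IsLocalization.mk'_eq_iff_eq_mul, Finset.sum_mul]
  simp only [Localization.mk_eq_mk']
  rw [hba, map_sum]
  refine Finset.sum_congr rfl fun k hk => ?_
  have hkn : k ≤ n := by simp only [Finset.mem_range] at hk; omega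
  have h1 : (algebraMap B (Localization.Away z)) (z ^ n) =
      algebraMap B (Localization.Away z) (z ^ (n - k)) *
        algebraMap B (Localization.Away z) (z ^ k) := by
    rw [← map_mul, ← pow_add, Nat.sub_add_cancel hkn]
  change _ = _ * (algebraMap B (Localization.Away z)) (z ^ n)
  rw [h1, ← mul_assoc]
  have h2 : IsLocalization.mk' (Localization.Away z) (φ (a k))
      (⟨z ^ (n - k), _root_.pow_mem (Submonoid.mem_powers z) (n - k)⟩ : Submonoid.powers z) *
      algebraMap B (Localization.Away z) (z ^ (n - k)) =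
      algebraMap B (Localization.Away z) (φ (a k)) :=
    IsLocalization.mk'_spec _ _ _
  rw [h2, map_mul]

include hz in
/-- A ring homomorphism `A[z]_(z) → A` sending `φ x / z ^ k` to `x` for `x` homogeneous of
degree `k` is the canonical isomorphism. -/
theorem eq_awayToBase (θ : Away ℬ z →+* A)
    (hθ : ∀ (q : Away ℬ z) (k : ℕ) (x : A), x ∈ 𝒜 k →
      q.val = Localization.mk (φ x) ⟨z ^ k, _root_.pow_mem (Submonoid.mem_powers z) k⟩ →
      θ q = x) :
    θ = awayToBase 𝒜 ℬ φ z hbij := by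
  ext q
  obtain ⟨n, a, ha, rfl⟩ := exists_sum_eq 𝒜 ℬ φ z hz hbij.2 q
  rw [map_sum, map_sum]
  refine Finset.sum_congr rfl fun k _ => ?_
  rw [hθ _ (n - k) (a k) (ha k) (Away.val_mk ..), awayToBase_mk 𝒜 ℬ φ z hz hbij, evalOne_φ]

end Groth.Agent.H41.PolyCone
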