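import Groth.Agent.H41.AwayLaurent
import Mathlib.AlgebraicGeometry.ProjectiveSpectrum.Basic

/-!
# Graded rings that look like `R[T]` with `T` in degree one (helper41)

`A` graded by `𝒜`, `s : R →+* A` landing in degree `0`, `T ∈ 𝒜 1`, every element a polynomial in `T` with coefficients
from `R`, and a retraction `ε : A →+* R` with `ε T = 1`.  Then `𝒜 n = R T^n`, `Proj 𝒜 = D₊(T)` and `R ≅ A_(T)`, so that
`Proj 𝒜 ⟶ Spec R` is an isomorphism.
-/

set_option autoImplicit false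
universe u

open HomogeneousLocalization AlgebraicGeometry CategoryTheory

namespace Groth.Agent.H41.PolyGrade

variable {A : Type u} [CommRing A] (𝒜 : ℕ → AddSubgroup A) [GradedRing 𝒜]
  {R : Type u} [CommRing R] (s : R →+* A) (hs : ∀ r, s r ∈ 𝒜 0) {T : A} (hT : T ∈ 𝒜 1)
  (hgen : ∀ b : A, ∃ (N : ℕ) (c : ℕ → R), b = ∑ i ∈ Finset.range N, s (c i) * T ^ i)

include hs hT in
theorem term_mem (r : R) (i : ℕ) : s r * T ^ i ∈ 𝒜 i := by
  have h1 : T ^ i ∈ 𝒜 (i • 1) := SetLike.pow_mem_graded i hT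
  have h2 := SetLike.mul_mem_graded (hs r) h1
  simpa using h2

include hs hT hgen in
/-- Homogeneous elements of degree `n` are `R`-multiples of `T ^ n`. -/
theorem exists_eq_of_mem {n : ℕ} {b : A} (hb : b ∈ 𝒜 n) : ∃ r : R, b = s r * T ^ n := by
  classical
  obtain ⟨N, c, hc⟩ := hgen b
  have h1 : GradedRing.proj 𝒜 n b = b := by
    rw [GradedRing.proj_apply, DirectSum.decompose_of_mem_same 𝒜 hb]
  have h2 : GradedRing.proj 𝒜 n b = ∑ i ∈ Finset.range N, GradedRing.proj 𝒜 n (s (c i) * T ^ i) := by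
    conv_lhs => rw [hc]
    rw [map_sum]
  have h3 : ∀ i, GradedRing.proj 𝒜 n (s (c i) * T ^ i) = if i = n then s (c n) * T ^ n else 0 := by
    intro i
    split_ifs with h
    · subst h
      rw [GradedRing.proj_apply, DirectSum.decompose_of_mem_same 𝒜 (term_mem 𝒜 s hs hT _ _)]
    · rw [GradedRing.proj_apply, DirectSum.decompose_of_mem_ne 𝒜 (term_mem 𝒜 s hs hT _ _) h]
  rw [h1] at h2
  rw [h2]
  simp only [h3]
  rw [Finset.sum_ite_eq']
  split_ifs
  · exact ⟨c n, rfl⟩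
  · exact ⟨0, by simp⟩

include hs hT hgen in
theorem irrelevant_le_span :
    (HomogeneousIdeal.irrelevant 𝒜).toIdeal ≤ Ideal.span (Set.range (fun _ : Unit => T)) := by
  rw [HomogeneousIdeal.toIdeal_irrelevant_le]
  intro i hi b hb
  obtain ⟨r, rfl⟩ := exists_eq_of_mem 𝒜 s hs hT hgen (show b ∈ 𝒜 i from hb)
  obtain ⟨k, rfl⟩ : ∃ k, i = k + 1 := ⟨i - 1, by omega⟩
  change s r * T ^ (k + 1) ∈ Ideal.span _
  rw [pow_succ, ← mul_assoc]
  exact Ideal.mul_mem_left _ _ (Ideal.subset_span ⟨(), rfl⟩)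

include hs hT hgen in
theorem basicOpen_eq_top : Proj.basicOpen 𝒜 T = ⊤ := by
  have := Proj.iSup_basicOpen_eq_top 𝒜 (fun _ : Unit => T) (irrelevant_le_span 𝒜 s hs hT hgen)
  rwa [iSup_const] at this

/-- The ring homomorphism `R → 𝒜 0`. -/
def sZero : R →+* 𝒜 0 where
  toFun r := ⟨s r, hs r⟩
  map_one' := Subtype.ext (map_one _)
  map_mul' a b := Subtype.ext (map_mul _ a b)
  map_zero' := Subtype.ext (map_zero _)
  map_add' a b := Subtype.ext (map_add _ a b)

variable (ε : A →+* R) (hε1 : ∀ r, ε (s r) = r) (hε2 : ε T = 1)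

include hT hgen hε1 hε2 in
/-- `R → A_(T)` is bijective. -/
theorem bijective_toAway :
    Function.Bijective ((fromZeroRingHom 𝒜 (Submonoid.powers T)).comp (sZero 𝒜 s hs)) := by
  constructor
  · rw [injective_iff_map_eq_zero]
    intro r hr
    have h1 : (fromZeroRingHom 𝒜 (Submonoid.powers T) (sZero 𝒜 s hs r)).val = 0 := by
      change ((fromZeroRingHom 𝒜 (Submonoid.powers T)).comp (sZero 𝒜 s hs) r).val = 0
      rw [hr, val_zero]
    have h2 : (fromZeroRingHom 𝒜 (Submonoid.powers T) (sZero 𝒜 s hs r)).val =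
        Localization.mk (s r) (1 : Submonoid.powers T) := rfl
    rw [h2, Localization.mk_one_eq_algebraMap,
      IsLocalization.map_eq_zero_iff (Submonoid.powers T)] at h1
    obtain ⟨⟨_, k, rfl⟩, hk⟩ := h1
    have := congrArg ε hk
    simpa [hε1, hε2] using this
  · intro x
    obtain ⟨n, a, ha, rfl⟩ := Away.mk_surjective 𝒜 hT x
    have ha' : a ∈ 𝒜 n := by simpa using ha
    obtain ⟨r, rfl⟩ := exists_eq_of_mem 𝒜 s hs hT hgen ha'
    refine ⟨r, ?_⟩
    apply val_injective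
    rw [Away.val_mk]
    change Localization.mk (s r) (1 : Submonoid.powers T) = _
    rw [Localization.mk_eq_mk_iff, Localization.r_iff_exists]
    exact ⟨1, by simp [mul_comm]⟩

include hT hgen hε1 hε2 in
/-- `Proj 𝒜 ⟶ Spec 𝒜₀ ⟶ Spec R` is an isomorphism. -/
theorem isIso_toSpec :
    IsIso (Proj.toSpecZero 𝒜 ≫ Spec.map (CommRingCat.ofHom (sZero 𝒜 s hs))) := by
  have hrange : (Proj.awayι 𝒜 T hT Nat.one_pos).opensRange = ⊤ := by
    rw [Proj.opensRange_awayι, basicOpen_eq_top 𝒜 s hs hT hgen]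
  haveI : IsIso (Proj.awayι 𝒜 T hT Nat.one_pos) := by
    haveI : Epi (Proj.awayι 𝒜 T hT Nat.one_pos).base := by
      rw [TopCat.epi_iff_surjective]
      intro x
      have : x ∈ (Proj.awayι 𝒜 T hT Nat.one_pos).opensRange := by rw [hrange]; trivial
      exact this
    exact IsOpenImmersion.isIso _
  have h1 : Proj.awayι 𝒜 T hT Nat.one_pos ≫ Proj.toSpecZero 𝒜 ≫
      Spec.map (CommRingCat.ofHom (sZero 𝒜 s hs)) =
      Spec.map (CommRingCat.ofHom ((fromZeroRingHom 𝒜 (Submonoid.powers T)).comp (sZero 𝒜 s hs))) := by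
    rw [← Category.assoc, Proj.awayι_toSpecZero, ← Spec.map_comp]
    rfl
  have h2 : IsIso (Spec.map (CommRingCat.ofHom
      ((fromZeroRingHom 𝒜 (Submonoid.powers T)).comp (sZero 𝒜 s hs)))) := by
    have hb := bijective_toAway 𝒜 s hs hT hgen ε hε1 hε2
    haveI : IsIso (CommRingCat.ofHom ((fromZeroRingHom 𝒜 (Submonoid.powers T)).comp (sZero 𝒜 s hs))) :=
      (ConcreteCategory.isIso_iff_bijective _).mpr hb
    infer_instance
  rw [← h1] at h2
  exact IsIso.of_isIso_comp_left (Proj.awayι 𝒜 T hT Nat.one_pos) _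

end Groth.Agent.H41.PolyGrade
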