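import Groth.Agent.H41.SpecPullback

/-!
# `V(E ⊕ F) = V(E) ×_S V(F)` (helper41)
-/

set_option autoImplicit false
universe u

namespace Groth.Agent.H41.SymBiprodSheaf

open CategoryTheory CategoryTheory.Limits AlgebraicGeometry TopologicalSpace Opposite RelSpec
open Groth.Agent.H41.SymRing Groth.Agent.H41.SymSheaf Groth.Agent.H41.SymStruct

variable {S : Scheme.{u}} (E F : S.Modules) [E.IsQuasicoherent] [F.IsQuasicoherent]
  (AE AF A : QCAlg S) (jE : E ⟶ AE.toModule) (jF : F ⟶ AF.toModule) (j : E ⊞ F ⟶ A.toModule)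
  (hAE : IsSymAlg E AE jE) (hAF : IsSymAlg F AF jF) (hA : IsSymAlg (E ⊞ F) A j)
  (ψE : AE ⟶ A) (ψF : AF ⟶ A)
  (hψE : jE ≫ QCAlg.Hom.toModuleMap ψE = biprod.inl ≫ j)
  (hψF : jF ≫ QCAlg.Hom.toModuleMap ψF = biprod.inr ≫ j)

theorem app_comp_apply {M N K : S.Modules} (f : M ⟶ N) (g : N ⟶ K) (U : S.Opens) (x : Γ(M, U)) :
    ((f ≫ g).app U).hom x = (g.app U).hom ((f.app U).hom x) := rfl

include hAE hAF hA hψE hψF in
theorem isPushout_app (U : S.Opens) (hU : IsAffineOpen U) :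
    IsPushout (AE.str.app (op U)) (AF.str.app (op U)) (ψE.hom.app (op U)) (ψF.hom.app (op U)) := by
  haveI : (E ⊞ F).IsQuasicoherent := Groth.Agent.H12.QCohAbelian.isQuasicoherent_biprod E F
  have h1 : ∀ x : Γ(E, U), ((biprod.fst : E ⊞ F ⟶ E).app U).hom (((biprod.inl : E ⟶ E ⊞ F).app U).hom x) = x := by
    intro x
    rw [← app_comp_apply, biprod.inl_fst]; rfl
  have h2 : ∀ x : Γ(E, U), ((biprod.snd : E ⊞ F ⟶ F).app U).hom (((biprod.inl : E ⟶ E ⊞ F).app U).hom x) = 0 := by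
    intro x
    rw [← app_comp_apply, biprod.inl_snd]; rfl
  have h3 : ∀ y : Γ(F, U), ((biprod.fst : E ⊞ F ⟶ E).app U).hom (((biprod.inr : F ⟶ E ⊞ F).app U).hom y) = 0 := by
    intro y
    rw [← app_comp_apply, biprod.inr_fst]; rfl
  have h4 : ∀ y : Γ(F, U), ((biprod.snd : E ⊞ F ⟶ F).app U).hom (((biprod.inr : F ⟶ E ⊞ F).app U).hom y) = y := by
    intro y
    rw [← app_comp_apply, biprod.inr_snd]; rfl
  have h5 : ∀ p : Γ(E ⊞ F, U),
      ((biprod.inl : E ⟶ E ⊞ F).app U).hom (((biprod.fst : E ⊞ F ⟶ E).app U).hom p) +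
        ((biprod.inr : F ⟶ E ⊞ F).app U).hom (((biprod.snd : E ⊞ F ⟶ F).app U).hom p) = p := by
    intro p
    rw [← app_comp_apply, ← app_comp_apply]
    have := congrArg (fun m => (Scheme.Modules.Hom.app m U).hom p) (biprod.total (X := E) (Y := F))
    exact this
  exact Groth.Agent.H41.SymBiprod.isPushout
    ((biprod.inl : E ⟶ E ⊞ F).app U).hom ((biprod.inr : F ⟶ E ⊞ F).app U).hom
    ((biprod.fst : E ⊞ F ⟶ E).app U).hom ((biprod.snd : E ⊞ F ⟶ F).app U).hom
    (fun r p => Scheme.Modules.Hom.app_smul _ r p) (fun r p => Scheme.Modules.Hom.app_smul _ r p)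
    h1 h2 h3 h4 h5
    (AE.str.app (op U)).hom (AF.str.app (op U)).hom (A.str.app (op U)).hom
    ((jE.app U).hom : Γ(E, U) →+ AE.presheaf.obj (op U))
    ((jF.app U).hom : Γ(F, U) →+ AF.presheaf.obj (op U))
    ((j.app U).hom : Γ(E ⊞ F, U) →+ A.presheaf.obj (op U))
    (fun r x => Scheme.Modules.Hom.app_smul jE r x) (fun r x => Scheme.Modules.Hom.app_smul jF r x)
    (fun r x => Scheme.Modules.Hom.app_smul j r x)
    (bijective_liftApp E AE jE hAE U hU).2 (bijective_liftApp F AF jF hAF U hU).2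
    (bijective_liftApp (E ⊞ F) A j hA U hU)
    (ψE.hom.app (op U)).hom (ψF.hom.app (op U)).hom
    (congrArg CommRingCat.Hom.hom (NatTrans.congr_app ψE.comm (op U)))
    (congrArg CommRingCat.Hom.hom (NatTrans.congr_app ψF.comm (op U)))
    (fun x => congrArg (fun m => (Scheme.Modules.Hom.app m U).hom x) hψE)
    (fun y => congrArg (fun m => (Scheme.Modules.Hom.app m U).hom y) hψF)

include hAE hAF hA hψE hψF in
theorem isPullback :
    IsPullback (QCAlg.specMap ψE) (QCAlg.specMap ψF) AE.π AF.π :=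
  Groth.Agent.H41.SpecPullback.isPullback_specMap_of_isPushout ψE ψF
    (isPushout_app E F AE AF A jE jF j hAE hAF hA ψE ψF hψE hψF)

end Groth.Agent.H41.SymBiprodSheaf
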