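import Groth.Agent.H41.CoprodClosedImm
import Groth.Agent.H41.ProjBundleO1
import Groth.Agent.H41.RelProj
import Groth.Agent.H41.SymBiprodSheaf
import Groth.Agent.S8263
import Groth.Agent.H12.QCohAbelian

/-!
# `P(E) ⨿ P(F)` is a closed subscheme of `P(E ⊕ F)` (helper41)
-/

set_option autoImplicit false
universe u

open CategoryTheory CategoryTheory.Limits AlgebraicGeometry TopologicalSpace Opposite
open scoped HomogeneousIdeal

namespace Groth.Agent.H41.ProjBiprod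

open Groth.Agent.H41.SymSheaf Groth.Agent.H41.SymStruct Groth.Agent.H41.SymBiprodSheaf

section general

variable {Y : Scheme.{u}} {𝒜 ℬ : RelProj.QCGrAlg Y} (φ : 𝒜.toQCAlg ⟶ ℬ.toQCAlg)
  (hφ : RelProj.IsGradedHom φ)
  (hirr : ∀ (U : Y.Opens) (hU : IsAffineOpen U),
      (ℬ.deg U hU)₊ ≤ ((𝒜.deg U hU)₊).map (RelProj.gradedHomAt φ hφ U hU))
  {PA PB : Scheme.{u}} {pA : PA ⟶ Y} {pB : PB ⟶ Y}
  (chartA : ∀ (U : Y.Opens) (hU : IsAffineOpen U),
    (((pA ⁻¹ᵁ U : PA.Opens) : Scheme.{u}) ≅ Proj (𝒜.deg U hU)))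
  (chartB : ∀ (U : Y.Opens) (hU : IsAffineOpen U),
    (((pB ⁻¹ᵁ U : PB.Opens) : Scheme.{u}) ≅ Proj (ℬ.deg U hU)))
  (h : PB ⟶ PA) (hh : RelProj.IsRelProjMap φ hφ hirr chartA chartB h)

include hh in
/-- the induced morphism of relative `Proj`s on points, through the charts -/
theorem relProjMap_apply (U : Y.Opens) (hU : IsAffineOpen U) (x : PB) (hx : x ∈ pB ⁻¹ᵁ U) :
    h x = (RelProj.emb pA chartA U hU)
      ((Proj.map (RelProj.gradedHomAt φ hφ U hU) (hirr U hU)) ((chartB U hU).hom ⟨x, hx⟩)) := by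
  have h1 := congrArg (fun k : ((pB ⁻¹ᵁ U : PB.Opens) : Scheme.{u}) ⟶ PA => k ⟨x, hx⟩) (hh U hU)
  simp only [Scheme.Hom.comp_apply] at h1
  exact h1

include hh in
/-- elements killed by `φ` vanish at all points of the image -/
theorem notMem_basicOpen_of_map_eq_zero (U : Y.Opens) (hU : IsAffineOpen U) (x : PB)
    (hx : x ∈ pB ⁻¹ᵁ U) (z₀ : Proj (𝒜.deg U hU)) (hz : h x = (RelProj.emb pA chartA U hU) z₀)
    (a : 𝒜.presheaf.obj (op U)) (ha : (φ.hom.app (op U)).hom a = 0) :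
    a ∈ z₀.asHomogeneousIdeal := by
  rw [relProjMap_apply φ hφ hirr chartA chartB h hh U hU x hx] at hz
  have h2 := (RelProj.emb pA chartA U hU).isOpenEmbedding.injective hz
  by_contra hcon
  have h3 : z₀ ∈ Proj.basicOpen (𝒜.deg U hU) a := (Proj.mem_basicOpen _ _ _).mpr hcon
  rw [← h2] at h3
  have h4 : (chartB U hU).hom ⟨x, hx⟩ ∈
      Proj.basicOpen (ℬ.deg U hU) ((RelProj.gradedHomAt φ hφ U hU) a) := h3
  have h5 : (RelProj.gradedHomAt φ hφ U hU) a = 0 := ha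
  rw [h5, Proj.basicOpen_zero] at h4
  exact h4

end general

variable {Y PE PF P : Scheme.{u}} (E F : Y.Modules) [E.IsQuasicoherent] [F.IsQuasicoherent]
  (𝒮E 𝒮F 𝒮 : RelProj.QCGrAlg Y)
  (jE : E ⟶ 𝒮E.toModule) (hjE : RelProj.IsGrSymAlg E 𝒮E jE)
  (jF : F ⟶ 𝒮F.toModule) (hjF : RelProj.IsGrSymAlg F 𝒮F jF)
  (j : E ⊞ F ⟶ 𝒮.toModule) (hj : RelProj.IsGrSymAlg (E ⊞ F) 𝒮 j)
  (πE : 𝒮.toQCAlg ⟶ 𝒮E.toQCAlg) (hπE : RelProj.IsGradedHom πE)
  (hjπE : j ≫ RelSpec.QCAlg.Hom.toModuleMap πE = biprod.fst ≫ jE)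
  (πF : 𝒮.toQCAlg ⟶ 𝒮F.toQCAlg) (hπF : RelProj.IsGradedHom πF)
  (hjπF : j ≫ RelSpec.QCAlg.Hom.toModuleMap πF = biprod.snd ≫ jF)

include hjπE in
theorem πE_j (U : Y.Opens) (x : Γ(E ⊞ F, U)) :
    (πE.hom.app (op U)).hom ((j.app U).hom x : 𝒮.presheaf.obj (op U)) =
      (jE.app U).hom (((biprod.fst : E ⊞ F ⟶ E).app U).hom x) :=
  congrArg (fun m => (Scheme.Modules.Hom.app m U).hom x) hjπE

include hjπF in
theorem πF_j (U : Y.Opens) (x : Γ(E ⊞ F, U)) :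
    (πF.hom.app (op U)).hom ((j.app U).hom x : 𝒮.presheaf.obj (op U)) =
      (jF.app U).hom (((biprod.snd : E ⊞ F ⟶ F).app U).hom x) :=
  congrArg (fun m => (Scheme.Modules.Hom.app m U).hom x) hjπF

include hjE hjπE in
theorem surjective_πE (U : Y.Opens) (hU : IsAffineOpen U) :
    Function.Surjective (πE.hom.app (op U)).hom := by
  intro b
  obtain ⟨z, rfl⟩ := (bijective_liftApp E 𝒮E.toQCAlg jE hjE.1 U hU).2 b
  induction z using SymmetricAlgebra.induction with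
  | algebraMap r =>
    rw [liftApp_algebraMap]
    exact ⟨(𝒮.str.app (op U)).hom r,
      congrArg (fun k => CommRingCat.Hom.hom k r) (NatTrans.congr_app πE.comm (op U))⟩
  | ι x =>
    rw [liftApp_ι]
    refine ⟨((j.app U).hom (((biprod.inl : E ⟶ E ⊞ F).app U).hom x) : 𝒮.presheaf.obj (op U)), ?_⟩
    have h1 : ((biprod.fst : E ⊞ F ⟶ E).app U).hom (((biprod.inl : E ⟶ E ⊞ F).app U).hom x) = x := by
      rw [← app_comp_apply, biprod.inl_fst]; rfl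
    rw [πE_j E F 𝒮E 𝒮 jE j πE hjπE, h1]
  | mul a b ha hb =>
    obtain ⟨a', ha'⟩ := ha
    obtain ⟨b', hb'⟩ := hb
    exact ⟨a' * b', by rw [map_mul, map_mul, ha', hb']⟩
  | add a b ha hb =>
    obtain ⟨a', ha'⟩ := ha
    obtain ⟨b', hb'⟩ := hb
    exact ⟨a' + b', by rw [map_add, map_add, ha', hb']⟩

include hjF hjπF in
theorem surjective_πF (U : Y.Opens) (hU : IsAffineOpen U) :
    Function.Surjective (πF.hom.app (op U)).hom := by
  intro b
  obtain ⟨z, rfl⟩ := (bijective_liftApp F 𝒮F.toQCAlg jF hjF.1 U hU).2 b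
  induction z using SymmetricAlgebra.induction with
  | algebraMap r =>
    rw [liftApp_algebraMap]
    exact ⟨(𝒮.str.app (op U)).hom r,
      congrArg (fun k => CommRingCat.Hom.hom k r) (NatTrans.congr_app πF.comm (op U))⟩
  | ι x =>
    rw [liftApp_ι]
    refine ⟨((j.app U).hom (((biprod.inr : F ⟶ E ⊞ F).app U).hom x) : 𝒮.presheaf.obj (op U)), ?_⟩
    have h1 : ((biprod.snd : E ⊞ F ⟶ F).app U).hom (((biprod.inr : F ⟶ E ⊞ F).app U).hom x) = x := by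
      rw [← app_comp_apply, biprod.inr_snd]; rfl
    rw [πF_j E F 𝒮F 𝒮 jF j πF hjπF, h1]
  | mul a b ha hb =>
    obtain ⟨a', ha'⟩ := ha
    obtain ⟨b', hb'⟩ := hb
    exact ⟨a' * b', by rw [map_mul, map_mul, ha', hb']⟩
  | add a b ha hb =>
    obtain ⟨a', ha'⟩ := ha
    obtain ⟨b', hb'⟩ := hb
    exact ⟨a' + b', by rw [map_add, map_add, ha', hb']⟩

variable
  (hirrE : ∀ (U : Y.Opens) (hU : IsAffineOpen U),
    (𝒮E.deg U hU)₊ ≤ ((𝒮.deg U hU)₊).map (RelProj.gradedHomAt πE hπE U hU))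
  (hirrF : ∀ (U : Y.Opens) (hU : IsAffineOpen U),
    (𝒮F.deg U hU)₊ ≤ ((𝒮.deg U hU)₊).map (RelProj.gradedHomAt πF hπF U hU))
  (p : P ⟶ Y) (pE : PE ⟶ Y) (pF : PF ⟶ Y)
  (chart : ∀ (U : Y.Opens) (hU : IsAffineOpen U), ((p ⁻¹ᵁ U : P.Opens) : Scheme.{u}) ≅ Proj (𝒮.deg U hU))
  (chartE : ∀ (U : Y.Opens) (hU : IsAffineOpen U), ((pE ⁻¹ᵁ U : PE.Opens) : Scheme.{u}) ≅ Proj (𝒮E.deg U hU))
  (chartF : ∀ (U : Y.Opens) (hU : IsAffineOpen U), ((pF ⁻¹ᵁ U : PF.Opens) : Scheme.{u}) ≅ Proj (𝒮F.deg U hU))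
  (hP : RelProj.IsRelProj 𝒮 p chart) (hPE : RelProj.IsRelProj 𝒮E pE chartE)
  (hPF : RelProj.IsRelProj 𝒮F pF chartF)
  (hE' : PE ⟶ P) (hhE : RelProj.IsRelProjMap πE hπE hirrE chart chartE hE')
  (hF' : PF ⟶ P) (hhF : RelProj.IsRelProjMap πF hπF hirrF chart chartF hF')

include hj hjπE hjπF hP hPE hPF hhE hhF in
theorem disjoint (x : PE) (y : PF) : hE' x ≠ hF' y := by
  intro hxy
  haveI : (E ⊞ F).IsQuasicoherent := Groth.Agent.H12.QCohAbelian.isQuasicoherent_biprod E F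
  obtain ⟨U, hU, hxU, -⟩ := (Opens.isBasis_iff_nbhd.1 Y.isBasis_affineOpens)
    (show pE x ∈ (⊤ : Y.Opens) from trivial)
  have hx : x ∈ pE ⁻¹ᵁ U := hxU
  have hcE := RelProj.relProjMap_comp πE hπE hirrE chart chartE hP hPE hE' hhE
  have hcF := RelProj.relProjMap_comp πF hπF hirrF chart chartF hP hPF hF' hhF
  have hy : y ∈ pF ⁻¹ᵁ U := by
    change pF y ∈ U
    rw [← hcF, Scheme.Hom.comp_apply, ← hxy, ← Scheme.Hom.comp_apply, hcE]
    exact hxU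
  set z₀ := (Proj.map (RelProj.gradedHomAt πE hπE U hU) (hirrE U hU)) ((chartE U hU).hom ⟨x, hx⟩)
    with hz₀
  have hzE : hE' x = (RelProj.emb p chart U hU) z₀ :=
    relProjMap_apply πE hπE hirrE chart chartE hE' hhE U hU x hx
  have hzF : hF' y = (RelProj.emb p chart U hU) z₀ := hxy ▸ hzE
  obtain ⟨e, he⟩ := ProjBundleO1.exists_section_notMem (E ⊞ F) 𝒮 j hj U hU z₀
  apply he
  have h5 : ((biprod.inl : E ⟶ E ⊞ F).app U).hom (((biprod.fst : E ⊞ F ⟶ E).app U).hom e) +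
      ((biprod.inr : F ⟶ E ⊞ F).app U).hom (((biprod.snd : E ⊞ F ⟶ F).app U).hom e) = e := by
    rw [← app_comp_apply, ← app_comp_apply]
    exact congrArg (fun m => (Scheme.Modules.Hom.app m U).hom e) (biprod.total (X := E) (Y := F))
  rw [← h5, map_add]
  refine Ideal.add_mem _ ?_ ?_
  · -- `j (inl e₁)` is killed by `πF`
    refine notMem_basicOpen_of_map_eq_zero πF hπF hirrF chart chartF hF' hhF U hU y hy z₀ hzF _ ?_
    have h1 : ∀ x : Γ(E, U),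
        ((biprod.snd : E ⊞ F ⟶ F).app U).hom (((biprod.inl : E ⟶ E ⊞ F).app U).hom x) = 0 := by
      intro x
      rw [← app_comp_apply, biprod.inl_snd]; rfl
    rw [πF_j E F 𝒮F 𝒮 jF j πF hjπF, h1]
    exact map_zero _
  · refine notMem_basicOpen_of_map_eq_zero πE hπE hirrE chart chartE hE' hhE U hU x hx z₀ hzE _ ?_
    have h1 : ∀ y : Γ(F, U),
        ((biprod.fst : E ⊞ F ⟶ E).app U).hom (((biprod.inr : F ⟶ E ⊞ F).app U).hom y) = 0 := by
      intro y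
      rw [← app_comp_apply, biprod.inr_fst]; rfl
    rw [πE_j E F 𝒮E 𝒮 jE j πE hjπE, h1]
    exact map_zero _

include hjE hjF hj hjπE hjπF hP hPE hPF hhE hhF in
theorem isClosedImmersion_desc : IsClosedImmersion (coprod.desc hE' hF') := by
  haveI : IsClosedImmersion hE' := Groth.Agent.S8263.result πE hπE
    (surjective_πE E F 𝒮E 𝒮 jE hjE j πE hjπE) hirrE p pE chart chartE hP hPE hE' hhE
  haveI : IsClosedImmersion hF' := Groth.Agent.S8263.result πF hπF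
    (surjective_πF E F 𝒮F 𝒮 jF hjF j πF hjπF) hirrF p pF chart chartF hP hPF hF' hhF
  exact CoprodClosedImm.isClosedImmersion_desc hE' hF'
    (disjoint E F 𝒮E 𝒮F 𝒮 jE jF j hj πE hπE hjπE πF hπF hjπF hirrE hirrF p pE pF chart chartE chartF
      hP hPE hPF hE' hhE hF' hhF)

end Groth.Agent.H41.ProjBiprod
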