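import Groth.Agent.H41.ProjGen
import Mathlib.AlgebraicGeometry.IdealSheaf.Functorial
import Mathlib.AlgebraicGeometry.ProjectiveSpectrum.Proper

set_option autoImplicit false
universe u
open CategoryTheory AlgebraicGeometry Opposite TopologicalSpace HomogeneousLocalization
open scoped HomogeneousIdeal

namespace Groth.Agent.H41.ProjKer

variable {σ A : Type u} [CommRing A] [SetLike σ A] [AddSubgroupClass σ A]
  (𝒜 : ℕ → σ) [GradedRing 𝒜]

theorem awayMap_injective_of_mem_nonZeroDivisors {d e : ℕ} {f g : A} (hf : f ∈ 𝒜 d)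
    (hg : g ∈ 𝒜 e) (hnz : g ∈ nonZeroDivisors A) {x : A} (hx : x = f * g) :
    Function.Injective (awayMap 𝒜 hg hx) := by
  rw [injective_iff_map_eq_zero]
  intro z hz
  obtain ⟨n, a, ha, rfl⟩ := Away.mk_surjective 𝒜 hf z
  rw [awayMap_mk 𝒜 hg hx n hf a ha, Groth.Agent.H41.ProjGen.away_mk_eq_zero_iff] at hz
  rw [Groth.Agent.H41.ProjGen.away_mk_eq_zero_iff]
  obtain ⟨m, hm⟩ := hz
  refine ⟨m, ?_⟩
  have h1 : (f ^ m * a) * (g ^ m * g ^ n) = 0 := by
    rw [← hm, hx]; ring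
  have h2 : g ^ m * g ^ n ∈ nonZeroDivisors A :=
    mul_mem (pow_mem hnz m) (pow_mem hnz n)
  exact (mul_right_mem_nonZeroDivisors_eq_zero_iff h2).1 h1

/-- Restriction from `D₊(f)` to `D₊(f) ⊓ D₊(g)` is injective for `g` a homogeneous non-zero-divisor. -/
theorem res_injective {d e : ℕ} {f g : A} (hf : f ∈ 𝒜 d) (hd : 0 < d)
    (hg : g ∈ 𝒜 e) (he : 0 < e) (hnz : g ∈ nonZeroDivisors A)
    (V : (Proj 𝒜).Opens) (hV : V = Proj.basicOpen 𝒜 f ⊓ Proj.basicOpen 𝒜 g)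
    (hle : V ≤ Proj.basicOpen 𝒜 f) :
    Function.Injective ((Proj 𝒜).presheaf.map (homOfLE hle).op).hom := by
  have hV' : V = Proj.basicOpen 𝒜 (f * g) := by rw [hV, Proj.basicOpen_mul]
  subst hV'
  have h := Proj.awayMap_awayToSection 𝒜 (f := f) hg (x := f * g) rfl
  have hiso1 : IsIso (Proj.awayToSection 𝒜 f) :=
    (Proj.basicOpenIsoAway 𝒜 f hf hd).isIso_hom
  have hiso2 : IsIso (Proj.awayToSection 𝒜 (f * g)) :=
    (Proj.basicOpenIsoAway 𝒜 (f * g) (SetLike.mul_mem_graded hf hg) (by omega)).isIso_hom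
  have hinj2 : Function.Injective (Proj.awayToSection 𝒜 (f * g)).hom :=
    ((ConcreteCategory.isIso_iff_bijective _).1 hiso2).1
  have hsurj1 : Function.Surjective (Proj.awayToSection 𝒜 f).hom :=
    ((ConcreteCategory.isIso_iff_bijective _).1 hiso1).2
  intro s t hst
  obtain ⟨s', rfl⟩ := hsurj1 s
  obtain ⟨t', rfl⟩ := hsurj1 t
  congr 1
  apply awayMap_injective_of_mem_nonZeroDivisors 𝒜 hf hg hnz rfl
  apply hinj2
  have hs := congrArg (fun φ => φ.hom s') h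
  have ht := congrArg (fun φ => φ.hom t') h
  simp only [CommRingCat.hom_comp, RingHom.comp_apply, CommRingCat.hom_ofHom] at hs ht
  rw [hs, ht]
  exact hst


theorem ker_basicOpen_ι_eq_bot {e : ℕ} (he : 0 < e) (g : A) (hg : g ∈ 𝒜 e)
    (hnz : g ∈ nonZeroDivisors A) : (Proj.basicOpen 𝒜 g).ι.ker = ⊥ := by
  let ι := {f : A // ∃ d, 0 < d ∧ f ∈ 𝒜 d}
  have hcov : ⨆ i : ι, Proj.basicOpen 𝒜 (i : A) = ⊤ := by
    apply Groth.Agent.H41.ProjGen.iSup_basicOpen_eq_top_of_eventually (fun i : ι => (i : A)) 1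
    intro n hn a ha
    exact Ideal.subset_span ⟨⟨a, n, by omega, ha⟩, rfl⟩
  let U : ι → (Proj 𝒜).affineOpens := fun i =>
    ⟨Proj.basicOpen 𝒜 (i : A), Proj.isAffineOpen_basicOpen 𝒜 (i : A) i.2.choose_spec.2
      i.2.choose_spec.1⟩
  have hcomp : CompactSpace ((Proj.basicOpen 𝒜 g : (Proj 𝒜).Opens) : Scheme) :=
    isCompact_iff_compactSpace.1 (Proj.isAffineOpen_basicOpen 𝒜 g hg he).isCompact
  have hqc : QuasiCompact (Proj.basicOpen 𝒜 g).ι := inferInstance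
  refine Scheme.IdealSheafData.ext_of_iSup_eq_top U hcov ?_
  intro i
  obtain ⟨f, d, hd, hf⟩ := i
  rw [Scheme.Hom.ker_apply, Scheme.IdealSheafData.ideal_bot, Pi.bot_apply,
    ← RingHom.injective_iff_ker_eq_bot]
  change Function.Injective ((Proj.basicOpen 𝒜 g).ι.app (Proj.basicOpen 𝒜 f)).hom
  rw [Scheme.Opens.ι_app]
  apply res_injective 𝒜 hf hd hg he hnz
  rw [Scheme.Hom.image_preimage_eq_opensRange_inf, Scheme.Opens.opensRange_ι, inf_comm]

end Groth.Agent.H41.ProjKer
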