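import Groth.Agent.H41.RelTwistZero

/-!
# The functions on the base act on a relative `Proj` through the structure map (helper41)

* `toSpecZero_val`: the pullback along `Proj 𝒜 ⟶ Spec 𝒜₀` of `a ∈ 𝒜₀` is the function `x ↦ a / 1`.
* `emb_comp_val`: for a relative `Proj`, the pullback along `Proj 𝒮(U) ⟶ P ⟶ Y` of a function `r` on the affine open `U`
  is the function `x ↦ str(r) / 1`.
-/

set_option autoImplicit false
universe u

open CategoryTheory CategoryTheory.Limits AlgebraicGeometry TopologicalSpace Opposite HomogeneousLocalization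
open scoped HomogeneousIdeal

namespace Groth.Agent.H41.ProjScalar

section ring

variable {A σ : Type u} [CommRing A] [SetLike σ A] [AddSubgroupClass σ A]
  (𝒜 : ℕ → σ) [GradedRing 𝒜]

theorem ι_toSpecZero :
    (⊤ : (Proj 𝒜).Opens).ι ≫ Proj.toSpecZero 𝒜 =
      ((Proj 𝒜).isoOfEq (Proj.basicOpen_one 𝒜)).inv ≫ Proj.basicOpenToSpec 𝒜 1 ≫
        Spec.map (CommRingCat.ofHom (fromZeroRingHom 𝒜 (Submonoid.powers (1 : A)))) := by
  rw [Proj.toSpecZero, Scheme.ι_toIso_inv_assoc]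

theorem appTop_eq :
    (Proj.toSpecZero 𝒜).appTop ≫ (⊤ : (Proj 𝒜).Opens).ι.appTop =
      (Scheme.ΓSpecIso (CommRingCat.of (𝒜 0))).hom ≫
      CommRingCat.ofHom (fromZeroRingHom 𝒜 (Submonoid.powers (1 : A))) ≫ Proj.awayToSection 𝒜 1 ≫
      (Proj.basicOpen 𝒜 1).topIso.inv ≫ ((Proj 𝒜).isoOfEq (Proj.basicOpen_one 𝒜)).inv.appTop := by
  rw [← Scheme.Hom.comp_appTop, ι_toSpecZero, Scheme.Hom.comp_appTop, Scheme.Hom.comp_appTop]
  have h1 : (Spec.map (CommRingCat.ofHom (fromZeroRingHom 𝒜 (Submonoid.powers (1 : A))))).appTop =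
      (Scheme.ΓSpecIso (CommRingCat.of (𝒜 0))).hom ≫
        CommRingCat.ofHom (fromZeroRingHom 𝒜 (Submonoid.powers (1 : A))) ≫
        (Scheme.ΓSpecIso _).inv := by
    rw [← Category.assoc, ← Scheme.ΓSpecIso_naturality, Category.assoc, Iso.hom_inv_id,
      Category.comp_id]
  have h2 : (Proj.basicOpenToSpec 𝒜 (1 : A)).appTop = _ := Proj.basicOpenToSpec_app_top 𝒜 1
  rw [h1, h2]
  simp only [Category.assoc, Iso.inv_hom_id_assoc]

/-- The pullback of `a ∈ 𝒜₀` along `Proj 𝒜 ⟶ Spec 𝒜₀` has value `a / 1` at every point. -/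
theorem toSpecZero_val (a : 𝒜 0) (x : ProjectiveSpectrum 𝒜) (r : Γ(Proj 𝒜, ⊤))
    (hr : r = (Proj.toSpecZero 𝒜).appTop ((Scheme.ΓSpecIso (CommRingCat.of (𝒜 0))).inv a)) :
    (r.1 ⟨x, trivial⟩).val = Localization.mk (a : A) 1 := by
  have h := congrArg (fun k => k.hom ((Scheme.ΓSpecIso (CommRingCat.of (𝒜 0))).inv a)) (appTop_eq 𝒜)
  simp only [CommRingCat.hom_comp, RingHom.comp_apply] at h
  have h' : (Scheme.ΓSpecIso (CommRingCat.of (𝒜 0))).hom.hom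
      ((Scheme.ΓSpecIso (CommRingCat.of (𝒜 0))).inv.hom a) = a := by
    change ((Scheme.ΓSpecIso (CommRingCat.of (𝒜 0))).inv ≫
      (Scheme.ΓSpecIso (CommRingCat.of (𝒜 0))).hom).hom a = a
    rw [Iso.inv_hom_id]; rfl
  rw [h', ← hr] at h
  rw [Scheme.Opens.ι_appTop, Scheme.isoOfEq_inv, Scheme.homOfLE_appTop, Scheme.Opens.topIso_inv] at h
  have hx : x ∈ (⊤ : (Proj 𝒜).Opens).ι ''ᵁ ⊤ := ⟨⟨x, trivial⟩, trivial, rfl⟩
  have h2 := congrArg (fun s : Γ(Proj 𝒜, (⊤ : (Proj 𝒜).Opens).ι ''ᵁ ⊤) => (s.1 ⟨x, hx⟩).val) h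
  refine Eq.trans ?_ (h2.trans ?_)
  · rfl
  · change (HomogeneousLocalization.mapId 𝒜 _
      (fromZeroRingHom 𝒜 (Submonoid.powers (1 : A)) a)).val = _
    rfl

end ring

theorem specMap_fromSpec_app {Y : Scheme.{u}} {U : Y.Opens} (hU : IsAffineOpen U)
    {S : CommRingCat.{u}} (φ : Γ(Y, U) ⟶ S) (r : Γ(Y, U)) :
    (Spec.map φ ≫ hU.fromSpec).app U r =
      (Spec S).presheaf.map (homOfLE le_top).op ((Scheme.ΓSpecIso S).inv (φ r)) := by
  have h1 : (Spec.map φ ≫ hU.fromSpec).app U =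
      hU.fromSpec.app U ≫ (Spec.map φ).app (hU.fromSpec ⁻¹ᵁ U) := Scheme.Hom.comp_app _ _ _
  have h2 := (Spec.map φ).naturality (eqToHom hU.fromSpec_preimage_self).op
  have h3 := Scheme.ΓSpecIso_inv_naturality φ
  have h4 : (Spec.map φ ≫ hU.fromSpec).app U =
      φ ≫ (Scheme.ΓSpecIso S).inv ≫ (Spec S).presheaf.map (homOfLE le_top).op := by
    rw [h1, hU.fromSpec_app_self, Category.assoc, h2, ← Category.assoc, ← Category.assoc]
    change ((Scheme.ΓSpecIso Γ(Y, U)).inv ≫ Scheme.Hom.appTop (Spec.map φ)) ≫ _ = _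
    rw [← h3, Category.assoc]
    rfl
  rw [h4]
  rfl

variable {Y P : Scheme.{u}} (𝒮 : RelProj.QCGrAlg Y) (p : P ⟶ Y)
  (chart : ∀ (U : Y.Opens) (hU : IsAffineOpen U),
    (((p ⁻¹ᵁ U : P.Opens) : Scheme.{u}) ≅ Proj (𝒮.deg U hU)))
  (hP : RelProj.IsRelProj 𝒮 p chart)

include hP in
theorem emb_comp_eq (U : Y.Opens) (hU : IsAffineOpen U) :
    RelProj.emb p chart U hU ≫ p =
      Proj.toSpecZero (𝒮.deg U hU) ≫ Spec.map (𝒮.strZero U hU) ≫ hU.fromSpec := by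
  unfold RelProj.emb
  rw [Category.assoc, ← hP.chart_over U hU, Iso.inv_hom_id_assoc]

include hP in
/-- The pullback to `Proj 𝒮(U)` of a function `r` on `U` has value `str(r) / 1` at every point. -/
theorem emb_comp_val (U : Y.Opens) (hU : IsAffineOpen U) (r : Γ(Y, U))
    (z : ProjectiveSpectrum (𝒮.deg U hU)) (hz : z ∈ (RelProj.emb p chart U hU ≫ p) ⁻¹ᵁ U) :
    ((((RelProj.emb p chart U hU ≫ p).app U r :
      Γ(Proj (𝒮.deg U hU), (RelProj.emb p chart U hU ≫ p) ⁻¹ᵁ U)).1 ⟨z, hz⟩).val :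
        GrTwist.Loc (𝒮.deg U hU) z) =
      Localization.mk ((𝒮.str.app (op U)).hom r) 1 := by
  have e := emb_comp_eq 𝒮 p chart hP U hU
  have hz' : z ∈ (Proj.toSpecZero (𝒮.deg U hU) ≫ Spec.map (𝒮.strZero U hU) ≫ hU.fromSpec) ⁻¹ᵁ U := by
    rw [← e]; exact hz
  rw [RelTwistZero.app_val_congr (𝒮.deg U hU) e U r z hz hz']
  have h1 : (Proj.toSpecZero (𝒮.deg U hU) ≫ Spec.map (𝒮.strZero U hU) ≫ hU.fromSpec).app U r =
      (Proj.toSpecZero (𝒮.deg U hU)).app ((Spec.map (𝒮.strZero U hU) ≫ hU.fromSpec) ⁻¹ᵁ U)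
        ((Spec.map (𝒮.strZero U hU) ≫ hU.fromSpec).app U r) :=
    congrArg (fun k : Γ(Y, U) ⟶ Γ(Proj (𝒮.deg U hU),
      (Proj.toSpecZero (𝒮.deg U hU) ≫ Spec.map (𝒮.strZero U hU) ≫ hU.fromSpec) ⁻¹ᵁ U) => k.hom r)
      (Scheme.Hom.comp_app (Proj.toSpecZero (𝒮.deg U hU))
        (Spec.map (𝒮.strZero U hU) ≫ hU.fromSpec) U)
  have h2 := (Proj.toSpecZero (𝒮.deg U hU)).naturality
    (homOfLE (le_top : (Spec.map (𝒮.strZero U hU) ≫ hU.fromSpec) ⁻¹ᵁ U ≤ ⊤)).op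
  have h3 := congrArg (fun k => k.hom ((Scheme.ΓSpecIso _).inv ((𝒮.strZero U hU).hom r))) h2
  have h4 : (Proj.toSpecZero (𝒮.deg U hU) ≫ Spec.map (𝒮.strZero U hU) ≫ hU.fromSpec).app U r =
      (Proj (𝒮.deg U hU)).presheaf.map ((Opens.map (Proj.toSpecZero (𝒮.deg U hU)).base).map
        (homOfLE (le_top : (Spec.map (𝒮.strZero U hU) ≫ hU.fromSpec) ⁻¹ᵁ U ≤ ⊤))).op
        ((Proj.toSpecZero (𝒮.deg U hU)).appTop
          ((Scheme.ΓSpecIso _).inv ((𝒮.strZero U hU).hom r))) := by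
    rw [h1, specMap_fromSpec_app hU (𝒮.strZero U hU) r]
    exact h3
  have h5 := toSpecZero_val (𝒮.deg U hU) ((𝒮.strZero U hU).hom r) z _ rfl
  refine Eq.trans ?_ h5
  rw [h4]
  rfl

end Groth.Agent.H41.ProjScalar
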