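import Mathlib.AlgebraicGeometry.ProjectiveSpectrum.Basic

/-!
# The preimage of a basic open of `Spec 𝒜₀` under `Proj 𝒜 → Spec 𝒜₀` (helper41)
-/

set_option autoImplicit false
universe u

open AlgebraicGeometry HomogeneousLocalization CategoryTheory
open scoped HomogeneousIdeal

namespace Groth.Agent.H41.ProjZero

variable {A σ : Type u} [CommRing A] [SetLike σ A] [AddSubgroupClass σ A]
  (𝒜 : ℕ → σ) [GradedRing 𝒜]

theorem isLocalizationElem_eq {m : ℕ} {f : A} (f_deg : f ∈ 𝒜 m) (c : 𝒜 0)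
    (hcf : (c : A) * f ∈ 𝒜 m) :
    Away.isLocalizationElem f_deg hcf = (fromZeroRingHom 𝒜 (Submonoid.powers f) c) ^ m := by
  apply HomogeneousLocalization.val_injective
  rw [Away.val_mk, HomogeneousLocalization.val_pow]
  change _ = (Localization.mk (c : A) 1) ^ m
  rw [Localization.mk_pow, Localization.mk_eq_mk_iff, Localization.r_iff_exists]
  refine ⟨1, ?_⟩
  simp only [OneMemClass.coe_one, one_mul, one_pow, mul_one]
  rw [mul_pow]
  ring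

/-- For `c` of degree zero, the preimage of `D(c) ⊆ Spec 𝒜₀` in `Proj 𝒜` is `D₊(c)`. -/
theorem toSpecZero_preimage_basicOpen (c : 𝒜 0) :
    (Proj.toSpecZero 𝒜) ⁻¹ᵁ (PrimeSpectrum.basicOpen c) = Proj.basicOpen 𝒜 (c : A) := by
  ext y
  obtain ⟨⟨⟨m, hm⟩, ⟨f, hf⟩⟩, w, rfl⟩ := (Proj.affineOpenCover 𝒜).openCover.exists_eq y
  replace hf : f ∈ 𝒜 m := hf
  let w' : PrimeSpectrum (Away 𝒜 f) := w
  change (Proj.awayι 𝒜 f hf hm ≫ Proj.toSpecZero 𝒜) w ∈ PrimeSpectrum.basicOpen c ↔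
    (Proj.awayι 𝒜 f hf hm) w ∈ Proj.basicOpen 𝒜 (c : A)
  have hcf : (c : A) * f ∈ 𝒜 m := by
    have := SetLike.mul_mem_graded (A := 𝒜) c.2 hf
    rwa [zero_add] at this
  have hwf : (Proj.awayι 𝒜 f hf hm) w ∈ Proj.basicOpen 𝒜 f := by
    rw [← Proj.opensRange_awayι 𝒜 f hf hm]
    exact ⟨w, rfl⟩
  have h1 : (Proj.awayι 𝒜 f hf hm) w ∈ Proj.basicOpen 𝒜 (c : A) ↔
      (Proj.awayι 𝒜 f hf hm) w ∈ Proj.basicOpen 𝒜 ((c : A) * f) := by
    rw [Proj.basicOpen_mul]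
    exact ⟨fun h => ⟨h, hwf⟩, fun h => h.1⟩
  have h2 : (Proj.awayι 𝒜 f hf hm) w ∈ Proj.basicOpen 𝒜 ((c : A) * f) ↔
      w' ∈ PrimeSpectrum.basicOpen (Away.isLocalizationElem hf hcf) := by
    rw [← Proj.awayι_preimage_basicOpen 𝒜 hf hm hcf hm]
    rfl
  have h3 : PrimeSpectrum.basicOpen (Away.isLocalizationElem hf hcf) =
      PrimeSpectrum.basicOpen (fromZeroRingHom 𝒜 (Submonoid.powers f) c) := by
    rw [isLocalizationElem_eq 𝒜 hf c hcf, PrimeSpectrum.basicOpen_pow _ m hm]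
  have h4 : (Proj.awayι 𝒜 f hf hm ≫ Proj.toSpecZero 𝒜) w ∈ PrimeSpectrum.basicOpen c ↔
      w' ∈ PrimeSpectrum.basicOpen (fromZeroRingHom 𝒜 (Submonoid.powers f) c) := by
    rw [Proj.awayι_toSpecZero]
    rfl
  rw [h3] at h2
  exact h4.trans (h1.trans h2).symm

end Groth.Agent.H41.ProjZero
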