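import Groth.Agent.H41.AffAlg
import Groth.Agent.H18.AffAlgBij

/-!
# Pushouts of quasi-coherent algebras, detected on affine opens (helper41)
-/

set_option autoImplicit false
universe u

namespace Groth.Agent.H41.QCAlgPushout

open CategoryTheory CategoryTheory.Limits AlgebraicGeometry TopologicalSpace Opposite RelSpec

section hom

variable {S : Scheme.{u}} (A B : QCAlg S)
  (η : (Scheme.AffineZariskiSite.toOpensFunctor S).op ⋙ A.presheaf ⟶
    (Scheme.AffineZariskiSite.toOpensFunctor S).op ⋙ B.presheaf)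

/-- The map of presheaves of rings `A ⟶ B` extending a natural transformation given on the affine opens. -/
noncomputable def homOfAffMap' : A.presheaf ⟶ B.presheaf :=
  Functor.IsCoverDense.restrictHomEquivHom (G := Scheme.AffineZariskiSite.toOpensFunctor S)
    (K := Opens.grothendieckTopology S) (ℱ := A.presheaf)
    (ℱ' := (⟨B.presheaf, B.isSheaf⟩ : TopCat.Sheaf CommRingCat.{u} S.carrier)) η

theorem homOfAffMap'_restrict :
    (Scheme.AffineZariskiSite.toOpensFunctor S).op.whiskerLeft (homOfAffMap' A B η) = η :=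
  (Functor.IsCoverDense.restrictHomEquivHom (G := Scheme.AffineZariskiSite.toOpensFunctor S)
    (K := Opens.grothendieckTopology S) (ℱ := A.presheaf)
    (ℱ' := (⟨B.presheaf, B.isSheaf⟩ : TopCat.Sheaf CommRingCat.{u} S.carrier))).symm_apply_apply _

theorem homOfAffMap'_app (U : S.Opens) (hU : IsAffineOpen U) :
    (homOfAffMap' A B η).app (op U) = η.app (op ⟨U, hU⟩) :=
  NatTrans.congr_app (homOfAffMap'_restrict A B η) (op ⟨U, hU⟩)

variable (hη : ∀ (U : S.Opens) (hU : IsAffineOpen U),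
  A.str.app (op U) ≫ η.app (op ⟨U, hU⟩) = B.str.app (op U))

include hη in
theorem str_homOfAffMap' : A.str ≫ homOfAffMap' A B η = B.str := by
  apply (Functor.IsCoverDense.restrictHomEquivHom (G := Scheme.AffineZariskiSite.toOpensFunctor S)
    (K := Opens.grothendieckTopology S) (ℱ := S.presheaf)
    (ℱ' := (⟨B.presheaf, B.isSheaf⟩ : TopCat.Sheaf CommRingCat.{u} S.carrier))).symm.injective
  ext U : 2
  change A.str.app (op U.unop.1) ≫ (homOfAffMap' A B η).app (op U.unop.1) = B.str.app (op U.unop.1)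
  rw [homOfAffMap'_app A B η U.unop.1 U.unop.2]
  exact hη U.unop.1 U.unop.2

/-- The homomorphism of quasi-coherent algebras attached to a natural family of ring maps over the affine opens. -/
noncomputable def homOfAff' : A ⟶ B := ⟨homOfAffMap' A B η, str_homOfAffMap' A B η hη⟩

theorem homOfAff'_app (U : S.Opens) (hU : IsAffineOpen U) :
    (homOfAff' A B η hη).hom.app (op U) = η.app (op ⟨U, hU⟩) :=
  homOfAffMap'_app A B η U hU

end hom

section pushout

variable {S : Scheme.{u}} {A₀ A₁ A₂ A₃ : QCAlg S} (a : A₀ ⟶ A₁) (a' : A₀ ⟶ A₂) (b : A₁ ⟶ A₃) (b' : A₂ ⟶ A₃)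

/-- A square of quasi-coherent algebras which is a pushout of rings on every affine open is a pushout. -/
theorem isPushout_of_affine
    (h : ∀ (U : S.Opens) (_ : IsAffineOpen U),
      IsPushout (a.hom.app (op U)) (a'.hom.app (op U)) (b.hom.app (op U)) (b'.hom.app (op U))) :
    IsPushout a a' b b' := by
  have comm : a ≫ b = a' ≫ b' :=
    Groth.Agent.H41.AffAlg.hom_ext_aff fun U hU => (h U hU).w
  have cond : ∀ (s : PushoutCocone a a') (U : S.Opens),
      a.hom.app (op U) ≫ s.inl.hom.app (op U) = a'.hom.app (op U) ≫ s.inr.hom.app (op U) := fun s U =>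
    congrArg (fun φ : A₀ ⟶ s.pt => φ.hom.app (op U)) s.condition
  let d : ∀ (s : PushoutCocone a a') (W : S.AffineZariskiSiteᵒᵖ),
      A₃.presheaf.obj (op W.unop.1) ⟶ s.pt.presheaf.obj (op W.unop.1) := fun s W =>
    (h W.unop.1 W.unop.2).desc (s.inl.hom.app (op W.unop.1)) (s.inr.hom.app (op W.unop.1))
      (cond s W.unop.1)
  have e1 : ∀ (s : PushoutCocone a a') (W : S.AffineZariskiSiteᵒᵖ),
      b.hom.app (op W.unop.1) ≫ d s W = s.inl.hom.app (op W.unop.1) := fun s W =>
    IsPushout.inl_desc _ _ _ _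
  have e2 : ∀ (s : PushoutCocone a a') (W : S.AffineZariskiSiteᵒᵖ),
      b'.hom.app (op W.unop.1) ≫ d s W = s.inr.hom.app (op W.unop.1) := fun s W =>
    IsPushout.inr_desc _ _ _ _
  have nat : ∀ (s : PushoutCocone a a') (U V : S.AffineZariskiSiteᵒᵖ)
      (i' : (op U.unop.1 : S.Opensᵒᵖ) ⟶ op V.unop.1),
      A₃.presheaf.map i' ≫ d s V = d s U ≫ s.pt.presheaf.map i' := by
    intro s U V i'
    apply (h U.unop.1 U.unop.2).hom_ext
    · calc b.hom.app (op U.unop.1) ≫ A₃.presheaf.map i' ≫ d s V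
          = (b.hom.app (op U.unop.1) ≫ A₃.presheaf.map i') ≫ d s V := (Category.assoc _ _ _).symm
        _ = (A₁.presheaf.map i' ≫ b.hom.app (op V.unop.1)) ≫ d s V := by rw [b.hom.naturality]
        _ = A₁.presheaf.map i' ≫ (b.hom.app (op V.unop.1) ≫ d s V) := Category.assoc _ _ _
        _ = A₁.presheaf.map i' ≫ s.inl.hom.app (op V.unop.1) := by rw [e1]
        _ = s.inl.hom.app (op U.unop.1) ≫ s.pt.presheaf.map i' := s.inl.hom.naturality i'
        _ = (b.hom.app (op U.unop.1) ≫ d s U) ≫ s.pt.presheaf.map i' := by rw [e1]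
        _ = b.hom.app (op U.unop.1) ≫ d s U ≫ s.pt.presheaf.map i' := Category.assoc _ _ _
    · calc b'.hom.app (op U.unop.1) ≫ A₃.presheaf.map i' ≫ d s V
          = (b'.hom.app (op U.unop.1) ≫ A₃.presheaf.map i') ≫ d s V := (Category.assoc _ _ _).symm
        _ = (A₂.presheaf.map i' ≫ b'.hom.app (op V.unop.1)) ≫ d s V := by rw [b'.hom.naturality]
        _ = A₂.presheaf.map i' ≫ (b'.hom.app (op V.unop.1) ≫ d s V) := Category.assoc _ _ _
        _ = A₂.presheaf.map i' ≫ s.inr.hom.app (op V.unop.1) := by rw [e2]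
        _ = s.inr.hom.app (op U.unop.1) ≫ s.pt.presheaf.map i' := s.inr.hom.naturality i'
        _ = (b'.hom.app (op U.unop.1) ≫ d s U) ≫ s.pt.presheaf.map i' := by rw [e2]
        _ = b'.hom.app (op U.unop.1) ≫ d s U ≫ s.pt.presheaf.map i' := Category.assoc _ _ _
  let η : ∀ s : PushoutCocone a a',
      (Scheme.AffineZariskiSite.toOpensFunctor S).op ⋙ A₃.presheaf ⟶
        (Scheme.AffineZariskiSite.toOpensFunctor S).op ⋙ s.pt.presheaf := fun s =>
    { app := fun U => d s U
      naturality := fun U V i => nat s U V ((Scheme.AffineZariskiSite.toOpensFunctor S).op.map i) }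
  have hη : ∀ (s : PushoutCocone a a') (U : S.Opens) (hU : IsAffineOpen U),
      A₃.str.app (op U) ≫ (η s).app (op ⟨U, hU⟩) = s.pt.str.app (op U) := by
    intro s U hU
    have h1 : A₁.str.app (op U) ≫ b.hom.app (op U) = A₃.str.app (op U) :=
      NatTrans.congr_app b.comm (op U)
    have h2 : A₁.str.app (op U) ≫ s.inl.hom.app (op U) = s.pt.str.app (op U) :=
      NatTrans.congr_app s.inl.comm (op U)
    have h3 : b.hom.app (op U) ≫ d s (op ⟨U, hU⟩) = s.inl.hom.app (op U) := e1 s (op ⟨U, hU⟩)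
    calc A₃.str.app (op U) ≫ d s (op ⟨U, hU⟩)
        = (A₁.str.app (op U) ≫ b.hom.app (op U)) ≫ d s (op ⟨U, hU⟩) := by rw [h1]
      _ = A₁.str.app (op U) ≫ (b.hom.app (op U) ≫ d s (op ⟨U, hU⟩)) := Category.assoc _ _ _
      _ = A₁.str.app (op U) ≫ s.inl.hom.app (op U) := by rw [h3]
      _ = s.pt.str.app (op U) := h2
  refine ⟨⟨comm⟩, ⟨PushoutCocone.IsColimit.mk comm
    (fun s => homOfAff' A₃ s.pt (η s) (hη s)) (fun s => ?_) (fun s => ?_) (fun s m hm hm' => ?_)⟩⟩
  · refine Groth.Agent.H41.AffAlg.hom_ext_aff fun U hU => ?_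
    have h3 : b.hom.app (op U) ≫ d s (op ⟨U, hU⟩) = s.inl.hom.app (op U) := e1 s (op ⟨U, hU⟩)
    change b.hom.app (op U) ≫ (homOfAff' A₃ s.pt (η s) (hη s)).hom.app (op U) = _
    rw [homOfAff'_app _ _ _ _ U hU]
    exact h3
  · refine Groth.Agent.H41.AffAlg.hom_ext_aff fun U hU => ?_
    have h3 : b'.hom.app (op U) ≫ d s (op ⟨U, hU⟩) = s.inr.hom.app (op U) := e2 s (op ⟨U, hU⟩)
    change b'.hom.app (op U) ≫ (homOfAff' A₃ s.pt (η s) (hη s)).hom.app (op U) = _
    rw [homOfAff'_app _ _ _ _ U hU]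
    exact h3
  · refine Groth.Agent.H41.AffAlg.hom_ext_aff fun U hU => ?_
    rw [homOfAff'_app _ _ _ _ U hU]
    have h3 : b.hom.app (op U) ≫ d s (op ⟨U, hU⟩) = s.inl.hom.app (op U) := e1 s (op ⟨U, hU⟩)
    have h4 : b'.hom.app (op U) ≫ d s (op ⟨U, hU⟩) = s.inr.hom.app (op U) := e2 s (op ⟨U, hU⟩)
    apply (h U hU).hom_ext
    · refine Eq.trans ?_ h3.symm
      exact congrArg (fun φ : A₁ ⟶ s.pt => φ.hom.app (op U)) hm
    · refine Eq.trans ?_ h4.symm
      exact congrArg (fun φ : A₂ ⟶ s.pt => φ.hom.app (op U)) hm'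

end pushout

end Groth.Agent.H41.QCAlgPushout
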