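import Groth.Prelude.Def_RelProj4
import Mathlib.AlgebraicGeometry.Sites.BigZariski
import Groth.Agent.H41.AffAlg

/-!
# `g`-morphisms of quasi-coherent algebras from data on affine opens (helper41)

For `g : S' ⟶ S`, `A` on `S`, `B` on `S'`: a natural family of ring maps `A(U) ⟶ B(g⁻¹U)` over the affine opens `U`
(natural for the inclusions of the affine Zariski site), compatible with the structure maps, extends uniquely to a
`RelSpec.QHom g A B` (`ofAff`, `ofAff_app`).
-/

set_option autoImplicit false
universe u

namespace Groth.Agent.H41.QHomOfAff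

open CategoryTheory CategoryTheory.Limits AlgebraicGeometry TopologicalSpace Opposite RelSpec

variable {S S' : Scheme.{u}} (g : S' ⟶ S) (A : QCAlg S) (B : QCAlg S')

/-- The direct image of `B` along `g`, as a sheaf of rings on `S`. -/
noncomputable def pushSheaf : TopCat.Sheaf CommRingCat.{u} S.carrier :=
  ⟨g.base _* B.presheaf, TopCat.Sheaf.pushforward_sheaf_of_sheaf g.base B.isSheaf⟩

variable (η : (Scheme.AffineZariskiSite.toOpensFunctor S).op ⋙ A.presheaf ⟶
    (Scheme.AffineZariskiSite.toOpensFunctor S).op ⋙ (g.base _* B.presheaf))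

/-- The map of presheaves of rings `A ⟶ g_* B` extending a natural transformation given on the affine opens. -/
noncomputable def ofAffMap : A.presheaf ⟶ g.base _* B.presheaf :=
  Functor.IsCoverDense.restrictHomEquivHom (G := Scheme.AffineZariskiSite.toOpensFunctor S)
    (K := Opens.grothendieckTopology S) (ℱ := A.presheaf) (ℱ' := pushSheaf g B) η

theorem ofAffMap_restrict :
    (Scheme.AffineZariskiSite.toOpensFunctor S).op.whiskerLeft (ofAffMap g A B η) = η :=
  (Functor.IsCoverDense.restrictHomEquivHom (G := Scheme.AffineZariskiSite.toOpensFunctor S)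
    (K := Opens.grothendieckTopology S) (ℱ := A.presheaf) (ℱ' := pushSheaf g B)).symm_apply_apply _

theorem ofAffMap_app (U : S.Opens) (hU : IsAffineOpen U) :
    (ofAffMap g A B η).app (op U) = η.app (op ⟨U, hU⟩) :=
  NatTrans.congr_app (ofAffMap_restrict g A B η) (op ⟨U, hU⟩)

variable (hη : ∀ (U : S.Opens) (hU : IsAffineOpen U),
  A.str.app (op U) ≫ η.app (op ⟨U, hU⟩) = g.app U ≫ B.str.app (op (g ⁻¹ᵁ U)))

include hη in
theorem str_ofAffMap (U : S.Opens) :
    A.str.app (op U) ≫ (ofAffMap g A B η).app (op U) = g.app U ≫ B.str.app (op (g ⁻¹ᵁ U)) := by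
  let β : S.presheaf ⟶ g.base _* B.presheaf :=
    { app := fun U => g.app U.unop ≫ B.str.app (op (g ⁻¹ᵁ U.unop))
      naturality := fun U V i => by
        change S.presheaf.map i ≫ g.app V.unop ≫ B.str.app (op (g ⁻¹ᵁ V.unop)) =
          (g.app U.unop ≫ B.str.app (op (g ⁻¹ᵁ U.unop))) ≫ B.presheaf.map ((Opens.map g.base).op.map i)
        rw [Category.assoc, ← B.str.naturality, ← Category.assoc, ← Category.assoc]
        congr 1
        exact g.naturality i }
  have key : A.str ≫ ofAffMap g A B η = β := by
    apply (Functor.IsCoverDense.restrictHomEquivHom (G := Scheme.AffineZariskiSite.toOpensFunctor S)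
      (K := Opens.grothendieckTopology S) (ℱ := S.presheaf) (ℱ' := pushSheaf g B)).symm.injective
    ext U : 2
    change A.str.app (op U.unop.1) ≫ (ofAffMap g A B η).app (op U.unop.1) = β.app (op U.unop.1)
    rw [ofAffMap_app g A B η U.unop.1 U.unop.2]
    exact hη U.unop.1 U.unop.2
  exact NatTrans.congr_app key (op U)

/-- The `g`-morphism `A → B` attached to a natural family of ring maps over the affine opens. -/
noncomputable def ofAff : QHom g A B where
  app U := (ofAffMap g A B η).app (op U)
  naturality {U V} i := ((ofAffMap g A B η).naturality (homOfLE i).op).symm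
  str_app U := str_ofAffMap g A B η hη U

theorem ofAff_app (U : S.Opens) (hU : IsAffineOpen U) :
    (ofAff g A B η hη).app U = η.app (op ⟨U, hU⟩) :=
  ofAffMap_app g A B η U hU

end Groth.Agent.H41.QHomOfAff
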