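import Groth.Agent.H41.RelPMap5

/-!
# Basic opens of a relative `Proj` over a prescribed affine open
-/

set_option autoImplicit false
universe u
open CategoryTheory CategoryTheory.Limits AlgebraicGeometry Opposite TopologicalSpace
  HomogeneousLocalization
open scoped HomogeneousIdeal

namespace Groth.Agent.H41.RelPMap6

variable {Y P : Scheme.{u}} {𝒮 : RelProj.QCGrAlg Y}
  (p : P ⟶ Y)
  (chart : ∀ (U : Y.Opens) (hU : IsAffineOpen U),
    (((p ⁻¹ᵁ U : P.Opens) : Scheme.{u}) ≅ Proj (𝒮.deg U hU)))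

/-- Basic opens `emb(U)(D₊(f))` form a basis of the part of a relative `Proj` over `U`. -/
theorem exists_emb_basicOpen_le (U : Y.Opens) (hU : IsAffineOpen U) (V : P.Opens) (z : P)
    (hz : z ∈ V) (hzU : z ∈ p ⁻¹ᵁ U) :
    ∃ (d : ℕ) (f : 𝒮.presheaf.obj (op U)), 0 < d ∧
      f ∈ 𝒮.deg U hU d ∧ z ∈ (RelProj.emb p chart U hU) ''ᵁ Proj.basicOpen (𝒮.deg U hU) f ∧
      (RelProj.emb p chart U hU) ''ᵁ Proj.basicOpen (𝒮.deg U hU) f ≤ V := by
  have hmem : (chart U hU).hom ⟨z, hzU⟩ ∈ (RelProj.emb p chart U hU) ⁻¹ᵁ V := by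
    change (RelProj.emb p chart U hU) ((chart U hU).hom ⟨z, hzU⟩) ∈ V
    rw [RelPMap2.emb_chart_apply p chart U hU z hzU]
    exact hz
  obtain ⟨d, f, hd, hf, hyf, hfV⟩ := RelPMap4.exists_basicOpen_le _ _ hmem
  refine ⟨d, f, hd, hf, ⟨_, hyf, RelPMap2.emb_chart_apply p chart U hU z hzU⟩, ?_⟩
  rintro _ ⟨y, hy, rfl⟩
  exact hfV hy

end Groth.Agent.H41.RelPMap6
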