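import Groth.Agent.H41.SymInvClosed
import Groth.Agent.H41.RelPMap6

/-!
# `r_{L,ψ}` everywhere defined and an immersion, over an affine base (helper41)
-/

set_option autoImplicit false
universe u

namespace Groth.Agent.H41.SymInvImm

open CategoryTheory CategoryTheory.Limits AlgebraicGeometry TopologicalSpace Opposite RelSpec
  HomogeneousLocalization
open Groth.Agent.H41.SymInvLocal Groth.Agent.H41.SymInvDom Groth.Agent.H41.SymInvAway
  Groth.Agent.H41.SymInvClosed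

/-- A cartesian square over `P` whose two legs into `P` factor through an open `W` is cartesian over `W`. -/
theorem isPullback_of_factor {T' T D P : Scheme.{u}} {φ : T' ⟶ T} {κ : T' ⟶ D} {lam : T ⟶ P}
    {r : D ⟶ P} (hpb : IsPullback φ κ lam r) (W : P.Opens) (r' : D ⟶ (W : Scheme.{u}))
    (hr' : r' ≫ W.ι = r) (lam' : T ⟶ (W : Scheme.{u})) (hlam' : lam' ≫ W.ι = lam) :
    IsPullback φ κ lam' r' := by
  have hcomm : φ ≫ lam' = κ ≫ r' := by
    rw [← cancel_mono W.ι, Category.assoc, Category.assoc, hlam', hr']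
    exact hpb.w
  have hright : IsPullback (𝟙 T) lam' lam W.ι :=
    IsPullback.of_horiz_isIso_mono ⟨by rw [Category.id_comp, hlam']⟩
  refine IsPullback.of_right ?_ hcomm hright
  rw [Category.comp_id, hr']
  exact hpb

variable {Y X P PL : Scheme.{u}} (q : X ⟶ Y)
  (L : X.Modules) (hL : PicF.IsInvertible L) [L.IsQuasicoherent]
  (𝒮 : RelProj.QCGrAlg Y) (𝒮L : RelProj.QCGrAlg X) (j : L ⟶ 𝒮L.toModule) (hj : RelProj.IsGrSymAlg L 𝒮L j)
  (u : RelProj.QGrHom q 𝒮 𝒮L)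
  (p : P ⟶ Y) (chart : ∀ (U : Y.Opens) (hU : IsAffineOpen U),
    (((p ⁻¹ᵁ U : P.Opens) : Scheme.{u}) ≅ Proj (𝒮.deg U hU)))
  (pL : PL ⟶ X) (chartL : ∀ (U : X.Opens) (hU : IsAffineOpen U),
    (((pL ⁻¹ᵁ U : PL.Opens) : Scheme.{u}) ≅ Proj (𝒮L.deg U hU)))
  (hPL : RelProj.IsRelProj 𝒮L pL chartL)
  (r : ((RelProj.domQ u pL chartL : PL.Opens) : Scheme.{u}) ⟶ P)
  (hr : RelProj.IsProjQMapOn u p chart pL chartL (RelProj.domQ u pL chartL) r)
  (hY : IsAffineOpen (⊤ : Y.Opens))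

include hL hj hPL hr in
theorem ι_image_preimage_opensRange {n : ℕ} (hn : 0 < n) (s : 𝒮.presheaf.obj (op ⊤))
    (hs : s ∈ 𝒮.deg ⊤ hY n) :
    (RelProj.domQ u pL chartL).ι ''ᵁ (r ⁻¹ᵁ (lam 𝒮 p chart hY hn s hs).opensRange) =
      pL ⁻¹ᵁ (XT q 𝒮 𝒮L u n s) := by
  rw [opensRange_lam]
  exact preimage_basicOpen_eq q L hL 𝒮 𝒮L j hj u p chart pL chartL hPL r hr hY n hn s hs

include hL hj hPL hr in
/-- If `r⁻¹(D₊(s))` is affine, `X_t` is affine. -/
theorem isAffineOpen_XT' {n : ℕ} (hn : 0 < n) (s : 𝒮.presheaf.obj (op ⊤))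
    (hs : s ∈ 𝒮.deg ⊤ hY n)
    (h2 : IsAffineOpen (r ⁻¹ᵁ (lam 𝒮 p chart hY hn s hs).opensRange)) :
    IsAffineOpen (XT q 𝒮 𝒮L u n s) := by
  haveI : IsIso pL := Groth.Agent.H41.SymInvIso.isIso_of_isInvertible L 𝒮L j hj hL pL chartL hPL
  have h3 := h2.image_of_isOpenImmersion (RelProj.domQ u pL chartL).ι
  rw [ι_image_preimage_opensRange q L hL 𝒮 𝒮L j hj u p chart pL chartL hPL r hr hY hn s hs] at h3
  have h4 := h3.image_of_isOpenImmersion pL
  have e : pL ''ᵁ (pL ⁻¹ᵁ (XT q 𝒮 𝒮L u n s)) = XT q 𝒮 𝒮L u n s := by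
    rw [Scheme.Hom.image_preimage_eq_opensRange_inf, Scheme.Hom.opensRange_of_isIso, top_inf_eq]
  rw [← e]
  exact h4

include hL hj hPL hr in
/-- A point of `G(ψ)` over `X_t` is mapped by `r` into `D₊(s)`. -/
theorem apply_mem_opensRange_lam {n : ℕ} (hn : 0 < n) (s : 𝒮.presheaf.obj (op ⊤))
    (hs : s ∈ 𝒮.deg ⊤ hY n) (z : ((RelProj.domQ u pL chartL : PL.Opens) : Scheme.{u}))
    (hz : pL ((RelProj.domQ u pL chartL).ι z) ∈ XT q 𝒮 𝒮L u n s) :
    r z ∈ (lam 𝒮 p chart hY hn s hs).opensRange := by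
  have h1 : (RelProj.domQ u pL chartL).ι z ∈ pL ⁻¹ᵁ (XT q 𝒮 𝒮L u n s) := hz
  rw [← ι_image_preimage_opensRange q L hL 𝒮 𝒮L j hj u p chart pL chartL hPL r hr hY hn s hs] at h1
  obtain ⟨z', hz', e⟩ := h1
  have : z' = z := (RelProj.domQ u pL chartL).ι.isOpenEmbedding.injective e
  rw [← this]
  exact hz'

include hL hj hPL hr in
/-- A point of `G(ψ)` mapped by `r` into `D₊(s)` lies over `X_t`. -/
theorem mem_XT_of_apply_mem {n : ℕ} (hn : 0 < n) (s : 𝒮.presheaf.obj (op ⊤))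
    (hs : s ∈ 𝒮.deg ⊤ hY n) (z : ((RelProj.domQ u pL chartL : PL.Opens) : Scheme.{u}))
    (hz : r z ∈ (lam 𝒮 p chart hY hn s hs).opensRange) :
    pL ((RelProj.domQ u pL chartL).ι z) ∈ XT q 𝒮 𝒮L u n s := by
  have h1 : (RelProj.domQ u pL chartL).ι z ∈
      (RelProj.domQ u pL chartL).ι ''ᵁ (r ⁻¹ᵁ (lam 𝒮 p chart hY hn s hs).opensRange) := ⟨z, hz, rfl⟩
  rw [ι_image_preimage_opensRange q L hL 𝒮 𝒮L j hj u p chart pL chartL hPL r hr hY hn s hs] at h1
  exact h1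

/-- The index type of homogeneous elements of positive degree whose `D₊` lies in a given open of `P`. -/
def IdxLE (Z : P.Opens) : Type u :=
  {a : ℕ × 𝒮.presheaf.obj (op ⊤) // 0 < a.1 ∧ a.2 ∈ 𝒮.deg ⊤ hY a.1 ∧
    (RelProj.emb p chart ⊤ hY) ''ᵁ Proj.basicOpen (𝒮.deg ⊤ hY) a.2 ≤ Z}

include hL hj hPL hr in
/-- If `r` is everywhere defined and `Z` is an open containing the range of `r`, the `X_t` with `D₊(s) ⊆ Z` cover `X`. -/
theorem iSup_XT_idxLE_eq_top (htop : RelProj.domQ u pL chartL = ⊤) (Z : P.Opens)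
    (hZ : Set.range r ⊆ Z) :
    (⨆ a : IdxLE 𝒮 p chart hY Z, XT q 𝒮 𝒮L u a.1.1 a.1.2) = ⊤ := by
  haveI : IsIso pL := Groth.Agent.H41.SymInvIso.isIso_of_isInvertible L 𝒮L j hj hL pL chartL hPL
  rw [eq_top_iff]
  intro x _
  obtain ⟨z, rfl⟩ := pL.surjective x
  have hzd : z ∈ RelProj.domQ u pL chartL := by rw [htop]; trivial
  let z₀ : ((RelProj.domQ u pL chartL : PL.Opens) : Scheme.{u}) := ⟨z, hzd⟩
  have hrz : r z₀ ∈ Z := hZ ⟨z₀, rfl⟩
  obtain ⟨d, f, hd, hf, hzf, hle⟩ :=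
    RelPMap6.exists_emb_basicOpen_le p chart ⊤ hY Z (r z₀) hrz trivial
  refine Opens.mem_iSup.mpr ⟨⟨(d, f), hd, hf, hle⟩, ?_⟩
  have h := mem_XT_of_apply_mem q L hL 𝒮 𝒮L j hj u p chart pL chartL hPL r hr hY hd f hf z₀
    (by rw [opensRange_lam]; exact hzf)
  exact h

include hL hj hPL hr in
theorem immersion_iff :
    (RelProj.domQ u pL chartL = ⊤ ∧ IsImmersion r) ↔
      ∃ (ι : Type u) (n : ι → ℕ) (s : ι → 𝒮.presheaf.obj (op ⊤)) (XT : ι → X.Opens),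
        (∀ a, 0 < n a ∧ s a ∈ 𝒮.deg ⊤ hY (n a)) ∧
        (∀ a, XT a = (⨆ V : {V : X.affineOpens //
          ((𝒮L.deg V.1 V.2 (n a) : AddSubgroup (𝒮L.presheaf.obj (op (V.1 : X.Opens)))) : Set (𝒮L.presheaf.obj (op (V.1 : X.Opens)))) ⊆
            (Ideal.span {(u.appLE ⊤ (V.1 : X.Opens) (le_top.trans (Scheme.Hom.preimage_top q).ge)).hom (s a)} : Set (𝒮L.presheaf.obj (op (V.1 : X.Opens))))},
          (V.1.1 : X.Opens))) ∧
        (⨆ a, XT a) = ⊤ ∧ (∀ a, IsAffineOpen (XT a)) ∧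
        (∀ (a : ι) (t : X.presheaf.obj (op (XT a))), ∃ (m : ℕ) (_ : 0 < m) (s' : 𝒮.presheaf.obj (op ⊤)) (_ : s' ∈ 𝒮.deg ⊤ hY (m * n a)),
            (𝒮L.str.app (op (XT a))).hom t * ((u.appLE ⊤ (XT a) (le_top.trans (Scheme.Hom.preimage_top q).ge)).hom (s a)) ^ m =
              (u.appLE ⊤ (XT a) (le_top.trans (Scheme.Hom.preimage_top q).ge)).hom s') := by
  constructor
  · rintro ⟨htop, himm⟩
    haveI := himm
    have hZ : Set.range r ⊆ r.coborderRange := subset_coborder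
    have hle : ∀ a : IdxLE 𝒮 p chart hY r.coborderRange,
        (lam 𝒮 p chart hY a.2.1 a.1.2 a.2.2.1).opensRange ≤ r.coborderRange := fun a => by
      rw [opensRange_lam]; exact a.2.2.2
    have haff : ∀ a : IdxLE 𝒮 p chart hY r.coborderRange, IsAffineOpen (XT q 𝒮 𝒮L u a.1.1 a.1.2) := by
      intro a
      refine isAffineOpen_XT' q L hL 𝒮 𝒮L j hj u p chart pL chartL hPL r hr hY a.2.1 a.1.2 a.2.2.1 ?_
      have h1 : IsAffineOpen (lam 𝒮 p chart hY a.2.1 a.1.2 a.2.2.1).opensRange := isAffineOpen_opensRange _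
      have h2 : IsAffineOpen (r.coborderRange.ι ⁻¹ᵁ (lam 𝒮 p chart hY a.2.1 a.1.2 a.2.2.1).opensRange) :=
        h1.preimage_of_isOpenImmersion r.coborderRange.ι (by rw [Scheme.Opens.opensRange_ι]; exact hle a)
      have h3 := h2.preimage r.liftCoborder
      rw [← Scheme.Hom.comp_preimage, Scheme.Hom.liftCoborder_ι] at h3
      exact h3
    refine ⟨IdxLE 𝒮 p chart hY r.coborderRange, fun a => a.1.1, fun a => a.1.2,
      fun a => XT q 𝒮 𝒮L u a.1.1 a.1.2, fun a => ⟨a.2.1, a.2.2.1⟩, fun a => rfl,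
      iSup_XT_idxLE_eq_top q L hL 𝒮 𝒮L j hj u p chart pL chartL hPL r hr hY htop _ hZ,
      haff, fun a t => ?_⟩
    have hV := haff a
    have hpb := isPullback_away q L hL 𝒮 𝒮L j hj u p chart pL chartL hPL r hr hY a.2.1 a.1.2 a.2.2.1
      (XT q 𝒮 𝒮L u a.1.1 a.1.2) hV rfl
    have hpb' := isPullback_of_factor hpb r.coborderRange r.liftCoborder r.liftCoborder_ι
      (IsOpenImmersion.lift r.coborderRange.ι (lam 𝒮 p chart hY a.2.1 a.1.2 a.2.2.1)
        (by rw [Scheme.Opens.range_ι]; exact hle a))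
      (IsOpenImmersion.lift_fac _ _ _)
    have hφ : IsClosedImmersion (Spec.map (CommRingCat.ofHom
        (Away.map (u.gradedAt ⊤ hY (XT q 𝒮 𝒮L u a.1.1 a.1.2) hV (le_top' q _)) a.1.2))) :=
      MorphismProperty.of_isPullback (P := @IsClosedImmersion) hpb'.flip inferInstance
    exact iii_of_surjective_awayMap q L hL 𝒮 𝒮L j hj u p chart pL chartL hPL r hr hY a.2.1 a.1.2 a.2.2.1
      (XT q 𝒮 𝒮L u a.1.1 a.1.2) hV rfl (surjective_of_isClosedImmersion _ hφ) t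
  · rintro ⟨ι, n, s, XT', h1, h2, hcov, haff, hiii⟩
    have hXT : ∀ a, XT' a = XT q 𝒮 𝒮L u (n a) (s a) := h2
    have hcov' : (⨆ a, XT q 𝒮 𝒮L u (n a) (s a)) = ⊤ := by
      rw [← hcov]
      exact iSup_congr fun a => (h2 a).symm
    refine ⟨domQ_eq_top_of_cover q L hL 𝒮 𝒮L j hj u pL chartL hPL hY n s h1 hcov', ?_⟩
    let W : P.Opens := ⨆ a, (lam 𝒮 p chart hY (h1 a).1 (s a) (h1 a).2).opensRange
    have hrW : Set.range r ⊆ W := by
      rintro _ ⟨z, rfl⟩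
      have hx : pL ((RelProj.domQ u pL chartL).ι z) ∈ (⨆ a, XT q 𝒮 𝒮L u (n a) (s a)) := by
        rw [hcov']; trivial
      obtain ⟨a, hxa⟩ := Opens.mem_iSup.mp hx
      exact Opens.mem_iSup.mpr ⟨a, apply_mem_opensRange_lam q L hL 𝒮 𝒮L j hj u p chart pL chartL hPL r hr hY
        (h1 a).1 (s a) (h1 a).2 z hxa⟩
    have hlamW : ∀ a, Set.range (lam 𝒮 p chart hY (h1 a).1 (s a) (h1 a).2) ⊆ Set.range W.ι := by
      intro a
      rw [Scheme.Opens.range_ι]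
      exact le_iSup (fun a => (lam 𝒮 p chart hY (h1 a).1 (s a) (h1 a).2).opensRange) a
    let r' : ((RelProj.domQ u pL chartL : PL.Opens) : Scheme.{u}) ⟶ (W : Scheme.{u}) :=
      IsOpenImmersion.lift W.ι r (by rw [Scheme.Opens.range_ι]; exact hrW)
    have hr' : r' ≫ W.ι = r := IsOpenImmersion.lift_fac _ _ _
    let lam' : ∀ a, Spec (CommRingCat.of (Away (𝒮.deg ⊤ hY) (s a))) ⟶ (W : Scheme.{u}) := fun a =>
      IsOpenImmersion.lift W.ι (lam 𝒮 p chart hY (h1 a).1 (s a) (h1 a).2) (hlamW a)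
    have hlam' : ∀ a, lam' a ≫ W.ι = lam 𝒮 p chart hY (h1 a).1 (s a) (h1 a).2 := fun a =>
      IsOpenImmersion.lift_fac _ _ _
    have : ∀ a, IsOpenImmersion (lam' a) := fun a => by
      have : IsOpenImmersion (lam' a ≫ W.ι) := by rw [hlam']; infer_instance
      exact IsOpenImmersion.of_comp _ W.ι
    have hcovW : ∀ x : (W : Scheme.{u}), ∃ a y, lam' a y = x := by
      intro x
      obtain ⟨a, hxa⟩ := Opens.mem_iSup.mp x.2
      obtain ⟨y, hy⟩ := hxa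
      refine ⟨a, y, W.ι.isOpenEmbedding.injective ?_⟩
      have : W.ι (lam' a y) = (lam' a ≫ W.ι) y := rfl
      rw [this, hlam']
      exact hy
    have hcl : IsClosedImmersion r' := by
      refine (Groth.Agent.H41.LocalTarget.iff_of_isPullback_family r'
        (fun a => Spec.map (CommRingCat.ofHom
          (Away.map (u.gradedAt ⊤ hY (XT' a) (haff a) (le_top' q _)) (s a))))
        (fun a => kap q 𝒮 𝒮L u pL chartL hY (h1 a).1 (s a) (h1 a).2 (XT' a) (haff a))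
        lam'
        (fun a => isPullback_of_factor
          (isPullback_away q L hL 𝒮 𝒮L j hj u p chart pL chartL hPL r hr hY (h1 a).1 (s a) (h1 a).2
            (XT' a) (haff a) (h2 a)) W r' hr' (lam' a) (hlam' a))
        hcovW @IsClosedImmersion).mpr fun a => ?_
      exact IsClosedImmersion.spec_of_surjective _
        (surjective_awayMap_of_iii q L hL 𝒮 𝒮L j hj u p chart pL chartL hPL r hr hY (h1 a).1 (s a) (h1 a).2
          (XT' a) (haff a) (h2 a) (hiii a))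
    rw [← hr']
    infer_instance

end Groth.Agent.H41.SymInvImm
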