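import Groth.Agent.H41.CanonU
import Groth.Agent.H41.SymInvImm
import Groth.Agent.H8.QcqsPush
import Groth.Agent.H8.MeroGen

/-!
# `r_{L,σ}` is an immersion when affine opens `X_f` form a basis (quasi-affine case) (helper41)
-/

set_option autoImplicit false
universe u

namespace Groth.Agent.H41.QuasiAffVA

open CategoryTheory CategoryTheory.Limits AlgebraicGeometry TopologicalSpace Opposite RelSpec
open Groth.Agent.H18 Groth.Agent.H18.PUP Groth.Agent.H44 Groth.Agent.H41.CanonU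
open Groth.Agent.H41.SymInvertible Groth.Agent.H41.SymInvLocal Groth.Agent.H41.SymInvDom
open Groth.Agent.H8

variable {X Y : Scheme.{u}} (q : X ⟶ Y) (L : X.Modules) [L.IsQuasicoherent]
  (𝒮L : RelProj.QCGrAlg X) (jL : L ⟶ 𝒮L.toModule) (hjL : RelProj.IsGrSymAlg L 𝒮L jL)
  (𝒜 : RelProj.QCGrAlg Y) (jE : (Scheme.Modules.pushforward q).obj L ⟶ 𝒜.toModule)
  (u : RelProj.QGrHom q 𝒜 𝒮L) (hu : IsCanon q L 𝒮L jL 𝒜 jE u)
  (hY : IsAffineOpen (⊤ : Y.Opens))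

/-- the degree one element of `𝒜(Y)` attached to `f • m0` -/
noncomputable def sOf (f : Γ(X, q ⁻¹ᵁ (⊤ : Y.Opens))) (m0 : Γ(L, q ⁻¹ᵁ (⊤ : Y.Opens))) :
    𝒜.presheaf.obj (op ⊤) :=
  (jE.app ⊤).hom (show Γ((Scheme.Modules.pushforward q).obj L, ⊤) from f • m0)

include hu hY in
theorem appLE_sOf (f : Γ(X, q ⁻¹ᵁ (⊤ : Y.Opens))) (m0 : Γ(L, q ⁻¹ᵁ (⊤ : Y.Opens)))
    (V : X.Opens) (hle : V ≤ q ⁻¹ᵁ (⊤ : Y.Opens)) :
    (u.appLE ⊤ V hle).hom (sOf q L 𝒜 jE f m0) =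
      (𝒮L.str.app (op V)).hom (rres X hle f) * jSec L 𝒮L.toQCAlg jL V (mres L hle m0) := by
  unfold sOf
  rw [hu.appLE_jE ⊤ hY V hle]
  have h1 : mres L hle (f • m0) = rres X hle f • mres L hle m0 := mres_smul L hle f m0
  change (jL.app V).hom (mres L hle (f • m0)) = _
  rw [h1]
  exact jSec_smul L 𝒮L.toQCAlg jL V _ _

include hjL hu hY in
/-- over `D = X_f` affine with `m0` a free generator there, `𝒮L(D)_1 ⊆ (u s)` -/
theorem deg_le_span_basicOpen (f : Γ(X, q ⁻¹ᵁ (⊤ : Y.Opens))) (m0 : Γ(L, q ⁻¹ᵁ (⊤ : Y.Opens)))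
    (hD : IsAffineOpen (X.basicOpen f))
    (hm : IsFreeGen L (X.basicOpen f) (mres L (X.basicOpen_le f) m0))
    (hle : X.basicOpen f ≤ q ⁻¹ᵁ (⊤ : Y.Opens)) :
    ((𝒮L.deg (X.basicOpen f) hD 1 : AddSubgroup (𝒮L.presheaf.obj (op (X.basicOpen f)))) :
        Set (𝒮L.presheaf.obj (op (X.basicOpen f)))) ⊆
      (Ideal.span {(u.appLE ⊤ (X.basicOpen f) hle).hom (sOf q L 𝒜 jE f m0)} :
        Set (𝒮L.presheaf.obj (op (X.basicOpen f)))) := by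
  intro b hb
  have he : Function.Bijective (fun r : Γ(X, X.basicOpen f) => r • mres L (X.basicOpen_le f) m0) := by
    have := hm (X.basicOpen f) le_rfl
    rwa [mres_self] at this
  obtain ⟨c, hc⟩ := exists_coeff L 𝒮L jL hjL (X.basicOpen f) hD _ he 1 b hb
  rw [appLE_sOf q L 𝒮L jL 𝒜 jE u hu hY f m0 (X.basicOpen f) hle]
  have hunit : IsUnit (rres X hle f) := RingedSpace.isUnit_res_basicOpen _ f
  obtain ⟨v, hv⟩ := hunit
  refine Ideal.mem_span_singleton'.mpr ⟨(𝒮L.str.app (op (X.basicOpen f))).hom (c * (↑v⁻¹ : Γ(X, X.basicOpen f))), ?_⟩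
  rw [hc, pow_one, ← hv, ← mul_assoc, ← map_mul, mul_assoc c, Units.inv_mul, mul_one]

include hjL hu hY in
/-- an affine open over which `𝒮L_1 ⊆ (u s)` lies in `X_f` -/
theorem le_basicOpen_of_deg_le_span (hL : PicF.IsInvertible L)
    (f : Γ(X, q ⁻¹ᵁ (⊤ : Y.Opens))) (m0 : Γ(L, q ⁻¹ᵁ (⊤ : Y.Opens)))
    (V : X.Opens) (hV : IsAffineOpen V) (hle : V ≤ q ⁻¹ᵁ (⊤ : Y.Opens))
    (h : ((𝒮L.deg V hV 1 : AddSubgroup (𝒮L.presheaf.obj (op V))) : Set (𝒮L.presheaf.obj (op V))) ⊆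
      (Ideal.span {(u.appLE ⊤ V hle).hom (sOf q L 𝒜 jE f m0)} : Set (𝒮L.presheaf.obj (op V)))) :
    V ≤ X.basicOpen f := by
  intro x hxV
  obtain ⟨U₀, hxU₀, σ, hσ⟩ := exists_isFreeGen_of_isInvertible hL x
  obtain ⟨g, hgU, hxg⟩ := hV.exists_basicOpen_le ⟨x, hxU₀⟩ hxV
  have hV' : IsAffineOpen (X.basicOpen g) := hV.basicOpen g
  have hV'V : X.basicOpen g ≤ V := X.basicOpen_le g
  have hσ' : IsFreeGen L (X.basicOpen g) (mres L hgU σ) := hσ.res hgU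
  have he : Function.Bijective (fun r : Γ(X, X.basicOpen g) => r • mres L hgU σ) := by
    have := hσ' (X.basicOpen g) le_rfl
    rwa [mres_self] at this
  -- extend `g^N σ` to `V`
  obtain ⟨N, y, hy⟩ := exists_res_eq_pow_smul_of_qcqs L hV.isCompact hV.isQuasiSeparated g
    (mres L hgU σ)
  -- `j y` is a multiple of `u s`
  have hjy : jSec L 𝒮L.toQCAlg jL V y ∈ 𝒮L.deg V hV 1 := hjL.2 V hV y
  obtain ⟨c, hc⟩ := Ideal.mem_span_singleton'.mp (h hjy)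
  rw [appLE_sOf q L 𝒮L jL 𝒜 jE u hu hY f m0 V hle] at hc
  -- restrict to `V'`
  have hc' := congrArg (𝒮L.presheaf.map (homOfLE hV'V).op).hom hc
  rw [map_mul, map_mul, jSec_res L 𝒮L jL hV'V, jSec_res L 𝒮L jL hV'V] at hc'
  have hstr : (𝒮L.presheaf.map (homOfLE hV'V).op).hom ((𝒮L.str.app (op V)).hom (rres X hle f)) =
      (𝒮L.str.app (op (X.basicOpen g))).hom (rres X (hV'V.trans hle) f) := by
    have := Groth.Agent.H41.SymSheaf.str_res (A := 𝒮L.toQCAlg) (homOfLE hV'V) (rres X hle f)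
    rw [this]
    congr 1
    exact rres_rres hle hV'V f
  rw [hstr] at hc'
  -- coordinates w.r.t. `σ`
  obtain ⟨d, hd⟩ := hσ'.exists_smul_eq le_rfl (mres L (hV'V.trans hle) m0)
  rw [mres_self] at hd
  have hm0 : L.presheaf.map (homOfLE hV'V).op (mres L hle m0) = d • mres L hgU σ := by
    rw [hd]
    exact mres_mres L hle hV'V m0
  have hy' : L.presheaf.map (homOfLE hV'V).op y = (rres X hV'V g) ^ N • mres L hgU σ := hy
  rw [hm0, hy', jSec_smul, jSec_smul] at hc'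
  obtain ⟨ε, hε1, hε2⟩ := exists_retraction L 𝒮L.toQCAlg jL hjL.1 (X.basicOpen g) hV' _ he
  have hc'' := congrArg ε hc'
  rw [map_mul, map_mul, map_mul, map_mul, hε1, hε1, hε1, hε2, mul_one, mul_one] at hc''
  -- so `f` is a unit on `V'`
  have hgunit : IsUnit ((rres X hV'V g) ^ N) := (RingedSpace.isUnit_res_basicOpen _ g).pow N
  have hfunit : IsUnit (rres X (hV'V.trans hle) f) := by
    rw [← hc''] at hgunit
    exact isUnit_of_mul_isUnit_left (isUnit_of_mul_isUnit_right hgunit)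
  have : X.basicOpen g ≤ X.basicOpen f := by
    have h1 : X.basicOpen (rres X (hV'V.trans hle) f) = X.basicOpen g ⊓ X.basicOpen f :=
      X.basicOpen_res f (homOfLE (hV'V.trans hle)).op
    have h2 : X.basicOpen (rres X (hV'V.trans hle) f) = X.basicOpen g :=
      X.basicOpen_of_isUnit hfunit
    rw [h2] at h1
    exact inf_eq_left.mp h1.symm
  exact this hxg

include hjL hu hY in
/-- `X_f` is the union of the affine opens over which `𝒮L_1 ⊆ (u s)` -/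
theorem basicOpen_eq_iSup (hL : PicF.IsInvertible L)
    (f : Γ(X, q ⁻¹ᵁ (⊤ : Y.Opens))) (m0 : Γ(L, q ⁻¹ᵁ (⊤ : Y.Opens)))
    (hD : IsAffineOpen (X.basicOpen f))
    (hm : IsFreeGen L (X.basicOpen f) (mres L (X.basicOpen_le f) m0)) :
    X.basicOpen f = (⨆ V : {V : X.affineOpens //
      ((𝒮L.deg V.1 V.2 1 : AddSubgroup (𝒮L.presheaf.obj (op (V.1 : X.Opens)))) :
          Set (𝒮L.presheaf.obj (op (V.1 : X.Opens)))) ⊆
        (Ideal.span {(u.appLE ⊤ (V.1 : X.Opens) (le_top.trans (Scheme.Hom.preimage_top q).ge)).hom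
          (sOf q L 𝒜 jE f m0)} : Set (𝒮L.presheaf.obj (op (V.1 : X.Opens))))},
      (V.1.1 : X.Opens)) := by
  apply le_antisymm
  · exact le_iSup_of_le ⟨⟨X.basicOpen f, hD⟩,
      deg_le_span_basicOpen q L 𝒮L jL hjL 𝒜 jE u hu hY f m0 hD hm _⟩ le_rfl
  · refine iSup_le fun V => ?_
    exact le_basicOpen_of_deg_le_span q L 𝒮L jL hjL 𝒜 jE u hu hY hL f m0 V.1.1 V.1.2 _ V.2

include hu hY in
/-- condition (iii) of the immersion criterion -/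
theorem exists_pow_eq (h𝒜 : RelProj.IsGrSymAlg ((Scheme.Modules.pushforward q).obj L) 𝒜 jE)
    (hcpt : IsCompact ((q ⁻¹ᵁ (⊤ : Y.Opens) : X.Opens) : Set X))
    (hqs : IsQuasiSeparated ((q ⁻¹ᵁ (⊤ : Y.Opens) : X.Opens) : Set X))
    (f : Γ(X, q ⁻¹ᵁ (⊤ : Y.Opens))) (m0 : Γ(L, q ⁻¹ᵁ (⊤ : Y.Opens)))
    (hle : X.basicOpen f ≤ q ⁻¹ᵁ (⊤ : Y.Opens))
    (t : X.presheaf.obj (op (X.basicOpen f))) :
    ∃ (m : ℕ) (_ : 0 < m) (s' : 𝒜.presheaf.obj (op ⊤)) (_ : s' ∈ 𝒜.deg ⊤ hY (m * 1)),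
      (𝒮L.str.app (op (X.basicOpen f))).hom t *
          ((u.appLE ⊤ (X.basicOpen f) hle).hom (sOf q L 𝒜 jE f m0)) ^ m =
        (u.appLE ⊤ (X.basicOpen f) hle).hom s' := by
  obtain ⟨k, y, hy⟩ := exists_eq_pow_mul_of_isCompact_of_isQuasiSeparated X _ hcpt hqs f t
  have hy' : rres X hle y = (rres X hle f) ^ k * t := hy
  have hs1 : ∀ (f' : Γ(X, q ⁻¹ᵁ (⊤ : Y.Opens))), sOf q L 𝒜 jE f' m0 ∈ 𝒜.deg ⊤ hY 1 :=
    fun f' => h𝒜.2 ⊤ hY _
  refine ⟨k + 1, Nat.succ_pos k, sOf q L 𝒜 jE (f * y) m0 * (sOf q L 𝒜 jE 1 m0) ^ k, ?_, ?_⟩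
  · have h1 : (sOf q L 𝒜 jE 1 m0) ^ k ∈ 𝒜.deg ⊤ hY k := by
      have := SetLike.pow_mem_graded k (hs1 1)
      rwa [smul_eq_mul, mul_one] at this
    have h2 := SetLike.mul_mem_graded (A := 𝒜.deg ⊤ hY) (hs1 (f * y)) h1
    rwa [show (k + 1) * 1 = 1 + k by ring]
  · rw [map_mul, map_pow, appLE_sOf q L 𝒮L jL 𝒜 jE u hu hY f m0 _ hle,
      appLE_sOf q L 𝒮L jL 𝒜 jE u hu hY (f * y) m0 _ hle,
      appLE_sOf q L 𝒮L jL 𝒜 jE u hu hY 1 m0 _ hle]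
    have e1 : rres X hle (f * y) = (rres X hle f) ^ (k + 1) * t := by
      rw [show rres X hle (f * y) = rres X hle f * rres X hle y from map_mul (rres X hle).hom f y,
        hy', pow_succ]
      ring
    have e2 : rres X hle (1 : Γ(X, q ⁻¹ᵁ (⊤ : Y.Opens))) = 1 := map_one (rres X hle).hom
    rw [e1, e2, map_one, one_mul, map_mul, map_pow, mul_pow]
    ring

/-- a global section freely generating `L` over an affine `X_f` through a given point -/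
theorem exists_gen (hL : PicF.IsInvertible L)
    (hcpt : IsCompact ((q ⁻¹ᵁ (⊤ : Y.Opens) : X.Opens) : Set X))
    (hqs : IsQuasiSeparated ((q ⁻¹ᵁ (⊤ : Y.Opens) : X.Opens) : Set X))
    (hbasis : ∀ (x : X) (U₀ : X.Opens), x ∈ U₀ → ∃ f : Γ(X, q ⁻¹ᵁ (⊤ : Y.Opens)),
      IsAffineOpen (X.basicOpen f) ∧ x ∈ X.basicOpen f ∧ X.basicOpen f ≤ U₀) (x : X) :
    ∃ (f : Γ(X, q ⁻¹ᵁ (⊤ : Y.Opens))) (m0 : Γ(L, q ⁻¹ᵁ (⊤ : Y.Opens))),
      IsAffineOpen (X.basicOpen f) ∧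
        IsFreeGen L (X.basicOpen f) (mres L (X.basicOpen_le f) m0) ∧ x ∈ X.basicOpen f := by
  obtain ⟨U₀, hxU₀, σ, hσ⟩ := exists_isFreeGen_of_isInvertible hL x
  obtain ⟨f, hD, hxf, hfU⟩ := hbasis x U₀ hxU₀
  obtain ⟨n, m0, hm0⟩ := exists_res_eq_pow_smul_of_qcqs L hcpt hqs f (mres L hfU σ)
  refine ⟨f, m0, hD, ?_, hxf⟩
  intro V hV
  have h1 : mres L hV (mres L (X.basicOpen_le f) m0) =
      (rres X (hV.trans (X.basicOpen_le f)) f) ^ n • mres L (hV.trans hfU) σ := by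
    have h2 : mres L (X.basicOpen_le f) m0 = (rres X (X.basicOpen_le f) f) ^ n • mres L hfU σ := hm0
    rw [h2, mres_smul, mres_mres, map_pow]
    congr 2
    exact rres_rres (X.basicOpen_le f) hV f
  change Function.Bijective (fun r : Γ(X, V) => r • mres L hV (mres L (X.basicOpen_le f) m0))
  rw [h1]
  have hunit : IsUnit ((rres X (hV.trans (X.basicOpen_le f)) f) ^ n) := by
    refine IsUnit.pow n ?_
    have h3 : rres X (hV.trans (X.basicOpen_le f)) f = rres X hV (rres X (X.basicOpen_le f) f) :=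
      (rres_rres (X.basicOpen_le f) hV f).symm
    rw [h3]
    exact (RingedSpace.isUnit_res_basicOpen _ f).map (rres X hV).hom
  obtain ⟨v, hv⟩ := hunit
  have hb := hσ V (hV.trans hfU)
  have : (fun r : Γ(X, V) => r • ((rres X (hV.trans (X.basicOpen_le f)) f) ^ n •
      mres L (hV.trans hfU) σ)) =
      (fun r : Γ(X, V) => r • mres L (hV.trans hfU) σ) ∘ (fun r : Γ(X, V) => r * (v : Γ(X, V))) := by
    funext r
    simp only [Function.comp_apply]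
    rw [← hv, mul_smul]
  rw [this]
  refine hb.comp ?_
  exact ⟨fun a b hab => by simpa using hab, fun a => ⟨a * (↑v⁻¹ : Γ(X, V)), by simp [mul_assoc]⟩⟩

/-- the index set: a function `f` and a global section `m0` freely generating `L` over the affine `X_f` -/
def Idx : Type u :=
  {a : Γ(X, q ⁻¹ᵁ (⊤ : Y.Opens)) × Γ(L, q ⁻¹ᵁ (⊤ : Y.Opens)) //
    IsAffineOpen (X.basicOpen a.1) ∧ IsFreeGen L (X.basicOpen a.1) (mres L (X.basicOpen_le a.1) a.2)}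

variable {P PL : Scheme.{u}} (p : P ⟶ Y)
  (chart : ∀ (U : Y.Opens) (hU : IsAffineOpen U), (((p ⁻¹ᵁ U : P.Opens) : Scheme.{u}) ≅ Proj (𝒜.deg U hU)))
  (pL : PL ⟶ X)
  (chartL : ∀ (U : X.Opens) (hU : IsAffineOpen U), (((pL ⁻¹ᵁ U : PL.Opens) : Scheme.{u}) ≅ Proj (𝒮L.deg U hU)))
  (hPL : RelProj.IsRelProj 𝒮L pL chartL)
  (r : ((RelProj.domQ u pL chartL : PL.Opens) : Scheme.{u}) ⟶ P)
  (hr : RelProj.IsProjQMapOn u p chart pL chartL (RelProj.domQ u pL chartL) r)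

include hjL hu hY hPL hr in
/-- over an affine base, with `X` quasi-compact and quasi-separated and the affine `X_f` a basis of `X`:
`r_{L,σ}` is everywhere defined and an immersion -/
theorem immersion_of_basis (hL : PicF.IsInvertible L)
    (h𝒜 : RelProj.IsGrSymAlg ((Scheme.Modules.pushforward q).obj L) 𝒜 jE)
    (hcpt : IsCompact ((q ⁻¹ᵁ (⊤ : Y.Opens) : X.Opens) : Set X))
    (hqs : IsQuasiSeparated ((q ⁻¹ᵁ (⊤ : Y.Opens) : X.Opens) : Set X))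
    (hbasis : ∀ (x : X) (U₀ : X.Opens), x ∈ U₀ → ∃ f : Γ(X, q ⁻¹ᵁ (⊤ : Y.Opens)),
      IsAffineOpen (X.basicOpen f) ∧ x ∈ X.basicOpen f ∧ X.basicOpen f ≤ U₀) :
    RelProj.domQ u pL chartL = ⊤ ∧ IsImmersion r := by
  rw [Groth.Agent.H41.SymInvImm.immersion_iff q L hL 𝒜 𝒮L jL hjL u p chart pL chartL hPL r hr hY]
  refine ⟨Idx q L, fun _ => 1, fun a => sOf q L 𝒜 jE a.1.1 a.1.2, fun a => X.basicOpen a.1.1,
    fun a => ⟨Nat.one_pos, h𝒜.2 ⊤ hY _⟩, fun a => ?_, ?_, fun a => a.2.1, fun a t => ?_⟩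
  · exact basicOpen_eq_iSup q L 𝒮L jL hjL 𝒜 jE u hu hY hL a.1.1 a.1.2 a.2.1 a.2.2
  · rw [eq_top_iff]
    intro x _
    obtain ⟨f, m0, hD, hm, hxf⟩ := exists_gen q L hL hcpt hqs hbasis x
    exact Opens.mem_iSup.mpr ⟨⟨(f, m0), hD, hm⟩, hxf⟩
  · exact exists_pow_eq q L 𝒮L jL 𝒜 jE u hu hY h𝒜 hcpt hqs a.1.1 a.1.2 _ t

include hjL hu hY in
/-- the local generation hypothesis of `IrrLocal` -/
theorem hsurj_of_basis (hL : PicF.IsInvertible L)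
    (h𝒜 : RelProj.IsGrSymAlg ((Scheme.Modules.pushforward q).obj L) 𝒜 jE)
    (hcpt : IsCompact ((q ⁻¹ᵁ (⊤ : Y.Opens) : X.Opens) : Set X))
    (hqs : IsQuasiSeparated ((q ⁻¹ᵁ (⊤ : Y.Opens) : X.Opens) : Set X))
    (hbasis : ∀ (x : X) (U₀ : X.Opens), x ∈ U₀ → ∃ f : Γ(X, q ⁻¹ᵁ (⊤ : Y.Opens)),
      IsAffineOpen (X.basicOpen f) ∧ x ∈ X.basicOpen f ∧ X.basicOpen f ≤ U₀) (x : X) :
    ∃ (U : Y.Opens) (hU : IsAffineOpen U) (e : 𝒜.presheaf.obj (op U)) (_ : e ∈ 𝒜.deg U hU 1)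
        (V : X.Opens) (hV : IsAffineOpen V) (hVU : V ≤ q ⁻¹ᵁ U), x ∈ V ∧
          ((𝒮L.deg V hV 1 : AddSubgroup (𝒮L.presheaf.obj (op V))) : Set (𝒮L.presheaf.obj (op V))) ⊆
            (Ideal.span {(u.appLE U V hVU).hom e} : Set (𝒮L.presheaf.obj (op V))) := by
  obtain ⟨f, m0, hD, hm, hxf⟩ := exists_gen q L hL hcpt hqs hbasis x
  exact ⟨⊤, hY, sOf q L 𝒜 jE f m0, h𝒜.2 ⊤ hY _, X.basicOpen f, hD, X.basicOpen_le f, hxf,
    deg_le_span_basicOpen q L 𝒮L jL hjL 𝒜 jE u hu hY f m0 hD hm _⟩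

end Groth.Agent.H41.QuasiAffVA
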