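import Groth.Prelude.Def_RelSpec

/-!
# Morphisms out of a relative spectrum, from compatible morphisms on the charts
-/

set_option autoImplicit false
universe u
open CategoryTheory CategoryTheory.Limits AlgebraicGeometry Opposite TopologicalSpace

namespace Groth.Agent.H41.RelSpecDesc

variable {Y : Scheme.{u}} (A : RelSpec.QCAlg Y) {Z : Scheme.{u}}
  (g : ∀ (U : Y.Opens) (hU : IsAffineOpen U), Spec (A.presheaf.obj (op U)) ⟶ Z)
  (hg : ∀ (U : Y.Opens) (hU : IsAffineOpen U) (r : Γ(Y, U)),
    Spec.map (A.presheaf.map (homOfLE (Y.basicOpen_le r)).op) ≫ g U hU =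
      g (Y.basicOpen r) (hU.basicOpen r))

include hg in
theorem compat {U V : Y.AffineZariskiSite} (f : V ⟶ U) :
    Spec.map (A.presheaf.map (homOfLE (Scheme.AffineZariskiSite.toOpens_mono f.le)).op) ≫
      g U.1 U.2 = g V.1 V.2 := by
  obtain ⟨U, hU⟩ := U
  obtain ⟨V, hV⟩ := V
  obtain ⟨r, hr⟩ := f.le
  change Y.basicOpen r = V at hr
  subst hr
  exact hg U hU r

/-- The morphism out of the relative spectrum glued from compatible morphisms on the charts. -/
noncomputable def desc : A.spec ⟶ Z :=
  colimit.desc A.glueData.functor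
    { pt := Z
      ι :=
        { app := fun U => g U.1 U.2
          naturality := fun V U f => by
            have := compat A g hg f
            simp only [Functor.const_obj_obj, Functor.const_obj_map, Category.comp_id]
            exact this } }

theorem ι_desc (U : Y.Opens) (hU : IsAffineOpen U) : A.ι U hU ≫ desc A g hg = g U hU := by
  change colimit.ι A.glueData.functor (⟨U, hU⟩ : Y.AffineZariskiSite) ≫
    colimit.desc A.glueData.functor _ = _
  rw [colimit.ι_desc]

theorem hom_ext (a b : A.spec ⟶ Z)
    (h : ∀ (U : Y.Opens) (hU : IsAffineOpen U), A.ι U hU ≫ a = A.ι U hU ≫ b) : a = b :=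
  A.glueData.cover.hom_ext _ _ fun U => h U.1 U.2

include hg in
theorem existsUnique_desc :
    ∃! i : A.spec ⟶ Z, ∀ (U : Y.Opens) (hU : IsAffineOpen U), A.ι U hU ≫ i = g U hU := by
  refine ⟨desc A g hg, ι_desc A g hg, fun i hi => ?_⟩
  apply hom_ext
  intro U hU
  rw [hi U hU, ι_desc]

end Groth.Agent.H41.RelSpecDesc
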