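import Groth.Agent.H41.RelConeImm
import Groth.Agent.H41.PolyConeSquare
import Groth.Agent.H41.RelSpecDesc

/-!
# Existence and uniqueness of the canonical immersion of the affine cone into the projective cone
-/

set_option autoImplicit false
universe u
open CategoryTheory CategoryTheory.Limits AlgebraicGeometry Opposite TopologicalSpace
  HomogeneousLocalization
open scoped HomogeneousIdeal

namespace Groth.Agent.H41.RelConeExists

variable {Y PC : Scheme.{u}} {𝒮 𝒮h : RelProj.QCGrAlg Y}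
  {ι : 𝒮.toQCAlg ⟶ 𝒮h.toQCAlg} {z : 𝒮h.presheaf.obj (op ⊤)} (hz : RelCone.IsPolyOver 𝒮 𝒮h ι z)
  (pC : PC ⟶ Y)
  (chartC : ∀ (U : Y.Opens) (hU : IsAffineOpen U),
    (((pC ⁻¹ᵁ U : PC.Opens) : Scheme.{u}) ≅ Proj (𝒮h.deg U hU)))
  (hPC : RelProj.IsRelProj 𝒮h pC chartC)

theorem res_ι {U V : Y.Opens} (hU : IsAffineOpen U) (hV : IsAffineOpen V) (hVU : V ≤ U)
    (a : 𝒮.presheaf.obj (op U)) :
    (𝒮h.res hU hV hVU) ((RelProj.gradedHomAt ι hz.graded U hU) a) =
      (RelProj.gradedHomAt ι hz.graded V hV) ((𝒮.presheaf.map (homOfLE hVU).op).hom a) := by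
  have h1 := congrArg (fun f => f.hom a) (ι.hom.naturality (homOfLE hVU).op)
  simp only [CommRingCat.hom_comp, RingHom.comp_apply] at h1
  exact h1.symm

theorem res_z {U V : Y.Opens} (hU : IsAffineOpen U) (hV : IsAffineOpen V) (hVU : V ≤ U) :
    (𝒮h.res hU hV hVU) (RelCone.restrictTop 𝒮h z U) = RelCone.restrictTop 𝒮h z V := by
  change (𝒮h.presheaf.map (homOfLE hVU).op).hom ((𝒮h.presheaf.map (homOfLE le_top).op).hom z) =
    (𝒮h.presheaf.map (homOfLE le_top).op).hom z
  rw [← RingHom.comp_apply, ← CommRingCat.hom_comp, ← Functor.map_comp]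
  rfl

include hPC in
theorem compat (U : Y.Opens) (hU : IsAffineOpen U) (r : Γ(Y, U)) :
    Spec.map (𝒮.presheaf.map (homOfLE (Y.basicOpen_le r)).op) ≫
        RelConeImm.cc hz U hU ≫ RelProj.emb pC chartC U hU =
      RelConeImm.cc hz (Y.basicOpen r) (hU.basicOpen r) ≫
        RelProj.emb pC chartC (Y.basicOpen r) (hU.basicOpen r) := by
  rw [← RelProj.map_res_emb hPC U hU r, ← Category.assoc, ← Category.assoc]
  congr 1
  exact PolyCone.coneChart_square (RelProj.gradedHomAt ι hz.graded U hU)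
    (RelCone.restrictTop 𝒮h z U) (hz.deg_z U hU) (RelConeLib.bij hz U hU)
    (RelProj.gradedHomAt ι hz.graded (Y.basicOpen r) (hU.basicOpen r))
    (RelCone.restrictTop 𝒮h z (Y.basicOpen r)) (hz.deg_z _ (hU.basicOpen r))
    (RelConeLib.bij hz _ (hU.basicOpen r))
    (𝒮.presheaf.map (homOfLE (Y.basicOpen_le r)).op).hom
    (𝒮h.res hU (hU.basicOpen r) (Y.basicOpen_le r))
    (res_ι hz hU (hU.basicOpen r) (Y.basicOpen_le r))
    (res_z hU (hU.basicOpen r) (Y.basicOpen_le r))
    (𝒮h.irrelevant_le_map U hU r)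

include hPC in
/-- The canonical immersion of the affine cone into the projective cone exists and is unique. -/
theorem existsUnique_isConeImm :
    ∃! i : 𝒮.toQCAlg.spec ⟶ PC, RelCone.IsConeImm 𝒮 hz pC chartC i := by
  obtain ⟨i, hi, huniq⟩ := RelSpecDesc.existsUnique_desc 𝒮.toQCAlg
    (fun U hU => RelConeImm.cc hz U hU ≫ RelProj.emb pC chartC U hU)
    (compat hz pC chartC hPC)
  refine ⟨i, fun U hU => (hi U hU).trans (Category.assoc _ _ _), fun i' hi' => ?_⟩
  exact huniq i' fun U hU => RelConeImm.chart_eq hz pC chartC i' hi' U hU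

end Groth.Agent.H41.RelConeExists
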