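import Groth.Agent.H41.RelConeImm
import Groth.Agent.H41.ProjKer
import Groth.Agent.H41.RelPMap4

/-!
# The projective cone is the scheme-theoretic closure of the affine cone
-/

set_option autoImplicit false
universe u
open CategoryTheory CategoryTheory.Limits AlgebraicGeometry Opposite TopologicalSpace
  HomogeneousLocalization
open scoped HomogeneousIdeal

namespace Groth.Agent.H41.RelConeKer

section ring

variable {A B σ τ : Type u} [CommRing A] [CommRing B] [SetLike σ A] [AddSubgroupClass σ A]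
  [SetLike τ B] [AddSubgroupClass τ B]
variable {𝒜 : ℕ → σ} [GradedRing 𝒜] {ℬ : ℕ → τ} [GradedRing ℬ]
variable (φ : 𝒜 →+*ᵍ ℬ) (z : B) (hz : z ∈ ℬ 1)
  (hbij : Function.Bijective (Polynomial.eval₂RingHom φ.toRingHom z))

include hbij in
omit [AddSubgroupClass σ A] [AddSubgroupClass τ B] [GradedRing 𝒜] [GradedRing ℬ] in
theorem z_mem_nonZeroDivisors : z ∈ nonZeroDivisors B := by
  rw [mem_nonZeroDivisors_iff_right]
  intro b hb
  obtain ⟨p, rfl⟩ := hbij.2 b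
  have h1 : Polynomial.eval₂RingHom φ.toRingHom z (p * Polynomial.X) = 0 := by
    rw [map_mul, Polynomial.coe_eval₂RingHom, Polynomial.eval₂_X]
    exact hb
  have h2 : p * Polynomial.X = 0 := hbij.1 (h1.trans (map_zero _).symm)
  have h3 : p = 0 := by
    have := Polynomial.X_mem_nonzeroDivisors (R := A)
    exact (mul_right_mem_nonZeroDivisors_eq_zero_iff this).mp h2
  rw [h3, map_zero]

theorem ker_coneChart : (PolyCone.coneChart φ z hz hbij).ker = ⊥ := by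
  have := PolyCone.isIso_specMap_awayToBase φ z hz hbij
  unfold PolyCone.coneChart
  rw [Scheme.Hom.ker_comp_of_isIso, ← Proj.basicOpenIsoSpec_inv_ι, Scheme.Hom.ker_comp_of_isIso]
  exact ProjKer.ker_basicOpen_ι_eq_bot ℬ one_pos z hz (z_mem_nonZeroDivisors φ z hbij)

end ring

variable {Y PC : Scheme.{u}} {𝒮 𝒮h : RelProj.QCGrAlg Y}
  {ι : 𝒮.toQCAlg ⟶ 𝒮h.toQCAlg} {z : 𝒮h.presheaf.obj (op ⊤)} (hz : RelCone.IsPolyOver 𝒮 𝒮h ι z)
  (pC : PC ⟶ Y)
  (chartC : ∀ (U : Y.Opens) (hU : IsAffineOpen U),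
    (((pC ⁻¹ᵁ U : PC.Opens) : Scheme.{u}) ≅ Proj (𝒮h.deg U hU)))
  (hPC : RelProj.IsRelProj 𝒮h pC chartC)
  (i : 𝒮.toQCAlg.spec ⟶ PC) (hi : RelCone.IsConeImm 𝒮 hz pC chartC i)

theorem opensRange_emb (U : Y.Opens) (hU : IsAffineOpen U) :
    (RelProj.emb pC chartC U hU).opensRange = pC ⁻¹ᵁ U := by
  change ((chartC U hU).inv ≫ (pC ⁻¹ᵁ U).ι).opensRange = _
  rw [Scheme.Hom.opensRange_comp_of_isIso, Scheme.Opens.opensRange_ι]

include hPC hi in
theorem isPullback_chart (U : Y.Opens) (hU : IsAffineOpen U) :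
    IsPullback (RelConeImm.cc hz U hU) (𝒮.toQCAlg.ι U hU) (RelProj.emb pC chartC U hU) i := by
  refine IsOpenImmersion.isPullback _ _ _ _
    (RelConeImm.chart_eq hz pC chartC i hi U hU) ?_
  rw [opensRange_emb, ← Scheme.Hom.comp_preimage, RelConeImm.comp_pC hz pC chartC hPC i hi,
    𝒮.toQCAlg.π_preimage U hU]

include hPC hi in
/-- The kernel of the cone immersion is zero: the projective cone is the smallest closed
subscheme containing the affine cone. -/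
theorem ker_eq_bot [QuasiCompact i] : i.ker = ⊥ := by
  let ι' := Σ (U : Y.affineOpens),
    {f : 𝒮h.presheaf.obj (op U.1) // ∃ d, 0 < d ∧ f ∈ 𝒮h.deg U.1 U.2 d}
  let W : ∀ s : ι', (Proj (𝒮h.deg s.1.1 s.1.2)).affineOpens := fun s =>
    ⟨Proj.basicOpen (𝒮h.deg s.1.1 s.1.2) s.2.1,
      Proj.isAffineOpen_basicOpen (𝒮h.deg s.1.1 s.1.2) s.2.1 s.2.2.choose_spec.2
        s.2.2.choose_spec.1⟩
  let V : ι' → PC.affineOpens := fun s =>
    ⟨(RelProj.emb pC chartC s.1.1 s.1.2) ''ᵁ (W s).1,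
      (W s).2.image_of_isOpenImmersion _⟩
  have hcov : ⨆ s, (V s).1 = ⊤ := by
    rw [eq_top_iff]
    intro x _
    obtain ⟨U, hxU⟩ := RelConeImm.exists_affine (pC x)
    have hx : x ∈ pC ⁻¹ᵁ (U : Y.Opens) := hxU
    have h1 : RelProj.emb pC chartC U.1 U.2 ((chartC U.1 U.2).hom ⟨x, hx⟩) = x :=
      RelPMap2.emb_chart_apply pC chartC U.1 U.2 x hx
    obtain ⟨d, f, hd, hf, hyf, -⟩ := RelPMap4.exists_basicOpen_le (𝒜 := 𝒮h.deg U.1 U.2) ⊤
      ((chartC U.1 U.2).hom ⟨x, hx⟩) trivial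
    exact Opens.mem_iSup.mpr ⟨⟨U, ⟨f, d, hd, hf⟩⟩, ⟨_, hyf, h1⟩⟩
  refine Scheme.IdealSheafData.ext_of_iSup_eq_top V hcov fun s => ?_
  have hpb := isPullback_chart hz pC chartC hPC i hi s.1.1 s.1.2
  have h1 := Scheme.ker_ideal_of_isPullback_of_isOpenImmersion i
    (RelConeImm.cc hz s.1.1 s.1.2) (𝒮.toQCAlg.ι s.1.1 s.1.2)
    (RelProj.emb pC chartC s.1.1 s.1.2) hpb (W s)
  have h2 : (RelConeImm.cc hz s.1.1 s.1.2).ker = ⊥ :=
    ker_coneChart (RelProj.gradedHomAt ι hz.graded s.1.1 s.1.2)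
      (RelCone.restrictTop 𝒮h z s.1.1) (hz.deg_z s.1.1 s.1.2) (RelConeLib.bij hz s.1.1 s.1.2)
  rw [h2, Scheme.IdealSheafData.ideal_bot, Pi.bot_apply] at h1
  rw [Scheme.IdealSheafData.ideal_bot, Pi.bot_apply, eq_bot_iff]
  intro x hx
  have hbij : Function.Bijective ((RelProj.emb pC chartC s.1.1 s.1.2).appIso (W s).1).inv.hom :=
    ConcreteCategory.bijective_of_isIso _
  obtain ⟨y, rfl⟩ := hbij.2 x
  have hy : y ∈ (⊥ : Ideal _) := by
    rw [h1]
    exact hx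
  rw [Ideal.mem_bot] at hy
  rw [hy, map_zero]
  exact zero_mem _

end Groth.Agent.H41.RelConeKer
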