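import Groth.Agent.H41.RelConeRetr
import Groth.Agent.H41.RelConeKer
import Groth.Agent.H41.ConeFibre2

/-!
# Fibres of the retractions of the pointed cones over a general base: the chart squares
-/

set_option autoImplicit false
universe u
open CategoryTheory CategoryTheory.Limits AlgebraicGeometry Opposite TopologicalSpace
  HomogeneousLocalization
open scoped HomogeneousIdeal

namespace Groth.Agent.H41.RelConeFibre

variable {Y PC P : Scheme.{u}} {𝒮 𝒮h : RelProj.QCGrAlg Y}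
  {ι : 𝒮.toQCAlg ⟶ 𝒮h.toQCAlg} {z : 𝒮h.presheaf.obj (op ⊤)} (hz : RelCone.IsPolyOver 𝒮 𝒮h ι z)
  (pC : PC ⟶ Y)
  (chartC : ∀ (U : Y.Opens) (hU : IsAffineOpen U),
    (((pC ⁻¹ᵁ U : PC.Opens) : Scheme.{u}) ≅ Proj (𝒮h.deg U hU)))
  (hPC : RelProj.IsRelProj 𝒮h pC chartC)
  (p : P ⟶ Y)
  (chart : ∀ (U : Y.Opens) (hU : IsAffineOpen U),
    (((p ⁻¹ᵁ U : P.Opens) : Scheme.{u}) ≅ Proj (𝒮.deg U hU)))
  (hP : RelProj.IsRelProj 𝒮 p chart)
  (W : PC.Opens) (hW : W = RelProj.domQ (RelProj.QGrHom.ofHom ι hz.graded) pC chartC)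
  (r : (W : Scheme.{u}) ⟶ P) (hr : RelPMap9.Chartwise ι hz.graded chart chartC W r)

theorem opensRange_jW (U : Y.Opens) (hU : IsAffineOpen U) :
    (RelPMap9.jW ι hz.graded chartC hPC W hW U hU).opensRange = W.ι ⁻¹ᵁ (pC ⁻¹ᵁ U) := by
  ext t
  constructor
  · rintro ⟨y, rfl⟩
    change W.ι ((RelPMap9.jW ι hz.graded chartC hPC W hW U hU) y) ∈ pC ⁻¹ᵁ U
    rw [← Scheme.Hom.comp_apply, RelPMap9.jW_ι, Scheme.Hom.comp_apply]
    exact RelPMap2.emb_mem pC chartC U hU _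
  · intro ht
    have ht' : W.ι t ∈ RelProj.domQ (RelProj.QGrHom.ofHom ι hz.graded) pC chartC ⊓ pC ⁻¹ᵁ U :=
      ⟨hW ▸ t.2, ht⟩
    rw [RelPMap3.domQ_inf_preimage ι hz.graded chartC hPC U hU] at ht'
    obtain ⟨y, hy, hyt⟩ := ht'
    refine ⟨⟨y, hy⟩, ?_⟩
    apply W.ι.isOpenEmbedding.injective
    rw [← Scheme.Hom.comp_apply, RelPMap9.jW_ι]
    exact hyt

include hP hr in
theorem isPullback_jW (U : Y.Opens) (hU : IsAffineOpen U) :
    IsPullback (RelPMap9.jW ι hz.graded chartC hPC W hW U hU)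
      (PMap.map (RelProj.gradedHomAt ι hz.graded U hU)) r (RelProj.emb p chart U hU) := by
  have H := (RelPMap9.chartwise_iff ι hz.graded chart chartC hPC W hW r).mp hr U hU
  refine (IsOpenImmersion.isPullback _ _ _ _ H ?_).flip
  rw [RelConeKer.opensRange_emb p chart U hU, ← Scheme.Hom.comp_preimage,
    RelConeLib.comp_p hz pC chartC hPC p chart hP W hW r hr, Scheme.Hom.comp_preimage,
    opensRange_jW hz pC chartC hPC W hW U hU]

/-- The standard chart of the pointed projective cone over `D₊(f)`. -/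
noncomputable def kf (U : Y.Opens) (hU : IsAffineOpen U) {d : ℕ} (hd : 0 < d)
    {f : 𝒮.presheaf.obj (op U)} (hf : f ∈ 𝒮.deg U hU d) :
    Spec (CommRingCat.of (Away (𝒮h.deg U hU) ((RelProj.gradedHomAt ι hz.graded U hU) f))) ⟶
      (W : Scheme.{u}) :=
  PMap.chart (RelProj.gradedHomAt ι hz.graded U hU) hf hd ≫
    RelPMap9.jW ι hz.graded chartC hPC W hW U hU

theorem kf_ι (U : Y.Opens) (hU : IsAffineOpen U) {d : ℕ} (hd : 0 < d)
    {f : 𝒮.presheaf.obj (op U)} (hf : f ∈ 𝒮.deg U hU d) :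
    kf hz pC chartC hPC W hW U hU hd hf ≫ W.ι =
      Proj.awayι (𝒮h.deg U hU) ((RelProj.gradedHomAt ι hz.graded U hU) f)
        ((RelProj.gradedHomAt ι hz.graded U hU).map_mem hf) hd ≫ RelProj.emb pC chartC U hU := by
  rw [kf, Category.assoc, RelPMap9.jW_ι, PMap.chart_ι_assoc]

include hP hr in
theorem isPullback_kf (U : Y.Opens) (hU : IsAffineOpen U) {d : ℕ} (hd : 0 < d)
    {f : 𝒮.presheaf.obj (op U)} (hf : f ∈ 𝒮.deg U hU d) :
    IsPullback (kf hz pC chartC hPC W hW U hU hd hf)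
      (Spec.map (CommRingCat.ofHom (Away.map (RelProj.gradedHomAt ι hz.graded U hU) f))) r
      (Proj.awayι (𝒮.deg U hU) f hf hd ≫ RelProj.emb p chart U hU) :=
  (PMap.isPullback_chart_map (RelProj.gradedHomAt ι hz.graded U hU) hf hd).flip.paste_horiz
    (isPullback_jW hz pC chartC hPC p chart hP W hW r hr U hU)

end Groth.Agent.H41.RelConeFibre
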