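import Groth.Agent.H41.RelConeFibre
import Groth.Agent.H41.AwayPoly2

/-!
# Fibres of the retractions of the pointed cones over a general base
-/

set_option autoImplicit false
universe u
open CategoryTheory CategoryTheory.Limits AlgebraicGeometry Opposite TopologicalSpace
  HomogeneousLocalization
open scoped HomogeneousIdeal

namespace Groth.Agent.H41.RelConeFibre

variable {Y PC P : Scheme.{u}} {𝒮 𝒮h : RelProj.QCGrAlg Y}
  {ι : 𝒮.toQCAlg ⟶ 𝒮h.toQCAlg} {z : 𝒮h.presheaf.obj (op ⊤)} (hz : RelCone.IsPolyOver 𝒮 𝒮h ι z)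
  (pC : PC ⟶ Y)
  (chartC : ∀ (U : Y.Opens) (hU : IsAffineOpen U),
    (((pC ⁻¹ᵁ U : PC.Opens) : Scheme.{u}) ≅ Proj (𝒮h.deg U hU)))
  (hPC : RelProj.IsRelProj 𝒮h pC chartC)
  (p : P ⟶ Y)
  (chart : ∀ (U : Y.Opens) (hU : IsAffineOpen U),
    (((p ⁻¹ᵁ U : P.Opens) : Scheme.{u}) ≅ Proj (𝒮.deg U hU)))
  (hP : RelProj.IsRelProj 𝒮 p chart)

section cover

variable (hgen : 𝒮.IsGenDegOne)

include hgen in
/-- Every point of the relative `Proj` lies in a standard chart `D₊(f)` with `f` of degree one. -/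
theorem exists_degOne_chart (x : P) :
    ∃ (U : Y.Opens) (hU : IsAffineOpen U) (f : 𝒮.presheaf.obj (op U)) (hf : f ∈ 𝒮.deg U hU 1),
      x ∈ Set.range (Proj.awayι (𝒮.deg U hU) f hf one_pos ≫ RelProj.emb p chart U hU).base := by
  obtain ⟨U, hxU⟩ := RelConeImm.exists_affine (p x)
  have hx : x ∈ p ⁻¹ᵁ (U : Y.Opens) := hxU
  have h1 : RelProj.emb p chart U.1 U.2 ((chart U.1 U.2).hom ⟨x, hx⟩) = x :=
    RelPMap2.emb_chart_apply p chart U.1 U.2 x hx
  obtain ⟨f, hf, hyf⟩ := ConeFibre.exists_deg_one_notMem' (𝒮.deg U.1 U.2) (hgen U.1 U.2)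
    ((chart U.1 U.2).hom ⟨x, hx⟩)
  rw [← Proj.opensRange_awayι (𝒮.deg U.1 U.2) f hf one_pos] at hyf
  obtain ⟨s, hs⟩ := hyf
  refine ⟨U.1, U.2, f, hf, s, ?_⟩
  rw [Scheme.Hom.comp_apply]
  change RelProj.emb p chart U.1 U.2 ((Proj.awayι (𝒮.deg U.1 U.2) f hf one_pos) s) = x
  rw [hs, h1]

/-- The cover of the relative `Proj` by the standard charts `D₊(f)`, `f` of degree one. -/
noncomputable def degOneCover : Scheme.OpenCover.{u} P where
  I₀ := Σ U : Y.affineOpens, 𝒮.deg U.1 U.2 1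
  X s := Spec (CommRingCat.of (Away (𝒮.deg s.1.1 s.1.2) (s.2 : 𝒮.presheaf.obj (op s.1.1))))
  f s := Proj.awayι (𝒮.deg s.1.1 s.1.2) s.2.1 s.2.2 one_pos ≫ RelProj.emb p chart s.1.1 s.1.2
  mem₀ := by
    rw [Scheme.presieve₀_mem_precoverage_iff]
    refine ⟨fun x ↦ ?_, inferInstance⟩
    obtain ⟨U, hU, f, hf, hx⟩ := exists_degOne_chart p chart hgen x
    exact ⟨⟨⟨U, hU⟩, ⟨f, hf⟩⟩, hx⟩

end cover

section B

variable (W : PC.Opens) (hW : W = RelProj.domQ (RelProj.QGrHom.ofHom ι hz.graded) pC chartC)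
  (i : 𝒮.toQCAlg.spec ⟶ PC) (hi : RelCone.IsConeImm 𝒮 hz pC chartC i)
  (E : 𝒮.toQCAlg.spec.Opens) (hE : E = RelCone.pointedCone 𝒮)
  (i' : (E : Scheme.{u}) ⟶ (W : Scheme.{u})) (hi' : i' ≫ W.ι = E.ι ≫ i)

include hPC hi hi' in
theorem isOpenImmersion_i' : IsOpenImmersion i' := by
  have := RelConeImm.isOpenImmersion hz pC chartC hPC i hi
  have : IsOpenImmersion (i' ≫ W.ι) := by rw [hi']; infer_instance
  exact IsOpenImmersion.of_comp i' W.ι

include hPC hW hi hE hi' in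
theorem mem_range_i'_iff (t : (W : Scheme.{u})) :
    t ∈ Set.range i'.base ↔ W.ι t ∈ Set.range i.base := by
  have hW' : W = RelCone.pointedProjCone 𝒮 hz pC chartC :=
    hW.trans (RelConeLib.pointedProjCone_eq_domQ hz pC chartC hPC).symm
  constructor
  · rintro ⟨e, rfl⟩
    refine ⟨E.ι e, ?_⟩
    rw [← Scheme.Hom.comp_apply, ← hi', Scheme.Hom.comp_apply]
  · rintro ⟨c, hc⟩
    have hcE : c ∈ E := by
      rw [hE, RelConeRetr.pointedCone_eq_preimage hz pC chartC hPC i hi]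
      change i c ∈ RelCone.pointedProjCone 𝒮 hz pC chartC
      rw [hc, ← hW']
      exact t.2
    refine ⟨⟨c, hcE⟩, ?_⟩
    apply W.ι.isOpenEmbedding.injective
    rw [← Scheme.Hom.comp_apply, hi', Scheme.Hom.comp_apply]
    exact hc

include hPC hW hi hE hi' in
/-- The preimage of the pointed affine cone in the standard chart of the pointed projective
cone over `D₊(f)`, `f` of degree one, is the basic open of `z / f`. -/
theorem kf_preimage_range (U : Y.Opens) (hU : IsAffineOpen U)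
    {f : 𝒮.presheaf.obj (op U)} (hf : f ∈ 𝒮.deg U hU 1) :
    haveI := isOpenImmersion_i' hz pC chartC hPC W i hi E i' hi'
    (kf hz pC chartC hPC W hW U hU one_pos hf) ⁻¹ᵁ i'.opensRange =
      PrimeSpectrum.basicOpen (AwayPoly.zf (𝒮.deg U hU) (𝒮h.deg U hU)
        (RelProj.gradedHomAt ι hz.graded U hU) (RelCone.restrictTop 𝒮h z U) (hz.deg_z U hU) hf) := by
  haveI := isOpenImmersion_i' hz pC chartC hPC W i hi E i' hi'
  rw [← AwayPoly.isLocalizationElem_eq,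
    ← Proj.awayι_preimage_basicOpen (𝒮h.deg U hU)
      ((RelProj.gradedHomAt ι hz.graded U hU).map_mem hf) one_pos (hz.deg_z U hU) one_pos]
  ext s
  change (kf hz pC chartC hPC W hW U hU one_pos hf) s ∈ Set.range i'.base ↔
    (Proj.awayι (𝒮h.deg U hU) ((RelProj.gradedHomAt ι hz.graded U hU) f)
      ((RelProj.gradedHomAt ι hz.graded U hU).map_mem hf) one_pos) s ∈
      Proj.basicOpen (𝒮h.deg U hU) (RelCone.restrictTop 𝒮h z U)
  rw [mem_range_i'_iff hz pC chartC hPC W hW i hi E hE i' hi', ← Scheme.Hom.comp_apply,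
    kf_ι, Scheme.Hom.comp_apply, RelConeImm.mem_range_iff hz pC chartC hPC i hi U hU]

end B

end Groth.Agent.H41.RelConeFibre
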