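import Groth.Agent.H41.RelConeFibre2

/-!
# Fibres of the retraction of the pointed affine cone over a general base
-/

set_option autoImplicit false
universe u
open CategoryTheory CategoryTheory.Limits AlgebraicGeometry Opposite TopologicalSpace
  HomogeneousLocalization
open scoped HomogeneousIdeal

namespace Groth.Agent.H41.RelConeFibre

variable {Y PC P : Scheme.{u}} {𝒮 𝒮h : RelProj.QCGrAlg Y}
  {ι : 𝒮.toQCAlg ⟶ 𝒮h.toQCAlg} {z : 𝒮h.presheaf.obj (op ⊤)} (hz : RelCone.IsPolyOver 𝒮 𝒮h ι z)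
  (pC : PC ⟶ Y)
  (chartC : ∀ (U : Y.Opens) (hU : IsAffineOpen U),
    (((pC ⁻¹ᵁ U : PC.Opens) : Scheme.{u}) ≅ Proj (𝒮h.deg U hU)))
  (hPC : RelProj.IsRelProj 𝒮h pC chartC)
  (p : P ⟶ Y)
  (chart : ∀ (U : Y.Opens) (hU : IsAffineOpen U),
    (((p ⁻¹ᵁ U : P.Opens) : Scheme.{u}) ≅ Proj (𝒮.deg U hU)))
  (hP : RelProj.IsRelProj 𝒮 p chart)
  (W : PC.Opens) (hW : W = RelProj.domQ (RelProj.QGrHom.ofHom ι hz.graded) pC chartC)
  (r : (W : Scheme.{u}) ⟶ P) (hr : RelPMap9.Chartwise ι hz.graded chart chartC W r)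
  (i : 𝒮.toQCAlg.spec ⟶ PC) (hi : RelCone.IsConeImm 𝒮 hz pC chartC i)
  (E : 𝒮.toQCAlg.spec.Opens) (hE : E = RelCone.pointedCone 𝒮)
  (i' : (E : Scheme.{u}) ⟶ (W : Scheme.{u})) (hi' : i' ≫ W.ι = E.ι ≫ i)
  (U : Y.Opens) (hU : IsAffineOpen U) {f : 𝒮.presheaf.obj (op U)} (hf : f ∈ 𝒮.deg U hU 1)

/-- `z / f` in `𝒮h(U)_(f)`. -/
noncomputable abbrev tf : Away (𝒮h.deg U hU) ((RelProj.gradedHomAt ι hz.graded U hU) f) :=
  AwayPoly.zf (𝒮.deg U hU) (𝒮h.deg U hU) (RelProj.gradedHomAt ι hz.graded U hU)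
    (RelCone.restrictTop 𝒮h z U) (hz.deg_z U hU) hf

/-- The localization morphism `Spec 𝒮h(U)_(f)[f / z] ⟶ Spec 𝒮h(U)_(f)`. -/
noncomputable abbrev locMap :
    Spec (CommRingCat.of (Localization.Away (tf hz U hU hf))) ⟶
      Spec (CommRingCat.of (Away (𝒮h.deg U hU) ((RelProj.gradedHomAt ι hz.graded U hU) f))) :=
  Spec.map (CommRingCat.ofHom (algebraMap
    (Away (𝒮h.deg U hU) ((RelProj.gradedHomAt ι hz.graded U hU) f))
    (Localization.Away (tf hz U hU hf))))

include hPC hW hi hE hi' in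
theorem range_locMap_kf_subset :
    Set.range (locMap hz U hU hf ≫ kf hz pC chartC hPC W hW U hU one_pos hf).base ⊆
      Set.range i'.base := by
  haveI := isOpenImmersion_i' hz pC chartC hPC W i hi E i' hi'
  rintro _ ⟨s, rfl⟩
  have h1 : (locMap hz U hU hf) s ∈ (locMap hz U hU hf).opensRange := ⟨s, rfl⟩
  rw [Scheme.Hom.opensRange_localizationAway
    (R := CommRingCat.of (Away (𝒮h.deg U hU) ((RelProj.gradedHomAt ι hz.graded U hU) f)))
    (tf hz U hU hf),
    ← kf_preimage_range hz pC chartC hPC W hW i hi E hE i' hi' U hU hf] at h1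
  rw [Scheme.Hom.comp_apply]
  exact h1

/-- The standard chart of the pointed affine cone over `D₊(f)`. -/
noncomputable def kf' : Spec (CommRingCat.of (Localization.Away (tf hz U hU hf))) ⟶
    (E : Scheme.{u}) :=
  haveI := isOpenImmersion_i' hz pC chartC hPC W i hi E i' hi'
  IsOpenImmersion.lift i' (locMap hz U hU hf ≫ kf hz pC chartC hPC W hW U hU one_pos hf)
    (range_locMap_kf_subset hz pC chartC hPC W hW i hi E hE i' hi' U hU hf)

theorem kf'_i' : kf' hz pC chartC hPC W hW i hi E hE i' hi' U hU hf ≫ i' =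
    locMap hz U hU hf ≫ kf hz pC chartC hPC W hW U hU one_pos hf :=
  haveI := isOpenImmersion_i' hz pC chartC hPC W i hi E i' hi'
  IsOpenImmersion.lift_fac _ _ _

theorem isPullback_kf' :
    IsPullback (kf' hz pC chartC hPC W hW i hi E hE i' hi' U hU hf) (locMap hz U hU hf) i'
      (kf hz pC chartC hPC W hW U hU one_pos hf) := by
  haveI := isOpenImmersion_i' hz pC chartC hPC W i hi E i' hi'
  refine IsOpenImmersion.isPullback _ _ _ _
    (kf'_i' hz pC chartC hPC W hW i hi E hE i' hi' U hU hf).symm ?_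
  rw [kf_preimage_range hz pC chartC hPC W hW i hi E hE i' hi' U hU hf]
  exact (Scheme.Hom.opensRange_localizationAway
    (R := CommRingCat.of (Away (𝒮h.deg U hU) ((RelProj.gradedHomAt ι hz.graded U hU) f)))
    (tf hz U hU hf)).symm

/-- The ring homomorphism `𝒮(U)_(f) → 𝒮h(U)_(f)[f / z]`. -/
noncomputable abbrev gf : Away (𝒮.deg U hU) f →+* Localization.Away (tf hz U hU hf) :=
  (algebraMap (Away (𝒮h.deg U hU) ((RelProj.gradedHomAt ι hz.graded U hU) f))
    (Localization.Away (tf hz U hU hf))).comp (Away.map (RelProj.gradedHomAt ι hz.graded U hU) f)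

include hP hr in
theorem isPullback_kf'_comp :
    IsPullback (kf' hz pC chartC hPC W hW i hi E hE i' hi' U hU hf)
      (Spec.map (CommRingCat.ofHom (gf hz U hU hf))) (i' ≫ r)
      (Proj.awayι (𝒮.deg U hU) f hf one_pos ≫ RelProj.emb p chart U hU) := by
  have h := (isPullback_kf' hz pC chartC hPC W hW i hi E hE i' hi' U hU hf).paste_vert
    (isPullback_kf hz pC chartC hPC p chart hP W hW r hr U hU one_pos hf)
  have e : Spec.map (CommRingCat.ofHom (gf hz U hU hf)) = locMap hz U hU hf ≫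
      Spec.map (CommRingCat.ofHom (Away.map (RelProj.gradedHomAt ι hz.graded U hU) f)) := by
    rw [← Spec.map_comp]
    rfl
  rw [e]
  exact h

end Groth.Agent.H41.RelConeFibre
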