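import Groth.Agent.H41.RelConeLib
import Groth.Agent.H41.Cone

/-!
# The canonical immersion of the affine cone into the projective cone over a general base

Consequences of `RelCone.IsConeImm`: the morphism lies over the base, is an open immersion with
image (chartwise) `D₊(z)`, and carries the pointed affine cone into the pointed projective cone.
-/

set_option autoImplicit false
universe u
open CategoryTheory CategoryTheory.Limits AlgebraicGeometry Opposite TopologicalSpace
  HomogeneousLocalization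
open scoped HomogeneousIdeal

namespace Groth.Agent.H41.RelConeImm

variable {Y PC : Scheme.{u}} {𝒮 𝒮h : RelProj.QCGrAlg Y}
  {ι : 𝒮.toQCAlg ⟶ 𝒮h.toQCAlg} {z : 𝒮h.presheaf.obj (op ⊤)} (hz : RelCone.IsPolyOver 𝒮 𝒮h ι z)
  (pC : PC ⟶ Y)
  (chartC : ∀ (U : Y.Opens) (hU : IsAffineOpen U),
    (((pC ⁻¹ᵁ U : PC.Opens) : Scheme.{u}) ≅ Proj (𝒮h.deg U hU)))
  (hPC : RelProj.IsRelProj 𝒮h pC chartC)
  (i : 𝒮.toQCAlg.spec ⟶ PC) (hi : RelCone.IsConeImm 𝒮 hz pC chartC i)

/-- The ring-level cone chart over an affine open. -/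
noncomputable abbrev cc (U : Y.Opens) (hU : IsAffineOpen U) :
    Spec (𝒮.presheaf.obj (op U)) ⟶ Proj (𝒮h.deg U hU) :=
  PolyCone.coneChart (RelProj.gradedHomAt ι hz.graded U hU) (RelCone.restrictTop 𝒮h z U)
    (hz.deg_z U hU) (RelConeLib.bij hz U hU)

include hi in
theorem chart_eq (U : Y.Opens) (hU : IsAffineOpen U) :
    𝒮.toQCAlg.ι U hU ≫ i = cc hz U hU ≫ RelProj.emb pC chartC U hU :=
  (hi U hU).trans (Category.assoc _ _ _).symm

/-- Two morphisms out of a relative spectrum agree if they agree on the charts. -/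
theorem spec_hom_ext (A : RelSpec.QCAlg Y) {Z : Scheme.{u}} (a b : A.spec ⟶ Z)
    (h : ∀ (U : Y.Opens) (hU : IsAffineOpen U), A.ι U hU ≫ a = A.ι U hU ≫ b) : a = b :=
  A.glueData.cover.hom_ext _ _ fun U => h U.1 U.2

theorem exists_chart (A : RelSpec.QCAlg Y) (c : A.spec) (U : Y.Opens) (hU : IsAffineOpen U)
    (hc : A.π c ∈ U) : ∃ c' : Spec (A.presheaf.obj (op U)), A.ι U hU c' = c := by
  have : c ∈ A.π ⁻¹ᵁ U := hc
  rw [A.π_preimage U hU] at this
  exact this

theorem exists_affine (y : Y) : ∃ U : Y.affineOpens, y ∈ (U : Y.Opens) := by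
  have : y ∈ (⊤ : Y.Opens) := trivial
  rw [← iSup_affineOpens_eq_top Y] at this
  exact Opens.mem_iSup.mp this

theorem π_ι_mem (A : RelSpec.QCAlg Y) (U : Y.Opens) (hU : IsAffineOpen U)
    (c' : Spec (A.presheaf.obj (op U))) : A.π (A.ι U hU c') ∈ U := by
  have : A.ι U hU c' ∈ (A.ι U hU).opensRange := ⟨c', rfl⟩
  rw [← A.π_preimage U hU] at this
  exact this

include hPC hi in
/-- The cone immersion lies over the base. -/
theorem comp_pC : i ≫ pC = 𝒮.toQCAlg.π := by
  apply spec_hom_ext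
  intro U hU
  rw [reassoc_of% (hi U hU), 𝒮.toQCAlg.ι_π, RelPMap2.emb_comp_p pC chartC hPC U hU,
    Proj.awayι_toSpecZero_assoc, ← Spec.map_comp_assoc, ← Spec.map_comp_assoc]
  congr 2
  ext r
  change hz.awayZToBase U hU (HomogeneousLocalization.fromZeroRingHom (𝒮h.deg U hU) _
    ((𝒮h.strZero U hU).hom r)) = (𝒮.str.app (op U)).hom r
  rw [hz.awayZToBase_of_val U hU _ ((𝒮h.str.app (op U)).hom r) 0]
  · have h1 : (𝒮h.str.app (op U)).hom r = (ι.hom.app (op U)).hom ((𝒮.str.app (op U)).hom r) := by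
      rw [← ι.comm]; rfl
    rw [h1, hz.evalOne_ι]
  · change Localization.mk _ _ = Localization.mk _ _
    congr 1
    exact Subtype.ext (pow_zero _).symm

include hPC hi in
theorem pC_apply (c : 𝒮.toQCAlg.spec) : pC (i c) = 𝒮.toQCAlg.π c := by
  rw [← Scheme.Hom.comp_apply, comp_pC hz pC chartC hPC i hi]

include hPC hi in
theorem injective : Function.Injective i := by
  intro c₁ c₂ h
  obtain ⟨U, hU⟩ := exists_affine (𝒮.toQCAlg.π c₁)
  have hU₂ : 𝒮.toQCAlg.π c₂ ∈ (U : Y.Opens) := by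
    rw [← pC_apply hz pC chartC hPC i hi, ← h, pC_apply hz pC chartC hPC i hi]; exact hU
  obtain ⟨c₁', rfl⟩ := exists_chart 𝒮.toQCAlg c₁ U.1 U.2 hU
  obtain ⟨c₂', rfl⟩ := exists_chart 𝒮.toQCAlg c₂ U.1 U.2 hU₂
  rw [← Scheme.Hom.comp_apply, ← Scheme.Hom.comp_apply, chart_eq hz pC chartC i hi U.1 U.2] at h
  have hinj : Function.Injective (cc hz U.1 U.2 ≫ RelProj.emb pC chartC U.1 U.2) :=
    (Scheme.Hom.isOpenEmbedding _).injective
  rw [hinj h]

include hPC hi in
theorem isOpenImmersion : IsOpenImmersion i := by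
  refine IsOpenImmersion.of_openCover_source i 𝒮.toQCAlg.glueData.cover
    (injective hz pC chartC hPC i hi) fun U => ?_
  change IsOpenImmersion (𝒮.toQCAlg.ι U.1 U.2 ≫ i)
  rw [chart_eq hz pC chartC i hi U.1 U.2]
  infer_instance

include hPC hi in
/-- Over an affine open, the image of the cone immersion is the chart image of `D₊(z)`. -/
theorem mem_range_iff (U : Y.Opens) (hU : IsAffineOpen U) (y : Proj (𝒮h.deg U hU)) :
    RelProj.emb pC chartC U hU y ∈ Set.range i ↔
      y ∈ Proj.basicOpen (𝒮h.deg U hU) (RelCone.restrictTop 𝒮h z U) := by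
  have hr := PolyCone.range_coneChart (RelProj.gradedHomAt ι hz.graded U hU)
    (RelCone.restrictTop 𝒮h z U) (hz.deg_z U hU) (RelConeLib.bij hz U hU)
  constructor
  · rintro ⟨c, hc⟩
    have hcU : 𝒮.toQCAlg.π c ∈ U := by
      rw [← pC_apply hz pC chartC hPC i hi, hc]
      exact RelPMap2.emb_mem pC chartC U hU y
    obtain ⟨c', rfl⟩ := exists_chart 𝒮.toQCAlg c U hU hcU
    rw [← Scheme.Hom.comp_apply, chart_eq hz pC chartC i hi U hU, Scheme.Hom.comp_apply] at hc
    have hinj : Function.Injective (RelProj.emb pC chartC U hU) :=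
      (Scheme.Hom.isOpenEmbedding _).injective
    have := hinj hc
    rw [← this]
    have h2 : (cc hz U hU) c' ∈ Set.range (cc hz U hU).base := ⟨c', rfl⟩
    rw [hr] at h2
    exact h2
  · intro hy
    have h2 : y ∈ Set.range (cc hz U hU).base := by rw [hr]; exact hy
    obtain ⟨c', rfl⟩ := h2
    refine ⟨𝒮.toQCAlg.ι U hU c', ?_⟩
    rw [← Scheme.Hom.comp_apply, chart_eq hz pC chartC i hi U hU, Scheme.Hom.comp_apply]

/-- The cone immersion carries exactly the pointed affine cone into the pointed projective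
cone, chartwise. -/
theorem chart_mem_pointedProjCone_iff (U : Y.Opens) (hU : IsAffineOpen U)
    (c' : Spec (𝒮.presheaf.obj (op U))) :
    cc hz U hU c' ∈ RelCone.domOpen (RelProj.gradedHomAt ι hz.graded U hU) ↔
      c' ∈ RelCone.vertexCompl (𝒮.deg U hU) := by
  rw [Cone.mem_vertexCompl]
  exact PolyCone.coneChart_mem_domOpen_iff (RelProj.gradedHomAt ι hz.graded U hU)
    (RelCone.restrictTop 𝒮h z U) (hz.deg_z U hU) (RelConeLib.bij hz U hU) c'

end Groth.Agent.H41.RelConeImm
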