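import Groth.Agent.H41.RelConeImm
import Groth.Agent.H41.RelProj

/-!
# The immersion at infinity of the projective cone over a general base

`j : Proj 𝒮 ⟶ Ĉ = Proj 𝒮[z]` induced by the graded retraction `θ : 𝒮[z] → 𝒮`, `z ↦ 0`: its image
is chartwise `V₊(z)`, the complement of the image of the affine cone.
-/

set_option autoImplicit false
universe u
open CategoryTheory CategoryTheory.Limits AlgebraicGeometry Opposite TopologicalSpace
  HomogeneousLocalization
open scoped HomogeneousIdeal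

namespace Groth.Agent.H41.RelConeInf

variable {Y PC P : Scheme.{u}} {𝒮 𝒮h : RelProj.QCGrAlg Y}
  {ι : 𝒮.toQCAlg ⟶ 𝒮h.toQCAlg} {z : 𝒮h.presheaf.obj (op ⊤)} (hz : RelCone.IsPolyOver 𝒮 𝒮h ι z)
  (pC : PC ⟶ Y)
  (chartC : ∀ (U : Y.Opens) (hU : IsAffineOpen U),
    (((pC ⁻¹ᵁ U : PC.Opens) : Scheme.{u}) ≅ Proj (𝒮h.deg U hU)))
  (hPC : RelProj.IsRelProj 𝒮h pC chartC)
  (θ : 𝒮h.toQCAlg ⟶ 𝒮.toQCAlg) (hθ : RelProj.IsGradedHom θ) (hιθ : ι ≫ θ = 𝟙 _)
  (hθz : (θ.hom.app (op ⊤)).hom z = 0)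
  (hirr : ∀ (U : Y.Opens) (hU : IsAffineOpen U),
    (𝒮.deg U hU)₊ ≤ ((𝒮h.deg U hU)₊).map (RelProj.gradedHomAt θ hθ U hU))
  (p : P ⟶ Y)
  (chart : ∀ (U : Y.Opens) (hU : IsAffineOpen U),
    (((p ⁻¹ᵁ U : P.Opens) : Scheme.{u}) ≅ Proj (𝒮.deg U hU)))
  (hP : RelProj.IsRelProj 𝒮 p chart)
  (j : P ⟶ PC) (hj : RelProj.IsRelProjMap θ hθ hirr chartC chart j)

include hιθ in
theorem θ_ι (U : Y.Opens) (hU : IsAffineOpen U) (a : 𝒮.presheaf.obj (op U)) :
    (RelProj.gradedHomAt θ hθ U hU) ((RelProj.gradedHomAt ι hz.graded U hU) a) = a := by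
  have := congrArg (fun f : 𝒮.toQCAlg ⟶ 𝒮.toQCAlg => (f.hom.app (op U)).hom a) hιθ
  exact this

include hθz in
theorem θ_z (U : Y.Opens) (hU : IsAffineOpen U) :
    (RelProj.gradedHomAt θ hθ U hU) (RelCone.restrictTop 𝒮h z U) = 0 := by
  have h1 := congrArg (fun f => f.hom z) (θ.hom.naturality (homOfLE (le_top : U ≤ ⊤)).op)
  simp only [CommRingCat.hom_comp, RingHom.comp_apply] at h1
  change (θ.hom.app (op U)).hom ((𝒮h.presheaf.map (homOfLE le_top).op).hom z) = 0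
  rw [h1, hθz, map_zero]

include hj in
theorem emb_comp_j (U : Y.Opens) (hU : IsAffineOpen U) :
    RelProj.emb p chart U hU ≫ j =
      Proj.map (RelProj.gradedHomAt θ hθ U hU) (hirr U hU) ≫ RelProj.emb pC chartC U hU := by
  rw [RelProj.emb, Category.assoc, hj U hU, Iso.inv_hom_id_assoc]
  rfl

include hz hιθ hθz hPC hP hj in
/-- Over an affine open, the image of the immersion at infinity is the chart image of `V₊(z)`. -/
theorem mem_range_j_iff (U : Y.Opens) (hU : IsAffineOpen U) (y : Proj (𝒮h.deg U hU)) :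
    RelProj.emb pC chartC U hU y ∈ Set.range j ↔
      y ∉ Proj.basicOpen (𝒮h.deg U hU) (RelCone.restrictTop 𝒮h z U) := by
  have hr := PolyCone.range_projMap_eq (RelProj.gradedHomAt ι hz.graded U hU)
    (RelCone.restrictTop 𝒮h z U) (hz.deg_z U hU) (RelProj.gradedHomAt θ hθ U hU)
    (θ_ι hz θ hθ hιθ U hU) (θ_z θ hθ hθz U hU) (hirr U hU) (RelConeLib.bij hz U hU).2
  have hinj : Function.Injective (RelProj.emb pC chartC U hU) :=
    (Scheme.Hom.isOpenEmbedding _).injective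
  have hcomp : j ≫ pC = p :=
    RelProj.relProjMap_comp θ hθ hirr chartC chart hPC hP j hj
  constructor
  · rintro ⟨t, ht⟩
    have htU : p t ∈ U := by
      rw [← hcomp, Scheme.Hom.comp_apply, ht]
      exact RelPMap2.emb_mem pC chartC U hU y
    have ht' : t ∈ p ⁻¹ᵁ U := htU
    have h1 : RelProj.emb p chart U hU ((chart U hU).hom ⟨t, ht'⟩) = t :=
      RelPMap2.emb_chart_apply p chart U hU t ht'
    rw [← h1, ← Scheme.Hom.comp_apply, emb_comp_j pC chartC θ hθ hirr p chart j hj U hU,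
      Scheme.Hom.comp_apply] at ht
    have h2 := hinj ht
    have h3 : y ∈ Set.range (Proj.map (RelProj.gradedHomAt θ hθ U hU) (hirr U hU)).base :=
      ⟨_, h2⟩
    rw [hr] at h3
    exact h3
  · intro hy
    have h3 : y ∈ Set.range (Proj.map (RelProj.gradedHomAt θ hθ U hU) (hirr U hU)).base := by
      rw [hr]; exact hy
    obtain ⟨w, rfl⟩ := h3
    refine ⟨RelProj.emb p chart U hU w, ?_⟩
    rw [← Scheme.Hom.comp_apply, emb_comp_j pC chartC θ hθ hirr p chart j hj U hU,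
      Scheme.Hom.comp_apply]

variable (i : 𝒮.toQCAlg.spec ⟶ PC) (hi : RelCone.IsConeImm 𝒮 hz pC chartC i)

include hz hιθ hθz hPC hP hj hi in
/-- The image of the affine cone is the complement of the part at infinity. -/
theorem range_i_eq_compl_range_j : Set.range i = (Set.range j)ᶜ := by
  ext x
  obtain ⟨U, hxU⟩ := RelConeImm.exists_affine (pC x)
  have hx : x ∈ pC ⁻¹ᵁ (U : Y.Opens) := hxU
  have h1 : RelProj.emb pC chartC U.1 U.2 ((chartC U.1 U.2).hom ⟨x, hx⟩) = x :=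
    RelPMap2.emb_chart_apply pC chartC U.1 U.2 x hx
  rw [Set.mem_compl_iff, ← h1, RelConeImm.mem_range_iff hz pC chartC hPC i hi U.1 U.2,
    mem_range_j_iff hz pC chartC hPC θ hθ hιθ hθz hirr p chart hP j hj U.1 U.2, not_not]

end Groth.Agent.H41.RelConeInf
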