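import Groth.Agent.H41.RelPMap9
import Groth.Agent.H41.PolyConeChart

/-!
# The pointed projective cone over a general base and its canonical retraction

`Ê = RelCone.pointedProjCone` is the open of definition `G(ι)` of `Proj(ι)` for the presentation
`ι : 𝒮 → 𝒮[z]`; the canonical retraction `Ê ⟶ Proj 𝒮` is affine, surjective, lies over the base,
and retracts the immersion at infinity.
-/

set_option autoImplicit false
universe u
open CategoryTheory CategoryTheory.Limits AlgebraicGeometry Opposite TopologicalSpace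
  HomogeneousLocalization
open scoped HomogeneousIdeal

namespace Groth.Agent.H41.RelConeLib

variable {Y PC P : Scheme.{u}} {𝒮 𝒮h : RelProj.QCGrAlg Y}
  {ι : 𝒮.toQCAlg ⟶ 𝒮h.toQCAlg} {z : 𝒮h.presheaf.obj (op ⊤)} (hz : RelCone.IsPolyOver 𝒮 𝒮h ι z)
  (pC : PC ⟶ Y)
  (chartC : ∀ (U : Y.Opens) (hU : IsAffineOpen U),
    (((pC ⁻¹ᵁ U : PC.Opens) : Scheme.{u}) ≅ Proj (𝒮h.deg U hU)))
  (hPC : RelProj.IsRelProj 𝒮h pC chartC)
  (p : P ⟶ Y)
  (chart : ∀ (U : Y.Opens) (hU : IsAffineOpen U),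
    (((p ⁻¹ᵁ U : P.Opens) : Scheme.{u}) ≅ Proj (𝒮.deg U hU)))
  (hP : RelProj.IsRelProj 𝒮 p chart)

include hPC in
/-- The pointed projective cone is the open of definition of `Proj(ι)`. -/
theorem pointedProjCone_eq_domQ :
    RelCone.pointedProjCone 𝒮 hz pC chartC =
      RelProj.domQ (RelProj.QGrHom.ofHom ι hz.graded) pC chartC := by
  apply le_antisymm
  · refine iSup_le fun U => ?_
    rw [← RelPMap3.domQ_inf_preimage ι hz.graded chartC hPC U.1 U.2]
    exact inf_le_left
  · intro x hx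
    obtain ⟨U, hxU⟩ : ∃ U : Y.affineOpens, pC x ∈ (U : Y.Opens) := by
      have : pC x ∈ (⊤ : Y.Opens) := trivial
      rw [← iSup_affineOpens_eq_top Y] at this
      exact Opens.mem_iSup.mp this
    have hx' : x ∈ RelProj.domQ (RelProj.QGrHom.ofHom ι hz.graded) pC chartC ⊓
        pC ⁻¹ᵁ (U : Y.Opens) := ⟨hx, hxU⟩
    rw [RelPMap3.domQ_inf_preimage ι hz.graded chartC hPC U.1 U.2] at hx'
    exact Opens.mem_iSup.mpr ⟨U, hx'⟩

/-- The polynomial presentation over an affine open, in the form used by `PolyCone`. -/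
theorem bij (U : Y.Opens) (hU : IsAffineOpen U) :
    Function.Bijective (Polynomial.eval₂RingHom (RelProj.gradedHomAt ι hz.graded U hU).toRingHom
      (RelCone.restrictTop 𝒮h z U)) :=
  hz.bij U hU

section props

variable (W : PC.Opens) (hW : W = RelProj.domQ (RelProj.QGrHom.ofHom ι hz.graded) pC chartC)
  (r : (W : Scheme.{u}) ⟶ P) (hr : RelPMap9.Chartwise ι hz.graded chart chartC W r)

include hP hPC hW hr in
theorem isAffineHom : IsAffineHom r := by
  have hΦ := RelPMap9.isProjQMapOn_of_chartwise ι hz.graded chart chartC hP hPC W hW r hr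
  subst hW
  exact RelPMap3.isAffineHom ι hz.graded chart chartC hP hPC r hΦ

include hP hPC hW hr in
theorem surjective : Function.Surjective r.base := by
  have hΦ := RelPMap9.isProjQMapOn_of_chartwise ι hz.graded chart chartC hP hPC W hW r hr
  subst hW
  have : Surjective r := by
    rw [RelPMap3.iff_forall ι hz.graded chart chartC hP hPC r hΦ @Surjective]
    intro U hU
    exact ⟨PolyCone.map_surjective_of_poly (RelProj.gradedHomAt ι hz.graded U hU)
      (RelCone.restrictTop 𝒮h z U) (hz.deg_z U hU) (bij hz U hU)⟩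
  exact this.surj

include hP hPC hW hr in
theorem comp_p : r ≫ p = W.ι ≫ pC := by
  have hΦ := RelPMap9.isProjQMapOn_of_chartwise ι hz.graded chart chartC hP hPC W hW r hr
  subst hW
  have := RelPMap2.comp_p (RelProj.QGrHom.ofHom ι hz.graded) p chart hP pC chartC hPC r hΦ
  rw [this, Category.comp_id]

include hr in
/-- The canonical retraction retracts the immersion at infinity. -/
theorem retraction (θ : 𝒮h.toQCAlg ⟶ 𝒮.toQCAlg) (hθ : RelProj.IsGradedHom θ)
    (hιθ : ι ≫ θ = 𝟙 _)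
    (hirr : ∀ (U : Y.Opens) (hU : IsAffineOpen U),
      (𝒮.deg U hU)₊ ≤ ((𝒮h.deg U hU)₊).map (RelProj.gradedHomAt θ hθ U hU))
    (j : P ⟶ PC) (hj : RelProj.IsRelProjMap θ hθ hirr chartC chart j)
    (j' : P ⟶ (W : Scheme.{u})) (hj' : j' ≫ W.ι = j) : j' ≫ r = 𝟙 P := by
  apply Glue.hom_ext p
  intro U
  have hψφ : ∀ a : 𝒮.presheaf.obj (op U.1),
      (RelProj.gradedHomAt θ hθ U.1 U.2) ((RelProj.gradedHomAt ι hz.graded U.1 U.2) a) = a := by
    intro a
    have := congrArg (fun f : 𝒮.toQCAlg ⟶ 𝒮.toQCAlg => (f.hom.app (op U.1)).hom a) hιθ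
    exact this
  let b : ((p ⁻¹ᵁ (U : Y.Opens) : P.Opens) : Scheme.{u}) ⟶
      (RelCone.domOpen (RelProj.gradedHomAt ι hz.graded U.1 U.2) : Scheme.{u}) :=
    IsOpenImmersion.lift (RelCone.domOpen (RelProj.gradedHomAt ι hz.graded U.1 U.2)).ι
      ((chart U.1 U.2).hom ≫ Proj.map (RelProj.gradedHomAt θ hθ U.1 U.2) (hirr U.1 U.2))
      (by
        rw [Scheme.Opens.range_ι]
        rintro _ ⟨y, rfl⟩
        apply PolyCone.range_projMap_subset (RelProj.gradedHomAt ι hz.graded U.1 U.2)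
          (RelProj.gradedHomAt θ hθ U.1 U.2) hψφ (hirr U.1 U.2)
        exact ⟨(chart U.1 U.2).hom y, rfl⟩)
  have hb : b ≫ (RelCone.domOpen (RelProj.gradedHomAt ι hz.graded U.1 U.2)).ι =
      (chart U.1 U.2).hom ≫ Proj.map (RelProj.gradedHomAt θ hθ U.1 U.2) (hirr U.1 U.2) :=
    IsOpenImmersion.lift_fac _ _ _
  have h1 := hr U.1 U.2 ((p ⁻¹ᵁ (U : Y.Opens)).ι ≫ j') b (by
    rw [Category.assoc, hj', hj U.1 U.2, reassoc_of% hb]
    rfl)
  rw [Category.assoc] at h1
  rw [h1, ← Category.assoc,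
    PolyCone.section_map (RelProj.gradedHomAt ι hz.graded U.1 U.2)
      (RelProj.gradedHomAt θ hθ U.1 U.2) hψφ (hirr U.1 U.2) (chart U.1 U.2).hom b hb,
    RelProj.emb, Iso.hom_inv_id_assoc, Category.comp_id]

end props

end Groth.Agent.H41.RelConeLib
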