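import Groth.Agent.H41.RelConeVertex
import Groth.Agent.H41.PolyConeRetr

/-!
# The retraction of the pointed affine cone onto `Proj 𝒮` over a general base
-/

set_option autoImplicit false
universe u
open CategoryTheory CategoryTheory.Limits AlgebraicGeometry Opposite TopologicalSpace
  HomogeneousLocalization
open scoped HomogeneousIdeal

namespace Groth.Agent.H41.RelConeRetr

variable {Y PC P : Scheme.{u}} {𝒮 𝒮h : RelProj.QCGrAlg Y}
  {ι : 𝒮.toQCAlg ⟶ 𝒮h.toQCAlg} {z : 𝒮h.presheaf.obj (op ⊤)} (hz : RelCone.IsPolyOver 𝒮 𝒮h ι z)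
  (pC : PC ⟶ Y)
  (chartC : ∀ (U : Y.Opens) (hU : IsAffineOpen U),
    (((pC ⁻¹ᵁ U : PC.Opens) : Scheme.{u}) ≅ Proj (𝒮h.deg U hU)))
  (hPC : RelProj.IsRelProj 𝒮h pC chartC)
  (p : P ⟶ Y)
  (chart : ∀ (U : Y.Opens) (hU : IsAffineOpen U),
    (((p ⁻¹ᵁ U : P.Opens) : Scheme.{u}) ≅ Proj (𝒮.deg U hU)))
  (hP : RelProj.IsRelProj 𝒮 p chart)
  (i : 𝒮.toQCAlg.spec ⟶ PC) (hi : RelCone.IsConeImm 𝒮 hz pC chartC i)

include hPC hi in
/-- The pointed affine cone is the preimage of the pointed projective cone. -/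
theorem pointedCone_eq_preimage :
    RelCone.pointedCone 𝒮 = i ⁻¹ᵁ (RelCone.pointedProjCone 𝒮 hz pC chartC) := by
  ext c
  obtain ⟨U, hcU⟩ := RelConeImm.exists_affine (𝒮.toQCAlg.π c)
  obtain ⟨c', rfl⟩ := RelConeImm.exists_chart 𝒮.toQCAlg c U.1 U.2 hcU
  change 𝒮.toQCAlg.ι U.1 U.2 c' ∈ RelCone.pointedCone 𝒮 ↔
    i (𝒮.toQCAlg.ι U.1 U.2 c') ∈ RelCone.pointedProjCone 𝒮 hz pC chartC
  rw [Cone.mem_pointedCone_iff 𝒮 U.1 U.2 c', ← Scheme.Hom.comp_apply,
    RelConeImm.chart_eq hz pC chartC i hi U.1 U.2, Scheme.Hom.comp_apply,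
    RelConeVertex.emb_mem_pointedProjCone_iff hz pC chartC hPC U.1 U.2,
    RelConeImm.chart_mem_pointedProjCone_iff hz U.1 U.2 c']

section retr

variable (W : PC.Opens) (hW : W = RelProj.domQ (RelProj.QGrHom.ofHom ι hz.graded) pC chartC)
  (r : (W : Scheme.{u}) ⟶ P) (hr : RelPMap9.Chartwise ι hz.graded chart chartC W r)

include hPC hW hr in
/-- Pointwise chart description of the canonical retraction. -/
theorem apply_eq (U : Y.Opens) (hU : IsAffineOpen U) (t : (W : Scheme.{u}))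
    (y : Proj (𝒮h.deg U hU)) (hy : y ∈ RelCone.domOpen (RelProj.gradedHomAt ι hz.graded U hU))
    (ht : W.ι t = RelProj.emb pC chartC U hU y) :
    r t = RelProj.emb p chart U hU ((PMap.map (RelProj.gradedHomAt ι hz.graded U hU)) ⟨y, hy⟩) := by
  rw [RelPMap9.chartwise_iff ι hz.graded chart chartC hPC W hW] at hr
  have h1 : t = (RelPMap9.jW ι hz.graded chartC hPC W hW U hU) ⟨y, hy⟩ := by
    apply W.ι.isOpenEmbedding.injective
    rw [← Scheme.Hom.comp_apply, RelPMap9.jW_ι, Scheme.Hom.comp_apply]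
    exact ht
  rw [h1, ← Scheme.Hom.comp_apply, hr U hU, Scheme.Hom.comp_apply]

variable (E : 𝒮.toQCAlg.spec.Opens) (hE : E = RelCone.pointedCone 𝒮)
  (i' : (E : Scheme.{u}) ⟶ (W : Scheme.{u})) (hi' : i' ≫ W.ι = E.ι ≫ i)

include hPC hi hW hr hE hi' in
/-- The retraction of the pointed affine cone onto `Proj 𝒮` is surjective. -/
theorem surjective_comp : Function.Surjective (i' ≫ r).base := by
  intro x
  obtain ⟨U, hxU⟩ := RelConeImm.exists_affine (p x)
  have hx : x ∈ p ⁻¹ᵁ (U : Y.Opens) := hxU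
  have h1 : RelProj.emb p chart U.1 U.2 ((chart U.1 U.2).hom ⟨x, hx⟩) = x :=
    RelPMap2.emb_chart_apply p chart U.1 U.2 x hx
  obtain ⟨c', hc'v, hc, hcw⟩ := PolyCone.exists_cone_point
    (RelProj.gradedHomAt ι hz.graded U.1 U.2) (RelCone.restrictTop 𝒮h z U.1)
    (hz.deg_z U.1 U.2) (RelConeLib.bij hz U.1 U.2) ((chart U.1 U.2).hom ⟨x, hx⟩)
  have hcE : 𝒮.toQCAlg.ι U.1 U.2 c' ∈ E := by
    rw [hE, Cone.mem_pointedCone_iff 𝒮 U.1 U.2 c', Cone.mem_vertexCompl]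
    exact hc'v
  refine ⟨⟨𝒮.toQCAlg.ι U.1 U.2 c', hcE⟩, ?_⟩
  rw [Scheme.Hom.comp_apply]
  have ht : W.ι (i' ⟨𝒮.toQCAlg.ι U.1 U.2 c', hcE⟩) =
      RelProj.emb pC chartC U.1 U.2 ((RelConeImm.cc hz U.1 U.2) c') := by
    rw [← Scheme.Hom.comp_apply, hi', Scheme.Hom.comp_apply]
    change i (𝒮.toQCAlg.ι U.1 U.2 c') = _
    rw [← Scheme.Hom.comp_apply, RelConeImm.chart_eq hz pC chartC i hi U.1 U.2,
      Scheme.Hom.comp_apply]
  rw [apply_eq hz pC chartC hPC p chart W hW r hr U.1 U.2 _ _ hc ht, hcw, h1]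

include hPC hi hP hW hr hE hi' in
/-- The retraction of the pointed affine cone onto `Proj 𝒮` is affine. -/
theorem isAffineHom_comp [IsAffineHom i] : IsAffineHom (i' ≫ r) := by
  have hW' : W = RelCone.pointedProjCone 𝒮 hz pC chartC :=
    hW.trans (RelConeLib.pointedProjCone_eq_domQ hz pC chartC hPC).symm
  have hpb : IsPullback i' E.ι W.ι i := by
    refine IsOpenImmersion.isPullback _ _ _ _ hi'.symm ?_
    rw [Scheme.Opens.opensRange_ι, Scheme.Opens.opensRange_ι, hE, hW',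
      pointedCone_eq_preimage hz pC chartC hPC i hi]
  have h1 : IsAffineHom i' := MorphismProperty.of_isPullback hpb.flip inferInstance
  have h2 : IsAffineHom r := RelConeLib.isAffineHom hz pC chartC hPC p chart hP W hW r hr
  infer_instance

end retr

end Groth.Agent.H41.RelConeRetr
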