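import Groth.Agent.H41.RelSquare
import Groth.Agent.H41.RelConeLib
import Groth.Agent.H41.PolyConeChart

/-!
# The square `ι' ∘ u = û ∘ ι` of the functoriality of projective cones
-/

set_option autoImplicit false
universe u
open CategoryTheory CategoryTheory.Limits AlgebraicGeometry Opposite TopologicalSpace
  HomogeneousLocalization
open scoped HomogeneousIdeal

namespace Groth.Agent.H41.RelConeSquare

variable {Y Y' : Scheme.{u}} {q : Y' ⟶ Y}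
  {𝒮 : RelProj.QCGrAlg Y} {𝒮' : RelProj.QCGrAlg Y'}
  (u : RelProj.QGrHom q 𝒮 𝒮')
  {𝒮h : RelProj.QCGrAlg Y} {ι : 𝒮.toQCAlg ⟶ 𝒮h.toQCAlg} {z : 𝒮h.presheaf.obj (op ⊤)}
  (hz : RelCone.IsPolyOver 𝒮 𝒮h ι z)
  {𝒮h' : RelProj.QCGrAlg Y'} {ι' : 𝒮'.toQCAlg ⟶ 𝒮h'.toQCAlg} {z' : 𝒮h'.presheaf.obj (op ⊤)}
  (hz' : RelCone.IsPolyOver 𝒮' 𝒮h' ι' z')
  (uh : RelProj.QGrHom q 𝒮h 𝒮h')
  (huh : ∀ U : Y.Opens, ι.hom.app (op U) ≫ uh.app U = u.app U ≫ ι'.hom.app (op (q ⁻¹ᵁ U)))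
  (huhz : (uh.app ⊤).hom z = RelCone.restrictTop 𝒮h' z' (q ⁻¹ᵁ ⊤))

include huh in
theorem appLE_comm (U : Y.Opens) (U' : Y'.Opens) (hle : U' ≤ q ⁻¹ᵁ U) :
    u.appLE U U' hle ≫ ι'.hom.app (op U') = ι.hom.app (op U) ≫ uh.appLE U U' hle := by
  have hnat : 𝒮'.presheaf.map (homOfLE hle).op ≫ ι'.hom.app (op U') =
      ι'.hom.app (op (q ⁻¹ᵁ U)) ≫ 𝒮h'.presheaf.map (homOfLE hle).op :=
    ι'.hom.naturality (homOfLE hle).op
  rw [RelSpec.QHom.appLE, RelSpec.QHom.appLE, Category.assoc, hnat,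
    ← Category.assoc, ← huh U, Category.assoc]

include huh in
theorem hsq (U : Y.Opens) (hU : IsAffineOpen U) (U' : Y'.Opens) (hU' : IsAffineOpen U')
    (hle : U' ≤ q ⁻¹ᵁ U) :
    (RelProj.gradedHomAt ι' hz'.graded U' hU').comp (u.gradedAt U hU U' hU' hle) =
      (uh.gradedAt U hU U' hU' hle).comp (RelProj.gradedHomAt ι hz.graded U hU) := by
  ext x
  exact congr($(appLE_comm u uh huh U U' hle) x)

include huhz in
theorem uh_z (U : Y.Opens) (hU : IsAffineOpen U) (U' : Y'.Opens) (hU' : IsAffineOpen U')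
    (hle : U' ≤ q ⁻¹ᵁ U) :
    uh.gradedAt U hU U' hU' hle (RelCone.restrictTop 𝒮h z U) = RelCone.restrictTop 𝒮h' z' U' := by
  have h1 := uh.map_appLE (U := ⊤) (V := U) (U' := U') le_top hle
  have h2 : (uh.appLE U U' hle).hom ((𝒮h.presheaf.map (homOfLE (le_top : U ≤ ⊤)).op).hom z) =
      (uh.appLE ⊤ U' (hle.trans (q.preimage_mono le_top))).hom z := congr($h1 z)
  change (uh.appLE U U' hle).hom ((𝒮h.presheaf.map (homOfLE (le_top : U ≤ ⊤)).op).hom z) = _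
  rw [h2, RelSpec.QHom.appLE]
  change (𝒮h'.presheaf.map _).hom ((uh.app ⊤).hom z) = _
  rw [huhz]
  change ((𝒮h'.presheaf.map _) ≫ (𝒮h'.presheaf.map _)).hom z' = _
  rw [← Functor.map_comp]
  rfl

end Groth.Agent.H41.RelConeSquare
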