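import Groth.Agent.H41.RelSquare

/-!
# Commutative squares of graded morphisms: the induced square of partial morphisms commutes
-/

set_option autoImplicit false
universe u
open CategoryTheory CategoryTheory.Limits AlgebraicGeometry Opposite TopologicalSpace
  HomogeneousLocalization
open scoped HomogeneousIdeal

namespace Groth.Agent.H41.RelSquare

section square

variable {Y Y' : Scheme.{u}} {q : Y' ⟶ Y}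
  {𝒮 𝒯 : RelProj.QCGrAlg Y} {𝒮' 𝒯' : RelProj.QCGrAlg Y'}
  (φ : 𝒮.toQCAlg ⟶ 𝒯.toQCAlg) (hφ : RelProj.IsGradedHom φ)
  (φ' : 𝒮'.toQCAlg ⟶ 𝒯'.toQCAlg) (hφ' : RelProj.IsGradedHom φ')
  (u : RelProj.QGrHom q 𝒮 𝒮') (w : RelProj.QGrHom q 𝒯 𝒯')
  (hsq : ∀ (U : Y.Opens) (hU : IsAffineOpen U) (U' : Y'.Opens) (hU' : IsAffineOpen U')
    (hle : U' ≤ q ⁻¹ᵁ U),
    (RelProj.gradedHomAt φ' hφ' U' hU').comp (u.gradedAt U hU U' hU' hle) =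
      (w.gradedAt U hU U' hU' hle).comp (RelProj.gradedHomAt φ hφ U hU))
  {P PT P' PT' : Scheme.{u}}
  (p : P ⟶ Y)
  (chart : ∀ (U : Y.Opens) (hU : IsAffineOpen U),
    (((p ⁻¹ᵁ U : P.Opens) : Scheme.{u}) ≅ Proj (𝒮.deg U hU)))
  (pT : PT ⟶ Y)
  (chartT : ∀ (U : Y.Opens) (hU : IsAffineOpen U),
    (((pT ⁻¹ᵁ U : PT.Opens) : Scheme.{u}) ≅ Proj (𝒯.deg U hU)))
  (hPT : RelProj.IsRelProj 𝒯 pT chartT)
  (p' : P' ⟶ Y')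
  (chart' : ∀ (U : Y'.Opens) (hU : IsAffineOpen U),
    (((p' ⁻¹ᵁ U : P'.Opens) : Scheme.{u}) ≅ Proj (𝒮'.deg U hU)))
  (pT' : PT' ⟶ Y')
  (chartT' : ∀ (U : Y'.Opens) (hU : IsAffineOpen U),
    (((pT' ⁻¹ᵁ U : PT'.Opens) : Scheme.{u}) ≅ Proj (𝒯'.deg U hU)))
  (hPT' : RelProj.IsRelProj 𝒯' pT' chartT')
  (Wφ : PT.Opens) (hWφ : Wφ = RelProj.domQ (RelProj.QGrHom.ofHom φ hφ) pT chartT)
  (Wφ' : PT'.Opens) (hWφ' : Wφ' = RelProj.domQ (RelProj.QGrHom.ofHom φ' hφ') pT' chartT')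
  (Rφ : (Wφ : Scheme.{u}) ⟶ P)
  (hRφ : RelPMap9.Chartwise φ hφ chart chartT Wφ Rφ)
  (Rφ' : (Wφ' : Scheme.{u}) ⟶ P')
  (hRφ' : RelPMap9.Chartwise φ' hφ' chart' chartT' Wφ' Rφ')
  (Φw : ((RelProj.domQ w pT' chartT' : PT'.Opens) : Scheme.{u}) ⟶ PT)
  (hΦw : RelProj.IsProjQMapOn w pT chartT pT' chartT' (RelProj.domQ w pT' chartT') Φw)
  (Φu : ((RelProj.domQ u p' chart' : P'.Opens) : Scheme.{u}) ⟶ P)
  (hΦu : RelProj.IsProjQMapOn u p chart p' chart' (RelProj.domQ u p' chart') Φu)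

include hsq hPT hPT' hWφ hWφ' hΦw hRφ hRφ' hΦu in
/-- `Proj(φ) ∘ Proj(w) = Proj(u) ∘ Proj(φ')` on `T`-valued points. -/
theorem comm {T : Scheme.{u}} (a : T ⟶ (Wφ' : Scheme.{u}))
    (b : T ⟶ ((RelProj.domQ w pT' chartT' : PT'.Opens) : Scheme.{u}))
    (c : T ⟶ (Wφ : Scheme.{u}))
    (hab : a ≫ Wφ'.ι = b ≫ (RelProj.domQ w pT' chartT').ι) (hbc : b ≫ Φw = c ≫ Wφ.ι)
    (d : T ⟶ ((RelProj.domQ u p' chart' : P'.Opens) : Scheme.{u}))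
    (had : a ≫ Rφ' = d ≫ (RelProj.domQ u p' chart').ι) :
    c ≫ Rφ = d ≫ Φu := by
  -- cover `T` by the preimages of the affine pairs
  let I := {V : Y.affineOpens × Y'.affineOpens // (V.2 : Y'.Opens) ≤ q ⁻¹ᵁ (V.1 : Y.Opens)}
  let TV : I → T.Opens := fun V =>
    (b ≫ (RelProj.domQ w pT' chartT').ι ≫ pT') ⁻¹ᵁ (V.1.2 : Y'.Opens)
  have hcov : IsOpenCover TV := by
    rw [IsOpenCover, eq_top_iff]
    rintro t -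
    obtain ⟨V, hV⟩ := PairGlue.exists_pair q
      ((b ≫ (RelProj.domQ w pT' chartT').ι ≫ pT') t)
    exact Opens.mem_iSup.mpr ⟨V, hV⟩
  refine Scheme.Cover.hom_ext (T.openCoverOfIsOpenCover TV hcov) _ _ fun V => ?_
  obtain ⟨⟨⟨U, hU⟩, ⟨U', hU'⟩⟩, hle⟩ := V
  change (TV ⟨⟨⟨U, hU⟩, ⟨U', hU'⟩⟩, hle⟩).ι ≫ c ≫ Rφ = (TV ⟨⟨⟨U, hU⟩, ⟨U', hU'⟩⟩, hle⟩).ι ≫ d ≫ Φu
  set T₀ := TV ⟨⟨⟨U, hU⟩, ⟨U', hU'⟩⟩, hle⟩ with hT₀
  -- the graded homomorphisms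
  set ρ₁ := RelProj.gradedHomAt φ hφ U hU with hρ₁
  set ψ₁ := w.gradedAt U hU U' hU' hle with hψ₁
  set ρ₂ := u.gradedAt U hU U' hU' hle with hρ₂
  set ψ₂ := RelProj.gradedHomAt φ' hφ' U' hU' with hψ₂
  set γ := ψ₁.comp ρ₁ with hγ
  have hE₁ : γ = ψ₁.comp ρ₁ := rfl
  have hE₂ : γ = ψ₂.comp ρ₂ := (hsq U hU U' hU' hle).symm
  -- the point of `Proj 𝒯'(U')`
  set β : (T₀ : Scheme.{u}) ⟶ PT' := T₀.ι ≫ b ≫ (RelProj.domQ w pT' chartT').ι with hβ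
  have hβa : β = T₀.ι ≫ a ≫ Wφ'.ι := by rw [hβ, hab]
  have hrange : Set.range β.base ⊆
      Set.range ((RelCone.domOpen γ).ι ≫ RelProj.emb pT' chartT' U' hU').base := by
    rintro _ ⟨t, rfl⟩
    have hx : (RelProj.domQ w pT' chartT').ι ((T₀.ι ≫ b) t) ∈ pT' ⁻¹ᵁ U' := t.2
    obtain ⟨hy, hΦ⟩ := RelPMap7.apply_eq w pT chartT pT' chartT' hPT' Φw hΦw U hU U' hU' hle
      ((T₀.ι ≫ b) t) hx
    set y := (chartT' U' hU').hom ⟨(RelProj.domQ w pT' chartT').ι ((T₀.ι ≫ b) t), hx⟩ with hydef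
    have h0 : Φw ((T₀.ι ≫ b) t) ∈ Wφ := by
      have : Φw ((T₀.ι ≫ b) t) = Wφ.ι ((T₀.ι ≫ c) t) := by
        rw [← Scheme.Hom.comp_apply, ← Scheme.Hom.comp_apply, Category.assoc, Category.assoc, hbc]
      rw [this]
      exact ((T₀.ι ≫ c) t).2
    rw [hΦ, emb_mem_iff φ hφ chartT hPT Wφ hWφ U hU] at h0
    have h1 : (⟨y, hy⟩ : (RelCone.domOpen ψ₁ : Scheme.{u})) ∈
        (PMap.map ψ₁) ⁻¹ᵁ (RelCone.domOpen ρ₁) := h0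
    rw [PMap.map_preimage_domOpen] at h1
    have h3 : RelProj.emb pT' chartT' U' hU' y = (RelProj.domQ w pT' chartT').ι ((T₀.ι ≫ b) t) :=
      RelPMap2.emb_chart_apply pT' chartT' U' hU' _ hx
    refine ⟨⟨y, h1⟩, ?_⟩
    rw [Scheme.Hom.comp_apply]
    change RelProj.emb pT' chartT' U' hU' y = _
    rw [h3, hβ, Scheme.Hom.comp_apply, Scheme.Hom.comp_apply, Scheme.Hom.comp_apply]
  let e : (T₀ : Scheme.{u}) ⟶ (RelCone.domOpen γ : Scheme.{u}) :=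
    IsOpenImmersion.lift ((RelCone.domOpen γ).ι ≫ RelProj.emb pT' chartT' U' hU') β hrange
  have he : e ≫ (RelCone.domOpen γ).ι ≫ RelProj.emb pT' chartT' U' hU' = β :=
    IsOpenImmersion.lift_fac _ _ _
  -- first path: through `w` then `φ`
  let b₂ : (T₀ : Scheme.{u}) ⟶ (RelCone.domOpen ψ₁ : Scheme.{u}) :=
    e ≫ (Proj (𝒯'.deg U' hU')).homOfLE (PMap.domOpen_le_of_eq_comp ρ₁ ψ₁ γ hE₁)
  have hb₂ : b₂ ≫ (RelCone.domOpen ψ₁).ι = e ≫ (RelCone.domOpen γ).ι := by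
    rw [Category.assoc, Scheme.homOfLE_ι]
  have h1 : (T₀.ι ≫ b) ≫ Φw = b₂ ≫ PMap.map ψ₁ ≫ RelProj.emb pT chartT U hU := by
    apply RelPMap9.apply_T w pT chartT pT' chartT' _ rfl Φw hΦw U hU U' hU' hle
    rw [Category.assoc, reassoc_of% hb₂, he]
  have hrange₂ : Set.range (b₂ ≫ PMap.map ψ₁).base ⊆ Set.range (RelCone.domOpen ρ₁).ι.base := by
    rw [Scheme.Opens.range_ι]
    rintro _ ⟨t, rfl⟩
    change (PMap.map ψ₁) (b₂ t) ∈ RelCone.domOpen ρ₁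
    apply PMap.map_mem_domOpen_of_eq_comp ρ₁ ψ₁ γ hE₁
    rw [← Scheme.Hom.comp_apply, hb₂, Scheme.Hom.comp_apply]
    exact (e t).2
  let c₂ : (T₀ : Scheme.{u}) ⟶ (RelCone.domOpen ρ₁ : Scheme.{u}) :=
    IsOpenImmersion.lift (RelCone.domOpen ρ₁).ι (b₂ ≫ PMap.map ψ₁) hrange₂
  have hc₂ : c₂ ≫ (RelCone.domOpen ρ₁).ι = b₂ ≫ PMap.map ψ₁ := IsOpenImmersion.lift_fac _ _ _
  have h2 : (T₀.ι ≫ c) ≫ Rφ = c₂ ≫ PMap.map ρ₁ ≫ RelProj.emb p chart U hU := by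
    apply hRφ U hU
    rw [Category.assoc, ← hbc, ← Category.assoc, h1, reassoc_of% hc₂]
  have h3 : e ≫ PMap.map γ = c₂ ≫ PMap.map ρ₁ :=
    PMap.comp_map' ρ₁ ψ₁ γ hE₁ e b₂ c₂ hb₂.symm hc₂.symm
  -- second path: through `φ'` then `u`
  let a₂ : (T₀ : Scheme.{u}) ⟶ (RelCone.domOpen ψ₂ : Scheme.{u}) :=
    e ≫ (Proj (𝒯'.deg U' hU')).homOfLE (PMap.domOpen_le_of_eq_comp ρ₂ ψ₂ γ hE₂)
  have ha₂ : a₂ ≫ (RelCone.domOpen ψ₂).ι = e ≫ (RelCone.domOpen γ).ι := by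
    rw [Category.assoc, Scheme.homOfLE_ι]
  have h4 : (T₀.ι ≫ a) ≫ Rφ' = a₂ ≫ PMap.map ψ₂ ≫ RelProj.emb p' chart' U' hU' := by
    apply hRφ' U' hU'
    rw [Category.assoc, reassoc_of% ha₂, he, hβa]
  have hrange₃ : Set.range (a₂ ≫ PMap.map ψ₂).base ⊆ Set.range (RelCone.domOpen ρ₂).ι.base := by
    rw [Scheme.Opens.range_ι]
    rintro _ ⟨t, rfl⟩
    change (PMap.map ψ₂) (a₂ t) ∈ RelCone.domOpen ρ₂
    apply PMap.map_mem_domOpen_of_eq_comp ρ₂ ψ₂ γ hE₂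
    rw [← Scheme.Hom.comp_apply, ha₂, Scheme.Hom.comp_apply]
    exact (e t).2
  let d₂ : (T₀ : Scheme.{u}) ⟶ (RelCone.domOpen ρ₂ : Scheme.{u}) :=
    IsOpenImmersion.lift (RelCone.domOpen ρ₂).ι (a₂ ≫ PMap.map ψ₂) hrange₃
  have hd₂ : d₂ ≫ (RelCone.domOpen ρ₂).ι = a₂ ≫ PMap.map ψ₂ := IsOpenImmersion.lift_fac _ _ _
  have h5 : (T₀.ι ≫ d) ≫ Φu = d₂ ≫ PMap.map ρ₂ ≫ RelProj.emb p chart U hU := by
    apply RelPMap9.apply_T u p chart p' chart' _ rfl Φu hΦu U hU U' hU' hle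
    rw [Category.assoc, ← had, ← Category.assoc, h4, reassoc_of% hd₂]
  have h6 : e ≫ PMap.map γ = d₂ ≫ PMap.map ρ₂ :=
    PMap.comp_map' ρ₂ ψ₂ γ hE₂ e a₂ d₂ ha₂.symm hd₂.symm
  calc T₀.ι ≫ c ≫ Rφ = (T₀.ι ≫ c) ≫ Rφ := (Category.assoc _ _ _).symm
    _ = c₂ ≫ PMap.map ρ₁ ≫ RelProj.emb p chart U hU := h2
    _ = (c₂ ≫ PMap.map ρ₁) ≫ RelProj.emb p chart U hU := (Category.assoc _ _ _).symm
    _ = (d₂ ≫ PMap.map ρ₂) ≫ RelProj.emb p chart U hU := by rw [← h3, h6]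
    _ = d₂ ≫ PMap.map ρ₂ ≫ RelProj.emb p chart U hU := Category.assoc _ _ _
    _ = (T₀.ι ≫ d) ≫ Φu := h5.symm
    _ = T₀.ι ≫ d ≫ Φu := Category.assoc _ _ _

end square

end Groth.Agent.H41.RelSquare
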