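import Groth.Agent.H41.RelConeSquare
import Groth.Agent.H41.RelSquare2
import Groth.Agent.H41.RelConeInf

/-!
# The square `θ' ∘ û = u ∘ θ` of the functoriality of projective cones (parts at infinity)
-/

set_option autoImplicit false
universe u
open CategoryTheory CategoryTheory.Limits AlgebraicGeometry Opposite TopologicalSpace
  HomogeneousLocalization
open scoped HomogeneousIdeal

namespace Groth.Agent.H41.RelConeSquare

section general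

variable {Y Y' P P' : Scheme.{u}} {g : Y' ⟶ Y} {𝒮 : RelProj.QCGrAlg Y} {𝒮' : RelProj.QCGrAlg Y'}
  (u : RelProj.QGrHom g 𝒮 𝒮')
  (p : P ⟶ Y)
  (chart : ∀ (U : Y.Opens) (hU : IsAffineOpen U),
    (((p ⁻¹ᵁ U : P.Opens) : Scheme.{u}) ≅ Proj (𝒮.deg U hU)))
  (p' : P' ⟶ Y')
  (chart' : ∀ (U' : Y'.Opens) (hU' : IsAffineOpen U'),
    (((p' ⁻¹ᵁ U' : P'.Opens) : Scheme.{u}) ≅ Proj (𝒮'.deg U' hU')))

theorem isProjQMapOn_of_isProjQMap (h : P' ⟶ P)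
    (hh : RelProj.IsProjQMap u p chart p' chart' h) (W : P'.Opens) :
    RelProj.IsProjQMapOn u p chart p' chart' W (W.ι ≫ h) := by
  intro U hU U' hU' hle d hd f hf hW
  rw [← Category.assoc, IsOpenImmersion.lift_fac]
  exact hh.2 U hU U' hU' hle d hd f hf

end general

variable {Y Y' : Scheme.{u}} {q : Y' ⟶ Y}
  {𝒮 : RelProj.QCGrAlg Y} {𝒮' : RelProj.QCGrAlg Y'}
  (u : RelProj.QGrHom q 𝒮 𝒮')
  {𝒮h : RelProj.QCGrAlg Y} {ι : 𝒮.toQCAlg ⟶ 𝒮h.toQCAlg} {z : 𝒮h.presheaf.obj (op ⊤)}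
  (hz : RelCone.IsPolyOver 𝒮 𝒮h ι z)
  {𝒮h' : RelProj.QCGrAlg Y'} {ι' : 𝒮'.toQCAlg ⟶ 𝒮h'.toQCAlg} {z' : 𝒮h'.presheaf.obj (op ⊤)}
  (hz' : RelCone.IsPolyOver 𝒮' 𝒮h' ι' z')
  (uh : RelProj.QGrHom q 𝒮h 𝒮h')
  (huh : ∀ U : Y.Opens, ι.hom.app (op U) ≫ uh.app U = u.app U ≫ ι'.hom.app (op (q ⁻¹ᵁ U)))
  (huhz : (uh.app ⊤).hom z = RelCone.restrictTop 𝒮h' z' (q ⁻¹ᵁ ⊤))
  (θ : 𝒮h.toQCAlg ⟶ 𝒮.toQCAlg) (hθ : RelProj.IsGradedHom θ) (hθι : ι ≫ θ = 𝟙 _)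
  (hθz : (θ.hom.app (op ⊤)).hom z = 0)
  (θ' : 𝒮h'.toQCAlg ⟶ 𝒮'.toQCAlg) (hθ' : RelProj.IsGradedHom θ') (hθι' : ι' ≫ θ' = 𝟙 _)
  (hθz' : (θ'.hom.app (op ⊤)).hom z' = 0)

include hz hz' huh huhz hθι hθz hθι' hθz' in
theorem hsqθ (U : Y.Opens) (hU : IsAffineOpen U) (U' : Y'.Opens) (hU' : IsAffineOpen U')
    (hle : U' ≤ q ⁻¹ᵁ U) :
    (RelProj.gradedHomAt θ' hθ' U' hU').comp (uh.gradedAt U hU U' hU' hle) =
      (u.gradedAt U hU U' hU' hle).comp (RelProj.gradedHomAt θ hθ U hU) := by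
  have hsq := hsq u hz hz' uh huh U hU U' hU' hle
  have key : ((RelProj.gradedHomAt θ' hθ' U' hU').comp (uh.gradedAt U hU U' hU' hle)).toRingHom =
      ((u.gradedAt U hU U' hU' hle).comp (RelProj.gradedHomAt θ hθ U hU)).toRingHom := by
    refine PolyCone.ringHom_ext _ _ (RelProj.gradedHomAt ι hz.graded U hU)
      (RelCone.restrictTop 𝒮h z U) _ _ (RelConeLib.bij hz U hU).2 (fun a => ?_) ?_
    · change (RelProj.gradedHomAt θ' hθ' U' hU') ((uh.gradedAt U hU U' hU' hle)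
        ((RelProj.gradedHomAt ι hz.graded U hU) a)) =
        (u.gradedAt U hU U' hU' hle) ((RelProj.gradedHomAt θ hθ U hU)
          ((RelProj.gradedHomAt ι hz.graded U hU) a))
      have h1 : (uh.gradedAt U hU U' hU' hle) ((RelProj.gradedHomAt ι hz.graded U hU) a) =
          (RelProj.gradedHomAt ι' hz'.graded U' hU') ((u.gradedAt U hU U' hU' hle) a) :=
        (DFunLike.congr_fun hsq a).symm
      rw [h1, RelConeInf.θ_ι hz' θ' hθ' hθι' U' hU', RelConeInf.θ_ι hz θ hθ hθι U hU]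
    · change (RelProj.gradedHomAt θ' hθ' U' hU') ((uh.gradedAt U hU U' hU' hle)
        (RelCone.restrictTop 𝒮h z U)) =
        (u.gradedAt U hU U' hU' hle) ((RelProj.gradedHomAt θ hθ U hU)
          (RelCone.restrictTop 𝒮h z U))
      rw [uh_z uh huhz U hU U' hU' hle, RelConeInf.θ_z θ' hθ' hθz' U' hU',
        RelConeInf.θ_z θ hθ hθz U hU, map_zero]
  ext x
  exact RingHom.congr_fun key x

end Groth.Agent.H41.RelConeSquare
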