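import Groth.Agent.H41.RelConeSquare
import Groth.Agent.H41.RelConeImm
import Groth.Agent.H41.PolyConeSquare2

/-!
# The square of cone immersions for the functoriality of projective cones
-/

set_option autoImplicit false
universe u
open CategoryTheory CategoryTheory.Limits AlgebraicGeometry Opposite TopologicalSpace
  HomogeneousLocalization
open scoped HomogeneousIdeal

namespace Groth.Agent.H41.RelConeSquare

section cover

variable {Y Y' : Scheme.{u}} (q : Y' ⟶ Y) (A : RelSpec.QCAlg Y')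

/-- The charts over affine pairs cover a relative spectrum. -/
noncomputable def pairCover : Scheme.OpenCover.{u} A.spec where
  I₀ := {V : Y.affineOpens × Y'.affineOpens // (V.2 : Y'.Opens) ≤ q ⁻¹ᵁ (V.1 : Y.Opens)}
  X V := Spec (A.presheaf.obj (op (V.1.2 : Y'.Opens)))
  f V := A.ι V.1.2.1 V.1.2.2
  mem₀ := by
    rw [Scheme.presieve₀_mem_precoverage_iff]
    refine ⟨fun x ↦ ?_, inferInstance⟩
    obtain ⟨V, hV⟩ := PairGlue.exists_pair q (A.π x)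
    obtain ⟨⟨⟨U, hU⟩, ⟨U', hU'⟩⟩, hle⟩ := V
    obtain ⟨c', hc'⟩ := RelConeImm.exists_chart A x U' hU' hV
    exact ⟨⟨(⟨U, hU⟩, ⟨U', hU'⟩), hle⟩, c', hc'⟩

theorem spec_pair_hom_ext {Z : Scheme.{u}} (a b : A.spec ⟶ Z)
    (h : ∀ (U : Y.Opens) (_ : IsAffineOpen U) (U' : Y'.Opens) (hU' : IsAffineOpen U')
      (_ : U' ≤ q ⁻¹ᵁ U), A.ι U' hU' ≫ a = A.ι U' hU' ≫ b) : a = b :=
  (pairCover q A).hom_ext _ _ fun V => h V.1.1.1 V.1.1.2 V.1.2.1 V.1.2.2 V.2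

end cover

variable {Y Y' PC PC' : Scheme.{u}} {q : Y' ⟶ Y}
  {𝒮 : RelProj.QCGrAlg Y} {𝒮' : RelProj.QCGrAlg Y'}
  (u : RelProj.QGrHom q 𝒮 𝒮')
  {𝒮h : RelProj.QCGrAlg Y} {ι : 𝒮.toQCAlg ⟶ 𝒮h.toQCAlg} {z : 𝒮h.presheaf.obj (op ⊤)}
  (hz : RelCone.IsPolyOver 𝒮 𝒮h ι z)
  (pC : PC ⟶ Y)
  (chartC : ∀ (U : Y.Opens) (hU : IsAffineOpen U),
    (((pC ⁻¹ᵁ U : PC.Opens) : Scheme.{u}) ≅ Proj (𝒮h.deg U hU)))
  {𝒮h' : RelProj.QCGrAlg Y'} {ι' : 𝒮'.toQCAlg ⟶ 𝒮h'.toQCAlg} {z' : 𝒮h'.presheaf.obj (op ⊤)}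
  (hz' : RelCone.IsPolyOver 𝒮' 𝒮h' ι' z')
  (pC' : PC' ⟶ Y')
  (chartC' : ∀ (U : Y'.Opens) (hU : IsAffineOpen U),
    (((pC' ⁻¹ᵁ U : PC'.Opens) : Scheme.{u}) ≅ Proj (𝒮h'.deg U hU)))
  (uh : RelProj.QGrHom q 𝒮h 𝒮h')
  (huh : ∀ U : Y.Opens, ι.hom.app (op U) ≫ uh.app U = u.app U ≫ ι'.hom.app (op (q ⁻¹ᵁ U)))
  (huhz : (uh.app ⊤).hom z = RelCone.restrictTop 𝒮h' z' (q ⁻¹ᵁ ⊤))
  (Φh : ((RelProj.domQ uh pC' chartC' : PC'.Opens) : Scheme.{u}) ⟶ PC)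
  (hΦh : RelProj.IsProjQMapOn uh pC chartC pC' chartC' (RelProj.domQ uh pC' chartC') Φh)
  (Φc : 𝒮'.toQCAlg.spec ⟶ 𝒮.toQCAlg.spec) (hΦc : RelSpec.IsSpecQMap u.toQHom Φc)
  (i : 𝒮.toQCAlg.spec ⟶ PC) (hi : RelCone.IsConeImm 𝒮 hz pC chartC i)
  (i' : 𝒮'.toQCAlg.spec ⟶ PC') (hi' : RelCone.IsConeImm 𝒮' hz' pC' chartC' i')

include hz huhz hi' in
/-- The affine cone of the source lies in `G(û)`. -/
theorem range_coneImm_subset :
    Set.range i'.base ⊆ ((RelProj.domQ uh pC' chartC' : PC'.Opens) : Set PC') := by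
  rintro _ ⟨x, rfl⟩
  obtain ⟨V, hV⟩ := PairGlue.exists_pair q (𝒮'.toQCAlg.π x)
  obtain ⟨⟨⟨U, hU⟩, ⟨U', hU'⟩⟩, hle⟩ := V
  obtain ⟨c', rfl⟩ := RelConeImm.exists_chart 𝒮'.toQCAlg x U' hU' hV
  have h1 : i' (𝒮'.toQCAlg.ι U' hU' c') =
      RelProj.emb pC' chartC' U' hU' (RelConeImm.cc hz' U' hU' c') := by
    rw [← Scheme.Hom.comp_apply, RelConeImm.chart_eq hz' pC' chartC' i' hi' U' hU',
      Scheme.Hom.comp_apply]
  have h2 : RelConeImm.cc hz' U' hU' c' ∈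
      Proj.basicOpen (𝒮h'.deg U' hU') (RelCone.restrictTop 𝒮h' z' U') := by
    have : RelConeImm.cc hz' U' hU' c' ∈ Set.range (RelConeImm.cc hz' U' hU').base := ⟨c', rfl⟩
    rw [PolyCone.range_coneChart] at this
    exact this
  rw [← uh_z uh huhz U hU U' hU' hle] at h2
  have h3 : RelConeImm.cc hz' U' hU' c' ∈ RelCone.domOpen (uh.gradedAt U hU U' hU' hle) :=
    PMap.basicOpen_le _ (hz.deg_z U hU) one_pos h2
  change i' (𝒮'.toQCAlg.ι U' hU' c') ∈ RelProj.domQ uh pC' chartC'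
  rw [h1]
  exact RelPMap2.W_le_domQ uh pC' chartC' U hU U' hU' hle ⟨_, h3, rfl⟩

include huh huhz hΦh hΦc hi hi' in
/-- The square formed by `Spec(u)`, the cone immersions and `Proj(û)` commutes. -/
theorem coneImm_comm
    (i'' : 𝒮'.toQCAlg.spec ⟶ ((RelProj.domQ uh pC' chartC' : PC'.Opens) : Scheme.{u}))
    (hi'' : i'' ≫ (RelProj.domQ uh pC' chartC').ι = i') : i'' ≫ Φh = Φc ≫ i := by
  apply spec_pair_hom_ext q
  intro U hU U' hU' hle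
  -- the right-hand side
  have hR : 𝒮'.toQCAlg.ι U' hU' ≫ Φc ≫ i =
      Spec.map (u.appLE U U' hle) ≫ RelConeImm.cc hz U hU ≫ RelProj.emb pC chartC U hU := by
    rw [← Category.assoc, hΦc U hU U' hU' hle, Category.assoc,
      RelConeImm.chart_eq hz pC chartC i hi U hU]
  -- the left-hand side
  have hrange := PolyCone.range_coneChart_subset_domOpen (RelCone.restrictTop 𝒮h z U)
    (hz.deg_z U hU) (RelProj.gradedHomAt ι' hz'.graded U' hU') (RelCone.restrictTop 𝒮h' z' U')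
    (hz'.deg_z U' hU') (RelConeLib.bij hz' U' hU') (uh.gradedAt U hU U' hU' hle)
    (uh_z uh huhz U hU U' hU' hle)
  let b : Spec (𝒮'.presheaf.obj (op U')) ⟶
      (RelCone.domOpen (uh.gradedAt U hU U' hU' hle) : Scheme.{u}) :=
    IsOpenImmersion.lift (RelCone.domOpen (uh.gradedAt U hU U' hU' hle)).ι
      (RelConeImm.cc hz' U' hU') hrange
  have hb : b ≫ (RelCone.domOpen (uh.gradedAt U hU U' hU' hle)).ι = RelConeImm.cc hz' U' hU' :=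
    IsOpenImmersion.lift_fac _ _ _
  have hL : (𝒮'.toQCAlg.ι U' hU' ≫ i'') ≫ Φh =
      b ≫ PMap.map (uh.gradedAt U hU U' hU' hle) ≫ RelProj.emb pC chartC U hU := by
    apply RelPMap9.apply_T uh pC chartC pC' chartC' _ rfl Φh hΦh U hU U' hU' hle
    rw [Category.assoc, hi'', RelConeImm.chart_eq hz' pC' chartC' i' hi' U' hU',
      reassoc_of% hb]
  have hsq := hsq u hz hz' uh huh U hU U' hU' hle
  have hS := PolyCone.coneChart_square' (RelProj.gradedHomAt ι hz.graded U hU)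
    (RelCone.restrictTop 𝒮h z U) (hz.deg_z U hU) (RelConeLib.bij hz U hU)
    (RelProj.gradedHomAt ι' hz'.graded U' hU') (RelCone.restrictTop 𝒮h' z' U')
    (hz'.deg_z U' hU') (RelConeLib.bij hz' U' hU') (u.appLE U U' hle).hom
    (uh.gradedAt U hU U' hU' hle) (fun a => (DFunLike.congr_fun hsq a).symm)
    (uh_z uh huhz U hU U' hU' hle) b (𝟙 _) (by rw [hb, Category.id_comp])
  rw [Category.id_comp] at hS
  rw [← Category.assoc, hL, hR, ← Category.assoc, hS, Category.assoc]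
  rfl

end Groth.Agent.H41.RelConeSquare
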