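import Groth.Agent.H41.TrivGrading
import Groth.Prelude.Def_RelProj

/-!
# A quasi-coherent algebra as a trivially graded quasi-coherent graded algebra
-/

set_option autoImplicit false
universe u
open CategoryTheory AlgebraicGeometry Opposite TopologicalSpace

namespace Groth.Agent.H41.TrivQCGrAlg

variable {Y : Scheme.{u}}

/-- A quasi-coherent algebra, placed in degree zero. -/
noncomputable def triv (𝒜 : RelSpec.QCAlg Y) : RelProj.QCGrAlg Y where
  toQCAlg := 𝒜
  deg U _ := TrivGrading.triv (𝒜.presheaf.obj (op U))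
  graded U _ := inferInstance
  map_mem := by
    intro U V hU hV i d x hx
    rcases d with _ | d
    · exact TrivGrading.mem_triv_zero _
    · rw [TrivGrading.eq_zero_of_mem_triv_succ hx, map_zero]
      exact zero_mem _
  str_mem U hU r := TrivGrading.mem_triv_zero _

@[simp] theorem triv_toQCAlg (𝒜 : RelSpec.QCAlg Y) : (triv 𝒜).toQCAlg = 𝒜 := rfl

theorem triv_deg (𝒜 : RelSpec.QCAlg Y) (U : Y.Opens) (hU : IsAffineOpen U) :
    (triv 𝒜).deg U hU = TrivGrading.triv (𝒜.presheaf.obj (op U)) := rfl

end Groth.Agent.H41.TrivQCGrAlg
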