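import Groth.Agent.H41.RelConeExists
import Groth.Agent.H41.PolyConeTheta
import Groth.Agent.H41.TrivQCGrAlg

/-!
# `Proj 𝒜[T] = Spec 𝒜` over a general base
-/

set_option autoImplicit false
universe u
open CategoryTheory CategoryTheory.Limits AlgebraicGeometry Opposite TopologicalSpace
  HomogeneousLocalization
open scoped HomogeneousIdeal

namespace Groth.Agent.H41.RelConeTriv

variable {Y P : Scheme.{u}} (𝒜 : RelSpec.QCAlg Y) (Sh : RelProj.QCGrAlg Y)
  (ι : 𝒜 ⟶ Sh.toQCAlg)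
  (hι : ∀ (U : Y.Opens) (hU : IsAffineOpen U) (a : 𝒜.presheaf.obj (op U)),
    (ι.hom.app (op U)).hom a ∈ Sh.deg U hU 0)
  (z : Sh.presheaf.obj (op ⊤))
  (hz : ∀ (U : Y.Opens) (hU : IsAffineOpen U),
    (Sh.presheaf.map (homOfLE le_top).op).hom z ∈ Sh.deg U hU 1)
  (hpoly : ∀ (U : Y.Opens) (hU : IsAffineOpen U),
    Function.Bijective (Polynomial.eval₂RingHom (ι.hom.app (op U)).hom
      ((Sh.presheaf.map (homOfLE le_top).op).hom z)))

theorem eq_zero_of_mem_deg (U : Y.Opens) (hU : IsAffineOpen U) {d : ℕ} (hd : d ≠ 0)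
    {x : 𝒜.presheaf.obj (op U)} (hx : x ∈ (TrivQCGrAlg.triv 𝒜).deg U hU d) : x = 0 :=
  TrivGrading.eq_zero_of_mem_triv (R := 𝒜.presheaf.obj (op U)) hd hx

include hι in
theorem isGradedHom :
    RelProj.IsGradedHom (𝒜 := TrivQCGrAlg.triv 𝒜) (ℬ := Sh) ι := by
  intro U hU d x hx
  rcases d with _ | d
  · exact hι U hU x
  · have hx0 : x = 0 := eq_zero_of_mem_deg 𝒜 U hU (Nat.succ_ne_zero d) hx
    rw [hx0, map_zero]
    exact zero_mem _

include hι hz hpoly in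
theorem isPolyOver : RelCone.IsPolyOver (TrivQCGrAlg.triv 𝒜) Sh ι z :=
  ⟨isGradedHom 𝒜 Sh ι hι, hz, hpoly⟩

variable (hP₀ : RelCone.IsPolyOver (TrivQCGrAlg.triv 𝒜) Sh ι z)

/-- A ring homomorphism `Sh(U)_(z) → 𝒜(U)` with `ι a z ^ k / z ^ k ↦ a` is the canonical
isomorphism. -/
theorem theta_eq (U : Y.Opens) (hU : IsAffineOpen U)
    (θ : HomogeneousLocalization.Away (Sh.deg U hU) (RelCone.restrictTop Sh z U) →+*
      (TrivQCGrAlg.triv 𝒜).presheaf.obj (op U))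
    (hθ : ∀ (q : HomogeneousLocalization.Away (Sh.deg U hU) (RelCone.restrictTop Sh z U))
      (k : ℕ) (a : (TrivQCGrAlg.triv 𝒜).presheaf.obj (op U)),
        q.val = Localization.mk ((ι.hom.app (op U)).hom a * RelCone.restrictTop Sh z U ^ k)
          ⟨RelCone.restrictTop Sh z U ^ k,
            pow_mem (Submonoid.mem_powers (RelCone.restrictTop Sh z U)) k⟩ →
        θ q = a) :
    θ = hP₀.awayZToBase U hU := by
  have hθ' : ∀ (q : HomogeneousLocalization.Away (Sh.deg U hU) (RelCone.restrictTop Sh z U))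
      (k : ℕ) (x : (TrivQCGrAlg.triv 𝒜).presheaf.obj (op U)),
      x ∈ (TrivQCGrAlg.triv 𝒜).deg U hU k →
        q.val = Localization.mk ((RelProj.gradedHomAt ι hP₀.graded U hU) x)
          ⟨RelCone.restrictTop Sh z U ^ k,
            pow_mem (Submonoid.mem_powers (RelCone.restrictTop Sh z U)) k⟩ →
        θ q = x := by
    intro q k x hx hq
    rcases k with _ | k
    · apply hθ q 0 x
      rw [hq]
      congr 1
      rw [pow_zero, mul_one]
      rfl
    · have hx0 : x = 0 := eq_zero_of_mem_deg 𝒜 U hU (Nat.succ_ne_zero k) hx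
      have hq0 : q = 0 := by
        rw [HomogeneousLocalization.ext_iff_val, hq, hx0, map_zero, Localization.mk_zero,
          HomogeneousLocalization.val_zero]
      rw [hq0, hx0, map_zero]
  have h1 := @PolyCone.eq_awayToBase _ _ _ _ _ _ _ _ _ _ ((TrivQCGrAlg.triv 𝒜).deg U hU) _
    (Sh.deg U hU) _ (RelProj.gradedHomAt ι hP₀.graded U hU) (RelCone.restrictTop Sh z U)
    (hP₀.deg_z U hU) (RelConeLib.bij hP₀ U hU) θ
  have h2 := h1 hθ'
  exact h2

include hP₀ in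
/-- For the trivially graded algebra, `D₊(z)` is all of `Proj 𝒜[z]`. -/
theorem mem_basicOpen_z (U : Y.Opens) (hU : IsAffineOpen U) (y : Proj (Sh.deg U hU)) :
    y ∈ Proj.basicOpen (Sh.deg U hU) (RelCone.restrictTop Sh z U) := by
  rw [Proj.mem_basicOpen]
  intro hzy
  have h1 := @PolyCone.exists_notMem _ _ _ _ _ _ _ _ _ _ ((TrivQCGrAlg.triv 𝒜).deg U hU) _
    (Sh.deg U hU) _ (RelProj.gradedHomAt ι hP₀.graded U hU) (RelCone.restrictTop Sh z U)
    (hP₀.deg_z U hU) (RelConeLib.bij hP₀ U hU).2 y hzy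
  obtain ⟨d, hd, f, hf, hfy⟩ := h1
  have hf0 : f = 0 := eq_zero_of_mem_deg 𝒜 U hU hd.ne' hf
  apply hfy
  rw [hf0, map_zero]
  exact zero_mem _

variable (p : P ⟶ Y)
  (chart : ∀ (U : Y.Opens) (hU : IsAffineOpen U),
    (((p ⁻¹ᵁ U : P.Opens) : Scheme.{u}) ≅ Proj (Sh.deg U hU)))
  (hP : RelProj.IsRelProj Sh p chart)
  (i : (TrivQCGrAlg.triv 𝒜).toQCAlg.spec ⟶ P)
  (hi : RelCone.IsConeImm (TrivQCGrAlg.triv 𝒜) hP₀ p chart i)

include hP hi in
theorem isIso : IsIso i := by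
  rw [isIso_iff_isOpenImmersion_and_surjective]
  refine ⟨RelConeImm.isOpenImmersion hP₀ p chart hP i hi, ⟨fun x => ?_⟩⟩
  obtain ⟨U, hxU⟩ := RelConeImm.exists_affine (p x)
  have hx : x ∈ p ⁻¹ᵁ (U : Y.Opens) := hxU
  have h1 : RelProj.emb p chart U.1 U.2 ((chart U.1 U.2).hom ⟨x, hx⟩) = x :=
    RelPMap2.emb_chart_apply p chart U.1 U.2 x hx
  rw [← h1]
  exact (RelConeImm.mem_range_iff hP₀ p chart hP i hi U.1 U.2 _).mpr
    (mem_basicOpen_z 𝒜 Sh ι z hP₀ U.1 U.2 _)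

end Groth.Agent.H41.RelConeTriv
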