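import Groth.Agent.H41.RelConeImm

/-!
# The pointed projective cone is the complement of the vertex
-/

set_option autoImplicit false
universe u
open CategoryTheory CategoryTheory.Limits AlgebraicGeometry Opposite TopologicalSpace
  HomogeneousLocalization
open scoped HomogeneousIdeal

namespace Groth.Agent.H41.RelConeVertex

variable {Y PC : Scheme.{u}} {𝒮 𝒮h : RelProj.QCGrAlg Y}
  {ι : 𝒮.toQCAlg ⟶ 𝒮h.toQCAlg} {z : 𝒮h.presheaf.obj (op ⊤)} (hz : RelCone.IsPolyOver 𝒮 𝒮h ι z)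
  (pC : PC ⟶ Y)
  (chartC : ∀ (U : Y.Opens) (hU : IsAffineOpen U),
    (((pC ⁻¹ᵁ U : PC.Opens) : Scheme.{u}) ≅ Proj (𝒮h.deg U hU)))
  (hPC : RelProj.IsRelProj 𝒮h pC chartC)
  (i : 𝒮.toQCAlg.spec ⟶ PC) (hi : RelCone.IsConeImm 𝒮 hz pC chartC i)

include hPC in
/-- Chartwise membership in the pointed projective cone. -/
theorem emb_mem_pointedProjCone_iff (U : Y.Opens) (hU : IsAffineOpen U)
    (y : Proj (𝒮h.deg U hU)) :
    RelProj.emb pC chartC U hU y ∈ RelCone.pointedProjCone 𝒮 hz pC chartC ↔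
      y ∈ RelCone.domOpen (RelProj.gradedHomAt ι hz.graded U hU) := by
  have hinj : Function.Injective (RelProj.emb pC chartC U hU) :=
    (Scheme.Hom.isOpenEmbedding _).injective
  constructor
  · intro h
    have h' : RelProj.emb pC chartC U hU y ∈
        RelProj.domQ (RelProj.QGrHom.ofHom ι hz.graded) pC chartC ⊓ pC ⁻¹ᵁ U := by
      rw [← RelConeLib.pointedProjCone_eq_domQ hz pC chartC hPC]
      exact ⟨h, RelPMap2.emb_mem pC chartC U hU y⟩
    rw [RelPMap3.domQ_inf_preimage ι hz.graded chartC hPC U hU] at h'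
    obtain ⟨y', hy', hyy⟩ := h'
    rw [← hinj hyy]
    exact hy'
  · intro h
    exact Opens.mem_iSup.mpr ⟨⟨U, hU⟩, ⟨y, h, rfl⟩⟩

variable (h0 : RelCone.StrZeroBij 𝒮)
  (aug : 𝒮.toQCAlg ⟶ RelSpec.QCAlg.unit Y) (haug : RelCone.IsAugmentation 𝒮 aug)
  (ε : Y ⟶ 𝒮.toQCAlg.spec) (hε : RelCone.IsVertex 𝒮 aug ε)

include hPC hi h0 haug hε in
/-- The pointed projective cone is the complement of the vertex section. -/
theorem pointedProjCone_eq_compl :
    ((RelCone.pointedProjCone 𝒮 hz pC chartC : PC.Opens) : Set PC) =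
      (Set.range (ε ≫ i).base)ᶜ := by
  have hE := Cone.pointedCone_eq_compl_range 𝒮 h0 aug haug ε hε
  ext x
  obtain ⟨U, hxU⟩ := RelConeImm.exists_affine (pC x)
  have hx : x ∈ pC ⁻¹ᵁ (U : Y.Opens) := hxU
  have h1 : RelProj.emb pC chartC U.1 U.2 ((chartC U.1 U.2).hom ⟨x, hx⟩) = x :=
    RelPMap2.emb_chart_apply pC chartC U.1 U.2 x hx
  set y := (chartC U.1 U.2).hom ⟨x, hx⟩ with hy
  rw [Set.mem_compl_iff, ← h1]
  change RelProj.emb pC chartC U.1 U.2 y ∈ RelCone.pointedProjCone 𝒮 hz pC chartC ↔ _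
  rw [emb_mem_pointedProjCone_iff hz pC chartC hPC U.1 U.2 y]
  constructor
  · rintro hyd ⟨s, hs⟩
    rw [Scheme.Hom.comp_apply] at hs
    -- `ε s` lies over `U`
    have hsU : 𝒮.toQCAlg.π (ε s) ∈ (U : Y.Opens) := by
      rw [← RelConeImm.pC_apply hz pC chartC hPC i hi, hs]
      exact RelPMap2.emb_mem pC chartC U.1 U.2 y
    obtain ⟨c', hc'⟩ := RelConeImm.exists_chart 𝒮.toQCAlg (ε s) U.1 U.2 hsU
    rw [← hc', ← Scheme.Hom.comp_apply, RelConeImm.chart_eq hz pC chartC i hi U.1 U.2,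
      Scheme.Hom.comp_apply] at hs
    have hinj : Function.Injective (RelProj.emb pC chartC U.1 U.2) :=
      (Scheme.Hom.isOpenEmbedding _).injective
    have hyc := hinj hs
    rw [← hyc, RelConeImm.chart_mem_pointedProjCone_iff hz U.1 U.2 c',
      ← Cone.mem_pointedCone_iff 𝒮 U.1 U.2 c', hc'] at hyd
    have : ε s ∈ ((RelCone.pointedCone 𝒮 : 𝒮.toQCAlg.spec.Opens) : Set 𝒮.toQCAlg.spec) := hyd
    rw [hE] at this
    exact this ⟨s, rfl⟩
  · intro hx'
    by_contra hyd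
    apply hx'
    -- `y` lies in `D₊(z)`
    have hyz : y ∈ Proj.basicOpen (𝒮h.deg U.1 U.2) (RelCone.restrictTop 𝒮h z U.1) := by
      by_contra hyz
      exact hyd (PolyCone.mem_domOpen_of_notMem_basicOpen (RelProj.gradedHomAt ι hz.graded U.1 U.2)
        (RelCone.restrictTop 𝒮h z U.1) (hz.deg_z U.1 U.2) (RelConeLib.bij hz U.1 U.2).2 y hyz)
    have hr := PolyCone.range_coneChart (RelProj.gradedHomAt ι hz.graded U.1 U.2)
      (RelCone.restrictTop 𝒮h z U.1) (hz.deg_z U.1 U.2) (RelConeLib.bij hz U.1 U.2)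
    have h2 : y ∈ Set.range (RelConeImm.cc hz U.1 U.2).base := by rw [hr]; exact hyz
    obtain ⟨c', hc'⟩ := h2
    have hc'v : c' ∉ RelCone.vertexCompl (𝒮.deg U.1 U.2) := by
      rw [← RelConeImm.chart_mem_pointedProjCone_iff hz U.1 U.2 c']
      intro h
      apply hyd
      rw [← hc']
      exact h
    rw [← Cone.mem_pointedCone_iff 𝒮 U.1 U.2 c'] at hc'v
    have h3 : 𝒮.toQCAlg.ι U.1 U.2 c' ∉
        ((RelCone.pointedCone 𝒮 : 𝒮.toQCAlg.spec.Opens) : Set 𝒮.toQCAlg.spec) := hc'v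
    rw [hE, Set.mem_compl_iff, not_not] at h3
    obtain ⟨s, hs⟩ := h3
    refine ⟨s, ?_⟩
    rw [Scheme.Hom.comp_apply]
    change i (ε s) = _
    rw [show ε s = 𝒮.toQCAlg.ι U.1 U.2 c' from hs, ← Scheme.Hom.comp_apply,
      RelConeImm.chart_eq hz pC chartC i hi U.1 U.2, Scheme.Hom.comp_apply]
    exact congrArg _ hc'

end Groth.Agent.H41.RelConeVertex
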