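import Groth.Prelude.Def_RelProj4
import Groth.Agent.H41.PMap
import Groth.Agent.H41.RelProj

/-!
# `Proj(φ)` for a graded homomorphism of quasi-coherent graded algebras that is everywhere
defined chartwise (`RelCone.domOpen (φ U) = ⊤` over every affine open), with no hypothesis
`ℬ₊ ≤ 𝒜₊.map φ` on irrelevant ideals.
-/

set_option autoImplicit false
universe u
open CategoryTheory CategoryTheory.Limits AlgebraicGeometry Opposite TopologicalSpace
  HomogeneousLocalization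
open scoped HomogeneousIdeal

namespace Groth.Agent.H41.RelPMap

section pair

variable {Y Y' P P' : Scheme.{u}} {g : Y' ⟶ Y} {𝒮 : RelProj.QCGrAlg Y} {𝒮' : RelProj.QCGrAlg Y'}
  (u : RelProj.QGrHom g 𝒮 𝒮')
  (p : P ⟶ Y)
  (chart : ∀ (U : Y.Opens) (hU : IsAffineOpen U),
    (((p ⁻¹ᵁ U : P.Opens) : Scheme.{u}) ≅ Proj (𝒮.deg U hU)))
  (p' : P' ⟶ Y')
  (chart' : ∀ (U' : Y'.Opens) (hU' : IsAffineOpen U'),
    (((p' ⁻¹ᵁ U' : P'.Opens) : Scheme.{u}) ≅ Proj (𝒮'.deg U' hU')))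

/-- A morphism satisfying the chart equations of `IsProjQMap` is, over an affine pair and on the
open of definition there, the partial map of homogeneous spectra. -/
theorem ι_emb_comp (h : P' ⟶ P)
    (hh : ∀ (U : Y.Opens) (hU : IsAffineOpen U) (U' : Y'.Opens) (hU' : IsAffineOpen U')
      (hle : U' ≤ g ⁻¹ᵁ U) (d : ℕ) (hd : 0 < d) (f : 𝒮.presheaf.obj (op U))
      (hf : f ∈ 𝒮.deg U hU d),
      RelProj.awayEmb u p' chart' U hU U' hU' hle hd f hf ≫ h =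
        Spec.map (CommRingCat.ofHom (HomogeneousLocalization.Away.map
          (u.gradedAt U hU U' hU' hle) f)) ≫
          Proj.awayι (𝒮.deg U hU) f hf hd ≫ RelProj.emb p chart U hU)
    (U : Y.Opens) (hU : IsAffineOpen U) (U' : Y'.Opens) (hU' : IsAffineOpen U')
    (hle : U' ≤ g ⁻¹ᵁ U) :
    (RelCone.domOpen (u.gradedAt U hU U' hU' hle)).ι ≫ RelProj.emb p' chart' U' hU' ≫ h =
      PMap.map (u.gradedAt U hU U' hU' hle) ≫ RelProj.emb p chart U hU := by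
  refine (PMap.cover (u.gradedAt U hU U' hU' hle)).hom_ext _ _ fun s => ?_
  change PMap.chart (u.gradedAt U hU U' hU' hle) s.2.2.2 s.2.2.1 ≫ _ =
    PMap.chart (u.gradedAt U hU U' hU' hle) s.2.2.2 s.2.2.1 ≫ _
  rw [PMap.chart_ι_assoc, PMap.chart_map_assoc]
  exact hh U hU U' hU' hle s.1 s.2.2.1 s.2.1 s.2.2.2

end pair

section rel

variable {Y : Scheme.{u}} {𝒜 ℬ : RelProj.QCGrAlg Y} (φ : 𝒜.toQCAlg ⟶ ℬ.toQCAlg)
  (hφ : RelProj.IsGradedHom φ)
  (hG : ∀ (U : Y.Opens) (hU : IsAffineOpen U),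
      RelCone.domOpen (RelProj.gradedHomAt φ hφ U hU) = ⊤)
  {PA PB : Scheme.{u}} {pA : PA ⟶ Y} {pB : PB ⟶ Y}
  (chartA : ∀ (U : Y.Opens) (hU : IsAffineOpen U),
    (((pA ⁻¹ᵁ U : PA.Opens) : Scheme.{u}) ≅ Proj (𝒜.deg U hU)))
  (chartB : ∀ (U : Y.Opens) (hU : IsAffineOpen U),
    (((pB ⁻¹ᵁ U : PB.Opens) : Scheme.{u}) ≅ Proj (ℬ.deg U hU)))
  (hA : RelProj.IsRelProj 𝒜 pA chartA) (hB : RelProj.IsRelProj ℬ pB chartB)

theorem gradedAt_eq (U : Y.Opens) (hU : IsAffineOpen U) (hle : U ≤ (𝟙 Y : Y ⟶ Y) ⁻¹ᵁ U) :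
    (RelProj.QGrHom.ofHom φ hφ).gradedAt U hU U hU hle = RelProj.gradedHomAt φ hφ U hU := by
  ext a
  change (ℬ.presheaf.map (homOfLE hle).op).hom ((φ.hom.app (op U)).hom a) = _
  have : ℬ.presheaf.map (homOfLE hle).op = 𝟙 _ := ℬ.presheaf.map_id (op U)
  rw [this]
  rfl

include hG in
theorem domQ_eq_top : RelProj.domQ (RelProj.QGrHom.ofHom φ hφ) pB chartB = ⊤ := by
  rw [eq_top_iff]
  intro x _
  obtain ⟨U, hxU⟩ : ∃ U : Y.affineOpens, pB x ∈ (U : Y.Opens) := by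
    have : pB x ∈ (⊤ : Y.Opens) := trivial
    rw [← iSup_affineOpens_eq_top Y] at this
    exact Opens.mem_iSup.mp this
  have hx : x ∈ (pB ⁻¹ᵁ (U : Y.Opens) : PB.Opens) := hxU
  have hUU : (U : Y.Opens) ≤ (𝟙 Y : Y ⟶ Y) ⁻¹ᵁ (U : Y.Opens) := le_refl _
  refine Opens.mem_iSup.mpr ⟨⟨(U, U), hUU⟩, ?_⟩
  refine ⟨(chartB U.1 U.2).hom ⟨x, hx⟩, ?_, ?_⟩
  · change (chartB U.1 U.2).hom ⟨x, hx⟩ ∈
      RelCone.domOpen ((RelProj.QGrHom.ofHom φ hφ).gradedAt U.1 U.2 U.1 U.2 hUU)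
    rw [gradedAt_eq φ hφ U.1 U.2 hUU, hG U.1 U.2]
    trivial
  · change (RelProj.emb pB chartB U.1 U.2) ((chartB U.1 U.2).hom ⟨x, hx⟩) = x
    rw [RelProj.emb, ← Scheme.Hom.comp_apply, Iso.hom_inv_id_assoc]
    rfl

variable (h : PB ⟶ PA)
  (hh : RelProj.IsProjQMap (RelProj.QGrHom.ofHom φ hφ) pA chartA pB chartB h)

include hh in
theorem emb_comp (U : Y.Opens) (hU : IsAffineOpen U) :
    RelProj.emb pB chartB U hU ≫ h =
      PMap.total (RelProj.gradedHomAt φ hφ U hU) (hG U hU) ≫ RelProj.emb pA chartA U hU := by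
  have hUU : U ≤ (𝟙 Y : Y ⟶ Y) ⁻¹ᵁ U := le_refl _
  have key := ι_emb_comp (RelProj.QGrHom.ofHom φ hφ) pA chartA pB chartB h hh.2 U hU U hU hUU
  rw [gradedAt_eq φ hφ U hU hUU] at key
  have := PMap.isIso_ι (RelProj.gradedHomAt φ hφ U hU) (hG U hU)
  rw [← cancel_epi (RelCone.domOpen (RelProj.gradedHomAt φ hφ U hU)).ι, key,
    PMap.ι_total_assoc]

include hh in
theorem ι_comp (U : Y.Opens) (hU : IsAffineOpen U) :
    (pB ⁻¹ᵁ U).ι ≫ h =
      (chartB U hU).hom ≫ PMap.total (RelProj.gradedHomAt φ hφ U hU) (hG U hU) ≫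
        (chartA U hU).inv ≫ (pA ⁻¹ᵁ U).ι := by
  have := emb_comp φ hφ hG chartA chartB h hh U hU
  rw [RelProj.emb, Category.assoc, Iso.inv_comp_eq] at this
  exact this

include hG hA hB hh in
/-- `Proj(φ)` is a morphism over the base. -/
theorem comp_eq : h ≫ pA = pB := by
  have key : ∀ (U : Y.Opens) (hU : IsAffineOpen U),
      (pB ⁻¹ᵁ U).ι ≫ h ≫ pA = (pB ⁻¹ᵁ U).ι ≫ pB := by
    intro U hU
    rw [← Category.assoc, ι_comp φ hφ hG chartA chartB h hh U hU, Category.assoc, Category.assoc,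
      Category.assoc, ← hA.chart_over U hU, Iso.inv_hom_id_assoc, ← hB.chart_over U hU,
      PMap.total_toSpecZero_assoc, ← Spec.map_comp_assoc]
    congr 4
    ext r
    have := congrArg (fun f => (f.app (op (U : Y.Opens))).hom r) φ.comm
    exact this
  have hcov : IsOpenCover (fun U : Y.affineOpens => pB ⁻¹ᵁ (U : Y.Opens)) := by
    apply IsOpenCover.mk
    rw [← Scheme.Hom.preimage_iSup, iSup_affineOpens_eq_top, Scheme.Hom.preimage_top]
  refine (PB.openCoverOfIsOpenCover _ hcov).hom_ext _ _ fun (U : Y.affineOpens) => ?_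
  exact key U U.2

include hG hA hB hh in
theorem preimage_eq (U : Y.Opens) : h ⁻¹ᵁ (pA ⁻¹ᵁ U) = pB ⁻¹ᵁ U := by
  rw [← Scheme.Hom.comp_preimage, comp_eq φ hφ hG chartA chartB hA hB h hh]

include hA hB hh in
theorem restrict_eq (U : Y.Opens) (hU : IsAffineOpen U) :
    h ∣_ (pA ⁻¹ᵁ U) =
      (PB.isoOfEq (preimage_eq φ hφ hG chartA chartB hA hB h hh U)).hom ≫
        (chartB U hU).hom ≫ PMap.total (RelProj.gradedHomAt φ hφ U hU) (hG U hU) ≫
          (chartA U hU).inv := by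
  rw [← cancel_mono (pA ⁻¹ᵁ U).ι, morphismRestrict_ι]
  simp only [Category.assoc]
  rw [← ι_comp φ hφ hG chartA chartB h hh U hU, Scheme.isoOfEq_hom_ι_assoc]

include hG hA hB hh in
/-- A property local at the target holds for `Proj(φ)` iff it holds for the partial maps of
homogeneous spectra of `φ(U)` over all affine opens `U`. -/
theorem iff_forall (P : MorphismProperty Scheme.{u}) [IsZariskiLocalAtTarget P] :
    P h ↔ ∀ (U : Y.Opens) (hU : IsAffineOpen U),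
      P (PMap.map (RelProj.gradedHomAt φ hφ U hU)) := by
  have hcov : ⨆ U : Y.affineOpens, pA ⁻¹ᵁ (U : Y.Opens) = ⊤ := by
    rw [← Scheme.Hom.preimage_iSup, iSup_affineOpens_eq_top, Scheme.Hom.preimage_top]
  rw [IsZariskiLocalAtTarget.iff_of_iSup_eq_top (P := P) _ hcov]
  have key : ∀ (U : Y.Opens) (hU : IsAffineOpen U), P (h ∣_ (pA ⁻¹ᵁ U)) ↔
      P (PMap.map (RelProj.gradedHomAt φ hφ U hU)) := by
    intro U hU
    rw [restrict_eq φ hφ hG chartA chartB hA hB h hh U hU,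
      P.cancel_left_of_respectsIso, P.cancel_left_of_respectsIso,
      P.cancel_right_of_respectsIso]
    exact PMap.total_iff _ (hG U hU) P
  constructor
  · intro H U hU
    exact (key U hU).1 (H ⟨U, hU⟩)
  · intro H U
    exact (key U U.2).2 (H U U.2)

end rel

end Groth.Agent.H41.RelPMap
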