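import Groth.Agent.H41.RelPMap2
import Groth.Agent.H41.RelPMap

/-!
# `Proj(φ) : G(φ) ⟶ Proj 𝒜` for a graded homomorphism `φ : 𝒜 → ℬ` over one base

Local-on-the-target properties of `Proj(φ)` on its open of definition.
-/

set_option autoImplicit false
universe u
open CategoryTheory CategoryTheory.Limits AlgebraicGeometry Opposite TopologicalSpace
  HomogeneousLocalization
open scoped HomogeneousIdeal

namespace Groth.Agent.H41.RelPMap3

variable {Y : Scheme.{u}} {𝒜 ℬ : RelProj.QCGrAlg Y} (φ : 𝒜.toQCAlg ⟶ ℬ.toQCAlg)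
  (hφ : RelProj.IsGradedHom φ)
  {PA PB : Scheme.{u}} {pA : PA ⟶ Y} {pB : PB ⟶ Y}
  (chartA : ∀ (U : Y.Opens) (hU : IsAffineOpen U),
    (((pA ⁻¹ᵁ U : PA.Opens) : Scheme.{u}) ≅ Proj (𝒜.deg U hU)))
  (chartB : ∀ (U : Y.Opens) (hU : IsAffineOpen U),
    (((pB ⁻¹ᵁ U : PB.Opens) : Scheme.{u}) ≅ Proj (ℬ.deg U hU)))
  (hA : RelProj.IsRelProj 𝒜 pA chartA) (hB : RelProj.IsRelProj ℬ pB chartB)

include hB in
/-- Over an affine open `U`, `G(φ)` is the chart image of `G(φ(U))`. -/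
theorem domQ_inf_preimage (U : Y.Opens) (hU : IsAffineOpen U) :
    RelProj.domQ (RelProj.QGrHom.ofHom φ hφ) pB chartB ⊓ pB ⁻¹ᵁ U =
      (RelProj.emb pB chartB U hU) ''ᵁ RelCone.domOpen (RelProj.gradedHomAt φ hφ U hU) := by
  have hUU : U ≤ (𝟙 Y : Y ⟶ Y) ⁻¹ᵁ U := le_refl _
  rw [RelPMap2.domQ_inf_preimage (RelProj.QGrHom.ofHom φ hφ) pB chartB hB U hU U hU hUU]
  change (RelProj.emb pB chartB U hU) ''ᵁ
    RelCone.domOpen ((RelProj.QGrHom.ofHom φ hφ).gradedAt U hU U hU hUU) = _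
  rw [RelPMap.gradedAt_eq φ hφ U hU hUU]

variable (Φ : ((RelProj.domQ (RelProj.QGrHom.ofHom φ hφ) pB chartB : PB.Opens) : Scheme.{u}) ⟶ PA)
  (hΦ : RelProj.IsProjQMapOn (RelProj.QGrHom.ofHom φ hφ) pA chartA pB chartB
    (RelProj.domQ (RelProj.QGrHom.ofHom φ hφ) pB chartB) Φ)

include hA hB hΦ in
theorem preimage_eq (U : Y.Opens) :
    Φ ⁻¹ᵁ (pA ⁻¹ᵁ U) = (RelPMap2.fQ (RelProj.QGrHom.ofHom φ hφ) pB chartB) ⁻¹ᵁ U := by
  rw [← Scheme.Hom.comp_preimage,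
    RelPMap2.comp_p (RelProj.QGrHom.ofHom φ hφ) pA chartA hA pB chartB hB Φ hΦ]
  rfl

include hA hB hΦ in
theorem restrict_eq (U : Y.Opens) (hU : IsAffineOpen U) (hUU : U ≤ (𝟙 Y : Y ⟶ Y) ⁻¹ᵁ U) :
    Φ ∣_ (pA ⁻¹ᵁ U) =
      (Scheme.isoOfEq _ (preimage_eq φ hφ chartA chartB hA hB Φ hΦ U)).hom ≫
        (RelPMap2.θ (RelProj.QGrHom.ofHom φ hφ) pB chartB hB U hU U hU hUU).hom ≫
          PMap.map ((RelProj.QGrHom.ofHom φ hφ).gradedAt U hU U hU hUU) ≫ (chartA U hU).inv := by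
  have hv := (RelPMap2.isProjQMapOn_iff (RelProj.QGrHom.ofHom φ hφ) pA chartA pB chartB Φ).mp hΦ
    U hU U hU hUU
  rw [← cancel_mono (pA ⁻¹ᵁ U).ι, morphismRestrict_ι]
  simp only [Category.assoc]
  change _ = _ ≫ _ ≫ _ ≫ RelProj.emb pA chartA U hU
  rw [← hv, RelPMap2.θ_hom_j_assoc, Scheme.isoOfEq_hom_ι_assoc]

include hA hB hΦ in
/-- A property local at the target holds for `Proj(φ) : G(φ) ⟶ Proj 𝒜` iff it holds for the
partial maps of homogeneous spectra of `φ(U)` over all affine opens `U`. -/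
theorem iff_forall (Q : MorphismProperty Scheme.{u}) [IsZariskiLocalAtTarget Q] :
    Q Φ ↔ ∀ (U : Y.Opens) (hU : IsAffineOpen U),
      Q (PMap.map (RelProj.gradedHomAt φ hφ U hU)) := by
  have hcov : ⨆ U : Y.affineOpens, pA ⁻¹ᵁ (U : Y.Opens) = ⊤ := by
    rw [← Scheme.Hom.preimage_iSup, iSup_affineOpens_eq_top, Scheme.Hom.preimage_top]
  rw [IsZariskiLocalAtTarget.iff_of_iSup_eq_top (P := Q) _ hcov]
  have key : ∀ (U : Y.Opens) (hU : IsAffineOpen U), Q (Φ ∣_ (pA ⁻¹ᵁ U)) ↔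
      Q (PMap.map (RelProj.gradedHomAt φ hφ U hU)) := by
    intro U hU
    have hUU : U ≤ (𝟙 Y : Y ⟶ Y) ⁻¹ᵁ U := le_refl _
    rw [restrict_eq φ hφ chartA chartB hA hB Φ hΦ U hU hUU,
      Q.cancel_left_of_respectsIso, Q.cancel_left_of_respectsIso,
      Q.cancel_right_of_respectsIso, RelPMap.gradedAt_eq φ hφ U hU hUU]
  constructor
  · intro H U hU
    exact (key U hU).1 (H ⟨U, hU⟩)
  · intro H U
    exact (key U U.2).2 (H U U.2)

include hA hB hΦ in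
/-- `Proj(φ)` is affine on its open of definition. -/
theorem isAffineHom : IsAffineHom Φ := by
  rw [iff_forall φ hφ chartA chartB hA hB Φ hΦ @IsAffineHom]
  intro U hU
  apply PMap.map_of_forall_away _ @IsAffineHom
  intro d _ s _
  infer_instance

end Groth.Agent.H41.RelPMap3
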