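import Groth.Agent.H41.RelPMap4

/-!
# Comparing `Proj(u₁)` and `Proj(u₂)` for two graded `q`-morphisms into the same algebra
-/

set_option autoImplicit false
universe u
open CategoryTheory CategoryTheory.Limits AlgebraicGeometry Opposite TopologicalSpace
  HomogeneousLocalization
open scoped HomogeneousIdeal

namespace Groth.Agent.H41.RelPMap5

section transfer

variable {Y X P₁ P₂ PL : Scheme.{u}} (q : X ⟶ Y)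
  (𝒮₁ 𝒮₂ : RelProj.QCGrAlg Y) (𝒮L : RelProj.QCGrAlg X)
  (u₁ : RelProj.QGrHom q 𝒮₁ 𝒮L) (u₂ : RelProj.QGrHom q 𝒮₂ 𝒮L)
  (p₁ : P₁ ⟶ Y)
  (chart₁ : ∀ (U : Y.Opens) (hU : IsAffineOpen U),
    (((p₁ ⁻¹ᵁ U : P₁.Opens) : Scheme.{u}) ≅ Proj (𝒮₁.deg U hU)))
  (hP₁ : RelProj.IsRelProj 𝒮₁ p₁ chart₁)
  (p₂ : P₂ ⟶ Y)
  (chart₂ : ∀ (U : Y.Opens) (hU : IsAffineOpen U),
    (((p₂ ⁻¹ᵁ U : P₂.Opens) : Scheme.{u}) ≅ Proj (𝒮₂.deg U hU)))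
  (pL : PL ⟶ X)
  (chartL : ∀ (U : X.Opens) (hU : IsAffineOpen U),
    (((pL ⁻¹ᵁ U : PL.Opens) : Scheme.{u}) ≅ Proj (𝒮L.deg U hU)))
  (hPL : RelProj.IsRelProj 𝒮L pL chartL)
  (r₁ : ((RelProj.domQ u₁ pL chartL : PL.Opens) : Scheme.{u}) ⟶ P₁)
  (hr₁ : RelProj.IsProjQMapOn u₁ p₁ chart₁ pL chartL (RelProj.domQ u₁ pL chartL) r₁)
  (r₂ : ((RelProj.domQ u₂ pL chartL : PL.Opens) : Scheme.{u}) ⟶ P₂)
  (hr₂ : RelProj.IsProjQMapOn u₂ p₂ chart₂ pL chartL (RelProj.domQ u₂ pL chartL) r₂)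

include hP₁ hPL hr₁ hr₂ in
/-- If `D₊(u₁ f₁) = D₊(u₂ f₂)` in all charts over `U`, a point of `G(u₁)` sent by `Proj(u₁)` into
`D₊(f₁)` lies in `G(u₂)` and is sent by `Proj(u₂)` into `D₊(f₂)`. -/
theorem transfer (U : Y.Opens) (hU : IsAffineOpen U) {d₁ : ℕ} (hd₁ : 0 < d₁)
    (f₁ : 𝒮₁.presheaf.obj (op U)) (hf₁ : f₁ ∈ 𝒮₁.deg U hU d₁) {d₂ : ℕ} (hd₂ : 0 < d₂)
    (f₂ : 𝒮₂.presheaf.obj (op U)) (hf₂ : f₂ ∈ 𝒮₂.deg U hU d₂)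
    (hff : ∀ (U' : X.Opens) (hU' : IsAffineOpen U') (hle : U' ≤ q ⁻¹ᵁ U),
      Proj.basicOpen (𝒮L.deg U' hU') (u₁.gradedAt U hU U' hU' hle f₁) =
        Proj.basicOpen (𝒮L.deg U' hU') (u₂.gradedAt U hU U' hU' hle f₂))
    (x₁ : (RelProj.domQ u₁ pL chartL : Scheme.{u}))
    (hx₁ : r₁ x₁ ∈ (RelProj.emb p₁ chart₁ U hU) ''ᵁ Proj.basicOpen (𝒮₁.deg U hU) f₁) :
    ∃ x₂ : (RelProj.domQ u₂ pL chartL : Scheme.{u}),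
      r₂ x₂ ∈ (RelProj.emb p₂ chart₂ U hU) ''ᵁ Proj.basicOpen (𝒮₂.deg U hU) f₂ := by
  -- the point lies over `U`
  have hover : q (pL ((RelProj.domQ u₁ pL chartL).ι x₁)) ∈ U := by
    have h1 : p₁ (r₁ x₁) ∈ U := by
      obtain ⟨w, _, hw⟩ := hx₁
      rw [← hw]
      exact RelPMap2.emb_mem p₁ chart₁ U hU w
    have h2 := RelPMap2.comp_p u₁ p₁ chart₁ hP₁ pL chartL hPL r₁ hr₁
    have h3 : p₁ (r₁ x₁) = q (pL ((RelProj.domQ u₁ pL chartL).ι x₁)) := by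
      rw [← Scheme.Hom.comp_apply, h2]
      rfl
    rw [← h3]
    exact h1
  obtain ⟨U', hU', hxU', hU'U⟩ := (Opens.isBasis_iff_nbhd.mp X.isBasis_affineOpens)
    (show pL ((RelProj.domQ u₁ pL chartL).ι x₁) ∈ q ⁻¹ᵁ U from hover)
  have hx : (RelProj.domQ u₁ pL chartL).ι x₁ ∈ pL ⁻¹ᵁ U' := hxU'
  have h1 := (RelPMap4.apply_mem_emb_basicOpen_iff u₁ p₁ chart₁ pL chartL hPL r₁ hr₁ U hU U' hU'
    hU'U hd₁ f₁ hf₁ x₁ hx).mp hx₁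
  rw [hff U' hU' hU'U] at h1
  have hdom : (chartL U' hU').hom ⟨(RelProj.domQ u₁ pL chartL).ι x₁, hx⟩ ∈
      RelCone.domOpen (u₂.gradedAt U hU U' hU' hU'U) :=
    PMap.basicOpen_le (u₂.gradedAt U hU U' hU' hU'U) hf₂ hd₂ h1
  have hW : (RelProj.domQ u₁ pL chartL).ι x₁ ∈ RelPMap2.W u₂ pL chartL U hU U' hU' hU'U :=
    (RelPMap2.mem_W_iff u₂ pL chartL U hU U' hU' hU'U _).mpr ⟨hx, hdom⟩
  have hQ : (RelProj.domQ u₁ pL chartL).ι x₁ ∈ RelProj.domQ u₂ pL chartL :=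
    RelPMap2.W_le_domQ u₂ pL chartL U hU U' hU' hU'U hW
  refine ⟨⟨(RelProj.domQ u₁ pL chartL).ι x₁, hQ⟩, ?_⟩
  exact (RelPMap4.apply_mem_emb_basicOpen_iff u₂ p₂ chart₂ pL chartL hPL r₂ hr₂ U hU U' hU'
    hU'U hd₂ f₂ hf₂ ⟨(RelProj.domQ u₁ pL chartL).ι x₁, hQ⟩ hx).mpr h1

end transfer

section comp

variable {Y X : Scheme.{u}} (q : X ⟶ Y)
  (𝒮 : RelProj.QCGrAlg Y) (𝒮L : RelProj.QCGrAlg X)
  (u : RelProj.QGrHom q 𝒮 𝒮L)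
  (𝒯 : RelProj.QCGrAlg Y) (v : 𝒯.toQCAlg ⟶ 𝒮.toQCAlg) (hv : RelProj.IsGradedHom v)
  (u' : RelProj.QGrHom q 𝒯 𝒮L) (hu' : ∀ U : Y.Opens, u'.app U = v.hom.app (op U) ≫ u.app U)

include hu' in
theorem gradedAt_apply (U : Y.Opens) (hU : IsAffineOpen U) (U' : X.Opens) (hU' : IsAffineOpen U')
    (hle : U' ≤ q ⁻¹ᵁ U) (t : 𝒯.presheaf.obj (op U)) :
    u'.gradedAt U hU U' hU' hle t =
      u.gradedAt U hU U' hU' hle (RelProj.gradedHomAt v hv U hU t) := by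
  change (u'.appLE U U' hle).hom t = (u.appLE U U' hle).hom ((v.hom.app (op U)).hom t)
  rw [RelSpec.QHom.appLE, RelSpec.QHom.appLE, hu' U]
  rfl

end comp

end Groth.Agent.H41.RelPMap5
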