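import Groth.Agent.H41.RelPMap5
import Groth.Agent.H41.RelPMap
import Groth.Agent.H41.PMapComp3

/-!
# `Proj(u ∘ v) = Proj(v) ∘ Proj(u)` on `G(u ∘ v)`
-/

set_option autoImplicit false
universe u
open CategoryTheory CategoryTheory.Limits AlgebraicGeometry Opposite TopologicalSpace
  HomogeneousLocalization
open scoped HomogeneousIdeal

namespace Groth.Agent.H41.RelPMap7

section apply

variable {Y Y' P P' : Scheme.{u}} {g : Y' ⟶ Y} {𝒮 : RelProj.QCGrAlg Y} {𝒮' : RelProj.QCGrAlg Y'}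
  (u : RelProj.QGrHom g 𝒮 𝒮')
  (p : P ⟶ Y)
  (chart : ∀ (U : Y.Opens) (hU : IsAffineOpen U),
    (((p ⁻¹ᵁ U : P.Opens) : Scheme.{u}) ≅ Proj (𝒮.deg U hU)))
  (p' : P' ⟶ Y')
  (chart' : ∀ (U' : Y'.Opens) (hU' : IsAffineOpen U'),
    (((p' ⁻¹ᵁ U' : P'.Opens) : Scheme.{u}) ≅ Proj (𝒮'.deg U' hU')))
  (hP' : RelProj.IsRelProj 𝒮' p' chart')
  (w : (RelProj.domQ u p' chart' : Scheme.{u}) ⟶ P)
  (hw : RelProj.IsProjQMapOn u p chart p' chart' (RelProj.domQ u p' chart') w)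

include hP' hw in
/-- Pointwise description of `Proj(u)` in a chart. -/
theorem apply_eq (U : Y.Opens) (hU : IsAffineOpen U) (U' : Y'.Opens)
    (hU' : IsAffineOpen U') (hle : U' ≤ g ⁻¹ᵁ U)
    (x : (RelProj.domQ u p' chart' : Scheme.{u}))
    (hx : (RelProj.domQ u p' chart').ι x ∈ p' ⁻¹ᵁ U') :
    ∃ hy : (chart' U' hU').hom ⟨(RelProj.domQ u p' chart').ι x, hx⟩ ∈
        RelCone.domOpen (u.gradedAt U hU U' hU' hle),
      w x = (RelProj.emb p chart U hU) ((PMap.map (u.gradedAt U hU U' hU' hle))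
        ⟨(chart' U' hU').hom ⟨(RelProj.domQ u p' chart').ι x, hx⟩, hy⟩) := by
  have hxW : (RelProj.domQ u p' chart').ι x ∈ RelPMap2.W u p' chart' U hU U' hU' hle := by
    rw [← RelPMap2.domQ_inf_preimage u p' chart' hP' U hU U' hU' hle]
    exact ⟨x.2, hx⟩
  obtain ⟨_, hy⟩ := (RelPMap2.mem_W_iff u p' chart' U hU U' hU' hle _).mp hxW
  refine ⟨hy, ?_⟩
  have hxj : x = (RelPMap2.j u p' chart' U hU U' hU' hle)
      ⟨(chart' U' hU').hom ⟨(RelProj.domQ u p' chart').ι x, hx⟩, hy⟩ := by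
    apply (RelProj.domQ u p' chart').ι.isOpenEmbedding.injective
    rw [← Scheme.Hom.comp_apply, RelPMap2.j_ι, Scheme.Hom.comp_apply]
    exact (RelPMap2.emb_chart_apply p' chart' U' hU' _ hx).symm
  conv_lhs => rw [hxj]
  rw [← Scheme.Hom.comp_apply,
    (RelPMap2.isProjQMapOn_iff u p chart p' chart' w).mp hw U hU U' hU' hle,
    Scheme.Hom.comp_apply]

end apply

section comp

variable {Y X P PL P' : Scheme.{u}} (q : X ⟶ Y)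
  (𝒮 : RelProj.QCGrAlg Y) (𝒮L : RelProj.QCGrAlg X)
  (u : RelProj.QGrHom q 𝒮 𝒮L)
  (p : P ⟶ Y)
  (chart : ∀ (U : Y.Opens) (hU : IsAffineOpen U),
    (((p ⁻¹ᵁ U : P.Opens) : Scheme.{u}) ≅ Proj (𝒮.deg U hU)))
  (hP : RelProj.IsRelProj 𝒮 p chart)
  (pL : PL ⟶ X)
  (chartL : ∀ (U : X.Opens) (hU : IsAffineOpen U),
    (((pL ⁻¹ᵁ U : PL.Opens) : Scheme.{u}) ≅ Proj (𝒮L.deg U hU)))
  (hPL : RelProj.IsRelProj 𝒮L pL chartL)
  (r : ((RelProj.domQ u pL chartL : PL.Opens) : Scheme.{u}) ⟶ P)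
  (hr : RelProj.IsProjQMapOn u p chart pL chartL (RelProj.domQ u pL chartL) r)
  (𝒯 : RelProj.QCGrAlg Y) (v : 𝒯.toQCAlg ⟶ 𝒮.toQCAlg) (hv : RelProj.IsGradedHom v)
  (u' : RelProj.QGrHom q 𝒯 𝒮L) (hu' : ∀ U : Y.Opens, u'.app U = v.hom.app (op U) ≫ u.app U)
  (p' : P' ⟶ Y)
  (chart' : ∀ (U : Y.Opens) (hU : IsAffineOpen U),
    (((p' ⁻¹ᵁ U : P'.Opens) : Scheme.{u}) ≅ Proj (𝒯.deg U hU)))
  (hP' : RelProj.IsRelProj 𝒯 p' chart')
  (r' : ((RelProj.domQ u' pL chartL : PL.Opens) : Scheme.{u}) ⟶ P')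
  (hr' : RelProj.IsProjQMapOn u' p' chart' pL chartL (RelProj.domQ u' pL chartL) r')
  (rv : ((RelProj.domQ (RelProj.QGrHom.ofHom v hv) p chart : P.Opens) : Scheme.{u}) ⟶ P')
  (hrv : RelProj.IsProjQMapOn (RelProj.QGrHom.ofHom v hv) p' chart' p chart
    (RelProj.domQ (RelProj.QGrHom.ofHom v hv) p chart) rv)

include hu' in
theorem gradedAt_eq_comp (U : Y.Opens) (hU : IsAffineOpen U) (U' : X.Opens)
    (hU' : IsAffineOpen U') (hle : U' ≤ q ⁻¹ᵁ U) (hUU : U ≤ (𝟙 Y : Y ⟶ Y) ⁻¹ᵁ U) :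
    u'.gradedAt U hU U' hU' hle =
      (u.gradedAt U hU U' hU' hle).comp ((RelProj.QGrHom.ofHom v hv).gradedAt U hU U hU hUU) := by
  ext t
  rw [RelPMap5.gradedAt_apply q 𝒮 𝒮L u 𝒯 v hv u' hu' U hU U' hU' hle t,
    ← RelPMap.gradedAt_eq v hv U hU hUU]
  rfl

include hv hu' in
/-- `G(u ∘ v) ⊆ G(u)`. -/
theorem domQ_le : RelProj.domQ u' pL chartL ≤ RelProj.domQ u pL chartL := by
  unfold RelProj.domQ
  refine iSup_le fun V => le_trans ?_ (le_iSup _ V)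
  rintro _ ⟨y, hy, rfl⟩
  refine ⟨y, ?_, rfl⟩
  have hUU : V.1.1.1 ≤ (𝟙 Y : Y ⟶ Y) ⁻¹ᵁ V.1.1.1 := le_refl _
  exact PMap.domOpen_le_of_eq_comp _ _ _
    (gradedAt_eq_comp q 𝒮 𝒮L u 𝒯 v hv u' hu' V.1.1.1 V.1.1.2 V.1.2.1 V.1.2.2 V.2 hUU) hy

include hPL hr hu' in
/-- `Proj(u)` maps `G(u ∘ v)` into `G(v)`. -/
theorem apply_mem_domQ (x : (RelProj.domQ u pL chartL : Scheme.{u}))
    (hx : (RelProj.domQ u pL chartL).ι x ∈ RelProj.domQ u' pL chartL) :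
    r x ∈ RelProj.domQ (RelProj.QGrHom.ofHom v hv) p chart := by
  obtain ⟨⟨⟨⟨U, hU⟩, ⟨U', hU'⟩⟩, hle⟩, hxW⟩ := Opens.mem_iSup.mp hx
  have hxW' : (RelProj.domQ u pL chartL).ι x ∈ RelPMap2.W u' pL chartL U hU U' hU' hle := hxW
  obtain ⟨hxU', hy'⟩ := (RelPMap2.mem_W_iff u' pL chartL U hU U' hU' hle _).mp hxW'
  obtain ⟨hy, hrx⟩ := apply_eq u p chart pL chartL hPL r hr U hU U' hU' hle x hxU'
  have hUU : U ≤ (𝟙 Y : Y ⟶ Y) ⁻¹ᵁ U := le_refl _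
  have hE := gradedAt_eq_comp q 𝒮 𝒮L u 𝒯 v hv u' hu' U hU U' hU' hle hUU
  have hmem := PMap.map_mem_domOpen_of_eq_comp _ _ _ hE
    ⟨(chartL U' hU').hom ⟨(RelProj.domQ u pL chartL).ι x, hxU'⟩, hy⟩ hy'
  rw [hrx]
  exact RelPMap2.W_le_domQ (RelProj.QGrHom.ofHom v hv) p chart U hU U hU hUU ⟨_, hmem, rfl⟩

/-- The inclusion `G(u ∘ v) ⟶ G(u)`. -/
noncomputable def k : (RelProj.domQ u' pL chartL : Scheme.{u}) ⟶
    (RelProj.domQ u pL chartL : Scheme.{u}) :=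
  PL.homOfLE (domQ_le q 𝒮 𝒮L u pL chartL 𝒯 v hv u' hu')

@[reassoc]
theorem k_ι : k q 𝒮 𝒮L u pL chartL 𝒯 v hv u' hu' ≫ (RelProj.domQ u pL chartL).ι =
    (RelProj.domQ u' pL chartL).ι :=
  Scheme.homOfLE_ι _ _

include hPL hr in
theorem range_k_r :
    Set.range (k q 𝒮 𝒮L u pL chartL 𝒯 v hv u' hu' ≫ r).base ⊆
      Set.range (RelProj.domQ (RelProj.QGrHom.ofHom v hv) p chart).ι.base := by
  rw [Scheme.Opens.range_ι]
  rintro _ ⟨x', rfl⟩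
  change r ((k q 𝒮 𝒮L u pL chartL 𝒯 v hv u' hu') x') ∈ _
  apply apply_mem_domQ q 𝒮 𝒮L u p chart pL chartL hPL r hr 𝒯 v hv u' hu'
  rw [← Scheme.Hom.comp_apply, k_ι]
  exact x'.2

/-- `Proj(u)` restricted to `G(u ∘ v)`, as a morphism into `G(v)`. -/
noncomputable def m : (RelProj.domQ u' pL chartL : Scheme.{u}) ⟶
    (RelProj.domQ (RelProj.QGrHom.ofHom v hv) p chart : Scheme.{u}) :=
  IsOpenImmersion.lift (RelProj.domQ (RelProj.QGrHom.ofHom v hv) p chart).ι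
    (k q 𝒮 𝒮L u pL chartL 𝒯 v hv u' hu' ≫ r)
    (range_k_r q 𝒮 𝒮L u p chart pL chartL hPL r hr 𝒯 v hv u' hu')

@[reassoc]
theorem m_ι : m q 𝒮 𝒮L u p chart pL chartL hPL r hr 𝒯 v hv u' hu' ≫
    (RelProj.domQ (RelProj.QGrHom.ofHom v hv) p chart).ι =
      k q 𝒮 𝒮L u pL chartL 𝒯 v hv u' hu' ≫ r :=
  IsOpenImmersion.lift_fac _ _ _

include hP hP' hr' hrv in
/-- `Proj(u ∘ v) = Proj(v) ∘ Proj(u)` on `G(u ∘ v)`. -/
theorem m_rv : m q 𝒮 𝒮L u p chart pL chartL hPL r hr 𝒯 v hv u' hu' ≫ rv = r' := by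
  refine (RelPMap2.existsUnique_isProjQMapOn u' p' chart' hP' pL chartL hPL).unique ?_ hr'
  rw [RelPMap2.isProjQMapOn_iff]
  intro U hU U' hU' hle
  have hUU : U ≤ (𝟙 Y : Y ⟶ Y) ⁻¹ᵁ U := le_refl _
  have hE := gradedAt_eq_comp q 𝒮 𝒮L u 𝒯 v hv u' hu' U hU U' hU' hle hUU
  set ψ := u.gradedAt U hU U' hU' hle with hψ
  set ρ := (RelProj.QGrHom.ofHom v hv).gradedAt U hU U hU hUU with hρ
  set Ψ := u'.gradedAt U hU U' hU' hle with hΨ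
  let b : (RelCone.domOpen Ψ : Scheme.{u}) ⟶ (RelCone.domOpen ψ : Scheme.{u}) :=
    (Proj (𝒮L.deg U' hU')).homOfLE (PMap.domOpen_le_of_eq_comp ρ ψ Ψ hE)
  have hb : b ≫ (RelCone.domOpen ψ).ι = (RelCone.domOpen Ψ).ι := Scheme.homOfLE_ι _ _
  have hrange : Set.range (b ≫ PMap.map ψ).base ⊆ Set.range (RelCone.domOpen ρ).ι.base := by
    rw [Scheme.Opens.range_ι]
    rintro _ ⟨y, rfl⟩
    change (PMap.map ψ) (b y) ∈ RelCone.domOpen ρ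
    apply PMap.map_mem_domOpen_of_eq_comp ρ ψ Ψ hE
    rw [← Scheme.Hom.comp_apply, hb]
    exact y.2
  let c := IsOpenImmersion.lift (RelCone.domOpen ρ).ι (b ≫ PMap.map ψ) hrange
  have hc : c ≫ (RelCone.domOpen ρ).ι = b ≫ PMap.map ψ := IsOpenImmersion.lift_fac _ _ _
  have hcomp : PMap.map Ψ = c ≫ PMap.map ρ := by
    have := PMap.comp_map' ρ ψ Ψ hE (𝟙 _) b c (by rw [Category.id_comp, hb]) hc.symm
    rwa [Category.id_comp] at this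
  have hr1 := (RelPMap2.isProjQMapOn_iff u p chart pL chartL r).mp hr U hU U' hU' hle
  have hrv1 := (RelPMap2.isProjQMapOn_iff (RelProj.QGrHom.ofHom v hv) p' chart' p chart rv).mp hrv
    U hU U hU hUU
  have h1 : RelPMap2.j u' pL chartL U hU U' hU' hle ≫ k q 𝒮 𝒮L u pL chartL 𝒯 v hv u' hu' =
      b ≫ RelPMap2.j u pL chartL U hU U' hU' hle := by
    rw [← cancel_mono (RelProj.domQ u pL chartL).ι, Category.assoc, k_ι, RelPMap2.j_ι,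
      Category.assoc, RelPMap2.j_ι, reassoc_of% hb]
  have h2 : RelPMap2.j u' pL chartL U hU U' hU' hle ≫
      m q 𝒮 𝒮L u p chart pL chartL hPL r hr 𝒯 v hv u' hu' =
      c ≫ RelPMap2.j (RelProj.QGrHom.ofHom v hv) p chart U hU U hU hUU := by
    rw [← cancel_mono (RelProj.domQ (RelProj.QGrHom.ofHom v hv) p chart).ι, Category.assoc, m_ι,
      reassoc_of% h1, hr1, Category.assoc, RelPMap2.j_ι, reassoc_of% hc]
  rw [reassoc_of% h2, hrv1, ← Category.assoc, ← hcomp]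

end comp

end Groth.Agent.H41.RelPMap7
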