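import Groth.Agent.H41.RelPMap6
import Mathlib.AlgebraicGeometry.Morphisms.QuasiCompact

/-!
# Quasi-compactness of `Proj(u)` over an affine base with quasi-compact source base
-/

set_option autoImplicit false
universe u
open CategoryTheory CategoryTheory.Limits AlgebraicGeometry Opposite TopologicalSpace
  HomogeneousLocalization
open scoped HomogeneousIdeal

namespace Groth.Agent.H41.RelPMap8

variable {Y X P PL : Scheme.{u}} (q : X ⟶ Y)
  (𝒮 : RelProj.QCGrAlg Y) (𝒮L : RelProj.QCGrAlg X)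
  (u : RelProj.QGrHom q 𝒮 𝒮L)
  (p : P ⟶ Y)
  (chart : ∀ (U : Y.Opens) (hU : IsAffineOpen U),
    (((p ⁻¹ᵁ U : P.Opens) : Scheme.{u}) ≅ Proj (𝒮.deg U hU)))
  (pL : PL ⟶ X)
  (chartL : ∀ (U : X.Opens) (hU : IsAffineOpen U),
    (((pL ⁻¹ᵁ U : PL.Opens) : Scheme.{u}) ≅ Proj (𝒮L.deg U hU)))
  (hPL : RelProj.IsRelProj 𝒮L pL chartL)
  (r : ((RelProj.domQ u pL chartL : PL.Opens) : Scheme.{u}) ⟶ P)
  (hr : RelProj.IsProjQMapOn u p chart pL chartL (RelProj.domQ u pL chartL) r)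

include hPL hr in
/-- The preimage of a basic open of `Proj 𝒮` over the affine open `U`, when `q⁻¹ U` is covered by
finitely many affine opens, is compact. -/
theorem isCompact_preimage_basicOpen [CompactSpace X] (U : Y.Opens) (hU : IsAffineOpen U)
    (hqU : q ⁻¹ᵁ U = ⊤) {d : ℕ} (hd : 0 < d)
    (s : 𝒮.presheaf.obj (op U)) (hs : s ∈ 𝒮.deg U hU d) :
    IsCompact (r ⁻¹' ((RelProj.emb p chart U hU) ''ᵁ Proj.basicOpen (𝒮.deg U hU) s : Set P)) := by
  have hleV : ∀ V : X.Opens, V ≤ q ⁻¹ᵁ U := fun V => hqU ▸ le_top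
  choose W hW hxW using fun x : X =>
    (Opens.isBasis_iff_nbhd.mp X.isBasis_affineOpens) (Opens.mem_top x)
  obtain ⟨t, ht⟩ := CompactSpace.elim_nhds_subcover (fun x => (W x : Set X))
    (fun x => (W x).2.mem_nhds (hxW x).1)
  have hset : r ⁻¹' ((RelProj.emb p chart U hU) ''ᵁ Proj.basicOpen (𝒮.deg U hU) s : Set P) =
      ⋃ x ∈ t, (RelProj.domQ u pL chartL).ι ⁻¹' ((RelProj.emb pL chartL (W x) (hW x)) ''
        (Proj.basicOpen (𝒮L.deg (W x) (hW x))
          (u.gradedAt U hU (W x) (hW x) (hleV (W x)) s) : Set _)) := by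
    ext y
    simp only [Set.mem_preimage, Set.mem_iUnion, Set.mem_image, exists_prop]
    constructor
    · intro hy
      have hmem : pL ((RelProj.domQ u pL chartL).ι y) ∈ ⋃ x ∈ t, (W x : Set X) := by
        rw [ht]
        trivial
      simp only [Set.mem_iUnion, exists_prop] at hmem
      obtain ⟨x, hxt, hyx⟩ := hmem
      have hyx' : (RelProj.domQ u pL chartL).ι y ∈ pL ⁻¹ᵁ (W x) := hyx
      refine ⟨x, hxt, _, (RelPMap4.apply_mem_emb_basicOpen_iff u p chart pL chartL hPL r hr U hU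
        (W x) (hW x) (hleV (W x)) hd s hs y hyx').mp hy, ?_⟩
      exact RelPMap2.emb_chart_apply pL chartL (W x) (hW x) _ hyx'
    · rintro ⟨x, -, w, hw, hwy⟩
      have hyx' : (RelProj.domQ u pL chartL).ι y ∈ pL ⁻¹ᵁ (W x) := by
        rw [← hwy]
        exact RelPMap2.emb_mem pL chartL (W x) (hW x) w
      refine (RelPMap4.apply_mem_emb_basicOpen_iff u p chart pL chartL hPL r hr U hU
        (W x) (hW x) (hleV (W x)) hd s hs y hyx').mpr ?_
      have h1 : (chartL (W x) (hW x)).hom ⟨(RelProj.domQ u pL chartL).ι y, hyx'⟩ = w := by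
        have h2 : (⟨(RelProj.domQ u pL chartL).ι y, hyx'⟩ : (pL ⁻¹ᵁ (W x) : PL.Opens)) =
            ⟨(RelProj.emb pL chartL (W x) (hW x)) w, RelPMap2.emb_mem pL chartL (W x) (hW x) w⟩ :=
          Subtype.ext hwy.symm
        rw [h2, RelPMap2.chart_emb_apply]
      rw [h1]
      exact hw
  rw [hset]
  refine t.finite_toSet.isCompact_biUnion fun x _ => ?_
  have hK : IsCompact ((RelProj.emb pL chartL (W x) (hW x)) ''
      (Proj.basicOpen (𝒮L.deg (W x) (hW x))
        (u.gradedAt U hU (W x) (hW x) (hleV (W x)) s) : Set _)) :=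
    (Proj.isAffineOpen_basicOpen (𝒮L.deg (W x) (hW x)) _
      ((u.gradedAt U hU (W x) (hW x) (hleV (W x))).map_mem hs) hd).isCompact.image
      (RelProj.emb pL chartL (W x) (hW x)).continuous
  refine (RelProj.domQ u pL chartL).ι.isOpenEmbedding.isInducing.isCompact_preimage' hK ?_
  rw [Scheme.Opens.range_ι]
  rintro _ ⟨w, hw, rfl⟩
  exact RelPMap2.W_le_domQ u pL chartL U hU (W x) (hW x) (hleV (W x))
    ⟨w, PMap.basicOpen_le _ hs hd hw, rfl⟩

include hPL hr in
/-- `Proj(u)` is quasi-compact when the base `Y` is affine and `X` is quasi-compact. -/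
theorem quasiCompact [CompactSpace X] (hY : IsAffineOpen (⊤ : Y.Opens)) : QuasiCompact r := by
  rw [quasiCompact_iff]
  intro V hVo hVc
  choose! d s hd hs hzs hsV using fun (z : P) (hz : z ∈ V) =>
    RelPMap6.exists_emb_basicOpen_le p chart ⊤ hY ⟨V, hVo⟩ z hz (by trivial)
  obtain ⟨t, htV, ht⟩ := hVc.elim_nhds_subcover
    (fun z => ((RelProj.emb p chart ⊤ hY) ''ᵁ Proj.basicOpen (𝒮.deg ⊤ hY) (s z) : Set P))
    (fun z hz => ((RelProj.emb p chart ⊤ hY) ''ᵁ
      Proj.basicOpen (𝒮.deg ⊤ hY) (s z)).isOpen.mem_nhds (hzs z hz))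
  have hV : V = ⋃ z ∈ t,
      ((RelProj.emb p chart ⊤ hY) ''ᵁ Proj.basicOpen (𝒮.deg ⊤ hY) (s z) : Set P) := by
    apply Set.Subset.antisymm ht
    intro w hw
    simp only [Set.mem_iUnion, exists_prop] at hw
    obtain ⟨z, hzt, hwz⟩ := hw
    exact hsV z (htV z hzt) hwz
  rw [hV, Set.preimage_iUnion₂]
  refine t.finite_toSet.isCompact_biUnion fun z hz => ?_
  exact isCompact_preimage_basicOpen q 𝒮 𝒮L u p chart pL chartL hPL r hr ⊤ hY
    (Scheme.Hom.preimage_top q) (hd z (htV z hz)) (s z) (hs z (htV z hz))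

end Groth.Agent.H41.RelPMap8
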