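import Groth.Agent.H41.RelPMap3

/-!
# `T`-point forms of `RelProj.IsProjQMapOn`

The chart equations of `IsProjQMapOn … W r` for `W = G(u)` in terms of `T`-valued points, and, for
a graded homomorphism over one base, the characterisation through the pairs `(U, U)` only.
-/

set_option autoImplicit false
universe u
open CategoryTheory CategoryTheory.Limits AlgebraicGeometry Opposite TopologicalSpace
  HomogeneousLocalization
open scoped HomogeneousIdeal

namespace Groth.Agent.H41.RelPMap9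

section general

variable {Y Y' P P' : Scheme.{u}} {g : Y' ⟶ Y} {𝒮 : RelProj.QCGrAlg Y} {𝒮' : RelProj.QCGrAlg Y'}
  (u : RelProj.QGrHom g 𝒮 𝒮')
  (p : P ⟶ Y)
  (chart : ∀ (U : Y.Opens) (hU : IsAffineOpen U),
    (((p ⁻¹ᵁ U : P.Opens) : Scheme.{u}) ≅ Proj (𝒮.deg U hU)))
  (p' : P' ⟶ Y')
  (chart' : ∀ (U' : Y'.Opens) (hU' : IsAffineOpen U'),
    (((p' ⁻¹ᵁ U' : P'.Opens) : Scheme.{u}) ≅ Proj (𝒮'.deg U' hU')))

/-- `T`-point form of the chart equations of `Proj(u)` on `G(u)`. -/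
theorem apply_T (W : P'.Opens) (hW : W = RelProj.domQ u p' chart') (r : (W : Scheme.{u}) ⟶ P)
    (hr : RelProj.IsProjQMapOn u p chart p' chart' W r)
    (U : Y.Opens) (hU : IsAffineOpen U) (U' : Y'.Opens) (hU' : IsAffineOpen U')
    (hle : U' ≤ g ⁻¹ᵁ U) {T : Scheme.{u}} (a : T ⟶ (W : Scheme.{u}))
    (b : T ⟶ (RelCone.domOpen (u.gradedAt U hU U' hU' hle) : Scheme.{u}))
    (hab : a ≫ W.ι =
      b ≫ (RelCone.domOpen (u.gradedAt U hU U' hU' hle)).ι ≫ RelProj.emb p' chart' U' hU') :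
    a ≫ r = b ≫ PMap.map (u.gradedAt U hU U' hU' hle) ≫ RelProj.emb p chart U hU := by
  subst hW
  have h1 := (RelPMap2.isProjQMapOn_iff u p chart p' chart' r).mp hr U hU U' hU' hle
  have h2 : a = b ≫ RelPMap2.j u p' chart' U hU U' hU' hle := by
    rw [← cancel_mono (RelProj.domQ u p' chart').ι, Category.assoc, RelPMap2.j_ι, hab]
  rw [h2, Category.assoc, h1]

end general

section hom

variable {Y : Scheme.{u}} {𝒜 ℬ : RelProj.QCGrAlg Y} (φ : 𝒜.toQCAlg ⟶ ℬ.toQCAlg)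
  (hφ : RelProj.IsGradedHom φ)
  {PA PB : Scheme.{u}} {pA : PA ⟶ Y} {pB : PB ⟶ Y}
  (chartA : ∀ (U : Y.Opens) (hU : IsAffineOpen U),
    (((pA ⁻¹ᵁ U : PA.Opens) : Scheme.{u}) ≅ Proj (𝒜.deg U hU)))
  (chartB : ∀ (U : Y.Opens) (hU : IsAffineOpen U),
    (((pB ⁻¹ᵁ U : PB.Opens) : Scheme.{u}) ≅ Proj (ℬ.deg U hU)))
  (hA : RelProj.IsRelProj 𝒜 pA chartA) (hB : RelProj.IsRelProj ℬ pB chartB)

/-- `r : W ⟶ PA` is chartwise (over the pairs `(U, U)`) the partial map of homogeneous spectra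
of `φ(U)`, in `T`-point form. -/
def Chartwise (W : PB.Opens) (r : (W : Scheme.{u}) ⟶ PA) : Prop :=
  ∀ (U : Y.Opens) (hU : IsAffineOpen U) {T : Scheme.{u}} (a : T ⟶ (W : Scheme.{u}))
    (b : T ⟶ (RelCone.domOpen (RelProj.gradedHomAt φ hφ U hU) : Scheme.{u})),
    a ≫ W.ι = b ≫ (RelCone.domOpen (RelProj.gradedHomAt φ hφ U hU)).ι ≫
      RelProj.emb pB chartB U hU →
    a ≫ r = b ≫ PMap.map (RelProj.gradedHomAt φ hφ U hU) ≫ RelProj.emb pA chartA U hU

theorem chartwise_of_isProjQMapOn (W : PB.Opens)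
    (hW : W = RelProj.domQ (RelProj.QGrHom.ofHom φ hφ) pB chartB) (r : (W : Scheme.{u}) ⟶ PA)
    (hr : RelProj.IsProjQMapOn (RelProj.QGrHom.ofHom φ hφ) pA chartA pB chartB W r) :
    Chartwise φ hφ chartA chartB W r := by
  intro U hU T a b hab
  have hUU : U ≤ (𝟙 Y : Y ⟶ Y) ⁻¹ᵁ U := le_refl _
  have key := fun a b => apply_T (RelProj.QGrHom.ofHom φ hφ) pA chartA pB chartB W hW r hr
    U hU U hU hUU (T := T) a b
  rw [RelPMap.gradedAt_eq φ hφ U hU hUU] at key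
  exact key a b hab

include hB in
theorem range_subset (W : PB.Opens)
    (hW : W = RelProj.domQ (RelProj.QGrHom.ofHom φ hφ) pB chartB)
    (U : Y.Opens) (hU : IsAffineOpen U) :
    Set.range ((RelCone.domOpen (RelProj.gradedHomAt φ hφ U hU)).ι ≫
      RelProj.emb pB chartB U hU).base ⊆ Set.range W.ι.base := by
  subst hW
  rw [Scheme.Opens.range_ι]
  rintro _ ⟨y, rfl⟩
  have h1 : (RelProj.emb pB chartB U hU) ((RelCone.domOpen (RelProj.gradedHomAt φ hφ U hU)).ι y) ∈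
      (RelProj.emb pB chartB U hU) ''ᵁ RelCone.domOpen (RelProj.gradedHomAt φ hφ U hU) :=
    ⟨_, y.2, rfl⟩
  rw [← RelPMap3.domQ_inf_preimage φ hφ chartB hB U hU] at h1
  exact h1.1

/-- The open immersion `G(φ(U)) ⟶ W = G(φ)`. -/
noncomputable def jW (W : PB.Opens)
    (hW : W = RelProj.domQ (RelProj.QGrHom.ofHom φ hφ) pB chartB)
    (U : Y.Opens) (hU : IsAffineOpen U) :
    (RelCone.domOpen (RelProj.gradedHomAt φ hφ U hU) : Scheme.{u}) ⟶ (W : Scheme.{u}) :=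
  IsOpenImmersion.lift W.ι
    ((RelCone.domOpen (RelProj.gradedHomAt φ hφ U hU)).ι ≫ RelProj.emb pB chartB U hU)
    (range_subset φ hφ chartB hB W hW U hU)

@[reassoc]
theorem jW_ι (W : PB.Opens)
    (hW : W = RelProj.domQ (RelProj.QGrHom.ofHom φ hφ) pB chartB)
    (U : Y.Opens) (hU : IsAffineOpen U) :
    jW φ hφ chartB hB W hW U hU ≫ W.ι =
      (RelCone.domOpen (RelProj.gradedHomAt φ hφ U hU)).ι ≫ RelProj.emb pB chartB U hU :=
  IsOpenImmersion.lift_fac _ _ _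

instance (W : PB.Opens)
    (hW : W = RelProj.domQ (RelProj.QGrHom.ofHom φ hφ) pB chartB)
    (U : Y.Opens) (hU : IsAffineOpen U) : IsOpenImmersion (jW φ hφ chartB hB W hW U hU) := by
  have : IsOpenImmersion (jW φ hφ chartB hB W hW U hU ≫ W.ι) := by
    rw [jW_ι]
    infer_instance
  exact IsOpenImmersion.of_comp _ W.ι

/-- The `G(φ(U))`, `U` affine, cover `G(φ)`. -/
noncomputable def coverW (W : PB.Opens)
    (hW : W = RelProj.domQ (RelProj.QGrHom.ofHom φ hφ) pB chartB) :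
    Scheme.OpenCover.{u} (W : Scheme.{u}) where
  I₀ := Y.affineOpens
  X U := (RelCone.domOpen (RelProj.gradedHomAt φ hφ U.1 U.2) : Scheme.{u})
  f U := jW φ hφ chartB hB W hW U.1 U.2
  mem₀ := by
    rw [Scheme.presieve₀_mem_precoverage_iff]
    refine ⟨fun x ↦ ?_, inferInstance⟩
    obtain ⟨U, hxU⟩ : ∃ U : Y.affineOpens, pB x.1 ∈ (U : Y.Opens) := by
      have : pB x.1 ∈ (⊤ : Y.Opens) := trivial
      rw [← iSup_affineOpens_eq_top Y] at this
      exact Opens.mem_iSup.mp this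
    have hx : x.1 ∈ RelProj.domQ (RelProj.QGrHom.ofHom φ hφ) pB chartB ⊓ pB ⁻¹ᵁ (U : Y.Opens) :=
      ⟨hW ▸ x.2, hxU⟩
    rw [RelPMap3.domQ_inf_preimage φ hφ chartB hB U.1 U.2] at hx
    obtain ⟨y, hy, hyx⟩ := hx
    refine ⟨U, ⟨⟨y, hy⟩, ?_⟩⟩
    apply W.ι.isOpenEmbedding.injective
    rw [← Scheme.Hom.comp_apply, jW_ι]
    exact hyx

include hB in
theorem hom_ext (W : PB.Opens)
    (hW : W = RelProj.domQ (RelProj.QGrHom.ofHom φ hφ) pB chartB) {Z : Scheme.{u}}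
    (r r' : (W : Scheme.{u}) ⟶ Z)
    (h : ∀ (U : Y.Opens) (hU : IsAffineOpen U),
      jW φ hφ chartB hB W hW U hU ≫ r = jW φ hφ chartB hB W hW U hU ≫ r') : r = r' :=
  (coverW φ hφ chartB hB W hW).hom_ext _ _ fun U => h U.1 U.2

theorem chartwise_iff (W : PB.Opens)
    (hW : W = RelProj.domQ (RelProj.QGrHom.ofHom φ hφ) pB chartB) (r : (W : Scheme.{u}) ⟶ PA) :
    Chartwise φ hφ chartA chartB W r ↔ ∀ (U : Y.Opens) (hU : IsAffineOpen U),
      jW φ hφ chartB hB W hW U hU ≫ r =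
        PMap.map (RelProj.gradedHomAt φ hφ U hU) ≫ RelProj.emb pA chartA U hU := by
  constructor
  · intro h U hU
    have := h U hU (jW φ hφ chartB hB W hW U hU) (𝟙 _)
      (by rw [jW_ι, Category.id_comp])
    rw [this, Category.id_comp]
  · intro h U hU T a b hab
    have h2 : a = b ≫ jW φ hφ chartB hB W hW U hU := by
      rw [← cancel_mono W.ι, Category.assoc, jW_ι, hab]
    rw [h2, Category.assoc, h U hU]

include hA hB in
theorem existsUnique_chartwise (W : PB.Opens)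
    (hW : W = RelProj.domQ (RelProj.QGrHom.ofHom φ hφ) pB chartB) :
    ∃! r : (W : Scheme.{u}) ⟶ PA, Chartwise φ hφ chartA chartB W r := by
  obtain ⟨Φ₀, hΦ₀, -⟩ := RelPMap2.existsUnique_isProjQMapOn (RelProj.QGrHom.ofHom φ hφ)
    pA chartA hA pB chartB hB
  have hWle : W ≤ RelProj.domQ (RelProj.QGrHom.ofHom φ hφ) pB chartB := hW.le
  subst hW
  refine ⟨Φ₀, chartwise_of_isProjQMapOn φ hφ chartA chartB _ rfl Φ₀ hΦ₀, ?_⟩
  intro r hr
  have h0 := chartwise_of_isProjQMapOn φ hφ chartA chartB _ rfl Φ₀ hΦ₀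
  rw [chartwise_iff φ hφ chartA chartB hB _ rfl] at hr h0
  apply hom_ext φ hφ chartB hB _ rfl
  intro U hU
  rw [hr U hU, h0 U hU]

include hA hB in
theorem isProjQMapOn_of_chartwise (W : PB.Opens)
    (hW : W = RelProj.domQ (RelProj.QGrHom.ofHom φ hφ) pB chartB) (r : (W : Scheme.{u}) ⟶ PA)
    (hr : Chartwise φ hφ chartA chartB W r) :
    RelProj.IsProjQMapOn (RelProj.QGrHom.ofHom φ hφ) pA chartA pB chartB W r := by
  obtain ⟨Φ₀, hΦ₀, -⟩ := RelPMap2.existsUnique_isProjQMapOn (RelProj.QGrHom.ofHom φ hφ)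
    pA chartA hA pB chartB hB
  obtain ⟨r₀, -, huniq⟩ := existsUnique_chartwise φ hφ chartA chartB hA hB W hW
  subst hW
  have h1 : r = r₀ := huniq r hr
  have h2 : Φ₀ = r₀ := huniq Φ₀ (chartwise_of_isProjQMapOn φ hφ chartA chartB _ rfl Φ₀ hΦ₀)
  rw [h1, ← h2]
  exact hΦ₀

/-- The chart conditions in the form used by the cone rows: arbitrary lifts `g` of the standard
charts over the pairs `(U, U)`. -/
def Cond (W : PB.Opens) (r : (W : Scheme.{u}) ⟶ PA) : Prop :=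
  ∀ (U : Y.Opens) (hU : IsAffineOpen U) (d : ℕ) (hd : 0 < d) (f : 𝒜.presheaf.obj (op U))
    (hf : f ∈ 𝒜.deg U hU d)
    (g : Spec (CommRingCat.of (HomogeneousLocalization.Away (ℬ.deg U hU)
      ((RelProj.gradedHomAt φ hφ U hU) f))) ⟶ (W : Scheme.{u})),
    g ≫ W.ι =
        Proj.awayι (ℬ.deg U hU) ((RelProj.gradedHomAt φ hφ U hU) f)
          ((RelProj.gradedHomAt φ hφ U hU).2 hf) hd ≫ RelProj.emb pB chartB U hU →
      g ≫ r =
        Spec.map (CommRingCat.ofHom (HomogeneousLocalization.Away.map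
          (RelProj.gradedHomAt φ hφ U hU) f)) ≫
          Proj.awayι (𝒜.deg U hU) f hf hd ≫ RelProj.emb pA chartA U hU

include hB in
theorem cond_iff_chartwise (W : PB.Opens)
    (hW : W = RelProj.domQ (RelProj.QGrHom.ofHom φ hφ) pB chartB) (r : (W : Scheme.{u}) ⟶ PA) :
    Cond φ hφ chartA chartB W r ↔ Chartwise φ hφ chartA chartB W r := by
  constructor
  · intro h
    rw [chartwise_iff φ hφ chartA chartB hB W hW]
    intro U hU
    refine (PMap.cover (RelProj.gradedHomAt φ hφ U hU)).hom_ext _ _ fun s => ?_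
    change PMap.chart (RelProj.gradedHomAt φ hφ U hU) s.2.2.2 s.2.2.1 ≫ _ =
      PMap.chart (RelProj.gradedHomAt φ hφ U hU) s.2.2.2 s.2.2.1 ≫ _
    rw [PMap.chart_map_assoc, ← Category.assoc]
    apply h U hU s.1 s.2.2.1 s.2.1 s.2.2.2
    rw [Category.assoc, jW_ι, PMap.chart_ι_assoc]
  · intro h U hU d hd f hf g hg
    have := h U hU g (PMap.chart (RelProj.gradedHomAt φ hφ U hU) hf hd)
      (by rw [PMap.chart_ι_assoc]; exact hg)
    rw [this, PMap.chart_map_assoc]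

end hom

end Groth.Agent.H41.RelPMap9
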