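import Groth.Agent.H41.RelProj
import Mathlib.AlgebraicGeometry.Morphisms.Affine

set_option autoImplicit false
universe u
open CategoryTheory CategoryTheory.Limits AlgebraicGeometry Opposite TopologicalSpace
  HomogeneousLocalization
open scoped HomogeneousIdeal

namespace Groth.Agent.H41.RelProj

section single

variable {Y P : Scheme.{u}} (𝒮 : RelProj.QCGrAlg Y) (p : P ⟶ Y)
    (chart : ∀ (U : Y.Opens) (hU : IsAffineOpen U),
      (((p ⁻¹ᵁ U : P.Opens) : Scheme.{u}) ≅ Proj (𝒮.deg U hU)))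
    (hP : RelProj.IsRelProj 𝒮 p chart)

/-- The open of `P` lying over the affine `U` which corresponds under the chart to `D₊(s)`. -/
noncomputable def chartBasicOpen (U : Y.Opens) (hU : IsAffineOpen U) (s : 𝒮.presheaf.obj (op U)) :
    P.Opens :=
  (p ⁻¹ᵁ U).ι ''ᵁ ((chart U hU).hom ⁻¹ᵁ Proj.basicOpen (𝒮.deg U hU) s)

omit hP in
theorem mem_chartBasicOpen_iff (U : Y.Opens) (hU : IsAffineOpen U) (s : 𝒮.presheaf.obj (op U))
    (x : P) : x ∈ chartBasicOpen 𝒮 p chart U hU s ↔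
      ∃ hx : x ∈ p ⁻¹ᵁ U, (chart U hU).hom.base ⟨x, hx⟩ ∈ Proj.basicOpen (𝒮.deg U hU) s := by
  constructor
  · rintro ⟨y, hy, rfl⟩
    exact ⟨y.2, hy⟩
  · rintro ⟨hx, h⟩
    exact ⟨⟨x, hx⟩, h, rfl⟩

omit hP in
theorem chartBasicOpen_le (U : Y.Opens) (hU : IsAffineOpen U) (s : 𝒮.presheaf.obj (op U)) :
    chartBasicOpen 𝒮 p chart U hU s ≤ p ⁻¹ᵁ U := by
  intro x hx
  obtain ⟨hx', -⟩ := (mem_chartBasicOpen_iff 𝒮 p chart U hU s x).1 hx
  exact hx'

include hP in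
/-- Compatibility of the `chartBasicOpen`s with restriction to basic opens. -/
theorem chartBasicOpen_res (U : Y.Opens) (hU : IsAffineOpen U) (r : Γ(Y, U))
    (s : 𝒮.presheaf.obj (op U)) :
    chartBasicOpen 𝒮 p chart (Y.basicOpen r) (hU.basicOpen r)
        ((𝒮.presheaf.map (homOfLE (Y.basicOpen_le r)).op).hom s) =
      chartBasicOpen 𝒮 p chart U hU s ⊓ p ⁻¹ᵁ (Y.basicOpen r) := by
  ext x
  simp only [SetLike.mem_coe, Opens.mem_inf]
  rw [mem_chartBasicOpen_iff, mem_chartBasicOpen_iff]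
  have hres := hP.chart_res U hU r
  have key : ∀ hx : x ∈ p ⁻¹ᵁ (Y.basicOpen r),
      (chart U hU).hom.base ⟨x, p.preimage_mono (Y.basicOpen_le r) hx⟩ =
        (Proj.map (𝒮.res hU (hU.basicOpen r) (Y.basicOpen_le r)) (𝒮.irrelevant_le_map U hU r)).base
          ((chart (Y.basicOpen r) (hU.basicOpen r)).hom.base ⟨x, hx⟩) := by
    intro hx
    have := congrArg (fun f => f.base ⟨x, hx⟩) hres
    simp only [Scheme.Hom.comp_base, TopCat.hom_comp, ContinuousMap.comp_apply] at this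
    rw [Scheme.homOfLE_apply'] at this
    exact this
  constructor
  · rintro ⟨hx, h⟩
    refine ⟨⟨p.preimage_mono (Y.basicOpen_le r) hx, ?_⟩, hx⟩
    rw [key hx]
    exact h
  · rintro ⟨⟨hxU, h⟩, hx⟩
    refine ⟨hx, ?_⟩
    rw [key hx] at h
    exact h


omit hP in
/-- Transport of `chartBasicOpen` along a propositional equality of opens. -/
theorem chartBasicOpen_congr (f : 𝒮.presheaf.obj (op ⊤)) {U V : Y.Opens} (hU : IsAffineOpen U)
    (hV : IsAffineOpen V) (h : U = V) :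
    chartBasicOpen 𝒮 p chart U hU ((𝒮.presheaf.map (homOfLE le_top).op).hom f) =
      chartBasicOpen 𝒮 p chart V hV ((𝒮.presheaf.map (homOfLE le_top).op).hom f) := by
  subst h
  rfl

omit hP in
theorem presheaf_res_res (f : 𝒮.presheaf.obj (op ⊤)) {U V : Y.Opens} (h : V ≤ U) :
    (𝒮.presheaf.map (homOfLE h).op).hom ((𝒮.presheaf.map (homOfLE le_top).op).hom f) =
      (𝒮.presheaf.map (homOfLE le_top).op).hom f := by
  have : 𝒮.presheaf.map (homOfLE (le_top : U ≤ ⊤)).op ≫ 𝒮.presheaf.map (homOfLE h).op =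
      𝒮.presheaf.map (homOfLE (le_top : V ≤ ⊤)).op := by
    rw [← Functor.map_comp, ← op_comp]
    rfl
  rw [← this]
  rfl

include hP in
theorem chartBasicOpen_global_res (f : 𝒮.presheaf.obj (op ⊤)) (U : Y.Opens) (hU : IsAffineOpen U)
    (r : Γ(Y, U)) :
    chartBasicOpen 𝒮 p chart (Y.basicOpen r) (hU.basicOpen r)
        ((𝒮.presheaf.map (homOfLE le_top).op).hom f) =
      chartBasicOpen 𝒮 p chart U hU ((𝒮.presheaf.map (homOfLE le_top).op).hom f) ⊓
        p ⁻¹ᵁ (Y.basicOpen r) := by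
  rw [← chartBasicOpen_res 𝒮 p chart hP U hU r, presheaf_res_res]

/-- The open `X_f` of `P`. -/
noncomputable def globalBasicOpen (f : 𝒮.presheaf.obj (op ⊤)) : P.Opens :=
  ⨆ U : Y.affineOpens, chartBasicOpen 𝒮 p chart U.1 U.2 ((𝒮.presheaf.map (homOfLE le_top).op).hom f)

include hP in
theorem globalBasicOpen_inf (f : 𝒮.presheaf.obj (op ⊤)) (U : Y.Opens) (hU : IsAffineOpen U) :
    globalBasicOpen 𝒮 p chart f ⊓ p ⁻¹ᵁ U =
      chartBasicOpen 𝒮 p chart U hU ((𝒮.presheaf.map (homOfLE le_top).op).hom f) := by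
  apply le_antisymm
  · rintro x ⟨hx, hxU⟩
    obtain ⟨V, hxV⟩ := Opens.mem_iSup.1 hx
    have hxV' := chartBasicOpen_le 𝒮 p chart V.1 V.2 _ hxV
    obtain ⟨r, r', hrr', hxr⟩ := exists_basicOpen_le_affine_inter hU V.2 (p.base x) ⟨hxU, hxV'⟩
    have h1 : x ∈ chartBasicOpen 𝒮 p chart (Y.basicOpen r') (V.2.basicOpen r')
        ((𝒮.presheaf.map (homOfLE le_top).op).hom f) := by
      rw [chartBasicOpen_global_res 𝒮 p chart hP f V.1 V.2 r']
      exact ⟨hxV, hrr' ▸ hxr⟩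
    rw [← chartBasicOpen_congr 𝒮 p chart f (hU.basicOpen r) (V.2.basicOpen r') hrr',
      chartBasicOpen_global_res 𝒮 p chart hP f U hU r] at h1
    exact h1.1
  · exact le_inf (le_iSup (fun U : Y.affineOpens => chartBasicOpen 𝒮 p chart U.1 U.2
      ((𝒮.presheaf.map (homOfLE le_top).op).hom f)) ⟨U, hU⟩) (chartBasicOpen_le 𝒮 p chart U hU _)


omit hP in
theorem isAffineOpen_chartBasicOpen (U : Y.Opens) (hU : IsAffineOpen U) {d : ℕ} (hd : 0 < d)
    (s : 𝒮.presheaf.obj (op U)) (hs : s ∈ 𝒮.deg U hU d) :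
    IsAffineOpen (chartBasicOpen 𝒮 p chart U hU s) :=
  ((Proj.isAffineOpen_basicOpen (𝒮.deg U hU) s hs hd).preimage_of_isIso
    (chart U hU).hom).image_of_isOpenImmersion (p ⁻¹ᵁ U).ι

include hP in
theorem isAffineHom_globalBasicOpen {d : ℕ} (hd : 0 < d) (f : 𝒮.presheaf.obj (op ⊤))
    (hf : ∀ (U : Y.Opens) (hU : IsAffineOpen U),
      (𝒮.presheaf.map (homOfLE le_top).op).hom f ∈ 𝒮.deg U hU d) :
    IsAffineHom ((globalBasicOpen 𝒮 p chart f).ι ≫ p) := by
  refine ⟨fun U hU => ?_⟩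
  rw [← (globalBasicOpen 𝒮 p chart f).ι.isAffineOpen_iff_of_isOpenImmersion,
    Scheme.Hom.comp_preimage, Scheme.Hom.image_preimage_eq_opensRange_inf,
    Scheme.Opens.opensRange_ι, globalBasicOpen_inf 𝒮 p chart hP f U hU]
  exact isAffineOpen_chartBasicOpen 𝒮 p chart U hU hd _ (hf U hU)

end single
end Groth.Agent.H41.RelProj
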