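import Groth.Prelude.Def_RelProj
import Groth.Agent.H41.ProjLoc
import Groth.Agent.H41.RelProj

/-!
# Existence of the relative homogeneous spectrum

Gluing the `Proj 𝒮(U)` over the affine opens `U ⊆ Y` with Mathlib's relative gluing.
-/

set_option autoImplicit false
universe u

open CategoryTheory CategoryTheory.Limits AlgebraicGeometry TopologicalSpace Opposite
open scoped HomogeneousIdeal

noncomputable section

namespace Groth.Agent.H41.RelProjExists

open Groth.Agent.H41.ProjGen Groth.Agent.H41.ProjLoc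

variable {Y : Scheme.{u}} (𝒮 : RelProj.QCGrAlg Y)

theorem irrelevant_le_map' {U V : Y.AffineZariskiSite} (hUV : U ≤ V) :
    (𝒮.deg U.1 U.2)₊ ≤ ((𝒮.deg V.1 V.2)₊).map
      (𝒮.res V.2 U.2 (Scheme.AffineZariskiSite.toOpens_mono hUV)) := by
  obtain ⟨U1, hU⟩ := U
  obtain ⟨r, hr⟩ := hUV
  dsimp only [Scheme.AffineZariskiSite.toOpens] at hr
  subst hr
  exact 𝒮.irrelevant_le_map V.1 V.2 r

/-- The restriction to a basic open is a graded localization. -/
theorem isGrLoc_res (U : Y.Opens) (hU : IsAffineOpen U) (r : Γ(Y, U)) :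
    IsGrLoc (𝒮.res hU (hU.basicOpen r) (Y.basicOpen_le r)) ((𝒮.str.app (op U)).hom r) :=
  IsGrLoc.of_isLocalization _ (𝒮.str_mem U hU r) (𝒮.isQC U hU r)

theorem isGrLoc_res' {U V : Y.AffineZariskiSite} (hUV : U ≤ V) :
    ∃ r : Γ(Y, V.1), Y.basicOpen r = U.1 ∧
      IsGrLoc (𝒮.res V.2 U.2 (Scheme.AffineZariskiSite.toOpens_mono hUV))
        ((𝒮.str.app (op V.1)).hom r) := by
  obtain ⟨U1, hU⟩ := U
  obtain ⟨r, hr⟩ := hUV
  dsimp only [Scheme.AffineZariskiSite.toOpens] at hr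
  subst hr
  exact ⟨r, rfl, isGrLoc_res 𝒮 V.1 V.2 r⟩

/-- The functor `U ↦ Proj 𝒮(U)` on the affine opens of `Y`. -/
def projFunctor : Y.AffineZariskiSite ⥤ Scheme.{u} where
  obj U := Proj (𝒮.deg U.1 U.2)
  map {U V} f := Proj.map (𝒮.res V.2 U.2 (Scheme.AffineZariskiSite.toOpens_mono f.le))
    (irrelevant_le_map' 𝒮 f.le)
  map_id U := by
    have : 𝒮.res U.2 U.2 (Scheme.AffineZariskiSite.toOpens_mono (𝟙 U : U ⟶ U).le) =
        GradedRingHom.id _ := by
      ext x
      simp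
    rw [Groth.Agent.H41.RelProj.projMap_congr this _ (by simp)]
    exact Proj.map_id
  map_comp {U V W} f g := by
    rw [← Proj.map_comp]
    apply Groth.Agent.H41.RelProj.projMap_congr
    ext x
    simp only [RelProj.QCGrAlg.res_apply, GradedRingHom.comp_apply]
    rw [← CommRingCat.comp_apply, ← Functor.map_comp]
    rfl


/-- The structure maps `Proj 𝒮(U) ⟶ Spec Γ(Y, U)`. -/
def projNatTrans : projFunctor 𝒮 ⟶
    Scheme.AffineZariskiSite.toOpensFunctor Y ⋙ Y.presheaf.rightOp ⋙ Scheme.Spec where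
  app U := Proj.toSpecZero (𝒮.deg U.1 U.2) ≫ Spec.map (𝒮.strZero U.1 U.2)
  naturality {U V} f := by
    change Proj.map _ _ ≫ Proj.toSpecZero _ ≫ Spec.map _ =
      (Proj.toSpecZero _ ≫ Spec.map _) ≫ Spec.map (Y.presheaf.map _)
    rw [map_toSpecZero_assoc, Category.assoc, ← Spec.map_comp, ← Spec.map_comp]
    congr 2
    ext r
    have := congrArg (fun g => g.hom r) (𝒮.str.naturality
      (homOfLE (Scheme.AffineZariskiSite.toOpens_mono f.le)).op)
    exact this.symm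


theorem isOpenImmersion_projFunctor_map {U V : Y.AffineZariskiSite} (f : U ⟶ V) :
    IsOpenImmersion ((projFunctor 𝒮).map f) := by
  obtain ⟨r, -, hr⟩ := isGrLoc_res' 𝒮 f.le
  exact isOpenImmersion_projMap hr _

theorem equifibered_projNatTrans : (projNatTrans 𝒮).Equifibered := by
  intro U V f
  obtain ⟨U1, hU⟩ := U
  obtain ⟨r, hr⟩ := f.le
  dsimp only [Scheme.AffineZariskiSite.toOpens] at hr
  subst hr
  have hloc := isGrLoc_res 𝒮 V.1 V.2 r
  have : IsOpenImmersion ((projFunctor 𝒮).map f) := isOpenImmersion_projFunctor_map 𝒮 f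
  have hlocr : IsLocalization.Away r Γ(Y, Y.basicOpen r) := V.2.isLocalization_basicOpen r
  have hG : IsOpenImmersion ((Scheme.AffineZariskiSite.toOpensFunctor Y ⋙ Y.presheaf.rightOp ⋙
      Scheme.Spec).map f) := by
    change IsOpenImmersion
      (Spec.map (CommRingCat.ofHom (algebraMap Γ(Y, V.1) Γ(Y, Y.basicOpen r))))
    exact IsOpenImmersion.of_isLocalization r
  refine (IsOpenImmersion.isPullback _ _ _ _ ((projNatTrans 𝒮).naturality f) ?_).flip
  apply Opens.ext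
  have h1 : Set.range (Spec.map (CommRingCat.ofHom (algebraMap Γ(Y, V.1) Γ(Y, Y.basicOpen r)))) =
      (PrimeSpectrum.basicOpen r : Set (PrimeSpectrum Γ(Y, V.1))) :=
    PrimeSpectrum.localization_away_comap_range Γ(Y, Y.basicOpen r) r
  have h2 := range_projMap hloc (𝒮.irrelevant_le_map V.1 V.2 r)
  refine (congrArg (fun S => ⇑((projNatTrans 𝒮).app V) ⁻¹' S) h1).trans ?_
  exact Eq.trans rfl h2.symm


set_option backward.isDefEq.respectTransparency.types false in
/-- The relative gluing datum: the schemes `Proj 𝒮(U)` over the affine opens `U` of `Y`. -/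
def glueData : (Scheme.AffineZariskiSite.directedCover Y).RelativeGluingData where
  functor := projFunctor 𝒮
  natTrans := projNatTrans 𝒮 ≫ (Scheme.AffineZariskiSite.restrictIsoSpec Y).inv
  equifibered := (equifibered_projNatTrans 𝒮).comp (.of_isIso _)

instance : ((glueData 𝒮).functor ⋙ Scheme.forget).IsLocallyDirected :=
  Scheme.Cover.RelativeGluingData.instIsLocallyDirectedI₀CompFunctorForgetOfIsThin ..

/-- The relative homogeneous spectrum. -/
def relProj : Scheme.{u} := (glueData 𝒮).glued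

/-- The structure morphism. -/
def π : relProj 𝒮 ⟶ Y := (glueData 𝒮).toBase

/-- An affine open as an object of the small affine Zariski site. -/
def mkAff (U : Y.Opens) (hU : IsAffineOpen U) : Y.AffineZariskiSite := ⟨U, hU⟩

/-- The chart `Proj 𝒮(U) ⟶ Proj(𝒮)`. -/
def ι (U : Y.Opens) (hU : IsAffineOpen U) : Proj (𝒮.deg U hU) ⟶ relProj 𝒮 :=
  (glueData 𝒮).cover.f (mkAff U hU)

variable (U : Y.Opens) (hU : IsAffineOpen U)

instance : IsOpenImmersion (ι 𝒮 U hU) := (glueData 𝒮).cover.map_prop _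

theorem ι_π : ι 𝒮 U hU ≫ π 𝒮 =
    Proj.toSpecZero (𝒮.deg U hU) ≫ Spec.map (𝒮.strZero U hU) ≫ hU.fromSpec := by
  refine ((glueData 𝒮).ι_toBase (mkAff U hU)).trans ?_
  change ((Proj.toSpecZero _ ≫ Spec.map _) ≫ hU.isoSpec.inv) ≫ U.ι = _
  simp only [Category.assoc]
  rfl

theorem π_preimage : π 𝒮 ⁻¹ᵁ U = (ι 𝒮 U hU).opensRange := by
  simpa using! (glueData 𝒮).toBase_preimage_eq_opensRange_ι (mkAff U hU)

theorem map_ι (r : Γ(Y, U)) :
    Proj.map (𝒮.res hU (hU.basicOpen r) (Y.basicOpen_le r)) (𝒮.irrelevant_le_map U hU r) ≫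
      ι 𝒮 U hU = ι 𝒮 (Y.basicOpen r) (hU.basicOpen r) :=
  colimit.w (glueData 𝒮).functor
    (Scheme.AffineZariskiSite.basicOpen_le (mkAff U hU) r).hom

/-- The chart isomorphisms `π⁻¹(U) ≅ Proj 𝒮(U)`. -/
def chart : ((π 𝒮 ⁻¹ᵁ U : (relProj 𝒮).Opens) : Scheme.{u}) ≅ Proj (𝒮.deg U hU) :=
  IsOpenImmersion.isoOfRangeEq (π 𝒮 ⁻¹ᵁ U).ι (ι 𝒮 U hU) (by
    rw [Scheme.Opens.range_ι, π_preimage 𝒮 U hU]
    rfl)

@[reassoc]
theorem chart_hom_ι : (chart 𝒮 U hU).hom ≫ ι 𝒮 U hU = (π 𝒮 ⁻¹ᵁ U).ι :=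
  IsOpenImmersion.isoOfRangeEq_hom_fac _ _ _

theorem isRelProj : RelProj.IsRelProj 𝒮 (π 𝒮) (chart 𝒮) where
  chart_over U hU := by
    rw [← ι_π, chart_hom_ι_assoc]
  chart_res U hU r := by
    rw [← cancel_mono (ι 𝒮 U hU), Category.assoc, Category.assoc, chart_hom_ι, map_ι,
      chart_hom_ι, Scheme.homOfLE_ι]

end Groth.Agent.H41.RelProjExists
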