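import Groth.Agent.H41.GrTwistAmple
import Groth.Agent.H41.RelTwistChartIso
import Groth.Agent.H41.GrFTCover
import Groth.Agent.H18.STL.RelAmple
import Groth.Agent.H18.STL.RelAmpleAffine
import Groth.Agent.S4380

/-!
# On the relative `Proj` of a graded algebra of finite type over a quasi-compact base, some `O(d)` is
relatively ample (helper41)
-/

set_option autoImplicit false
set_option linter.style.haveILetI false
universe u

open CategoryTheory AlgebraicGeometry TopologicalSpace Opposite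
open scoped HomogeneousIdeal

namespace Groth.Agent.H41.RelProjFTAmple

open Groth.Agent.H18 Groth.Agent.H18.STL Scheme.Modules

variable {Y X : Scheme.{u}} (𝒮 : RelProj.QCGrAlg Y)
  (hft : ∀ (U : Y.Opens) (hU : IsAffineOpen U), (𝒮.str.app (op U)).hom.FiniteType)
  (f : X ⟶ Y)
  (chart : ∀ (U : Y.Opens) (hU : IsAffineOpen U), ((f ⁻¹ᵁ U : X.Opens) : Scheme.{u}) ≅ Proj (𝒮.deg U hU))

include hft in
theorem exists_data (U : Y.Opens) (hU : IsAffineOpen U) :
    ∃ T : Finset (𝒮.presheaf.obj (op U)), (∀ t ∈ T, ∃ d : ℕ, 0 < d ∧ t ∈ 𝒮.deg U hU d) ∧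
      ((𝒮.deg U hU)₊).toIdeal ≤ Ideal.span (T : Set (𝒮.presheaf.obj (op U))) :=
  GrFTCover.exists_finset_irrelevant_le_span (𝒮.deg U hU) (𝒮.str.app (op U)).hom
    (𝒮.str_mem U hU) (hft U hU)

include hft chart in
theorem compactSpace_preimage (U : Y.Opens) (hU : IsAffineOpen U) :
    CompactSpace ((f ⁻¹ᵁ U : X.Opens) : Scheme.{u}) := by
  obtain ⟨T, hT, hspan⟩ := exists_data 𝒮 hft U hU
  haveI := GrFTCover.compactSpace_proj (𝒮.deg U hU) T hT hspan
  exact (Scheme.homeoOfIso (chart U hU)).symm.compactSpace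

include hft chart in
theorem quasiCompact : QuasiCompact f := by
  rw [quasiCompact_iff_forall_isAffineOpen]
  intro U hU
  exact isCompact_iff_compactSpace.mpr (compactSpace_preimage 𝒮 hft f chart U hU)

include hft in
/-- over an affine open, `O(m)` is ample for all positive multiples `m` of some `d` -/
theorem exists_isAmple_restrict (U : Y.Opens) (hU : IsAffineOpen U) :
    ∃ d : ℕ, 0 < d ∧ ∀ m : ℕ, 0 < m → d ∣ m → ∀ (L : X.Modules)
      (lam : ∀ (U : Y.Opens) (hU : IsAffineOpen U),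
        L ⟶ (Scheme.Modules.pushforward (RelProj.emb f chart U hU)).obj
          (GrTwist.twist (𝒮.deg U hU) (m : ℤ))),
      RelProj.IsRelTwist 𝒮 f chart (m : ℤ) L lam → CohB1.IsAmple (L.restrict (f ⁻¹ᵁ U).ι) := by
  obtain ⟨T, hT, hspan⟩ := exists_data 𝒮 hft U hU
  obtain ⟨d, hd, hcov⟩ := GrFTCover.exists_degree_cover (𝒮.deg U hU) T hT hspan
  refine ⟨d, hd, fun m hm hdm L lam hL => ?_⟩
  obtain ⟨e0⟩ := RelTwistChartIso.nonempty_restrict_iso_pullback_chart 𝒮 f chart (m : ℤ) L lam hL U hU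
  refine isAmple_of_iso e0.symm ?_
  haveI := compactSpace_preimage 𝒮 hft f chart U hU
  refine GrTwistAmple.isAmple_pullback_twist (𝒮.deg U hU) (chart U hU).hom m fun x => ?_
  obtain ⟨g, hg, hgx⟩ := hcov m hm hdm ((chart U hU).hom x)
  exact ⟨g, hg, hgx, (Proj.isAffineOpen_basicOpen (𝒮.deg U hU) g hg hm).preimage_of_isIso _⟩

include hft in
theorem exists_isRelAmple [CompactSpace Y] :
    ∃ d : ℕ, 0 < d ∧ ∀ (L : X.Modules)
      (lam : ∀ (U : Y.Opens) (hU : IsAffineOpen U),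
        L ⟶ (Scheme.Modules.pushforward (RelProj.emb f chart U hU)).obj
          (GrTwist.twist (𝒮.deg U hU) (d : ℤ))),
      RelProj.IsRelTwist 𝒮 f chart (d : ℤ) L lam → PicF.IsInvertible L ∧ RelAmple.IsRelAmple f L := by
  classical
  haveI := quasiCompact 𝒮 hft f chart
  -- a finite affine cover
  have hex : ∀ y : Y, ∃ V : Y.Opens, IsAffineOpen V ∧ y ∈ V := by
    intro y
    obtain ⟨V, hV, hy, -⟩ := (Opens.isBasis_iff_nbhd.1 Y.isBasis_affineOpens)
      (show y ∈ (⊤ : Y.Opens) from trivial)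
    exact ⟨V, hV, hy⟩
  choose V hV hyV using hex
  obtain ⟨t, ht⟩ := CompactSpace.elim_nhds_subcover (fun y : Y => ((V y : Y.Opens) : Set Y))
    (fun y => (V y).isOpen.mem_nhds (hyV y))
  choose dd hdd hdd' using fun y : Y => exists_isAmple_restrict 𝒮 hft f chart (V y) (hV y)
  refine ⟨∏ y ∈ t, dd y, Finset.prod_pos fun y _ => hdd y, fun L lam hL => ?_⟩
  have hamp : RelAmple.IsRelAmple f L := by
    have hcov : ⨆ i : {y // y ∈ t}, V i.1 = ⊤ := by
      rw [eq_top_iff]
      intro y _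
      have hy : y ∈ ⋃ x ∈ t, ((V x : Y.Opens) : Set Y) := by rw [ht]; trivial
      obtain ⟨x, hxt, hyx⟩ := Set.mem_iUnion₂.1 hy
      exact Opens.mem_iSup.2 ⟨⟨x, hxt⟩, hyx⟩
    rw [Groth.Agent.S4380.result f L (fun i : {y // y ∈ t} => V i.1) hcov]
    intro i
    haveI : IsAffine ((V i.1 : Y.Opens) : Scheme.{u}) := hV i.1
    rw [isRelAmple_iff_isAmple_of_isAffine]
    exact hdd' i.1 _ (Finset.prod_pos fun y _ => hdd y) (Finset.dvd_prod_of_mem dd i.2) L lam hL
  exact ⟨isInvertible_of_isRelAmple f hamp, hamp⟩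

end Groth.Agent.H41.RelProjFTAmple
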