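import Groth.Prelude.Def_RelProj4

/-!
# The relative spectrum commutes with base change
-/

set_option autoImplicit false
universe u

open CategoryTheory CategoryTheory.Limits AlgebraicGeometry TopologicalSpace Opposite

namespace Groth.Agent.H41.RelSpecBaseChange

variable {S S' : Scheme.{u}}

/-- `Spec A(U)` is the pullback of `Spec(A) → S` along `U ↪ S`. -/
theorem isPullback_chart (A : RelSpec.QCAlg S) (U : S.Opens) (hU : IsAffineOpen U) :
    IsPullback (Spec.map (A.str.app (op U)) ≫ hU.isoSpec.inv) (A.ι U hU) U.ι A.π := by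
  refine IsOpenImmersion.isPullback _ _ _ _ ?_ ?_
  · rw [A.ι_π, Category.assoc]
    rfl
  · rw [Scheme.Opens.opensRange_ι, A.π_preimage U hU]

variable (g : S' ⟶ S) (A : RelSpec.QCAlg S) (B : RelSpec.QCAlg S') (u : RelSpec.QHom g A B)
  (hu : RelSpec.IsQBaseChange u) (h : B.spec ⟶ A.spec) (hh : RelSpec.IsSpecQMap u h)

include hu hh in
theorem isPullback_local (U : S.Opens) (hU : IsAffineOpen U) (U' : S'.Opens)
    (hU' : IsAffineOpen U') (hle : U' ≤ g ⁻¹ᵁ U) :
    IsPullback (Spec.map (B.str.app (op U')) ≫ hU'.isoSpec.inv) (B.ι U' hU' ≫ h) (U'.ι ≫ g)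
      A.π := by
  have aff := isPullback_SpecMap_of_isPushout _ _ _ _ (hu U hU U' hU' hle)
  -- aff : IsPullback (Spec.map (B.str U')) (Spec.map (u.appLE)) (Spec.map (g.appLE)) (Spec.map (A.str U))
  have s : IsPullback (Spec.map (B.str.app (op U')) ≫ hU'.isoSpec.inv)
      (Spec.map (u.appLE U U' hle)) (g.resLE U U' hle)
      (Spec.map (A.str.app (op U)) ≫ hU.isoSpec.inv) := by
    refine aff.of_iso (Iso.refl _) hU'.isoSpec.symm (Iso.refl _) hU.isoSpec.symm ?_ ?_ ?_ ?_
    · simp
    · simp
    · simp only [Iso.symm_hom]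
      rw [← cancel_mono U.ι, Category.assoc, Category.assoc, Scheme.Hom.resLE_comp_ι]
      have := IsAffineOpen.SpecMap_appLE_fromSpec g hU hU' hle
      simp only [IsAffineOpen.fromSpec] at this
      rw [this, Category.assoc]
    · simp
  have t := isPullback_chart A U hU
  have big := s.paste_vert t
  rw [Scheme.Hom.resLE_comp_ι, ← hh U hU U' hU' hle] at big
  exact big

include hu hh in
/-- **The relative spectrum commutes with base change.** -/
theorem isPullback_relSpec : IsPullback h B.π A.π g := by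
  let ι : Type u := { V : S.Opens × S'.Opens // IsAffineOpen V.1 ∧ IsAffineOpen V.2 ∧
    V.2 ≤ g ⁻¹ᵁ V.1 }
  have hcov : IsOpenCover (fun i : ι => i.1.2) := by
    apply IsOpenCover.mk
    rw [eq_top_iff]
    intro y _
    obtain ⟨U, hU, hyU, -⟩ := (Opens.isBasis_iff_nbhd.mp S.isBasis_affineOpens)
      (show g y ∈ (⊤ : S.Opens) from trivial)
    obtain ⟨U', hU', hyU', hle⟩ := (Opens.isBasis_iff_nbhd.mp S'.isBasis_affineOpens)
      (show y ∈ g ⁻¹ᵁ U from hyU)
    exact Opens.mem_iSup.mpr ⟨⟨(U, U'), hU, hU', hle⟩, hyU'⟩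
  refine (Scheme.isPullback_of_openCover B.π h g A.π (S'.openCoverOfIsOpenCover _ hcov) ?_).flip
  rintro ⟨⟨U, U'⟩, hU, hU', hle⟩
  have key := isPullback_local g A B u hu h hh U hU U' hU' hle
  have c := (isPullback_chart B U' hU').flip
  refine key.of_iso c.isoPullback (Iso.refl _) (Iso.refl _) (Iso.refl _) ?_ ?_ ?_ ?_
  · exact (Category.comp_id _).trans c.isoPullback_hom_snd.symm
  · refine (Category.comp_id _).trans ?_
    change _ = c.isoPullback.hom ≫ pullback.fst _ _ ≫ h
    rw [← Category.assoc, c.isoPullback_hom_fst]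
  · exact (Category.comp_id _).trans (Category.id_comp _).symm
  · exact (Category.comp_id _).trans (Category.id_comp _).symm

end Groth.Agent.H41.RelSpecBaseChange
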