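import Groth.Agent.H41.RelPMap9
import Groth.Agent.H41.RelPMap7

/-!
# Commutative squares of graded morphisms: pointwise statements

`φ : 𝒮 → 𝒯` over `Y`, `φ' : 𝒮' → 𝒯'` over `Y'`, `u : 𝒮 → 𝒮'`, `w : 𝒯 → 𝒯'` over `q : Y' → Y`
with `φ' ∘ u = w ∘ φ` over affine pairs.
-/

set_option autoImplicit false
universe u
open CategoryTheory CategoryTheory.Limits AlgebraicGeometry Opposite TopologicalSpace
  HomogeneousLocalization
open scoped HomogeneousIdeal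

namespace Groth.Agent.H41.RelSquare

section hom

variable {Y : Scheme.{u}} {𝒜 ℬ : RelProj.QCGrAlg Y} (φ : 𝒜.toQCAlg ⟶ ℬ.toQCAlg)
  (hφ : RelProj.IsGradedHom φ)
  {PA PB : Scheme.{u}} {pA : PA ⟶ Y} {pB : PB ⟶ Y}
  (chartA : ∀ (U : Y.Opens) (hU : IsAffineOpen U),
    (((pA ⁻¹ᵁ U : PA.Opens) : Scheme.{u}) ≅ Proj (𝒜.deg U hU)))
  (chartB : ∀ (U : Y.Opens) (hU : IsAffineOpen U),
    (((pB ⁻¹ᵁ U : PB.Opens) : Scheme.{u}) ≅ Proj (ℬ.deg U hU)))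
  (hB : RelProj.IsRelProj ℬ pB chartB)
  (W : PB.Opens) (hW : W = RelProj.domQ (RelProj.QGrHom.ofHom φ hφ) pB chartB)

include hB hW in
/-- Chartwise membership in `G(φ)`. -/
theorem emb_mem_iff (U : Y.Opens) (hU : IsAffineOpen U) (y : Proj (ℬ.deg U hU)) :
    RelProj.emb pB chartB U hU y ∈ W ↔
      y ∈ RelCone.domOpen (RelProj.gradedHomAt φ hφ U hU) := by
  subst hW
  have hinj : Function.Injective (RelProj.emb pB chartB U hU) :=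
    (Scheme.Hom.isOpenEmbedding _).injective
  constructor
  · intro h
    have h' : RelProj.emb pB chartB U hU y ∈
        RelProj.domQ (RelProj.QGrHom.ofHom φ hφ) pB chartB ⊓ pB ⁻¹ᵁ U :=
      ⟨h, RelPMap2.emb_mem pB chartB U hU y⟩
    rw [RelPMap3.domQ_inf_preimage φ hφ chartB hB U hU] at h'
    obtain ⟨y', hy', hyy⟩ := h'
    rw [← hinj hyy]
    exact hy'
  · intro h
    have h' : RelProj.emb pB chartB U hU y ∈
        (RelProj.emb pB chartB U hU) ''ᵁ RelCone.domOpen (RelProj.gradedHomAt φ hφ U hU) :=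
      ⟨y, h, rfl⟩
    rw [← RelPMap3.domQ_inf_preimage φ hφ chartB hB U hU] at h'
    exact h'.1

variable (r : (W : Scheme.{u}) ⟶ PA) (hr : RelPMap9.Chartwise φ hφ chartA chartB W r)

include hB hW hr in
/-- Pointwise chart description of `Proj(φ)`. -/
theorem apply_eq (U : Y.Opens) (hU : IsAffineOpen U) (t : (W : Scheme.{u}))
    (y : Proj (ℬ.deg U hU)) (hy : y ∈ RelCone.domOpen (RelProj.gradedHomAt φ hφ U hU))
    (ht : W.ι t = RelProj.emb pB chartB U hU y) :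
    r t = RelProj.emb pA chartA U hU ((PMap.map (RelProj.gradedHomAt φ hφ U hU)) ⟨y, hy⟩) := by
  rw [RelPMap9.chartwise_iff φ hφ chartA chartB hB W hW] at hr
  have h1 : t = (RelPMap9.jW φ hφ chartB hB W hW U hU) ⟨y, hy⟩ := by
    apply W.ι.isOpenEmbedding.injective
    rw [← Scheme.Hom.comp_apply, RelPMap9.jW_ι, Scheme.Hom.comp_apply]
    exact ht
  rw [h1, ← Scheme.Hom.comp_apply, hr U hU, Scheme.Hom.comp_apply]

end hom

section square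

variable {Y Y' : Scheme.{u}} {q : Y' ⟶ Y}
  {𝒮 𝒯 : RelProj.QCGrAlg Y} {𝒮' 𝒯' : RelProj.QCGrAlg Y'}
  (φ : 𝒮.toQCAlg ⟶ 𝒯.toQCAlg) (hφ : RelProj.IsGradedHom φ)
  (φ' : 𝒮'.toQCAlg ⟶ 𝒯'.toQCAlg) (hφ' : RelProj.IsGradedHom φ')
  (u : RelProj.QGrHom q 𝒮 𝒮') (w : RelProj.QGrHom q 𝒯 𝒯')
  (hsq : ∀ (U : Y.Opens) (hU : IsAffineOpen U) (U' : Y'.Opens) (hU' : IsAffineOpen U')
    (hle : U' ≤ q ⁻¹ᵁ U),
    (RelProj.gradedHomAt φ' hφ' U' hU').comp (u.gradedAt U hU U' hU' hle) =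
      (w.gradedAt U hU U' hU' hle).comp (RelProj.gradedHomAt φ hφ U hU))
  {P PT P' PT' : Scheme.{u}}
  (p : P ⟶ Y)
  (chart : ∀ (U : Y.Opens) (hU : IsAffineOpen U),
    (((p ⁻¹ᵁ U : P.Opens) : Scheme.{u}) ≅ Proj (𝒮.deg U hU)))
  (pT : PT ⟶ Y)
  (chartT : ∀ (U : Y.Opens) (hU : IsAffineOpen U),
    (((pT ⁻¹ᵁ U : PT.Opens) : Scheme.{u}) ≅ Proj (𝒯.deg U hU)))
  (hPT : RelProj.IsRelProj 𝒯 pT chartT)
  (p' : P' ⟶ Y')
  (chart' : ∀ (U : Y'.Opens) (hU : IsAffineOpen U),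
    (((p' ⁻¹ᵁ U : P'.Opens) : Scheme.{u}) ≅ Proj (𝒮'.deg U hU)))
  (hP' : RelProj.IsRelProj 𝒮' p' chart')
  (pT' : PT' ⟶ Y')
  (chartT' : ∀ (U : Y'.Opens) (hU : IsAffineOpen U),
    (((pT' ⁻¹ᵁ U : PT'.Opens) : Scheme.{u}) ≅ Proj (𝒯'.deg U hU)))
  (hPT' : RelProj.IsRelProj 𝒯' pT' chartT')
  (Wφ : PT.Opens) (hWφ : Wφ = RelProj.domQ (RelProj.QGrHom.ofHom φ hφ) pT chartT)
  (Wφ' : PT'.Opens) (hWφ' : Wφ' = RelProj.domQ (RelProj.QGrHom.ofHom φ' hφ') pT' chartT')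
  (Rφ' : (Wφ' : Scheme.{u}) ⟶ P')
  (hRφ' : RelPMap9.Chartwise φ' hφ' chart' chartT' Wφ' Rφ')
  (Φw : ((RelProj.domQ w pT' chartT' : PT'.Opens) : Scheme.{u}) ⟶ PT)
  (hΦw : RelProj.IsProjQMapOn w pT chartT pT' chartT' (RelProj.domQ w pT' chartT') Φw)

include hsq hPT hPT' hWφ hWφ' hΦw in
/-- A point of `G(w)` which `Proj(w)` sends into `G(φ)` lies in `G(φ')`. -/
theorem mem_of_apply_mem (x₀ : (RelProj.domQ w pT' chartT' : Scheme.{u}))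
    (hx₀ : Φw x₀ ∈ Wφ) : (RelProj.domQ w pT' chartT').ι x₀ ∈ Wφ' := by
  obtain ⟨V, hV⟩ := PairGlue.exists_pair q (pT' ((RelProj.domQ w pT' chartT').ι x₀))
  obtain ⟨⟨⟨U, hU⟩, ⟨U', hU'⟩⟩, hle⟩ := V
  have hx : (RelProj.domQ w pT' chartT').ι x₀ ∈ pT' ⁻¹ᵁ U' := hV
  obtain ⟨hy, hΦ⟩ := RelPMap7.apply_eq w pT chartT pT' chartT' hPT' Φw hΦw U hU U' hU' hle x₀ hx
  set y := (chartT' U' hU').hom ⟨(RelProj.domQ w pT' chartT').ι x₀, hx⟩ with hydef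
  rw [hΦ, emb_mem_iff φ hφ chartT hPT Wφ hWφ U hU] at hx₀
  -- `y ∈ G(w ∘ φ) = G(φ' ∘ u) ⊆ G(φ')`
  have h1 : (⟨y, hy⟩ : (RelCone.domOpen (w.gradedAt U hU U' hU' hle) : Scheme.{u})) ∈
      (PMap.map (w.gradedAt U hU U' hU' hle)) ⁻¹ᵁ
        (RelCone.domOpen (RelProj.gradedHomAt φ hφ U hU)) := hx₀
  rw [PMap.map_preimage_domOpen, ← hsq U hU U' hU' hle] at h1
  have h2 : y ∈ RelCone.domOpen (RelProj.gradedHomAt φ' hφ' U' hU') :=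
    PMap.domOpen_comp_le _ _ h1
  have h3 : RelProj.emb pT' chartT' U' hU' y = (RelProj.domQ w pT' chartT').ι x₀ :=
    RelPMap2.emb_chart_apply pT' chartT' U' hU' _ hx
  rw [← h3, emb_mem_iff φ' hφ' chartT' hPT' Wφ' hWφ' U' hU']
  exact h2

include hsq hPT hPT' hP' hWφ hWφ' hΦw hRφ' in
/-- ... and `Proj(φ')` sends it into `G(u)`. -/
theorem apply_mem_domQ (x₀ : (RelProj.domQ w pT' chartT' : Scheme.{u}))
    (hx₀ : Φw x₀ ∈ Wφ) (t : (Wφ' : Scheme.{u}))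
    (ht : Wφ'.ι t = (RelProj.domQ w pT' chartT').ι x₀) :
    Rφ' t ∈ RelProj.domQ u p' chart' := by
  obtain ⟨V, hV⟩ := PairGlue.exists_pair q (pT' ((RelProj.domQ w pT' chartT').ι x₀))
  obtain ⟨⟨⟨U, hU⟩, ⟨U', hU'⟩⟩, hle⟩ := V
  have hx : (RelProj.domQ w pT' chartT').ι x₀ ∈ pT' ⁻¹ᵁ U' := hV
  obtain ⟨hy, hΦ⟩ := RelPMap7.apply_eq w pT chartT pT' chartT' hPT' Φw hΦw U hU U' hU' hle x₀ hx
  set y := (chartT' U' hU').hom ⟨(RelProj.domQ w pT' chartT').ι x₀, hx⟩ with hydef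
  rw [hΦ, emb_mem_iff φ hφ chartT hPT Wφ hWφ U hU] at hx₀
  have h1 : (⟨y, hy⟩ : (RelCone.domOpen (w.gradedAt U hU U' hU' hle) : Scheme.{u})) ∈
      (PMap.map (w.gradedAt U hU U' hU' hle)) ⁻¹ᵁ
        (RelCone.domOpen (RelProj.gradedHomAt φ hφ U hU)) := hx₀
  rw [PMap.map_preimage_domOpen, ← hsq U hU U' hU' hle] at h1
  have h2 : y ∈ RelCone.domOpen (RelProj.gradedHomAt φ' hφ' U' hU') :=
    PMap.domOpen_comp_le _ _ h1
  have h3 : RelProj.emb pT' chartT' U' hU' y = (RelProj.domQ w pT' chartT').ι x₀ :=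
    RelPMap2.emb_chart_apply pT' chartT' U' hU' _ hx
  have h4 := apply_eq φ' hφ' chart' chartT' hPT' Wφ' hWφ' Rφ' hRφ' U' hU' t y h2 (ht.trans h3.symm)
  rw [h4]
  apply RelPMap2.W_le_domQ u p' chart' U hU U' hU' hle
  refine ⟨_, ?_, rfl⟩
  have h5 : (⟨y, h2⟩ : (RelCone.domOpen (RelProj.gradedHomAt φ' hφ' U' hU') : Scheme.{u})) ∈
      (RelCone.domOpen (RelProj.gradedHomAt φ' hφ' U' hU')).ι ⁻¹ᵁ
        (RelCone.domOpen ((RelProj.gradedHomAt φ' hφ' U' hU').comp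
          (u.gradedAt U hU U' hU' hle))) := h1
  rw [← PMap.map_preimage_domOpen] at h5
  exact h5

include hsq hPT hPT' hP' hWφ hWφ' hΦw in
/-- If `Proj(u)` is everywhere defined, `G(φ') ⊆ G(w)` and `Proj(w)` maps `G(φ')` into `G(φ)`. -/
theorem mem_of_domQ_eq_top (hu : RelProj.domQ u p' chart' = ⊤) (x : PT') (hx' : x ∈ Wφ') :
    ∃ hx : x ∈ RelProj.domQ w pT' chartT', Φw ⟨x, hx⟩ ∈ Wφ := by
  obtain ⟨V, hV⟩ := PairGlue.exists_pair q (pT' x)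
  obtain ⟨⟨⟨U, hU⟩, ⟨U', hU'⟩⟩, hle⟩ := V
  have hxU : x ∈ pT' ⁻¹ᵁ U' := hV
  set y := (chartT' U' hU').hom ⟨x, hxU⟩ with hydef
  have h3 : RelProj.emb pT' chartT' U' hU' y = x :=
    RelPMap2.emb_chart_apply pT' chartT' U' hU' _ hxU
  have h2 : y ∈ RelCone.domOpen (RelProj.gradedHomAt φ' hφ' U' hU') := by
    rw [← emb_mem_iff φ' hφ' chartT' hPT' Wφ' hWφ' U' hU', h3]
    exact hx'
  -- the image under `Proj(φ')` lies in `G(u) = ⊤`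
  have h4 : RelProj.emb p' chart' U' hU'
      ((PMap.map (RelProj.gradedHomAt φ' hφ' U' hU')) ⟨y, h2⟩) ∈
      RelProj.domQ u p' chart' ⊓ p' ⁻¹ᵁ U' := by
    rw [hu]
    exact ⟨trivial, RelPMap2.emb_mem p' chart' U' hU' _⟩
  rw [RelPMap2.domQ_inf_preimage u p' chart' hP' U hU U' hU' hle] at h4
  obtain ⟨y₁, hy₁, hyy⟩ := h4
  have hinj : Function.Injective (RelProj.emb p' chart' U' hU') :=
    (Scheme.Hom.isOpenEmbedding _).injective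
  have h5 : (PMap.map (RelProj.gradedHomAt φ' hφ' U' hU')) ⟨y, h2⟩ ∈
      RelCone.domOpen (u.gradedAt U hU U' hU' hle) := by
    rw [← hinj hyy]; exact hy₁
  have h6 : (⟨y, h2⟩ : (RelCone.domOpen (RelProj.gradedHomAt φ' hφ' U' hU') : Scheme.{u})) ∈
      (PMap.map (RelProj.gradedHomAt φ' hφ' U' hU')) ⁻¹ᵁ
        (RelCone.domOpen (u.gradedAt U hU U' hU' hle)) := h5
  rw [PMap.map_preimage_domOpen, hsq U hU U' hU' hle] at h6
  have h7 : y ∈ RelCone.domOpen (w.gradedAt U hU U' hU' hle) := PMap.domOpen_comp_le _ _ h6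
  have hxW : x ∈ RelPMap2.W w pT' chartT' U hU U' hU' hle := ⟨y, h7, h3⟩
  have hx : x ∈ RelProj.domQ w pT' chartT' := RelPMap2.W_le_domQ w pT' chartT' U hU U' hU' hle hxW
  refine ⟨hx, ?_⟩
  obtain ⟨hy, hΦ⟩ := RelPMap7.apply_eq w pT chartT pT' chartT' hPT' Φw hΦw U hU U' hU' hle
    ⟨x, hx⟩ hxU
  rw [hΦ, emb_mem_iff φ hφ chartT hPT Wφ hWφ U hU]
  have h8 : (⟨y, h7⟩ : (RelCone.domOpen (w.gradedAt U hU U' hU' hle) : Scheme.{u})) ∈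
      (RelCone.domOpen (w.gradedAt U hU U' hU' hle)).ι ⁻¹ᵁ
        (RelCone.domOpen ((w.gradedAt U hU U' hU' hle).comp
          (RelProj.gradedHomAt φ hφ U hU))) := h6
  rw [← PMap.map_preimage_domOpen] at h8
  exact h8

end square

end Groth.Agent.H41.RelSquare
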