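import Groth.Agent.H41.RelTwistTriv2
import Groth.Agent.H41.RelProjBasicOpen
import Groth.Agent.H67.GenLocusAffine

/-!
# On a relative `Proj` generated in degree one, `X_f` is the locus where the section `α_d(f)` of `O(d)` generates (helper41)
-/

set_option autoImplicit false
universe u

open CategoryTheory CategoryTheory.Limits AlgebraicGeometry TopologicalSpace Opposite

namespace Groth.Agent.H41.RelTwistGenLocus

open Groth.Agent.H18 Groth.Agent.H41.RelTwistTriv Groth.Agent.H41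

/-- A morphism `O_X ⟶ L` is multiplication with the restrictions of its value at `1`. -/
theorem app_eq_smul {X : Scheme.{u}} (L : X.Modules) (s : Coh.structureModule X ⟶ L) (W : X.Opens)
    (r : Γ(X, W)) :
    s.app W r = r • mres L (le_top : W ≤ ⊤) (s.app ⊤ (show Γ(Coh.structureModule X, ⊤) from (1 : Γ(X, ⊤)))) := by
  have h1 : s.app W (r • (show Γ(Coh.structureModule X, W) from (1 : Γ(X, W)))) =
      r • s.app W (show Γ(Coh.structureModule X, W) from (1 : Γ(X, W))) :=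
    Scheme.Modules.Hom.app_smul s r _
  have h2 : (r • (show Γ(Coh.structureModule X, W) from (1 : Γ(X, W))) :
      Γ(Coh.structureModule X, W)) = r := mul_one r
  have h3 : mres (Coh.structureModule X) (le_top : W ≤ ⊤)
      (show Γ(Coh.structureModule X, ⊤) from (1 : Γ(X, ⊤))) =
      (show Γ(Coh.structureModule X, W) from (1 : Γ(X, W))) :=
    map_one (X.presheaf.map (homOfLE (le_top : W ≤ ⊤)).op).hom
  rw [← app_mres, h3, ← h1, h2]

variable {Y P : Scheme.{u}} (𝒮 : RelProj.QCGrAlg Y) (p : P ⟶ Y)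
  (chart : ∀ (U : Y.Opens) (hU : IsAffineOpen U),
    (((p ⁻¹ᵁ U : P.Opens) : Scheme.{u}) ≅ Proj (𝒮.deg U hU)))

theorem chartBasicOpen_eq (U : Y.Opens) (hU : IsAffineOpen U) (g : 𝒮.presheaf.obj (op U)) :
    (p ⁻¹ᵁ U).ι ''ᵁ ((chart U hU).hom ⁻¹ᵁ Proj.basicOpen (𝒮.deg U hU) g) =
      (RelProj.emb p chart U hU) ''ᵁ Proj.basicOpen (𝒮.deg U hU) g := by
  ext x
  constructor
  · rintro ⟨y, hy, rfl⟩
    exact ⟨(chart U hU).hom y, hy, Groth.Agent.H41.RelPMap2.emb_chart_apply p chart U hU y.1 y.2⟩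
  · rintro ⟨z, hz, rfl⟩
    refine ⟨⟨(RelProj.emb p chart U hU) z, Groth.Agent.H41.RelPMap2.emb_mem p chart U hU z⟩, ?_, rfl⟩
    change (chart U hU).hom ⟨(RelProj.emb p chart U hU) z, _⟩ ∈ Proj.basicOpen (𝒮.deg U hU) g
    rw [Groth.Agent.H41.RelPMap2.chart_emb_apply]
    exact hz

variable {d : ℕ} (L : P.Modules)
  (lam : ∀ (U : Y.Opens) (hU : IsAffineOpen U),
    L ⟶ (Scheme.Modules.pushforward (RelProj.emb p chart U hU)).obj (GrTwist.twist (𝒮.deg U hU) (d : ℤ)))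
  (hL : RelProj.IsRelTwist 𝒮 p chart (d : ℤ) L lam) (s : Coh.structureModule P ⟶ L)
  (U : Y.Opens) (hU : IsAffineOpen U) {fU : 𝒮.presheaf.obj (op U)} (hfU : fU ∈ 𝒮.deg U hU d)
  (hs : ∀ (y : Proj (𝒮.deg U hU)),
      GrTwist.val (V := RelProj.emb p chart U hU ⁻¹ᵁ ⊤)
        ((lam U hU).app ⊤ (s.app ⊤ (show Γ(Coh.structureModule P, ⊤) from (1 : Γ(P, ⊤))))) ⟨y, Set.mem_univ _⟩ =
        Localization.mk fU 1)

include hfU hs in
/-- On the chart over `U`, the restriction of `s(1)` to `W` reads `f / 1`. -/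
theorem lam_mres_eq (W : P.Opens) :
    (lam U hU).app W (mres L (le_top : W ≤ ⊤)
      (s.app ⊤ (show Γ(Coh.structureModule P, ⊤) from (1 : Γ(P, ⊤))))) =
    GrTwistTriv.fracTw (𝒮.deg U hU) hfU
      (SetLike.GradedOne.one_mem : (1 : 𝒮.presheaf.obj (op U)) ∈ 𝒮.deg U hU 0)
      (by simp : ((d : ℕ) : ℤ) = ((0 : ℕ) : ℤ) + (d : ℤ)) ((RelProj.emb p chart U hU) ⁻¹ᵁ W)
      (fun x _ h => x.isPrime.ne_top ((Ideal.eq_top_iff_one _).mpr h)) := by
  rw [app_mres]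
  refine GrTwistTriv.twist_sect_ext (𝒮.deg U hU) (d : ℤ) _ _ _ fun z => ?_
  rw [GrTwistTriv.fracTw_val]
  exact hs z.1

include hL hfU hs in
theorem isIso_restrict (W : P.Opens)
    (hW : W ≤ (RelProj.emb p chart U hU) ''ᵁ Proj.basicOpen (𝒮.deg U hU) fU) :
    IsIso ((Scheme.Modules.restrictFunctor W.ι).map s) := by
  rw [Groth.Agent.H67.GenLocusAffine.isIso_restrict_iff]
  intro W' hW'
  have hWU : W ≤ p ⁻¹ᵁ U := by
    refine hW.trans ?_
    rw [← opensRange_emb 𝒮 p chart U hU]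
    exact Scheme.Hom.image_le_opensRange _ _
  have hpre : ∀ x : ProjectiveSpectrum (𝒮.deg U hU), x ∈ (RelProj.emb p chart U hU) ⁻¹ᵁ W →
      fU ∉ x.asHomogeneousIdeal := by
    intro x hx
    have h1 : (RelProj.emb p chart U hU) x ∈
        (RelProj.emb p chart U hU) ''ᵁ Proj.basicOpen (𝒮.deg U hU) fU := hW hx
    obtain ⟨x', hx', e⟩ := h1
    have : x' = x := (RelProj.emb p chart U hU).isOpenEmbedding.injective e
    rw [← this]
    exact (Proj.mem_basicOpen _ _ _).mp hx'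
  have hb := bijective_smul_of_lam_eq 𝒮 p chart (d : ℤ) L lam hL U hU hfU
    (SetLike.GradedOne.one_mem : (1 : 𝒮.presheaf.obj (op U)) ∈ 𝒮.deg U hU 0)
    (by simp : ((d : ℕ) : ℤ) = ((0 : ℕ) : ℤ) + (d : ℤ)) W hWU hpre
    (fun x _ h => x.isPrime.ne_top ((Ideal.eq_top_iff_one _).mpr h))
    (mres L (le_top : W ≤ ⊤) (s.app ⊤ (show Γ(Coh.structureModule P, ⊤) from (1 : Γ(P, ⊤)))))
    (lam_mres_eq 𝒮 p chart L lam s U hU hfU hs W) W' hW'
  have hfun : (s.app W' : Γ(Coh.structureModule P, W') → Γ(L, W')) =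
      fun r : Γ(P, W') => r • mres L hW' (mres L (le_top : W ≤ ⊤)
        (s.app ⊤ (show Γ(Coh.structureModule P, ⊤) from (1 : Γ(P, ⊤))))) := by
    funext r
    rw [mres_mres]
    exact app_eq_smul L s W' r
  rw [hfun]
  exact hb

include hL hfU hs in
theorem mem_basicOpen_of_isIso_restrict (hgen : 𝒮.IsGenDegOne) (W : P.Opens)
    (hiso : IsIso ((Scheme.Modules.restrictFunctor W.ι).map s)) (x : P) (hxW : x ∈ W)
    (hxU : x ∈ p ⁻¹ᵁ U) :
    x ∈ (RelProj.emb p chart U hU) ''ᵁ Proj.basicOpen (𝒮.deg U hU) fU := by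
  obtain ⟨g, hg1, hgy⟩ := Groth.Agent.H41.GenDegOne.exists_degOne_notMem (hgen U hU)
    ((chart U hU).hom ⟨x, hxU⟩)
  set y' := (chart U hU).hom ⟨x, hxU⟩ with hy'
  have hxy : (RelProj.emb p chart U hU) y' = x :=
    Groth.Agent.H41.RelPMap2.emb_chart_apply p chart U hU x hxU
  let W₁ : P.Opens := W ⊓ (RelProj.emb p chart U hU) ''ᵁ Proj.basicOpen (𝒮.deg U hU) g
  have hxW₁ : x ∈ W₁ := ⟨hxW, y', (Proj.mem_basicOpen _ _ _).mpr hgy, hxy⟩
  have hW₁U : W₁ ≤ p ⁻¹ᵁ U := by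
    refine inf_le_right.trans ?_
    rw [← opensRange_emb 𝒮 p chart U hU]
    exact Scheme.Hom.image_le_opensRange _ _
  have hpre : ∀ z : ProjectiveSpectrum (𝒮.deg U hU), z ∈ (RelProj.emb p chart U hU) ⁻¹ᵁ W₁ →
      g ∉ z.asHomogeneousIdeal := by
    intro z hz
    have h1 : (RelProj.emb p chart U hU) z ∈
        (RelProj.emb p chart U hU) ''ᵁ Proj.basicOpen (𝒮.deg U hU) g := hz.2
    obtain ⟨z', hz', e⟩ := h1
    have : z' = z := (RelProj.emb p chart U hU).isOpenEmbedding.injective e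
    rw [← this]
    exact (Proj.mem_basicOpen _ _ _).mp hz'
  have hone : ∀ z : ProjectiveSpectrum (𝒮.deg U hU), z ∈ (RelProj.emb p chart U hU) ⁻¹ᵁ W₁ →
      (1 : 𝒮.presheaf.obj (op U)) ∉ z.asHomogeneousIdeal := fun z _ h =>
    z.isPrime.ne_top ((Ideal.eq_top_iff_one _).mpr h)
  have hgd : g ^ d ∈ 𝒮.deg U hU d := by
    have := SetLike.pow_mem_graded d hg1
    rwa [smul_eq_mul, mul_one] at this
  have he : ((d : ℕ) : ℤ) = ((0 : ℕ) : ℤ) + (d : ℤ) := by simp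
  obtain ⟨τ, hτ⟩ := exists_section 𝒮 p chart (d : ℤ) L lam hL U hU hgd
    (SetLike.GradedOne.one_mem : (1 : 𝒮.presheaf.obj (op U)) ∈ 𝒮.deg U hU 0) he W₁ hW₁U hone
  have hbij := (Groth.Agent.H67.GenLocusAffine.isIso_restrict_iff s W).mp hiso W₁ inf_le_left
  obtain ⟨r₀, hr₀⟩ := hbij.2 τ
  let r : Γ(P, W₁) := r₀
  have hr : s.app W₁ r = τ := hr₀
  have hr' : r • mres L (le_top : W₁ ≤ ⊤)
      (s.app ⊤ (show Γ(Coh.structureModule P, ⊤) from (1 : Γ(P, ⊤)))) = τ :=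
    (app_eq_smul L s W₁ r).symm.trans hr
  have h2 := congrArg ((lam U hU).app W₁) hr'
  rw [Scheme.Modules.Hom.app_smul, lam_mres_eq 𝒮 p chart L lam s U hU hfU hs W₁, hτ] at h2
  have hzmem : y' ∈ (RelProj.emb p chart U hU) ⁻¹ᵁ W₁ := by
    change (RelProj.emb p chart U hU) y' ∈ W₁
    rw [hxy]; exact hxW₁
  have hval := congrArg (fun t : Γ(GrTwist.twist (𝒮.deg U hU) (d : ℤ), (RelProj.emb p chart U hU) ⁻¹ᵁ W₁) =>
    (((t : GrTwist.sectN (𝒜 := 𝒮.deg U hU) (d : ℤ) (op ((RelProj.emb p chart U hU) ⁻¹ᵁ W₁))).1 ⟨y', hzmem⟩ :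
      GrTwist.twistAt (𝒮.deg U hU) (d : ℤ) y') : GrTwist.Loc (𝒮.deg U hU) y')) h2
  have hval' : (((RelProj.emb p chart U hU).app W₁ r).1 ⟨y', hzmem⟩).val *
      Localization.mk fU (⟨1, hone y' hzmem⟩ : y'.asHomogeneousIdeal.toIdeal.primeCompl) =
      Localization.mk (g ^ d) (⟨1, hone y' hzmem⟩ : y'.asHomogeneousIdeal.toIdeal.primeCompl) := by
    have h3 := GrTwistTriv.twist_smul_val (𝒮.deg U hU) (d : ℤ) ((RelProj.emb p chart U hU) ⁻¹ᵁ W₁)
      ((RelProj.emb p chart U hU).app W₁ r)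
      (GrTwistTriv.fracTw (𝒮.deg U hU) hfU
        (SetLike.GradedOne.one_mem : (1 : 𝒮.presheaf.obj (op U)) ∈ 𝒮.deg U hU 0) he
        ((RelProj.emb p chart U hU) ⁻¹ᵁ W₁) hone) ⟨y', hzmem⟩
    rw [GrTwistTriv.fracTw_val] at h3
    exact h3.symm.trans hval
  have hunit : IsUnit (Localization.mk (g ^ d)
      (⟨1, hone y' hzmem⟩ : y'.asHomogeneousIdeal.toIdeal.primeCompl) :
      GrTwist.Loc (𝒮.deg U hU) y') := by
    rw [Localization.mk_eq_mk']
    exact (IsLocalization.AtPrime.isUnit_mk'_iff (Localization.AtPrime y'.asHomogeneousIdeal.toIdeal)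
      y'.asHomogeneousIdeal.toIdeal (g ^ d) _).mpr
      (fun h => hgy (y'.isPrime.mem_of_pow_mem d h))
  rw [← hval'] at hunit
  have hunit2 := isUnit_of_mul_isUnit_right hunit
  have h1eq : (⟨1, hone y' hzmem⟩ : y'.asHomogeneousIdeal.toIdeal.primeCompl) = 1 := rfl
  rw [h1eq, Localization.mk_one_eq_algebraMap] at hunit2
  have hfy : fU ∉ y'.asHomogeneousIdeal :=
    (IsLocalization.AtPrime.isUnit_to_map_iff (Localization.AtPrime y'.asHomogeneousIdeal.toIdeal)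
      y'.asHomogeneousIdeal.toIdeal fU).mp hunit2
  exact ⟨y', (Proj.mem_basicOpen _ _ _).mpr hfy, hxy⟩

end Groth.Agent.H41.RelTwistGenLocus
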