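import Groth.Agent.H41.RelTwistTriv2
import Groth.Agent.H41.FreeGenLocal

/-!
# Trivializing `O_P(e)` over an open on which a global fraction `a / b` of degree `e` vanishes nowhere (helper41)
-/

set_option autoImplicit false
universe u

open CategoryTheory CategoryTheory.Limits AlgebraicGeometry TopologicalSpace Opposite

namespace Groth.Agent.H41.RelTwistGlue

open Groth.Agent.H18 Groth.Agent.H41.RelTwistTriv Groth.Agent.H41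

variable {Y P : Scheme.{u}} (𝒮 : RelProj.QCGrAlg Y) (p : P ⟶ Y)
  (chart : ∀ (U : Y.Opens) (hU : IsAffineOpen U),
    (((p ⁻¹ᵁ U : P.Opens) : Scheme.{u}) ≅ Proj (𝒮.deg U hU)))
  (hP : RelProj.IsRelProj 𝒮 p chart)
  (e : ℤ) (L : P.Modules)
  (lam : ∀ (U : Y.Opens) (hU : IsAffineOpen U),
    L ⟶ (Scheme.Modules.pushforward (RelProj.emb p chart U hU)).obj (GrTwist.twist (𝒮.deg U hU) e))
  (hL : RelProj.IsRelTwist 𝒮 p chart e L lam)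
  {i j : ℕ} (a₀ b₀ : 𝒮.presheaf.obj (op ⊤)) (he : (i : ℤ) = j + e)
  (ha : ∀ (U : Y.Opens) (hU : IsAffineOpen U), (𝒮.presheaf.map (homOfLE le_top).op).hom a₀ ∈ 𝒮.deg U hU i)
  (hb : ∀ (U : Y.Opens) (hU : IsAffineOpen U), (𝒮.presheaf.map (homOfLE le_top).op).hom b₀ ∈ 𝒮.deg U hU j)
  (X₀ : P.Opens)
  (hXa : ∀ (U : Y.Opens) (hU : IsAffineOpen U) (x : ProjectiveSpectrum (𝒮.deg U hU)),
    x ∈ (RelProj.emb p chart U hU) ⁻¹ᵁ X₀ →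
      (𝒮.presheaf.map (homOfLE le_top).op).hom a₀ ∉ x.asHomogeneousIdeal)
  (hXb : ∀ (U : Y.Opens) (hU : IsAffineOpen U) (x : ProjectiveSpectrum (𝒮.deg U hU)),
    x ∈ (RelProj.emb p chart U hU) ⁻¹ᵁ X₀ →
      (𝒮.presheaf.map (homOfLE le_top).op).hom b₀ ∉ x.asHomogeneousIdeal)

theorem res_restrictTop (c : 𝒮.presheaf.obj (op ⊤)) {U V : Y.Opens} (h : V ≤ U) :
    (𝒮.presheaf.map (homOfLE h).op).hom ((𝒮.presheaf.map (homOfLE (le_top : U ≤ ⊤)).op).hom c) =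
      (𝒮.presheaf.map (homOfLE (le_top : V ≤ ⊤)).op).hom c := by
  rw [← CommRingCat.comp_apply, ← Functor.map_comp]
  rfl

include hL hb in
/-- The section of `L` over `X₀ ⊓ p⁻¹(U)` reading `a / b` on the chart over `U`. -/
theorem exists_sec (U : Y.Opens) (hU : IsAffineOpen U) :
    ∃ σ : Γ(L, X₀ ⊓ p ⁻¹ᵁ U), (lam U hU).app (X₀ ⊓ p ⁻¹ᵁ U) σ =
      GrTwistTriv.fracTw (𝒮.deg U hU) (ha U hU) (hb U hU) he
        ((RelProj.emb p chart U hU) ⁻¹ᵁ (X₀ ⊓ p ⁻¹ᵁ U)) (fun x hx => hXb U hU x hx.1) :=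
  exists_section 𝒮 p chart e L lam hL U hU (ha U hU) (hb U hU) he (X₀ ⊓ p ⁻¹ᵁ U) inf_le_right
    (fun x hx => hXb U hU x hx.1)

/-- The section of `L` over `X₀ ⊓ p⁻¹(U)` reading `a / b` on the chart over `U`. -/
noncomputable def sec (U : Y.Opens) (hU : IsAffineOpen U) : Γ(L, X₀ ⊓ p ⁻¹ᵁ U) :=
  (exists_sec 𝒮 p chart e L lam hL a₀ b₀ he ha hb X₀ hXb U hU).choose

theorem lam_sec (U : Y.Opens) (hU : IsAffineOpen U) :
    (lam U hU).app (X₀ ⊓ p ⁻¹ᵁ U) (sec 𝒮 p chart e L lam hL a₀ b₀ he ha hb X₀ hXb U hU) =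
      GrTwistTriv.fracTw (𝒮.deg U hU) (ha U hU) (hb U hU) he
        ((RelProj.emb p chart U hU) ⁻¹ᵁ (X₀ ⊓ p ⁻¹ᵁ U)) (fun x hx => hXb U hU x hx.1) :=
  (exists_sec 𝒮 p chart e L lam hL a₀ b₀ he ha hb X₀ hXb U hU).choose_spec

include hXa in
theorem sec_free (U : Y.Opens) (hU : IsAffineOpen U) (W' : P.Opens) (hW' : W' ≤ X₀ ⊓ p ⁻¹ᵁ U) :
    Function.Bijective (fun r : Γ(P, W') =>
      r • mres L hW' (sec 𝒮 p chart e L lam hL a₀ b₀ he ha hb X₀ hXb U hU)) :=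
  bijective_smul_of_lam_eq 𝒮 p chart e L lam hL U hU (ha U hU) (hb U hU) he (X₀ ⊓ p ⁻¹ᵁ U) inf_le_right
    (fun x hx => hXa U hU x hx.1) (fun x hx => hXb U hU x hx.1) _
    (lam_sec 𝒮 p chart e L lam hL a₀ b₀ he ha hb X₀ hXb U hU) W' hW'

theorem sec_congr {U V : Y.Opens} (hU : IsAffineOpen U) (hV : IsAffineOpen V) (h : U = V) :
    mres L (by rw [h] : X₀ ⊓ p ⁻¹ᵁ V ≤ X₀ ⊓ p ⁻¹ᵁ U)
      (sec 𝒮 p chart e L lam hL a₀ b₀ he ha hb X₀ hXb U hU) =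
      sec 𝒮 p chart e L lam hL a₀ b₀ he ha hb X₀ hXb V hV := by
  subst h
  exact mres_self L _ _

include hP in
/-- Compatibility of the chartwise sections with restriction to a basic open. -/
theorem sec_res_basicOpen (U : Y.Opens) (hU : IsAffineOpen U) (r : Γ(Y, U)) :
    mres L (inf_le_inf_left X₀ (p.preimage_mono (Y.basicOpen_le r)) :
        X₀ ⊓ p ⁻¹ᵁ (Y.basicOpen r) ≤ X₀ ⊓ p ⁻¹ᵁ U)
      (sec 𝒮 p chart e L lam hL a₀ b₀ he ha hb X₀ hXb U hU) =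
      sec 𝒮 p chart e L lam hL a₀ b₀ he ha hb X₀ hXb (Y.basicOpen r) (hU.basicOpen r) := by
  have hle : X₀ ⊓ p ⁻¹ᵁ (Y.basicOpen r) ≤ X₀ ⊓ p ⁻¹ᵁ U :=
    inf_le_inf_left X₀ (p.preimage_mono (Y.basicOpen_le r))
  apply (hL.bijective (Y.basicOpen r) (hU.basicOpen r) (X₀ ⊓ p ⁻¹ᵁ (Y.basicOpen r)) inf_le_right).1
  rw [lam_sec]
  refine GrTwistTriv.twist_sect_ext (𝒮.deg (Y.basicOpen r) (hU.basicOpen r)) e _ _ _ fun z => ?_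
  rw [GrTwistTriv.fracTw_val]
  have hmap := RelProj.map_res_emb hP U hU r
  have hy' : (RelProj.emb p chart U hU).base (ProjectiveSpectrum.comap
      (𝒮.res hU (hU.basicOpen r) (Y.basicOpen_le r)) (𝒮.irrelevant_le_map U hU r) z.1) ∈
      X₀ ⊓ p ⁻¹ᵁ (Y.basicOpen r) := by
    have h1 : (RelProj.emb p chart U hU).base (ProjectiveSpectrum.comap
        (𝒮.res hU (hU.basicOpen r) (Y.basicOpen_le r)) (𝒮.irrelevant_le_map U hU r) z.1) =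
        (RelProj.emb p chart (Y.basicOpen r) (hU.basicOpen r)) z.1 :=
      congrArg (fun φ : Proj (𝒮.deg (Y.basicOpen r) (hU.basicOpen r)) ⟶ P => φ z.1) hmap
    rw [h1]
    exact z.2
  have hc := hL.compat U hU r (X₀ ⊓ p ⁻¹ᵁ (Y.basicOpen r))
    (mres L hle (sec 𝒮 p chart e L lam hL a₀ b₀ he ha hb X₀ hXb U hU)) z.1 z.2 hy'
  refine hc.trans ?_
  have h2 : (lam U hU).app (X₀ ⊓ p ⁻¹ᵁ (Y.basicOpen r))
      (mres L hle (sec 𝒮 p chart e L lam hL a₀ b₀ he ha hb X₀ hXb U hU)) =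
      GrTwistTriv.fracTw (𝒮.deg U hU) (ha U hU) (hb U hU) he
        ((RelProj.emb p chart U hU) ⁻¹ᵁ (X₀ ⊓ p ⁻¹ᵁ (Y.basicOpen r)))
        (fun x hx => hXb U hU x hx.1) := by
    rw [app_mres, lam_sec]
    rfl
  have h3 : GrTwist.val (V := RelProj.emb p chart U hU ⁻¹ᵁ (X₀ ⊓ p ⁻¹ᵁ (Y.basicOpen r)))
      ((lam U hU).app (X₀ ⊓ p ⁻¹ᵁ (Y.basicOpen r))
        (mres L hle (sec 𝒮 p chart e L lam hL a₀ b₀ he ha hb X₀ hXb U hU))) ⟨_, hy'⟩ =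
      Localization.mk ((𝒮.presheaf.map (homOfLE le_top).op).hom a₀)
        ⟨(𝒮.presheaf.map (homOfLE le_top).op).hom b₀, hXb U hU _ hy'.1⟩ := by
    rw [h2]
    rfl
  rw [h3, GrTwist.locMap_mk]
  congr 1
  · exact res_restrictTop 𝒮 a₀ (Y.basicOpen_le r)
  · exact Subtype.ext (res_restrictTop 𝒮 b₀ (Y.basicOpen_le r))

include hP in
/-- The chartwise sections agree on overlaps. -/
theorem sec_compat (U U' : Y.Opens) (hU : IsAffineOpen U) (hU' : IsAffineOpen U') :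
    mres L (inf_le_left : (X₀ ⊓ p ⁻¹ᵁ U) ⊓ (X₀ ⊓ p ⁻¹ᵁ U') ≤ X₀ ⊓ p ⁻¹ᵁ U)
      (sec 𝒮 p chart e L lam hL a₀ b₀ he ha hb X₀ hXb U hU) =
    mres L (inf_le_right : (X₀ ⊓ p ⁻¹ᵁ U) ⊓ (X₀ ⊓ p ⁻¹ᵁ U') ≤ X₀ ⊓ p ⁻¹ᵁ U')
      (sec 𝒮 p chart e L lam hL a₀ b₀ he ha hb X₀ hXb U' hU') := by
  apply Groth.Agent.H12.QCohIso.modules_eq_of_locally_eq
  intro x hx
  have hxU : p x ∈ U ⊓ U' := ⟨hx.1.2, hx.2.2⟩
  obtain ⟨f, g, hfg, hxf⟩ := exists_basicOpen_le_affine_inter hU hU' (p x) hxU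
  have hleU : X₀ ⊓ p ⁻¹ᵁ (Y.basicOpen f) ≤ X₀ ⊓ p ⁻¹ᵁ U :=
    inf_le_inf_left X₀ (p.preimage_mono (Y.basicOpen_le f))
  have hleU' : X₀ ⊓ p ⁻¹ᵁ (Y.basicOpen f) ≤ X₀ ⊓ p ⁻¹ᵁ U' := by
    rw [hfg]
    exact inf_le_inf_left X₀ (p.preimage_mono (Y.basicOpen_le g))
  refine ⟨X₀ ⊓ p ⁻¹ᵁ (Y.basicOpen f), le_inf hleU hleU', ⟨hx.1.1, hxf⟩, ?_⟩
  rw [mres_mres, mres_mres]
  have h1 := sec_res_basicOpen 𝒮 p chart hP e L lam hL a₀ b₀ he ha hb X₀ hXb U hU f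
  have h2 := sec_res_basicOpen 𝒮 p chart hP e L lam hL a₀ b₀ he ha hb X₀ hXb U' hU' g
  have h3 := sec_congr 𝒮 p chart e L lam hL a₀ b₀ he ha hb X₀ hXb (hU'.basicOpen g) (hU.basicOpen f)
    hfg.symm
  rw [← h2, mres_mres] at h3
  exact h1.trans h3.symm

include hP hXa hL he ha hb hXb in
/-- `O_P(e)` is trivial over an open on which a global fraction `a / b` of degree `e` vanishes nowhere. -/
theorem nonempty_restrict_iso :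
    Nonempty (L.restrict X₀.ι ≅ Coh.structureModule (X₀ : Scheme.{u})) := by
  let F : TopCat.Sheaf AddCommGrpCat P.toTopCat := ⟨L.presheaf, L.isSheaf⟩
  have hcov : X₀ ≤ ⨆ U : Y.affineOpens, X₀ ⊓ p ⁻¹ᵁ U.1 := by
    intro x hx
    obtain ⟨_, ⟨U, hU : IsAffineOpen U, rfl⟩, hxU, -⟩ :=
      Y.isBasis_affineOpens.exists_subset_of_mem_open (show p x ∈ (⊤ : Y.Opens) from trivial)
        (⊤ : Y.Opens).2
    exact Opens.mem_iSup.mpr ⟨⟨U, hU⟩, hx, hxU⟩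
  have hcompat : TopCat.Presheaf.IsCompatible F.1 (fun U : Y.affineOpens => X₀ ⊓ p ⁻¹ᵁ U.1)
      (fun U => sec 𝒮 p chart e L lam hL a₀ b₀ he ha hb X₀ hXb U.1 U.2) := fun U U' =>
    sec_compat 𝒮 p chart hP e L lam hL a₀ b₀ he ha hb X₀ hXb U.1 U'.1 U.2 U'.2
  obtain ⟨σ₀, hσ₀, -⟩ := F.existsUnique_gluing' (fun U : Y.affineOpens => X₀ ⊓ p ⁻¹ᵁ U.1) X₀
    (fun U => homOfLE inf_le_left) hcov
    (fun U => sec 𝒮 p chart e L lam hL a₀ b₀ he ha hb X₀ hXb U.1 U.2) hcompat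
  let σ : Γ(L, X₀) := σ₀
  have hσ : ∀ U : Y.affineOpens, mres L (inf_le_left : X₀ ⊓ p ⁻¹ᵁ U.1 ≤ X₀) σ =
      sec 𝒮 p chart e L lam hL a₀ b₀ he ha hb X₀ hXb U.1 U.2 := hσ₀
  refine nonempty_restrict_iso_unit L X₀ σ ?_
  refine Groth.Agent.H41.FreeGenLocal.bijective_smul_of_local L X₀
    (fun U : Y.affineOpens => X₀ ⊓ p ⁻¹ᵁ U.1) (fun U => inf_le_left) hcov σ ?_
  intro U W' hW'
  have h1 := sec_free 𝒮 p chart e L lam hL a₀ b₀ he ha hb X₀ hXa hXb U.1 U.2 W' hW'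
  have h2 : mres L (hW'.trans inf_le_left) σ =
      mres L hW' (sec 𝒮 p chart e L lam hL a₀ b₀ he ha hb X₀ hXb U.1 U.2) := by
    rw [← hσ U, mres_mres]
  rw [h2]
  exact h1

end Groth.Agent.H41.RelTwistGlue
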