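import Groth.Agent.H41.RelTwistTriv
import Groth.Agent.H41.GenDegOne
import Groth.Agent.H41.RelPMap2

/-!
# `O_P(n)` is invertible when `𝒮` is generated in degree one (helper41)
-/

set_option autoImplicit false
universe u

open CategoryTheory CategoryTheory.Limits AlgebraicGeometry TopologicalSpace Opposite

namespace Groth.Agent.H41.RelTwistInv

open Groth.Agent.H41.RelTwistTriv

variable {Y P : Scheme.{u}} (𝒮 : RelProj.QCGrAlg Y) (p : P ⟶ Y)
  (chart : ∀ (U : Y.Opens) (hU : IsAffineOpen U),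
    (((p ⁻¹ᵁ U : P.Opens) : Scheme.{u}) ≅ Proj (𝒮.deg U hU)))

/-- Over the image of `D₊(g)`, `deg g = d`, the sheaf `O_P(k d)` (`k ∈ ℤ`) is trivial. -/
theorem nonempty_restrict_iso_basicOpen (U : Y.Opens) (hU : IsAffineOpen U) {d : ℕ}
    {g : 𝒮.presheaf.obj (op U)} (hg : g ∈ 𝒮.deg U hU d) (k : ℤ) (L : P.Modules)
    (lam : ∀ (U : Y.Opens) (hU : IsAffineOpen U),
      L ⟶ (Scheme.Modules.pushforward (RelProj.emb p chart U hU)).obj
        (GrTwist.twist (𝒮.deg U hU) (k * (d : ℤ))))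
    (hL : RelProj.IsRelTwist 𝒮 p chart (k * (d : ℤ)) L lam)
    (W : P.Opens) (hW : W ≤ (RelProj.emb p chart U hU) ''ᵁ Proj.basicOpen (𝒮.deg U hU) g) :
    Nonempty (L.restrict W.ι ≅ Coh.structureModule (W : Scheme.{u})) := by
  have hWU : W ≤ p ⁻¹ᵁ U := by
    refine hW.trans ?_
    rw [← opensRange_emb 𝒮 p chart U hU]
    exact Scheme.Hom.image_le_opensRange _ _
  have hpre : ∀ x : ProjectiveSpectrum (𝒮.deg U hU), x ∈ (RelProj.emb p chart U hU) ⁻¹ᵁ W →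
      g ∉ x.asHomogeneousIdeal := by
    intro x hx
    have h1 : (RelProj.emb p chart U hU) x ∈
        (RelProj.emb p chart U hU) ''ᵁ Proj.basicOpen (𝒮.deg U hU) g := hW hx
    obtain ⟨x', hx', e⟩ := h1
    have : x' = x := (RelProj.emb p chart U hU).isOpenEmbedding.injective e
    rw [← this]
    exact (Proj.mem_basicOpen _ _ _).mp hx'
  have hone : ∀ x : ProjectiveSpectrum (𝒮.deg U hU), x ∈ (RelProj.emb p chart U hU) ⁻¹ᵁ W →
      (1 : 𝒮.presheaf.obj (op U)) ∉ x.asHomogeneousIdeal := fun x _ h =>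
    x.isPrime.ne_top ((Ideal.eq_top_iff_one _).mpr h)
  have hpow : ∀ m : ℕ, ∀ x : ProjectiveSpectrum (𝒮.deg U hU),
      x ∈ (RelProj.emb p chart U hU) ⁻¹ᵁ W → g ^ m ∉ x.asHomogeneousIdeal := fun m x hx h =>
    hpre x hx (x.isPrime.mem_of_pow_mem m h)
  have hgm : ∀ m : ℕ, g ^ m ∈ 𝒮.deg U hU (m * d) := fun m => by
    have := SetLike.pow_mem_graded m hg
    rwa [smul_eq_mul] at this
  rcases le_or_gt 0 k with hk | hk
  · obtain ⟨m, rfl⟩ := Int.eq_ofNat_of_zero_le hk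
    exact nonempty_restrict_iso 𝒮 p chart _ L lam hL U hU (hgm m)
      (SetLike.GradedOne.one_mem : (1 : 𝒮.presheaf.obj (op U)) ∈ 𝒮.deg U hU 0)
      (by push_cast; ring) W hWU (hpow m) hone
  · obtain ⟨m, rfl⟩ := Int.exists_eq_neg_ofNat hk.le
    exact nonempty_restrict_iso 𝒮 p chart _ L lam hL U hU
      (SetLike.GradedOne.one_mem : (1 : 𝒮.presheaf.obj (op U)) ∈ 𝒮.deg U hU 0) (hgm m)
      (by push_cast; ring) W hWU hone (hpow m)

/-- If `𝒮` is generated in degree one, `O_P(n)` is invertible. -/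
theorem isInvertible_of_isGenDegOne (hgen : 𝒮.IsGenDegOne) (n : ℤ) (L : P.Modules)
    (lam : ∀ (U : Y.Opens) (hU : IsAffineOpen U),
      L ⟶ (Scheme.Modules.pushforward (RelProj.emb p chart U hU)).obj (GrTwist.twist (𝒮.deg U hU) n))
    (hL : RelProj.IsRelTwist 𝒮 p chart n L lam) : PicF.IsInvertible L := by
  intro y
  obtain ⟨_, ⟨U, hU : IsAffineOpen U, rfl⟩, hyU, -⟩ :=
    Y.isBasis_affineOpens.exists_subset_of_mem_open (show p y ∈ (⊤ : Y.Opens) from trivial)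
      (⊤ : Y.Opens).2
  have hy : y ∈ p ⁻¹ᵁ U := hyU
  obtain ⟨g, hg1, hgy⟩ := Groth.Agent.H41.GenDegOne.exists_degOne_notMem (hgen U hU)
    ((chart U hU).hom ⟨y, hy⟩)
  refine ⟨(RelProj.emb p chart U hU) ''ᵁ Proj.basicOpen (𝒮.deg U hU) g,
    ⟨(chart U hU).hom ⟨y, hy⟩, (Proj.mem_basicOpen _ _ _).mpr hgy,
      Groth.Agent.H41.RelPMap2.emb_chart_apply p chart U hU y hy⟩, ?_⟩
  have e : n = n * ((1 : ℕ) : ℤ) := by simp
  revert lam
  rw [e]
  intro lam hL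
  exact nonempty_restrict_iso_basicOpen 𝒮 p chart U hU hg1 n L lam hL _ le_rfl

end Groth.Agent.H41.RelTwistInv
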