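import Groth.Agent.H41.GrTwistMul
import Groth.Agent.H41.RelTwistTriv
import Groth.Agent.H18.STL.Basic

/-!
# The chartwise multiplication `O_P(m) ⊗ O_P(n) ⟶ (emb_U)_* O_{𝒮(U)}(m + n)` (helper41)
-/

set_option autoImplicit false
universe u

open CategoryTheory CategoryTheory.Limits AlgebraicGeometry TopologicalSpace Opposite TensorProduct

namespace Groth.Agent.H41.RelTwistMul

open Groth.Agent.H18 Groth.Agent.H41.GrTwistTriv Groth.Agent.H41.GrTwistMul
  Groth.Agent.H41.RelTwistTriv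

variable {Y P : Scheme.{u}} (𝒮 : RelProj.QCGrAlg Y) (p : P ⟶ Y)
  (chart : ∀ (U : Y.Opens) (hU : IsAffineOpen U),
    (((p ⁻¹ᵁ U : P.Opens) : Scheme.{u}) ≅ Proj (𝒮.deg U hU)))
  (m n : ℤ) {L L' : P.Modules}
  (lam : ∀ (U : Y.Opens) (hU : IsAffineOpen U),
    L ⟶ (Scheme.Modules.pushforward (RelProj.emb p chart U hU)).obj (GrTwist.twist (𝒮.deg U hU) m))
  (lam' : ∀ (U : Y.Opens) (hU : IsAffineOpen U),
    L' ⟶ (Scheme.Modules.pushforward (RelProj.emb p chart U hU)).obj (GrTwist.twist (𝒮.deg U hU) n))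
  (U : Y.Opens) (hU : IsAffineOpen U)

/-- the target of the chartwise multiplication -/
noncomputable abbrev T : P.Modules :=
  (Scheme.Modules.pushforward (RelProj.emb p chart U hU)).obj (GrTwist.twist (𝒮.deg U hU) (m + n))

/-- the chartwise product of sections -/
noncomputable def pair (W : P.Opens) (s : Γ(L, W)) (s' : Γ(L', W)) : Γ(T 𝒮 p chart m n U hU, W) :=
  mulSect (𝒮.deg U hU) (V := (RelProj.emb p chart U hU) ⁻¹ᵁ W)
    ((lam U hU).app W s) ((lam' U hU).app W s')

theorem pair_add_left (W : P.Opens) (s₁ s₂ : Γ(L, W)) (s' : Γ(L', W)) :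
    pair 𝒮 p chart m n lam lam' U hU W (s₁ + s₂) s' =
      pair 𝒮 p chart m n lam lam' U hU W s₁ s' + pair 𝒮 p chart m n lam lam' U hU W s₂ s' := by
  unfold pair
  rw [map_add]
  exact mulSect_add_left _ _ _ _

theorem pair_add_right (W : P.Opens) (s : Γ(L, W)) (s₁ s₂ : Γ(L', W)) :
    pair 𝒮 p chart m n lam lam' U hU W s (s₁ + s₂) =
      pair 𝒮 p chart m n lam lam' U hU W s s₁ + pair 𝒮 p chart m n lam lam' U hU W s s₂ := by
  unfold pair
  rw [map_add]
  exact mulSect_add_right _ _ _ _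

theorem pair_smul_left (W : P.Opens) (r : Γ(P, W)) (s : Γ(L, W)) (s' : Γ(L', W)) :
    pair 𝒮 p chart m n lam lam' U hU W (r • s) s' =
      r • pair 𝒮 p chart m n lam lam' U hU W s s' := by
  unfold pair
  rw [Scheme.Modules.Hom.app_smul]
  exact mulSect_smul_left _ _ _ _

theorem pair_smul_right (W : P.Opens) (r : Γ(P, W)) (s : Γ(L, W)) (s' : Γ(L', W)) :
    pair 𝒮 p chart m n lam lam' U hU W s (r • s') =
      r • pair 𝒮 p chart m n lam lam' U hU W s s' := by
  unfold pair
  rw [Scheme.Modules.Hom.app_smul]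
  exact mulSect_smul_right _ _ _ _

theorem mres_pair {W W' : P.Opens} (h : W' ≤ W) (s : Γ(L, W)) (s' : Γ(L', W)) :
    mres (T 𝒮 p chart m n U hU) h (pair 𝒮 p chart m n lam lam' U hU W s s') =
      pair 𝒮 p chart m n lam lam' U hU W' (mres L h s) (mres L' h s') := by
  unfold pair
  rw [app_mres, app_mres]
  rfl

/-- the pairing on the presheaf tensor product -/
noncomputable def pairPre :
    CohB1.tensorPre L L' ⟶ CohB1.toPMod (T 𝒮 p chart m n U hU) where
  app W := ModuleCat.MonoidalCategory.tensorLift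
    (fun (s : Γ(L, W.unop)) (s' : Γ(L', W.unop)) =>
      (pair 𝒮 p chart m n lam lam' U hU W.unop s s' : Γ(T 𝒮 p chart m n U hU, W.unop)))
    (fun s₁ s₂ s' => pair_add_left 𝒮 p chart m n lam lam' U hU W.unop s₁ s₂ s')
    (fun r s s' => pair_smul_left 𝒮 p chart m n lam lam' U hU W.unop r s s')
    (fun s s₁ s₂ => pair_add_right 𝒮 p chart m n lam lam' U hU W.unop s s₁ s₂)
    (fun r s s' => pair_smul_right 𝒮 p chart m n lam lam' U hU W.unop r s s')
  naturality {_ _} f := ModuleCat.MonoidalCategory.tensor_ext (fun s s' =>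
    (mres_pair 𝒮 p chart m n lam lam' U hU (leOfHom f.unop) s s').symm)

/-- the chartwise multiplication `L ⊗ L' ⟶ (emb_U)_* O(m + n)` -/
noncomputable def chi : CohB1.tensorMod L L' ⟶ T 𝒮 p chart m n U hU :=
  (PresheafOfModules.sheafificationHomEquiv (R := P.ringCatSheaf) (𝟙 P.ringCatSheaf.obj)
    (P := (CohB1.tensorPre L L' : P.PresheafOfModules))
    (F := T 𝒮 p chart m n U hU)).symm (pairPre 𝒮 p chart m n lam lam' U hU)

theorem chi_tmul (W : P.Opens) (s : Γ(L, W)) (s' : Γ(L', W)) :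
    (chi 𝒮 p chart m n lam lam' U hU).app W (SecTwist.tmul L L' W s s') =
      pair 𝒮 p chart m n lam lam' U hU W s s' := by
  have h0 : PresheafOfModules.sheafificationHomEquiv (R := P.ringCatSheaf) (𝟙 P.ringCatSheaf.obj)
      (P := (CohB1.tensorPre L L' : P.PresheafOfModules))
      (F := T 𝒮 p chart m n U hU) (chi 𝒮 p chart m n lam lam' U hU) =
        pairPre 𝒮 p chart m n lam lam' U hU := Equiv.apply_symm_apply _ _
  have h1 := PresheafOfModules.toPresheaf_map_sheafificationHomEquiv_def (R := P.ringCatSheaf)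
    (𝟙 P.ringCatSheaf.obj) (P := (CohB1.tensorPre L L' : P.PresheafOfModules))
    (chi 𝒮 p chart m n lam lam' U hU)
  rw [h0] at h1
  have h3 := h1.trans (congrArg (fun ψ => ψ ≫ (PresheafOfModules.toPresheaf
    P.ringCatSheaf.obj).map (chi 𝒮 p chart m n lam lam' U hU).val)
    (STL.toPresheaf_map_toTensor L L').symm)
  have h2 := congrArg (fun φ => (φ.app (op W)) (s ⊗ₜ s')) h3
  exact h2.symm

end Groth.Agent.H41.RelTwistMul
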