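import Groth.Agent.H41.RelTwistInv
import Groth.Agent.H41.RelPMap4
import Groth.Agent.H18.RestrictRestrict

/-!
# Free generators of the relative twisting sheaves over `D₊(g)`; invertibility on quasi-compact opens (helper41)
-/

set_option autoImplicit false
universe u

open CategoryTheory CategoryTheory.Limits AlgebraicGeometry TopologicalSpace Opposite

namespace Groth.Agent.H41.RelTwistTriv2

open Groth.Agent.H18 Groth.Agent.H41.RelTwistTriv

variable {Y P : Scheme.{u}} (𝒮 : RelProj.QCGrAlg Y) (p : P ⟶ Y)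
  (chart : ∀ (U : Y.Opens) (hU : IsAffineOpen U),
    (((p ⁻¹ᵁ U : P.Opens) : Scheme.{u}) ≅ Proj (𝒮.deg U hU)))

/-- Over (an open of) the image of `D₊(g)`, `deg g = d`, the sheaf `O_P(k d)` has a free generator. -/
theorem exists_freeGen_basicOpen (U : Y.Opens) (hU : IsAffineOpen U) {d : ℕ}
    {g : 𝒮.presheaf.obj (op U)} (hg : g ∈ 𝒮.deg U hU d) (k : ℤ) (L : P.Modules)
    (lam : ∀ (U : Y.Opens) (hU : IsAffineOpen U),
      L ⟶ (Scheme.Modules.pushforward (RelProj.emb p chart U hU)).obj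
        (GrTwist.twist (𝒮.deg U hU) (k * (d : ℤ))))
    (hL : RelProj.IsRelTwist 𝒮 p chart (k * (d : ℤ)) L lam)
    (W : P.Opens) (hW : W ≤ (RelProj.emb p chart U hU) ''ᵁ Proj.basicOpen (𝒮.deg U hU) g) :
    ∃ σ : Γ(L, W), ∀ (W' : P.Opens) (hW' : W' ≤ W),
      Function.Bijective (fun r : Γ(P, W') => r • mres L hW' σ) := by
  have hWU : W ≤ p ⁻¹ᵁ U := by
    refine hW.trans ?_
    rw [← opensRange_emb 𝒮 p chart U hU]
    exact Scheme.Hom.image_le_opensRange _ _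
  have hpre : ∀ x : ProjectiveSpectrum (𝒮.deg U hU), x ∈ (RelProj.emb p chart U hU) ⁻¹ᵁ W →
      g ∉ x.asHomogeneousIdeal := by
    intro x hx
    have h1 : (RelProj.emb p chart U hU) x ∈
        (RelProj.emb p chart U hU) ''ᵁ Proj.basicOpen (𝒮.deg U hU) g := hW hx
    obtain ⟨x', hx', e⟩ := h1
    have : x' = x := (RelProj.emb p chart U hU).isOpenEmbedding.injective e
    rw [← this]
    exact (Proj.mem_basicOpen _ _ _).mp hx'
  have hone : ∀ x : ProjectiveSpectrum (𝒮.deg U hU), x ∈ (RelProj.emb p chart U hU) ⁻¹ᵁ W →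
      (1 : 𝒮.presheaf.obj (op U)) ∉ x.asHomogeneousIdeal := fun x _ h =>
    x.isPrime.ne_top ((Ideal.eq_top_iff_one _).mpr h)
  have hpow : ∀ m : ℕ, ∀ x : ProjectiveSpectrum (𝒮.deg U hU),
      x ∈ (RelProj.emb p chart U hU) ⁻¹ᵁ W → g ^ m ∉ x.asHomogeneousIdeal := fun m x hx h =>
    hpre x hx (x.isPrime.mem_of_pow_mem m h)
  have hgm : ∀ m : ℕ, g ^ m ∈ 𝒮.deg U hU (m * d) := fun m => by
    have := SetLike.pow_mem_graded m hg
    rwa [smul_eq_mul] at this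
  rcases le_or_gt 0 k with hk | hk
  · obtain ⟨m, rfl⟩ := Int.eq_ofNat_of_zero_le hk
    have he : ((m * d : ℕ) : ℤ) = ((0 : ℕ) : ℤ) + (m : ℤ) * (d : ℤ) := by push_cast; ring
    obtain ⟨σ, hσ⟩ := exists_section 𝒮 p chart _ L lam hL U hU (hgm m)
      (SetLike.GradedOne.one_mem : (1 : 𝒮.presheaf.obj (op U)) ∈ 𝒮.deg U hU 0) he W hWU hone
    exact ⟨σ, fun W' hW' => bijective_smul_of_lam_eq 𝒮 p chart _ L lam hL U hU (hgm m)
      (SetLike.GradedOne.one_mem : (1 : 𝒮.presheaf.obj (op U)) ∈ 𝒮.deg U hU 0) he W hWU (hpow m) hone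
      σ hσ W' hW'⟩
  · obtain ⟨m, rfl⟩ := Int.exists_eq_neg_ofNat hk.le
    have he : ((0 : ℕ) : ℤ) = ((m * d : ℕ) : ℤ) + (-(m : ℤ)) * (d : ℤ) := by push_cast; ring
    obtain ⟨σ, hσ⟩ := exists_section 𝒮 p chart _ L lam hL U hU
      (SetLike.GradedOne.one_mem : (1 : 𝒮.presheaf.obj (op U)) ∈ 𝒮.deg U hU 0) (hgm m) he W hWU (hpow m)
    exact ⟨σ, fun W' hW' => bijective_smul_of_lam_eq 𝒮 p chart _ L lam hL U hU
      (SetLike.GradedOne.one_mem : (1 : 𝒮.presheaf.obj (op U)) ∈ 𝒮.deg U hU 0) (hgm m) he W hWU hone (hpow m)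
      σ hσ W' hW'⟩

/-- On a quasi-compact open of a relative `Proj`, `O(n)` is invertible for all `n` divisible by a suitable `d > 0`. -/
theorem exists_period (U : P.Opens) (hU : IsCompact (U : Set P)) :
    ∃ d : ℕ, 0 < d ∧ ∀ (n : ℤ), (d : ℤ) ∣ n →
      ∀ (L : P.Modules)
        (lam : ∀ (V : Y.Opens) (hV : IsAffineOpen V),
          L ⟶ (Scheme.Modules.pushforward (RelProj.emb p chart V hV)).obj (GrTwist.twist (𝒮.deg V hV) n)),
        RelProj.IsRelTwist 𝒮 p chart n L lam → PicF.IsInvertible (L.restrict U.ι) := by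
  have hex : ∀ x : P, ∃ (V : Y.Opens) (hV : IsAffineOpen V) (d : ℕ) (g : 𝒮.presheaf.obj (op V)),
      0 < d ∧ g ∈ 𝒮.deg V hV d ∧
        x ∈ (RelProj.emb p chart V hV) ''ᵁ Proj.basicOpen (𝒮.deg V hV) g := by
    intro x
    obtain ⟨_, ⟨V, hV : IsAffineOpen V, rfl⟩, hxV, -⟩ :=
      Y.isBasis_affineOpens.exists_subset_of_mem_open (show p x ∈ (⊤ : Y.Opens) from trivial)
        (⊤ : Y.Opens).2
    have hx : x ∈ p ⁻¹ᵁ V := hxV
    obtain ⟨d, g, hd, hg, hgx⟩ := Groth.Agent.H41.RelPMap4.exists_pos_homogeneous_notMem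
      ((chart V hV).hom ⟨x, hx⟩)
    exact ⟨V, hV, d, g, hd, hg, (chart V hV).hom ⟨x, hx⟩, (Proj.mem_basicOpen _ _ _).mpr hgx,
      Groth.Agent.H41.RelPMap2.emb_chart_apply p chart V hV x hx⟩
  choose V hV d g hd hg hx using hex
  obtain ⟨t, ht⟩ := hU.elim_finite_subcover
    (fun x : P => (((RelProj.emb p chart (V x) (hV x)) ''ᵁ
      Proj.basicOpen (𝒮.deg (V x) (hV x)) (g x) : P.Opens) : Set P))
    (fun x => ((RelProj.emb p chart (V x) (hV x)) ''ᵁ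
      Proj.basicOpen (𝒮.deg (V x) (hV x)) (g x)).2)
    (fun x _ => Set.mem_iUnion.mpr ⟨x, hx x⟩)
  refine ⟨∏ x ∈ t, d x, Finset.prod_pos fun x _ => hd x, fun n hn L lam hL y => ?_⟩
  obtain ⟨x, hxt, hyx⟩ : ∃ x ∈ t, y.1 ∈ (RelProj.emb p chart (V x) (hV x)) ''ᵁ
      Proj.basicOpen (𝒮.deg (V x) (hV x)) (g x) := by
    have := ht y.2
    simp only [Set.mem_iUnion] at this
    obtain ⟨x, hxt, h⟩ := this
    exact ⟨x, hxt, h⟩
  have hdvd : ((d x : ℕ) : ℤ) ∣ n :=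
    (Int.natCast_dvd_natCast.mpr (Finset.dvd_prod_of_mem d hxt)).trans hn
  obtain ⟨k, rfl⟩ := hdvd
  have e : ((d x : ℕ) : ℤ) * k = k * ((d x : ℕ) : ℤ) := mul_comm _ _
  revert lam
  rw [e]
  intro lam hL
  let V₀ : (U : Scheme.{u}).Opens := U.ι ⁻¹ᵁ ((RelProj.emb p chart (V x) (hV x)) ''ᵁ
    Proj.basicOpen (𝒮.deg (V x) (hV x)) (g x))
  have hle : U.ι ''ᵁ V₀ ≤ (RelProj.emb p chart (V x) (hV x)) ''ᵁ
      Proj.basicOpen (𝒮.deg (V x) (hV x)) (g x) := by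
    rintro _ ⟨z, hz, rfl⟩
    exact hz
  obtain ⟨σ, hσ⟩ := exists_freeGen_basicOpen 𝒮 p chart (V x) (hV x) (hg x) k L lam hL _ hle
  exact ⟨V₀, hyx, nonempty_restrict_restrict_iso_unit L U V₀ σ hσ⟩

end Groth.Agent.H41.RelTwistTriv2
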