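import Groth.Agent.H41.RelTwistTriv
import Groth.Agent.H18.SectionHom

/-!
# The structure sheaf of a relative `Proj` is its twisting sheaf `O_P(0)` (helper41)
-/

set_option autoImplicit false
universe u

open CategoryTheory CategoryTheory.Limits AlgebraicGeometry TopologicalSpace Opposite
open scoped HomogeneousIdeal

namespace Groth.Agent.H41.RelTwistZero

open Groth.Agent.H18 Groth.Agent.H41.GrTwistTriv Groth.Agent.H41.RelTwistTriv

section ring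

variable {A σ : Type u} [CommRing A] [SetLike σ A] [AddSubgroupClass σ A] (𝒜 : ℕ → σ) [GradedRing 𝒜]

theorem one_notMem (x : ProjectiveSpectrum 𝒜) : (1 : A) ∉ x.asHomogeneousIdeal := fun h =>
  x.isPrime.ne_top ((Ideal.eq_top_iff_one _).mpr h)

/-- the section `1` of `O(0)` -/
noncomputable def oneTw (V : (Proj 𝒜).Opens) : Γ(GrTwist.twist 𝒜 0, V) :=
  fracTw 𝒜 (SetLike.GradedOne.one_mem : (1 : A) ∈ 𝒜 0) (SetLike.GradedOne.one_mem : (1 : A) ∈ 𝒜 0)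
    (by simp : ((0 : ℕ) : ℤ) = (0 : ℕ) + 0) V (fun x _ => one_notMem 𝒜 x)

theorem bijective_smul_oneTw (V : (Proj 𝒜).Opens) :
    Function.Bijective (fun r : Γ(Proj 𝒜, V) => r • oneTw 𝒜 V) :=
  ⟨smul_fracTw_injective 𝒜 _ _ _ V (fun x _ => one_notMem 𝒜 x) (fun x _ => one_notMem 𝒜 x),
    smul_fracTw_surjective 𝒜 _ _ _ V (fun x _ => one_notMem 𝒜 x) (fun x _ => one_notMem 𝒜 x)⟩

theorem smul_oneTw_val (V : (Proj 𝒜).Opens) (r : Γ(Proj 𝒜, V)) (z : V) :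
    GrTwist.val (r • oneTw 𝒜 V) z = (r.1 z).val := by
  refine (twist_smul_val 𝒜 0 V r (oneTw 𝒜 V) z).trans ?_
  have h1 : ((((oneTw 𝒜 V : Γ(GrTwist.twist 𝒜 0, V)) : GrTwist.sectN (𝒜 := 𝒜) 0 (op V)).1 z :
      GrTwist.twistAt 𝒜 0 z.1) : GrTwist.Loc 𝒜 z.1) = 1 :=
    Localization.mk_self (⟨1, one_notMem 𝒜 z.1⟩ : z.1.asHomogeneousIdeal.toIdeal.primeCompl)
  rw [h1, mul_one]

theorem app_val_congr {X : Scheme.{u}} {a b : Proj 𝒜 ⟶ X} (e : a = b) (W : X.Opens) (s : Γ(X, W))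
    (y : ProjectiveSpectrum 𝒜) (hy : y ∈ a ⁻¹ᵁ W) (hy' : y ∈ b ⁻¹ᵁ W) :
    ((a.app W s : Γ(Proj 𝒜, a ⁻¹ᵁ W)).1 ⟨y, hy⟩) = ((b.app W s : Γ(Proj 𝒜, b ⁻¹ᵁ W)).1 ⟨y, hy'⟩) := by
  subst e
  rfl

end ring

variable {Y P : Scheme.{u}} (𝒮 : RelProj.QCGrAlg Y) (p : P ⟶ Y)
  (chart : ∀ (U : Y.Opens) (hU : IsAffineOpen U),
    (((p ⁻¹ᵁ U : P.Opens) : Scheme.{u}) ≅ Proj (𝒮.deg U hU)))

/-- the chart module for `O(0)` -/
noncomputable abbrev T0 (U : Y.Opens) (hU : IsAffineOpen U) : P.Modules :=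
  (Scheme.Modules.pushforward (RelProj.emb p chart U hU)).obj (GrTwist.twist (𝒮.deg U hU) 0)

/-- the chartwise identification of the structure sheaf with `O(0)` -/
noncomputable def lam0 (U : Y.Opens) (hU : IsAffineOpen U) :
    Coh.structureModule P ⟶ T0 𝒮 p chart U hU :=
  sectionHom (T0 𝒮 p chart U hU) (oneTw (𝒮.deg U hU) ((RelProj.emb p chart U hU) ⁻¹ᵁ ⊤))

theorem lam0_app (U : Y.Opens) (hU : IsAffineOpen U) (W : P.Opens) (f : Γ(P, W)) :
    (lam0 𝒮 p chart U hU).app W f =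
      (((RelProj.emb p chart U hU).app W f : Γ(Proj (𝒮.deg U hU), (RelProj.emb p chart U hU) ⁻¹ᵁ W)) •
        oneTw (𝒮.deg U hU) ((RelProj.emb p chart U hU) ⁻¹ᵁ W) :
        Γ(GrTwist.twist (𝒮.deg U hU) 0, (RelProj.emb p chart U hU) ⁻¹ᵁ W)) := by
  unfold lam0
  rw [sectionHom_app]
  rfl

theorem lam0_val (U : Y.Opens) (hU : IsAffineOpen U) (W : P.Opens) (f : Γ(P, W))
    (z : ↥((RelProj.emb p chart U hU) ⁻¹ᵁ W)) :
    GrTwist.val (V := (RelProj.emb p chart U hU) ⁻¹ᵁ W) ((lam0 𝒮 p chart U hU).app W f) z =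
      (((RelProj.emb p chart U hU).app W f :
        Γ(Proj (𝒮.deg U hU), (RelProj.emb p chart U hU) ⁻¹ᵁ W)).1 z).val := by
  rw [lam0_app]
  exact smul_oneTw_val _ _ _ _

theorem isRelTwist_zero (hP : RelProj.IsRelProj 𝒮 p chart) :
    RelProj.IsRelTwist 𝒮 p chart 0 (Coh.structureModule P) (lam0 𝒮 p chart) where
  bijective U hU W hW := by
    have h1 := bijective_emb_app 𝒮 p chart U hU W hW
    have h2 := bijective_smul_oneTw (𝒮.deg U hU) ((RelProj.emb p chart U hU) ⁻¹ᵁ W)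
    have : ((lam0 𝒮 p chart U hU).app W : Γ(P, W) → _) =
        (fun r : Γ(Proj (𝒮.deg U hU), (RelProj.emb p chart U hU) ⁻¹ᵁ W) =>
          r • oneTw (𝒮.deg U hU) ((RelProj.emb p chart U hU) ⁻¹ᵁ W)) ∘
          ((RelProj.emb p chart U hU).app W : Γ(P, W) → _) := by
      funext f
      exact lam0_app 𝒮 p chart U hU W f
    rw [this]
    exact h2.comp h1
  compat U hU r W s y hy hy' := by
    rw [lam0_val, lam0_val]
    have e := RelProj.map_res_emb hP U hU r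
    have h1 := app_val_congr (𝒮.deg (Y.basicOpen r) (hU.basicOpen r)) e.symm W s y hy hy'
    refine (congrArg HomogeneousLocalization.val h1).trans ?_
    exact (HomogeneousLocalization.val_localRingHom _).trans rfl

end Groth.Agent.H41.RelTwistZero
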