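import Groth.Agent.H41.RelTwistTensor
import Groth.Agent.H41.RelTwistZero
import Groth.Agent.H41.RelTwistTriv2
import Groth.Agent.H5.PullbackTensor
import Groth.Prelude.Def_PicGrp

/-!
# `O_X(n)|U ⊗ O_X(-n)|U ≅ O_U` on quasi-compact opens of a relative `Proj`, `n` divisible enough (helper41)
-/

set_option autoImplicit false
universe u

open CategoryTheory CategoryTheory.Limits AlgebraicGeometry TopologicalSpace Opposite TensorProduct

namespace Groth.Agent.H41.RelTwistNegInv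

open Groth.Agent.H18 Groth.Agent.H18.PUP Groth.Agent.H41.GrTwistTriv Groth.Agent.H41.GrTwistMul
  Groth.Agent.H41.RelTwistTriv Groth.Agent.H41.RelTwistMul Groth.Agent.H41.RelTwistTensor
  Groth.Agent.H41.RelTwistZero

variable {Y P : Scheme.{u}} (𝒮 : RelProj.QCGrAlg Y) (p : P ⟶ Y)
  (chart : ∀ (U : Y.Opens) (hU : IsAffineOpen U),
    (((p ⁻¹ᵁ U : P.Opens) : Scheme.{u}) ≅ Proj (𝒮.deg U hU)))
  (hP : RelProj.IsRelProj 𝒮 p chart)

include hP in
/-- the multiplication, with the target twist given up to equality of the index, valuewise -/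
theorem exists_mul_val (m n k : ℤ) (hk : k = m + n) {L L' L'' : P.Modules}
    (lam : ∀ (U : Y.Opens) (hU : IsAffineOpen U),
      L ⟶ (Scheme.Modules.pushforward (RelProj.emb p chart U hU)).obj (GrTwist.twist (𝒮.deg U hU) m))
    (hL : RelProj.IsRelTwist 𝒮 p chart m L lam)
    (lam' : ∀ (U : Y.Opens) (hU : IsAffineOpen U),
      L' ⟶ (Scheme.Modules.pushforward (RelProj.emb p chart U hU)).obj (GrTwist.twist (𝒮.deg U hU) n))
    (hL' : RelProj.IsRelTwist 𝒮 p chart n L' lam')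
    (lam'' : ∀ (U : Y.Opens) (hU : IsAffineOpen U),
      L'' ⟶ (Scheme.Modules.pushforward (RelProj.emb p chart U hU)).obj
        (GrTwist.twist (𝒮.deg U hU) k))
    (hL'' : RelProj.IsRelTwist 𝒮 p chart k L'' lam'') :
    ∃ μ : CohB1.tensorMod L L' ⟶ L'', ∀ (U : Y.Opens) (hU : IsAffineOpen U) (W : P.Opens)
      (a : Γ(L, W)) (b : Γ(L', W)) (z : ↥((RelProj.emb p chart U hU) ⁻¹ᵁ W)),
      GrTwist.val (V := (RelProj.emb p chart U hU) ⁻¹ᵁ W)
          ((lam'' U hU).app W (μ.app W (SecTwist.tmul L L' W a b))) z =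
        GrTwist.val (V := (RelProj.emb p chart U hU) ⁻¹ᵁ W) ((lam U hU).app W a) z *
          GrTwist.val (V := (RelProj.emb p chart U hU) ⁻¹ᵁ W) ((lam' U hU).app W b) z := by
  subst hk
  obtain ⟨μ, hμ⟩ := exists_mul 𝒮 p chart hP m n lam hL lam' hL' lam'' hL''
  refine ⟨μ, fun U hU W a b z => ?_⟩
  have h2 := congrArg (fun f : CohB1.tensorMod L L' ⟶ T 𝒮 p chart m n U hU =>
    (Scheme.Modules.Hom.app f W) (SecTwist.tmul L L' W a b)) (hμ U hU)
  have h3 : (lam'' U hU).app W (μ.app W (SecTwist.tmul L L' W a b)) =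
      RelTwistMul.pair 𝒮 p chart m n lam lam' U hU W a b :=
    h2.trans (chi_tmul 𝒮 p chart m n lam lam' U hU W a b)
  rw [h3]
  rfl

/-- Over the image of `D₊(g)`, `deg g = d`, a multiplication `O(dk) ⊗ O(-dk) ⟶ O` is bijective on sections. -/
theorem bijective_mul_app (U : Y.Opens) (hU : IsAffineOpen U) {d : ℕ}
    {g : 𝒮.presheaf.obj (op U)} (hg : g ∈ 𝒮.deg U hU d) (k : ℤ) {L L' : P.Modules}
    (lam : ∀ (U : Y.Opens) (hU : IsAffineOpen U),
      L ⟶ (Scheme.Modules.pushforward (RelProj.emb p chart U hU)).obj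
        (GrTwist.twist (𝒮.deg U hU) ((d : ℤ) * k)))
    (hL : RelProj.IsRelTwist 𝒮 p chart ((d : ℤ) * k) L lam)
    (lam' : ∀ (U : Y.Opens) (hU : IsAffineOpen U),
      L' ⟶ (Scheme.Modules.pushforward (RelProj.emb p chart U hU)).obj
        (GrTwist.twist (𝒮.deg U hU) (-((d : ℤ) * k))))
    (hL' : RelProj.IsRelTwist 𝒮 p chart (-((d : ℤ) * k)) L' lam')
    (μ : CohB1.tensorMod L L' ⟶ Coh.structureModule P)
    (hμ : ∀ (U : Y.Opens) (hU : IsAffineOpen U) (W : P.Opens)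
      (a : Γ(L, W)) (b : Γ(L', W)) (z : ↥((RelProj.emb p chart U hU) ⁻¹ᵁ W)),
      GrTwist.val (V := (RelProj.emb p chart U hU) ⁻¹ᵁ W)
          ((lam0 𝒮 p chart U hU).app W (μ.app W (SecTwist.tmul L L' W a b))) z =
        GrTwist.val (V := (RelProj.emb p chart U hU) ⁻¹ᵁ W) ((lam U hU).app W a) z *
          GrTwist.val (V := (RelProj.emb p chart U hU) ⁻¹ᵁ W) ((lam' U hU).app W b) z)
    (hP : RelProj.IsRelProj 𝒮 p chart)
    (V' : P.Opens) (hV' : V' ≤ (RelProj.emb p chart U hU) ''ᵁ Proj.basicOpen (𝒮.deg U hU) g) :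
    Function.Bijective (μ.app V') := by
  have hga : g ^ k.toNat ∈ 𝒮.deg U hU (k.toNat • d) := SetLike.pow_mem_graded _ hg
  have hgb : g ^ (-k).toNat ∈ 𝒮.deg U hU ((-k).toNat • d) := SetLike.pow_mem_graded _ hg
  have hsub := Int.toNat_sub_toNat_neg k
  have he : ((k.toNat • d : ℕ) : ℤ) = ((-k).toNat • d : ℕ) + (d : ℤ) * k := by
    simp only [smul_eq_mul]
    push_cast
    linear_combination (d : ℤ) * hsub
  have he' : (((-k).toNat • d : ℕ) : ℤ) = (k.toNat • d : ℕ) + -((d : ℤ) * k) := by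
    simp only [smul_eq_mul]
    push_cast
    linear_combination -(d : ℤ) * hsub
  have hWU : (RelProj.emb p chart U hU) ''ᵁ Proj.basicOpen (𝒮.deg U hU) g ≤ p ⁻¹ᵁ U := by
    rw [← opensRange_emb 𝒮 p chart U hU]
    exact Scheme.Hom.image_le_opensRange _ _
  have hpre : ∀ z : ProjectiveSpectrum (𝒮.deg U hU),
      z ∈ (RelProj.emb p chart U hU) ⁻¹ᵁ
        ((RelProj.emb p chart U hU) ''ᵁ Proj.basicOpen (𝒮.deg U hU) g) →
      g ∉ z.asHomogeneousIdeal := by
    intro z hz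
    obtain ⟨z', hz', e'⟩ := hz
    have : z' = z := (RelProj.emb p chart U hU).isOpenEmbedding.injective e'
    rw [← this]
    exact (Proj.mem_basicOpen _ _ _).mp hz'
  have hpow : ∀ l : ℕ, ∀ z : ProjectiveSpectrum (𝒮.deg U hU),
      z ∈ (RelProj.emb p chart U hU) ⁻¹ᵁ
        ((RelProj.emb p chart U hU) ''ᵁ Proj.basicOpen (𝒮.deg U hU) g) →
      g ^ l ∉ z.asHomogeneousIdeal := fun l z hz hl =>
    hpre z hz (z.isPrime.mem_of_pow_mem l hl)
  have hpow2 : ∀ l l' : ℕ, ∀ z : ProjectiveSpectrum (𝒮.deg U hU),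
      z ∈ (RelProj.emb p chart U hU) ⁻¹ᵁ
        ((RelProj.emb p chart U hU) ''ᵁ Proj.basicOpen (𝒮.deg U hU) g) →
      g ^ l * g ^ l' ∉ z.asHomogeneousIdeal := fun l l' z hz hll =>
    (z.isPrime.mem_or_mem hll).elim (hpow l z hz) (hpow l' z hz)
  obtain ⟨σ, hσ⟩ := exists_section 𝒮 p chart _ L lam hL U hU hga hgb he _ hWU (hpow _)
  obtain ⟨σ', hσ'⟩ := exists_section 𝒮 p chart _ L' lam' hL' U hU hgb hga he' _ hWU (hpow _)
  have hb : IsBasisOn L _ σ := fun V hV =>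
    bijective_smul_of_lam_eq 𝒮 p chart _ L lam hL U hU hga hgb he _ hWU (hpow _) (hpow _)
      σ hσ V hV
  have hb' : IsBasisOn L' _ σ' := fun V hV =>
    bijective_smul_of_lam_eq 𝒮 p chart _ L' lam' hL' U hU hgb hga he' _ hWU (hpow _) (hpow _)
      σ' hσ' V hV
  have h1 : (lam0 𝒮 p chart U hU).app _ (μ.app _ (SecTwist.tmul L L' _ σ σ')) =
      fracTw (𝒮.deg U hU) (SetLike.mul_mem_graded hga hgb) (SetLike.mul_mem_graded hgb hga)
        (by push_cast; ring :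
          ((k.toNat • d + (-k).toNat • d : ℕ) : ℤ) = ((-k).toNat • d + k.toNat • d : ℕ) + 0)
        ((RelProj.emb p chart U hU) ⁻¹ᵁ
          ((RelProj.emb p chart U hU) ''ᵁ Proj.basicOpen (𝒮.deg U hU) g)) (hpow2 _ _) := by
    apply GrTwistTriv.twist_sect_ext
    intro z
    refine (hμ U hU _ σ σ' z).trans ?_
    rw [hσ, hσ']
    exact Localization.mk_mul _ _ _ _
  have hbu : IsBasisOn (Coh.structureModule P) _ (μ.app _ (SecTwist.tmul L L' _ σ σ')) :=
    fun V hV =>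
      bijective_smul_of_lam_eq 𝒮 p chart 0 (Coh.structureModule P) (lam0 𝒮 p chart)
        (isRelTwist_zero 𝒮 p chart hP) U hU
        (SetLike.mul_mem_graded hga hgb) (SetLike.mul_mem_graded hgb hga) _ _ hWU
        (hpow2 _ _) (hpow2 _ _) _ h1 V hV
  exact IsoOfBases.bijective_app_of_isBasisOn μ (STL.isBasisOn_tmul hb hb') hbu V' hV'

include hP in
/-- On a quasi-compact open `U` of a relative `Proj`, `O(n)|U ⊗ O(-n)|U ≅ O_U` for `n` divisible enough. -/
theorem exists_period_tensor_neg (U : P.Opens) (hU : IsCompact (U : Set P)) :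
    ∃ d : ℕ, 0 < d ∧ ∀ (n : ℤ), (d : ℤ) ∣ n →
      ∀ (L : P.Modules)
        (lam : ∀ (V : Y.Opens) (hV : IsAffineOpen V),
          L ⟶ (Scheme.Modules.pushforward (RelProj.emb p chart V hV)).obj
            (GrTwist.twist (𝒮.deg V hV) n)),
        RelProj.IsRelTwist 𝒮 p chart n L lam →
      ∀ (L' : P.Modules)
        (lam' : ∀ (V : Y.Opens) (hV : IsAffineOpen V),
          L' ⟶ (Scheme.Modules.pushforward (RelProj.emb p chart V hV)).obj
            (GrTwist.twist (𝒮.deg V hV) (-n))),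
        RelProj.IsRelTwist 𝒮 p chart (-n) L' lam' →
          Nonempty (CohB1.tensorMod (L.restrict U.ι) (L'.restrict U.ι) ≅
            Coh.structureModule (U : Scheme.{u})) := by
  have hex : ∀ x : P, ∃ (V : Y.Opens) (hV : IsAffineOpen V) (d : ℕ) (g : 𝒮.presheaf.obj (op V)),
      0 < d ∧ g ∈ 𝒮.deg V hV d ∧
        x ∈ (RelProj.emb p chart V hV) ''ᵁ Proj.basicOpen (𝒮.deg V hV) g := by
    intro x
    obtain ⟨_, ⟨V, hV : IsAffineOpen V, rfl⟩, hxV, -⟩ :=
      Y.isBasis_affineOpens.exists_subset_of_mem_open (show p x ∈ (⊤ : Y.Opens) from trivial)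
        (⊤ : Y.Opens).2
    have hx : x ∈ p ⁻¹ᵁ V := hxV
    obtain ⟨d, g, hd, hg, hgx⟩ := Groth.Agent.H41.RelPMap4.exists_pos_homogeneous_notMem
      ((chart V hV).hom ⟨x, hx⟩)
    exact ⟨V, hV, d, g, hd, hg, (chart V hV).hom ⟨x, hx⟩, (Proj.mem_basicOpen _ _ _).mpr hgx,
      Groth.Agent.H41.RelPMap2.emb_chart_apply p chart V hV x hx⟩
  choose V hV d g hd hg hx using hex
  obtain ⟨t, ht⟩ := hU.elim_finite_subcover
    (fun x : P => (((RelProj.emb p chart (V x) (hV x)) ''ᵁ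
      Proj.basicOpen (𝒮.deg (V x) (hV x)) (g x) : P.Opens) : Set P))
    (fun x => ((RelProj.emb p chart (V x) (hV x)) ''ᵁ
      Proj.basicOpen (𝒮.deg (V x) (hV x)) (g x)).2)
    (fun x _ => Set.mem_iUnion.mpr ⟨x, hx x⟩)
  refine ⟨∏ x ∈ t, d x, Finset.prod_pos fun x _ => hd x, fun n hn L lam hL L' lam' hL' => ?_⟩
  obtain ⟨μ, hμ⟩ := exists_mul_val 𝒮 p chart hP n (-n) 0 (by ring) lam hL lam' hL'
    (lam0 𝒮 p chart) (isRelTwist_zero 𝒮 p chart hP)
  -- local bijectivity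
  have hloc : ∀ y : P, y ∈ U → ∃ W : P.Opens, y ∈ W ∧
      ∀ V' : P.Opens, V' ≤ W → Function.Bijective (μ.app V') := by
    intro y hy
    obtain ⟨x, hxt, hyx⟩ : ∃ x ∈ t, y ∈ (RelProj.emb p chart (V x) (hV x)) ''ᵁ
        Proj.basicOpen (𝒮.deg (V x) (hV x)) (g x) := by
      have := ht hy
      simp only [Set.mem_iUnion] at this
      obtain ⟨x, hxt, h⟩ := this
      exact ⟨x, hxt, h⟩
    have hdvd : ((d x : ℕ) : ℤ) ∣ n :=
      (Int.natCast_dvd_natCast.mpr (Finset.dvd_prod_of_mem d hxt)).trans hn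
    obtain ⟨k, rfl⟩ := hdvd
    exact ⟨_, hyx, fun V' hV' =>
      bijective_mul_app 𝒮 p chart (V x) (hV x) (hg x) k lam hL lam' hL' μ hμ hP V' hV'⟩
  -- the restriction of `μ` to `U` is an isomorphism
  have hiso : IsIso ((Scheme.Modules.restrictFunctor U.ι).map μ) := by
    refine Groth.Agent.H67.UnitIso.isIso_of_isIso_restrict _ fun y => ?_
    obtain ⟨W, hyW, hW⟩ := hloc y.1 y.2
    refine ⟨U.ι ⁻¹ᵁ W, hyW, ?_⟩
    rw [Groth.Agent.H67.GenLocusAffine.isIso_restrict_iff]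
    intro W' hW'
    have hle : U.ι ''ᵁ W' ≤ W := by
      rintro _ ⟨z, hz, rfl⟩
      exact hW' hz
    exact hW (U.ι ''ᵁ W') hle
  exact ⟨PicGrp.tensorModIso ((Scheme.Modules.restrictFunctorIsoPullback U.ι).app L)
      ((Scheme.Modules.restrictFunctorIsoPullback U.ι).app L') ≪≫
    (Groth.Agent.H5.PullbackTensor.pullbackTensorIso U.ι L L').symm ≪≫
    ((Scheme.Modules.restrictFunctorIsoPullback U.ι).app (CohB1.tensorMod L L')).symm ≪≫
    asIso ((Scheme.Modules.restrictFunctor U.ι).map μ) ≪≫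
    Scheme.Modules.restrictUnitIso U.ι⟩

end Groth.Agent.H41.RelTwistNegInv
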