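import Groth.Agent.S8343
import Groth.Agent.H41.IsoOfBases
import Groth.Agent.H41.RelTwistInv
import Groth.Agent.H67.PullBasis

/-!
# `h^* O_{Proj 𝒜}(n) ≅ O_{Proj ℬ}(n)` for `𝒜` generated in degree one (helper41)
-/

set_option autoImplicit false
universe u

open CategoryTheory CategoryTheory.Limits AlgebraicGeometry TopologicalSpace Opposite
open scoped HomogeneousIdeal

namespace Groth.Agent.H41.RelTwistPullSurj

open Groth.Agent.H18 Groth.Agent.H18.PUP Groth.Agent.H41.RelTwistTriv Groth.Agent.H41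
open Groth.Agent.H77.RelTwistMap

variable {Y PA PB : Scheme.{u}} {𝒜 ℬ : RelProj.QCGrAlg Y}
    (φ : 𝒜.toQCAlg ⟶ ℬ.toQCAlg) (hφ : RelProj.IsGradedHom φ) (hgen : 𝒜.IsGenDegOne)
    (hirr : ∀ (U : Y.Opens) (hU : IsAffineOpen U),
      (ℬ.deg U hU)₊ ≤ ((𝒜.deg U hU)₊).map (RelProj.gradedHomAt φ hφ U hU))
    (pA : PA ⟶ Y) (pB : PB ⟶ Y)
    (chartA : ∀ (U : Y.Opens) (hU : IsAffineOpen U),
      (((pA ⁻¹ᵁ U : PA.Opens) : Scheme.{u}) ≅ Proj (𝒜.deg U hU)))
    (chartB : ∀ (U : Y.Opens) (hU : IsAffineOpen U),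
      (((pB ⁻¹ᵁ U : PB.Opens) : Scheme.{u}) ≅ Proj (ℬ.deg U hU)))
    (hA : RelProj.IsRelProj 𝒜 pA chartA) (hB : RelProj.IsRelProj ℬ pB chartB)
    (h : PB ⟶ PA) (hh : RelProj.IsRelProjMap φ hφ hirr chartA chartB h) (n : ℤ)
    (LA : PA.Modules)
    (lamA : ∀ (U : Y.Opens) (hU : IsAffineOpen U),
      LA ⟶ (Scheme.Modules.pushforward (RelProj.emb pA chartA U hU)).obj
        (GrTwist.twist (𝒜.deg U hU) n))
    (hLA : RelProj.IsRelTwist 𝒜 pA chartA n LA lamA)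
    (LB : PB.Modules)
    (lamB : ∀ (U : Y.Opens) (hU : IsAffineOpen U),
      LB ⟶ (Scheme.Modules.pushforward (RelProj.emb pB chartB U hU)).obj
        (GrTwist.twist (ℬ.deg U hU) n))
    (hLB : RelProj.IsRelTwist ℬ pB chartB n LB lamB)

include hgen hA hB hh hLA hLB in
theorem nonempty_pullback_iso : Nonempty ((Scheme.Modules.pullback h).obj LA ≅ LB) := by
  obtain ⟨θ, hθ, -⟩ := Groth.Agent.S8343.result φ hφ hirr pA pB chartA chartB hA hB h hh n
    LA lamA hLA LB lamB hLB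
  set adj := Scheme.Modules.pullbackPushforwardAdjunction h with hadj
  set ψ := (adj.homEquiv LA LB).symm θ with hψ
  have hθψ : θ = adj.unit.app LA ≫ (Scheme.Modules.pushforward h).map ψ := by
    have h1 := adj.homEquiv_unit (X := LA) (Y := LB) (f := ψ)
    rw [← h1, hψ, Equiv.apply_symm_apply]
  suffices hiso : IsIso ψ from ⟨asIso ψ⟩
  refine IsoOfBases.isIso_of_local_bases ψ fun x => ?_
  -- an affine open around the image of `x`
  obtain ⟨_, ⟨U, hU : IsAffineOpen U, rfl⟩, hxU', -⟩ :=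
    Y.isBasis_affineOpens.exists_subset_of_mem_open (show pB x ∈ (⊤ : Y.Opens) from trivial)
      (⊤ : Y.Opens).2
  have hxU : x ∈ pB ⁻¹ᵁ U := hxU'
  -- a degree one element not vanishing at the image point
  obtain ⟨g, hg1, hgx⟩ := Groth.Agent.H41.GenDegOne.exists_degOne_notMem (hgen U hU)
    (ProjectiveSpectrum.comap (RelProj.gradedHomAt φ hφ U hU) (hirr U hU)
      ((chartB U hU).hom ⟨x, hxU⟩))
  -- the fraction `g ^ a / g ^ b`, `a - b = n`
  have hga : g ^ n.toNat ∈ 𝒜.deg U hU (n.toNat • 1) := SetLike.pow_mem_graded _ hg1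
  have hgb : g ^ (-n).toNat ∈ 𝒜.deg U hU ((-n).toNat • 1) := SetLike.pow_mem_graded _ hg1
  have he : ((n.toNat • 1 : ℕ) : ℤ) = ((-n).toNat • 1 : ℕ) + n := by
    simp only [smul_eq_mul, mul_one]
    omega
  -- the open of `PA`
  have hWAU : (RelProj.emb pA chartA U hU) ''ᵁ Proj.basicOpen (𝒜.deg U hU) g ≤ pA ⁻¹ᵁ U := by
    rw [← opensRange_emb 𝒜 pA chartA U hU]
    exact Scheme.Hom.image_le_opensRange _ _
  have hpreA : ∀ z : ProjectiveSpectrum (𝒜.deg U hU),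
      z ∈ (RelProj.emb pA chartA U hU) ⁻¹ᵁ
        ((RelProj.emb pA chartA U hU) ''ᵁ Proj.basicOpen (𝒜.deg U hU) g) →
      g ∉ z.asHomogeneousIdeal := by
    intro z hz
    obtain ⟨z', hz', e'⟩ := hz
    have : z' = z := (RelProj.emb pA chartA U hU).isOpenEmbedding.injective e'
    rw [← this]
    exact (Proj.mem_basicOpen _ _ _).mp hz'
  have hpowA : ∀ m : ℕ, ∀ z : ProjectiveSpectrum (𝒜.deg U hU),
      z ∈ (RelProj.emb pA chartA U hU) ⁻¹ᵁ
        ((RelProj.emb pA chartA U hU) ''ᵁ Proj.basicOpen (𝒜.deg U hU) g) →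
      g ^ m ∉ z.asHomogeneousIdeal := fun m z hz hm =>
    hpreA z hz (z.isPrime.mem_of_pow_mem m hm)
  obtain ⟨σA, hσA⟩ := exists_section 𝒜 pA chartA n LA lamA hLA U hU hga hgb he _ hWAU
    (hpowA _)
  have hbA : IsBasisOn LA _ σA := fun V hV =>
    bijective_smul_of_lam_eq 𝒜 pA chartA n LA lamA hLA U hU hga hgb he _ hWAU (hpowA _) (hpowA _)
      σA hσA V hV
  -- the pulled back basis
  have hbP := Groth.Agent.H67.PullBasis.isBasisOn_pullSect h LA _ σA hbA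
  -- the open of `PB`
  have hWBle : h ⁻¹ᵁ ((RelProj.emb pA chartA U hU) ''ᵁ Proj.basicOpen (𝒜.deg U hU) g) ≤
      pB ⁻¹ᵁ U := by
    rw [← Groth.Agent.H41.RelProj.relProjMap_preimage φ hφ hirr chartA chartB hA hB h hh U]
    exact fun z hz => hWAU hz
  have hpreB : ∀ z : ProjectiveSpectrum (ℬ.deg U hU),
      z ∈ (RelProj.emb pB chartB U hU) ⁻¹ᵁ
        (h ⁻¹ᵁ ((RelProj.emb pA chartA U hU) ''ᵁ Proj.basicOpen (𝒜.deg U hU) g)) →
      g ∉ (ProjectiveSpectrum.comap (RelProj.gradedHomAt φ hφ U hU) (hirr U hU)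
        z).asHomogeneousIdeal := by
    intro z hz
    exact hpreA _ ((embB_mem_iff φ hφ hirr pA pB chartA chartB h hh U hU
      ((RelProj.emb pA chartA U hU) ''ᵁ Proj.basicOpen (𝒜.deg U hU) g) z).mp hz)
  have hpowB : ∀ m : ℕ, ∀ z : ProjectiveSpectrum (ℬ.deg U hU),
      z ∈ (RelProj.emb pB chartB U hU) ⁻¹ᵁ
        (h ⁻¹ᵁ ((RelProj.emb pA chartA U hU) ''ᵁ Proj.basicOpen (𝒜.deg U hU) g)) →
      RelProj.gradedHomAt φ hφ U hU (g ^ m) ∉ z.asHomogeneousIdeal := by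
    intro m z hz hm
    have h1 : g ^ m ∈ (ProjectiveSpectrum.comap (RelProj.gradedHomAt φ hφ U hU) (hirr U hU)
        z).asHomogeneousIdeal := hm
    exact hpreB z hz ((ProjectiveSpectrum.comap (RelProj.gradedHomAt φ hφ U hU) (hirr U hU)
      z).isPrime.mem_of_pow_mem m h1)
  have hxWB : x ∈ h ⁻¹ᵁ ((RelProj.emb pA chartA U hU) ''ᵁ Proj.basicOpen (𝒜.deg U hU) g) := by
    have h1 := (embB_mem_iff φ hφ hirr pA pB chartA chartB h hh U hU
      ((RelProj.emb pA chartA U hU) ''ᵁ Proj.basicOpen (𝒜.deg U hU) g)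
      ((chartB U hU).hom ⟨x, hxU⟩)).mpr
      ⟨_, (Proj.mem_basicOpen _ _ _).mpr hgx, rfl⟩
    rwa [RelPMap2.emb_chart_apply pB chartB U hU x hxU] at h1
  -- the image of the basis
  have hσB : (lamB U hU).app _ (θ.app _ σA) =
      GrTwistTriv.fracTw (ℬ.deg U hU) ((RelProj.gradedHomAt φ hφ U hU).map_mem hga)
        ((RelProj.gradedHomAt φ hφ U hU).map_mem hgb) he
        ((RelProj.emb pB chartB U hU) ⁻¹ᵁ
          (h ⁻¹ᵁ ((RelProj.emb pA chartA U hU) ''ᵁ Proj.basicOpen (𝒜.deg U hU) g)))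
        (hpowB _) := by
    apply GrTwistTriv.twist_sect_ext
    intro z
    have h1 := hθ U hU _ σA z.1 z.2
      ((embB_mem_iff φ hφ hirr pA pB chartA chartB h hh U hU
        ((RelProj.emb pA chartA U hU) ''ᵁ Proj.basicOpen (𝒜.deg U hU) g) z.1).mp z.2)
    refine h1.trans ?_
    rw [hσA]
    exact GrTwist.locMap_mk _ _ _ _ _
  have hbB : IsBasisOn LB _ (θ.app _ σA) := fun V hV =>
    bijective_smul_of_lam_eq ℬ pB chartB n LB lamB hLB U hU
      ((RelProj.gradedHomAt φ hφ U hU).map_mem hga) ((RelProj.gradedHomAt φ hφ U hU).map_mem hgb)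
      he _ hWBle (hpowB _) (hpowB _) (θ.app _ σA) hσB V hV
  refine ⟨_, OmegaSh.pullSect h LA _ σA, hxWB, hbP, ?_⟩
  have hu : ψ.app _ (OmegaSh.pullSect h LA _ σA) = θ.app _ σA := by
    rw [hθψ]
    rfl
  rw [hu]
  exact hbB

end Groth.Agent.H41.RelTwistPullSurj
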