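import Groth.Agent.H41.RelTwistMul
import Groth.Agent.H41.IsoOfBases
import Groth.Agent.H41.RelTwistInv
import Groth.Agent.H77.RelGlue
import Groth.Agent.H77.RelTildeGlue

/-!
# The multiplication `O_P(m) ⊗ O_P(n) ⟶ O_P(m + n)` on a relative `Proj` (helper41)
-/

set_option autoImplicit false
universe u

open CategoryTheory CategoryTheory.Limits AlgebraicGeometry TopologicalSpace Opposite TensorProduct

namespace Groth.Agent.H41.RelTwistTensor

open Groth.Agent.H18 Groth.Agent.H18.PUP Groth.Agent.H41.GrTwistTriv Groth.Agent.H41.GrTwistMul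
  Groth.Agent.H41.RelTwistTriv Groth.Agent.H41.RelTwistMul

variable {Y P : Scheme.{u}} (𝒮 : RelProj.QCGrAlg Y) (p : P ⟶ Y)
  (chart : ∀ (U : Y.Opens) (hU : IsAffineOpen U),
    (((p ⁻¹ᵁ U : P.Opens) : Scheme.{u}) ≅ Proj (𝒮.deg U hU)))
  (hP : RelProj.IsRelProj 𝒮 p chart)
  (m n : ℤ) {L L' L'' : P.Modules}
  (lam : ∀ (U : Y.Opens) (hU : IsAffineOpen U),
    L ⟶ (Scheme.Modules.pushforward (RelProj.emb p chart U hU)).obj (GrTwist.twist (𝒮.deg U hU) m))
  (hL : RelProj.IsRelTwist 𝒮 p chart m L lam)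
  (lam' : ∀ (U : Y.Opens) (hU : IsAffineOpen U),
    L' ⟶ (Scheme.Modules.pushforward (RelProj.emb p chart U hU)).obj (GrTwist.twist (𝒮.deg U hU) n))
  (hL' : RelProj.IsRelTwist 𝒮 p chart n L' lam')
  (lam'' : ∀ (U : Y.Opens) (hU : IsAffineOpen U),
    L'' ⟶ (Scheme.Modules.pushforward (RelProj.emb p chart U hU)).obj
      (GrTwist.twist (𝒮.deg U hU) (m + n)))
  (hL'' : RelProj.IsRelTwist 𝒮 p chart (m + n) L'' lam'')

include hP hL hL' hL'' in
/-- compatibility of the chartwise products with restriction to a basic open, on pure tensors -/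
theorem pair_basicOpen (U : Y.Opens) (hU : IsAffineOpen U) (r : Γ(Y, U)) (W : P.Opens)
    (a : Γ(L, W)) (b : Γ(L', W)) (t : Γ(L'', W))
    (h : (lam'' U hU).app W t = RelTwistMul.pair 𝒮 p chart m n lam lam' U hU W a b) :
    (lam'' (Y.basicOpen r) (hU.basicOpen r)).app W t =
      RelTwistMul.pair 𝒮 p chart m n lam lam' (Y.basicOpen r) (hU.basicOpen r) W a b := by
  apply twist_sect_ext
  intro y
  have hy' := Groth.Agent.H77.RelTildeGlue.emb_comap_mem 𝒮 p chart hP U hU r W y.1 y.2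
  have c'' := hL''.compat U hU r W t y.1 y.2 hy'
  have c := hL.compat U hU r W a y.1 y.2 hy'
  have c' := hL'.compat U hU r W b y.1 y.2 hy'
  refine c''.trans ?_
  rw [h]
  unfold RelTwistMul.pair
  rw [mulSect_val, map_mul, ← c, ← c']
  rfl

include hP hL hL' hL'' in
/-- compatibility of the chartwise products with restriction to a basic open -/
theorem chi_basicOpen (U : Y.Opens) (hU : IsAffineOpen U) (r : Γ(Y, U)) (W : P.Opens)
    (hW : W ≤ p ⁻¹ᵁ (Y.basicOpen r))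
    (s : Γ(CohB1.tensorMod L L', W)) (t : Γ(L'', W))
    (h : (lam'' U hU).app W t = (chi 𝒮 p chart m n lam lam' U hU).app W s) :
    (lam'' (Y.basicOpen r) (hU.basicOpen r)).app W t =
      (chi 𝒮 p chart m n lam lam' (Y.basicOpen r) (hU.basicOpen r)).app W s := by
  have hWU : W ≤ p ⁻¹ᵁ U := hW.trans (p.preimage_mono (Y.basicOpen_le r))
  refine Groth.Agent.H18.modules_eq_of_locally_eq _ _ _ fun x hx => ?_
  obtain ⟨W', hW', hxW', z, hz⟩ := STL.tmulLin_locally_surjective L L' W s x hx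
  refine ⟨W', hW', hxW', ?_⟩
  have key : ∀ (z : Γ(L, W') ⊗[Γ(P, W')] Γ(L', W')) (t' : Γ(L'', W')),
      (lam'' U hU).app W' t' = (chi 𝒮 p chart m n lam lam' U hU).app W' (STL.tmulLin L L' W' z) →
      (lam'' (Y.basicOpen r) (hU.basicOpen r)).app W' t' =
        (chi 𝒮 p chart m n lam lam' (Y.basicOpen r) (hU.basicOpen r)).app W'
          (STL.tmulLin L L' W' z) := by
    intro z
    induction z using TensorProduct.induction_on with
    | zero =>
      intro t' ht'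
      rw [map_zero, map_zero] at ht' ⊢
      have : t' = 0 := (hL''.bijective U hU W' (hW'.trans hWU)).1 (ht'.trans (map_zero _).symm)
      rw [this, map_zero]
    | tmul a b =>
      intro t' ht'
      rw [← STL.tmul_eq, chi_tmul] at ht' ⊢
      exact pair_basicOpen 𝒮 p chart hP m n lam hL lam' hL' lam'' hL'' U hU r W' a b t' ht'
    | add z₁ z₂ h₁ h₂ =>
      intro t' ht'
      obtain ⟨t₁, ht₁⟩ := (hL''.bijective U hU W' (hW'.trans hWU)).2
        ((chi 𝒮 p chart m n lam lam' U hU).app W' (STL.tmulLin L L' W' z₁))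
      obtain ⟨t₂, ht₂⟩ := (hL''.bijective U hU W' (hW'.trans hWU)).2
        ((chi 𝒮 p chart m n lam lam' U hU).app W' (STL.tmulLin L L' W' z₂))
      have : t' = t₁ + t₂ := (hL''.bijective U hU W' (hW'.trans hWU)).1 (by
        rw [ht', map_add, map_add, map_add, ht₁, ht₂])
      rw [this, map_add, map_add, map_add, h₁ t₁ ht₁, h₂ t₂ ht₂]
  have h1 := key z (mres L'' hW' t) (by
    rw [RelTwistTriv.app_mres, h, ← RelTwistTriv.app_mres, hz])
  rw [← RelTwistTriv.app_mres, ← RelTwistTriv.app_mres, h1, hz]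

include hP hL hL' hL'' in
/-- the multiplication `O_P(m) ⊗ O_P(n) ⟶ O_P(m + n)` -/
theorem exists_mul : ∃ μ : CohB1.tensorMod L L' ⟶ L'', ∀ (U : Y.Opens) (hU : IsAffineOpen U),
    μ ≫ lam'' U hU = chi 𝒮 p chart m n lam lam' U hU := by
  have key := Groth.Agent.H77.RelGlue.existsUnique_glue p (fun _ _ => CohB1.tensorMod L L')
    (fun U hU => T 𝒮 p chart m n U hU) (fun U hU => chi 𝒮 p chart m n lam lam' U hU)
    (fun _ _ => 𝟙 _) lam'' hL''.bijective
    (fun U hU r W hW s t hrel =>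
      chi_basicOpen 𝒮 p chart hP m n lam hL lam' hL' lam'' hL'' U hU r W hW s t hrel)
    (fun U hU W => Groth.Agent.H77.RelTildeGlue.mres_pushforward_injective 𝒮 p chart U hU _ W)
  obtain ⟨μ, hμ, -⟩ := key
  exact ⟨μ, fun U hU => by rw [hμ U hU, Category.id_comp]⟩

include hP hL hL' hL'' in
/-- If `𝒮` is generated in degree one, `O_P(m) ⊗ O_P(n) ≅ O_P(m + n)`. -/
theorem nonempty_tensor_iso (hgen : 𝒮.IsGenDegOne) : Nonempty (CohB1.tensorMod L L' ≅ L'') := by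
  obtain ⟨μ, hμ⟩ := exists_mul 𝒮 p chart hP m n lam hL lam' hL' lam'' hL''
  suffices hiso : IsIso μ from ⟨asIso μ⟩
  refine IsoOfBases.isIso_of_local_bases μ fun x => ?_
  obtain ⟨_, ⟨U, hU : IsAffineOpen U, rfl⟩, hxU', -⟩ :=
    Y.isBasis_affineOpens.exists_subset_of_mem_open (show p x ∈ (⊤ : Y.Opens) from trivial)
      (⊤ : Y.Opens).2
  have hxU : x ∈ p ⁻¹ᵁ U := hxU'
  obtain ⟨g, hg1, hgx⟩ := Groth.Agent.H41.GenDegOne.exists_degOne_notMem (hgen U hU)
    ((chart U hU).hom ⟨x, hxU⟩)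
  have hga : g ^ m.toNat ∈ 𝒮.deg U hU (m.toNat • 1) := SetLike.pow_mem_graded _ hg1
  have hgb : g ^ (-m).toNat ∈ 𝒮.deg U hU ((-m).toNat • 1) := SetLike.pow_mem_graded _ hg1
  have he : ((m.toNat • 1 : ℕ) : ℤ) = ((-m).toNat • 1 : ℕ) + m := by
    simp only [smul_eq_mul, mul_one]
    omega
  have hga' : g ^ n.toNat ∈ 𝒮.deg U hU (n.toNat • 1) := SetLike.pow_mem_graded _ hg1
  have hgb' : g ^ (-n).toNat ∈ 𝒮.deg U hU ((-n).toNat • 1) := SetLike.pow_mem_graded _ hg1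
  have he' : ((n.toNat • 1 : ℕ) : ℤ) = ((-n).toNat • 1 : ℕ) + n := by
    simp only [smul_eq_mul, mul_one]
    omega
  have hWU : (RelProj.emb p chart U hU) ''ᵁ Proj.basicOpen (𝒮.deg U hU) g ≤ p ⁻¹ᵁ U := by
    rw [← opensRange_emb 𝒮 p chart U hU]
    exact Scheme.Hom.image_le_opensRange _ _
  have hxW : x ∈ (RelProj.emb p chart U hU) ''ᵁ Proj.basicOpen (𝒮.deg U hU) g :=
    ⟨(chart U hU).hom ⟨x, hxU⟩, (Proj.mem_basicOpen _ _ _).mpr hgx,
      RelPMap2.emb_chart_apply p chart U hU x hxU⟩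
  have hpre : ∀ z : ProjectiveSpectrum (𝒮.deg U hU),
      z ∈ (RelProj.emb p chart U hU) ⁻¹ᵁ
        ((RelProj.emb p chart U hU) ''ᵁ Proj.basicOpen (𝒮.deg U hU) g) →
      g ∉ z.asHomogeneousIdeal := by
    intro z hz
    obtain ⟨z', hz', e'⟩ := hz
    have : z' = z := (RelProj.emb p chart U hU).isOpenEmbedding.injective e'
    rw [← this]
    exact (Proj.mem_basicOpen _ _ _).mp hz'
  have hpow : ∀ k : ℕ, ∀ z : ProjectiveSpectrum (𝒮.deg U hU),
      z ∈ (RelProj.emb p chart U hU) ⁻¹ᵁ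
        ((RelProj.emb p chart U hU) ''ᵁ Proj.basicOpen (𝒮.deg U hU) g) →
      g ^ k ∉ z.asHomogeneousIdeal := fun k z hz hk =>
    hpre z hz (z.isPrime.mem_of_pow_mem k hk)
  have hpow2 : ∀ k l : ℕ, ∀ z : ProjectiveSpectrum (𝒮.deg U hU),
      z ∈ (RelProj.emb p chart U hU) ⁻¹ᵁ
        ((RelProj.emb p chart U hU) ''ᵁ Proj.basicOpen (𝒮.deg U hU) g) →
      g ^ k * g ^ l ∉ z.asHomogeneousIdeal := fun k l z hz hkl =>
    (z.isPrime.mem_or_mem hkl).elim (hpow k z hz) (hpow l z hz)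
  obtain ⟨σ, hσ⟩ := exists_section 𝒮 p chart m L lam hL U hU hga hgb he _ hWU (hpow _)
  obtain ⟨σ', hσ'⟩ := exists_section 𝒮 p chart n L' lam' hL' U hU hga' hgb' he' _ hWU (hpow _)
  have hb : IsBasisOn L _ σ := fun V hV =>
    bijective_smul_of_lam_eq 𝒮 p chart m L lam hL U hU hga hgb he _ hWU (hpow _) (hpow _)
      σ hσ V hV
  have hb' : IsBasisOn L' _ σ' := fun V hV =>
    bijective_smul_of_lam_eq 𝒮 p chart n L' lam' hL' U hU hga' hgb' he' _ hWU (hpow _) (hpow _)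
      σ' hσ' V hV
  refine ⟨_, SecTwist.tmul L L' _ σ σ', hxW, STL.isBasisOn_tmul hb hb', ?_⟩
  have h1 : (lam'' U hU).app _ (μ.app _ (SecTwist.tmul L L' _ σ σ')) =
      fracTw (𝒮.deg U hU) (SetLike.mul_mem_graded hga hga') (SetLike.mul_mem_graded hgb hgb')
        (by push_cast; omega :
          ((m.toNat • 1 + n.toNat • 1 : ℕ) : ℤ) = ((-m).toNat • 1 + (-n).toNat • 1 : ℕ) + (m + n))
        ((RelProj.emb p chart U hU) ⁻¹ᵁ
          ((RelProj.emb p chart U hU) ''ᵁ Proj.basicOpen (𝒮.deg U hU) g)) (hpow2 _ _) := by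
    have h2 := congrArg (fun f : CohB1.tensorMod L L' ⟶ T 𝒮 p chart m n U hU =>
      (Scheme.Modules.Hom.app f
        ((RelProj.emb p chart U hU) ''ᵁ Proj.basicOpen (𝒮.deg U hU) g))
      (SecTwist.tmul L L' _ σ σ')) (hμ U hU)
    refine h2.trans ?_
    change (chi 𝒮 p chart m n lam lam' U hU).app _ (SecTwist.tmul L L' _ σ σ') = _
    rw [chi_tmul]
    unfold RelTwistMul.pair
    rw [hσ, hσ']
    exact mulSect_fracTw _ _ _ _ _ _ _ _ _ _
  exact fun V hV =>
    bijective_smul_of_lam_eq 𝒮 p chart (m + n) L'' lam'' hL'' U hU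
      (SetLike.mul_mem_graded hga hga') (SetLike.mul_mem_graded hgb hgb') _ _ hWU
      (hpow2 _ _) (hpow2 _ _) _ h1 V hV

end Groth.Agent.H41.RelTwistTensor
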