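import Groth.Agent.H41.RelTwistGlue
import Groth.Agent.H41.RelTwistGenLocus

/-!
# `O_P(nd)` is trivial on `X_f`, `f` a global section of degree `d` (helper41)
-/

set_option autoImplicit false
universe u

open CategoryTheory CategoryTheory.Limits AlgebraicGeometry TopologicalSpace Opposite

namespace Groth.Agent.H41.RelTwistXf

variable {Y P : Scheme.{u}} (𝒮 : RelProj.QCGrAlg Y) (p : P ⟶ Y)
  (chart : ∀ (U : Y.Opens) (hU : IsAffineOpen U),
    (((p ⁻¹ᵁ U : P.Opens) : Scheme.{u}) ≅ Proj (𝒮.deg U hU)))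
  (hP : RelProj.IsRelProj 𝒮 p chart) {d : ℕ} (f : 𝒮.presheaf.obj (op ⊤))
  (hf : ∀ (U : Y.Opens) (hU : IsAffineOpen U), (𝒮.presheaf.map (homOfLE le_top).op).hom f ∈ 𝒮.deg U hU d)
  (Xf : P.Opens)
  (hXf : ∀ (U : Y.Opens) (hU : IsAffineOpen U),
    Xf ⊓ p ⁻¹ᵁ U =
      (p ⁻¹ᵁ U).ι ''ᵁ ((chart U hU).hom ⁻¹ᵁ
        Proj.basicOpen (𝒮.deg U hU) ((𝒮.presheaf.map (homOfLE le_top).op).hom f)))

include hXf in
theorem notMem_of_mem (U : Y.Opens) (hU : IsAffineOpen U) (x : ProjectiveSpectrum (𝒮.deg U hU))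
    (hx : x ∈ (RelProj.emb p chart U hU) ⁻¹ᵁ Xf) :
    (𝒮.presheaf.map (homOfLE le_top).op).hom f ∉ x.asHomogeneousIdeal := by
  have h1 : (RelProj.emb p chart U hU) x ∈ Xf ⊓ p ⁻¹ᵁ U :=
    ⟨hx, Groth.Agent.H41.RelPMap2.emb_mem p chart U hU x⟩
  rw [hXf U hU, Groth.Agent.H41.RelTwistGenLocus.chartBasicOpen_eq] at h1
  obtain ⟨x', hx', e⟩ := h1
  have : x' = x := (RelProj.emb p chart U hU).isOpenEmbedding.injective e
  rw [← this]
  exact (Proj.mem_basicOpen _ _ _).mp hx'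

include hP hf hXf in
theorem nonempty_restrict_iso (n : ℤ) (L : P.Modules)
    (lam : ∀ (U : Y.Opens) (hU : IsAffineOpen U),
      L ⟶ (Scheme.Modules.pushforward (RelProj.emb p chart U hU)).obj
        (GrTwist.twist (𝒮.deg U hU) (n * (d : ℤ))))
    (hL : RelProj.IsRelTwist 𝒮 p chart (n * (d : ℤ)) L lam) :
    Nonempty (L.restrict Xf.ι ≅ Coh.structureModule (Xf : Scheme.{u})) := by
  have hone : ∀ (U : Y.Opens) (hU : IsAffineOpen U),
      (𝒮.presheaf.map (homOfLE (le_top : U ≤ ⊤)).op).hom (1 : 𝒮.presheaf.obj (op ⊤)) ∈ 𝒮.deg U hU 0 := by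
    intro U hU
    rw [map_one]
    exact SetLike.GradedOne.one_mem
  have hpow : ∀ (m : ℕ) (U : Y.Opens) (hU : IsAffineOpen U),
      (𝒮.presheaf.map (homOfLE (le_top : U ≤ ⊤)).op).hom (f ^ m) ∈ 𝒮.deg U hU (m * d) := by
    intro m U hU
    rw [map_pow]
    have := SetLike.pow_mem_graded m (hf U hU)
    rwa [smul_eq_mul] at this
  have hXone : ∀ (U : Y.Opens) (hU : IsAffineOpen U) (x : ProjectiveSpectrum (𝒮.deg U hU)),
      x ∈ (RelProj.emb p chart U hU) ⁻¹ᵁ Xf →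
        (𝒮.presheaf.map (homOfLE (le_top : U ≤ ⊤)).op).hom (1 : 𝒮.presheaf.obj (op ⊤)) ∉
          x.asHomogeneousIdeal := by
    intro U hU x _ h
    rw [map_one] at h
    exact x.isPrime.ne_top ((Ideal.eq_top_iff_one _).mpr h)
  have hXpow : ∀ (m : ℕ) (U : Y.Opens) (hU : IsAffineOpen U) (x : ProjectiveSpectrum (𝒮.deg U hU)),
      x ∈ (RelProj.emb p chart U hU) ⁻¹ᵁ Xf →
        (𝒮.presheaf.map (homOfLE (le_top : U ≤ ⊤)).op).hom (f ^ m) ∉ x.asHomogeneousIdeal := by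
    intro m U hU x hx h
    rw [map_pow] at h
    exact notMem_of_mem 𝒮 p chart f Xf hXf U hU x hx (x.isPrime.mem_of_pow_mem m h)
  rcases le_or_gt 0 n with hn | hn
  · obtain ⟨m, rfl⟩ := Int.eq_ofNat_of_zero_le hn
    exact Groth.Agent.H41.RelTwistGlue.nonempty_restrict_iso 𝒮 p chart hP _ L lam hL (f ^ m) 1
      (by push_cast; ring : ((m * d : ℕ) : ℤ) = ((0 : ℕ) : ℤ) + (m : ℤ) * (d : ℤ))
      (hpow m) hone Xf (hXpow m) hXone
  · obtain ⟨m, rfl⟩ := Int.exists_eq_neg_ofNat hn.le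
    exact Groth.Agent.H41.RelTwistGlue.nonempty_restrict_iso 𝒮 p chart hP _ L lam hL 1 (f ^ m)
      (by push_cast; ring : ((0 : ℕ) : ℤ) = ((m * d : ℕ) : ℤ) + (-(m : ℤ)) * (d : ℤ))
      hone (hpow m) Xf hXone (hXpow m)

end Groth.Agent.H41.RelTwistXf
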