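import Groth.Agent.H41.SymRing
import Mathlib.Algebra.Category.Ring.Constructions

/-!
# `Sym(M ⊕ N) = Sym M ⊗ Sym N`, as a pushout square of commutative rings (helper41)

Stated without instances: `CE`, `CF`, `C` are rings under `R` which are symmetric algebras of `M`, `N`, `P` (the ring
homomorphisms `liftRing` from the symmetric algebras are bijective), and `P` is a biproduct of `M` and `N`.
-/

set_option autoImplicit false
universe u

namespace Groth.Agent.H41.SymBiprod

open CategoryTheory CategoryTheory.Limits Groth.Agent.H41.SymRing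

variable {R CE CF C : Type u} [CommRing R] [CommRing CE] [CommRing CF] [CommRing C]
  {M N P : Type u} [AddCommGroup M] [AddCommGroup N] [AddCommGroup P] [Module R M] [Module R N] [Module R P]
  (inl : M →+ P) (inr : N →+ P) (fst : P →+ M) (snd : P →+ N)
  (hfst : ∀ (r : R) p, fst (r • p) = r • fst p) (hsnd : ∀ (r : R) p, snd (r • p) = r • snd p)
  (h1 : ∀ x, fst (inl x) = x) (h2 : ∀ x, snd (inl x) = 0) (h3 : ∀ y, fst (inr y) = 0) (h4 : ∀ y, snd (inr y) = y)
  (h5 : ∀ p, inl (fst p) + inr (snd p) = p)
  (sE : R →+* CE) (sF : R →+* CF) (sC : R →+* C) (jE : M →+ CE) (jF : N →+ CF) (jP : P →+ C)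
  (hjE : ∀ r x, jE (r • x) = sE r * jE x) (hjF : ∀ r x, jF (r • x) = sF r * jF x)
  (hjP : ∀ r x, jP (r • x) = sC r * jP x)
  (bE : Function.Surjective (liftRing sE jE hjE)) (bF : Function.Surjective (liftRing sF jF hjF))
  (bP : Function.Bijective (liftRing sC jP hjP))
  (ψE : CE →+* C) (ψF : CF →+* C) (hψE1 : ψE.comp sE = sC) (hψF1 : ψF.comp sF = sC)
  (hψE2 : ∀ x, ψE (jE x) = jP (inl x)) (hψF2 : ∀ y, ψF (jF y) = jP (inr y))

include bE in
/-- Ring homomorphisms out of a symmetric algebra `CE` agree if they agree on scalars and generators. -/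
theorem hom_ext_of_surjective {T : Type u} [CommRing T] (a a' : CE →+* T)
    (hs : ∀ r, a (sE r) = a' (sE r)) (hj : ∀ x, a (jE x) = a' (jE x)) : a = a' := by
  have : a.comp (liftRing sE jE hjE) = a'.comp (liftRing sE jE hjE) :=
    ringHom_ext (fun r => by simp [hs]) (fun x => by simp [hj])
  refine RingHom.ext fun z => ?_
  obtain ⟨w, rfl⟩ := bE z
  exact RingHom.congr_fun this w

include hfst hsnd h1 h2 h3 h4 h5 bE bF bP hψE1 hψF1 hψE2 hψF2 in
theorem isPushout :
    IsPushout (CommRingCat.ofHom sE) (CommRingCat.ofHom sF) (CommRingCat.ofHom ψE) (CommRingCat.ofHom ψF) := by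
  have w : CommRingCat.ofHom sE ≫ CommRingCat.ofHom ψE = CommRingCat.ofHom sF ≫ CommRingCat.ofHom ψF := by
    refine CommRingCat.hom_ext ?_
    change ψE.comp sE = ψF.comp sF
    rw [hψE1, hψF1]
  -- the descent map
  have key : ∀ (T : Type u) [CommRing T] (a : CE →+* T) (b : CF →+* T) (_ : a.comp sE = b.comp sF),
      ∃ c : C →+* T, c.comp ψE = a ∧ c.comp ψF = b ∧
        ∀ c' : C →+* T, c'.comp ψE = a → c'.comp ψF = b → c' = c := by
    intro T _ a b hab
    have hab' : ∀ r, a (sE r) = b (sF r) := fun r => RingHom.congr_fun hab r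
    let σ : R →+* T := a.comp sE
    let ℓ : P →+ T := (a.toAddMonoidHom.comp jE).comp fst + (b.toAddMonoidHom.comp jF).comp snd
    have hℓ : ∀ r p, ℓ (r • p) = σ r * ℓ p := by
      intro r p
      change a (jE (fst (r • p))) + b (jF (snd (r • p))) = a (sE r) * (a (jE (fst p)) + b (jF (snd p)))
      rw [hfst, hsnd, hjE, hjF, map_mul, map_mul, mul_add, hab' r]
    let e : SymmetricAlgebra R P ≃+* C := RingEquiv.ofBijective _ bP
    let c : C →+* T := (liftRing σ ℓ hℓ).comp e.symm.toRingHom
    have hcs : ∀ r, c (sC r) = σ r := by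
      intro r
      have : e.symm (sC r) = algebraMap R _ r := by
        rw [RingEquiv.symm_apply_eq]; exact (liftRing_algebraMap sC jP hjP r).symm
      change liftRing σ ℓ hℓ (e.symm (sC r)) = _
      rw [this, liftRing_algebraMap]
    have hcj : ∀ p, c (jP p) = ℓ p := by
      intro p
      have : e.symm (jP p) = SymmetricAlgebra.ι R P p := by
        rw [RingEquiv.symm_apply_eq]; exact (liftRing_ι sC jP hjP p).symm
      change liftRing σ ℓ hℓ (e.symm (jP p)) = _
      rw [this, liftRing_ι]
    refine ⟨c, ?_, ?_, ?_⟩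
    · refine hom_ext_of_surjective sE jE hjE bE _ _ (fun r => ?_) (fun x => ?_)
      · change c (ψE (sE r)) = a (sE r)
        rw [show ψE (sE r) = sC r from RingHom.congr_fun hψE1 r, hcs]; rfl
      · change c (ψE (jE x)) = a (jE x)
        rw [hψE2, hcj]
        change a (jE (fst (inl x))) + b (jF (snd (inl x))) = _
        rw [h1, h2, map_zero, map_zero, add_zero]
    · refine hom_ext_of_surjective sF jF hjF bF _ _ (fun r => ?_) (fun y => ?_)
      · change c (ψF (sF r)) = b (sF r)
        rw [show ψF (sF r) = sC r from RingHom.congr_fun hψF1 r, hcs]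
        exact hab' r
      · change c (ψF (jF y)) = b (jF y)
        rw [hψF2, hcj]
        change a (jE (fst (inr y))) + b (jF (snd (inr y))) = _
        rw [h3, h4, map_zero, map_zero, zero_add]
    · intro c' hc'E hc'F
      refine hom_ext_of_surjective sC jP hjP bP.2 _ _ (fun r => ?_) (fun p => ?_)
      · rw [hcs, ← RingHom.congr_fun hψE1 r]
        exact RingHom.congr_fun hc'E (sE r)
      · rw [hcj]
        conv_lhs => rw [← h5 p]
        rw [map_add, map_add, ← hψE2, ← hψF2]
        change (c'.comp ψE) (jE (fst p)) + (c'.comp ψF) (jF (snd p)) = _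
        rw [hc'E, hc'F]
        rfl
  refine ⟨⟨w⟩, ⟨PushoutCocone.IsColimit.mk _
    (fun s => CommRingCat.ofHom (key s.pt s.inl.hom s.inr.hom
      (congrArg CommRingCat.Hom.hom s.condition)).choose) ?_ ?_ ?_⟩⟩
  · intro s
    refine CommRingCat.hom_ext ?_
    exact (key s.pt s.inl.hom s.inr.hom (congrArg CommRingCat.Hom.hom s.condition)).choose_spec.1
  · intro s
    refine CommRingCat.hom_ext ?_
    exact (key s.pt s.inl.hom s.inr.hom (congrArg CommRingCat.Hom.hom s.condition)).choose_spec.2.1
  · intro s m hm1 hm2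
    refine CommRingCat.hom_ext ?_
    exact (key s.pt s.inl.hom s.inr.hom (congrArg CommRingCat.Hom.hom s.condition)).choose_spec.2.2
      m.hom (congrArg CommRingCat.Hom.hom hm1) (congrArg CommRingCat.Hom.hom hm2)

end Groth.Agent.H41.SymBiprod
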