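import Groth.Agent.H41.SymEpi
import Groth.Agent.H41.SymBiprod

/-!
# Fibre products of relative spectra from pushouts on affine opens; `V(E ⊕ F) = V(E) ×_S V(F)` (helper41)
-/

set_option autoImplicit false
universe u

namespace Groth.Agent.H41.SpecPullback

open CategoryTheory CategoryTheory.Limits AlgebraicGeometry TopologicalSpace Opposite RelSpec
open Groth.Agent.H41.SymRing Groth.Agent.H41.SymSheaf Groth.Agent.H41.SymStruct

variable {S : Scheme.{u}}

/-- The chart square of the structure morphism of a relative spectrum is cartesian. -/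
theorem isPullback_chart (A : QCAlg S) (U : S.Opens) (hU : IsAffineOpen U) :
    IsPullback (A.ι U hU) (Spec.map (A.str.app (op U))) A.π hU.fromSpec := by
  refine (IsOpenImmersion.isPullback _ _ _ _ (A.ι_π U hU) ?_).flip
  rw [hU.opensRange_fromSpec, A.π_preimage U hU]

/-- If over every affine open `U` the ring `A(U)` is the pushout of `AE(U)` and `AF(U)` over `O(U)`, then
`Spec(A) = Spec(AE) ×_S Spec(AF)`. -/
theorem isPullback_specMap_of_isPushout {AE AF A : QCAlg S} (ψE : AE ⟶ A) (ψF : AF ⟶ A)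
    (h : ∀ (U : S.Opens) (_ : IsAffineOpen U),
      IsPushout (AE.str.app (op U)) (AF.str.app (op U)) (ψE.hom.app (op U)) (ψF.hom.app (op U))) :
    IsPullback (QCAlg.specMap ψE) (QCAlg.specMap ψF) AE.π AF.π := by
  refine Scheme.isPullback_of_openCover _ _ _ _ AE.glueData.cover fun U => ?_
  have hE := Groth.Agent.H41.SymEpi.isPullback_specMap ψE U.1 U.2
  -- the square over the chart
  have hleft : IsPullback (Spec.map (ψF.hom.app (op U.1))) (Spec.map (ψE.hom.app (op U.1)))
      (Spec.map (AF.str.app (op U.1))) (Spec.map (AE.str.app (op U.1))) :=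
    (isPullback_SpecMap_of_isPushout _ _ _ _ (h U.1 U.2)).flip
  have hstar : IsPullback (Spec.map (ψE.hom.app (op U.1))) (A.ι U.1 U.2 ≫ QCAlg.specMap ψF)
      (AE.ι U.1 U.2 ≫ AE.π) AF.π := by
    have := (hleft.paste_horiz (isPullback_chart AF U.1 U.2)).flip
    rw [← AE.ι_π U.1 U.2, ← QCAlg.ι_specMap U.1 U.2 ψF] at this
    exact this
  -- transport along the identification of the chosen pullback
  let e := hE.isoPullback
  have e1 : e.hom ≫ pullback.fst _ _ = A.ι U.1 U.2 := hE.isoPullback_hom_fst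
  have e2 : e.hom ≫ pullback.snd _ _ = Spec.map (ψE.hom.app (op U.1)) := hE.isoPullback_hom_snd
  refine IsPullback.of_iso hstar e (Iso.refl _) (Iso.refl _) (Iso.refl _) ?_ ?_ ?_ ?_
  · change Spec.map (ψE.hom.app (op U.1)) ≫ 𝟙 _ = e.hom ≫ pullback.snd _ _
    rw [Category.comp_id, e2]
  · change (A.ι U.1 U.2 ≫ QCAlg.specMap ψF) ≫ 𝟙 _ = e.hom ≫ pullback.fst _ _ ≫ QCAlg.specMap ψF
    rw [Category.comp_id, ← Category.assoc, e1]
  · simp; rfl
  · simp

end Groth.Agent.H41.SpecPullback
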