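import Groth.Agent.H41.SymAmpleOpen

/-!
# `r_{L,σ}` is scheme-theoretically dominant when `u` is injective on global sections (helper41)
-/

set_option autoImplicit false
universe u

namespace Groth.Agent.H41.SymAmpleDom

open CategoryTheory CategoryTheory.Limits AlgebraicGeometry TopologicalSpace Opposite RelSpec
  HomogeneousLocalization
open Groth.Agent.H41.SymSec Groth.Agent.H41.SymInvDom Groth.Agent.H41.SymInvAway
  Groth.Agent.H41.SymAmpleOpen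

variable {Y X P PL : Scheme.{u}} (q : X ⟶ Y)
  (𝒮 : RelProj.QCGrAlg Y) (𝒮L : RelProj.QCGrAlg X)
  (u : RelProj.QGrHom q 𝒮 𝒮L)
  (p : P ⟶ Y) (chart : ∀ (U : Y.Opens) (hU : IsAffineOpen U),
    (((p ⁻¹ᵁ U : P.Opens) : Scheme.{u}) ≅ Proj (𝒮.deg U hU)))
  (pL : PL ⟶ X) (chartL : ∀ (U : X.Opens) (hU : IsAffineOpen U),
    (((pL ⁻¹ᵁ U : PL.Opens) : Scheme.{u}) ≅ Proj (𝒮L.deg U hU)))
  (r : ((RelProj.domQ u pL chartL : PL.Opens) : Scheme.{u}) ⟶ P)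
  (hr : RelProj.IsProjQMapOn u p chart pL chartL (RelProj.domQ u pL chartL) r)
  (hY : IsAffineOpen (⊤ : Y.Opens))
  {n : ℕ} (hn : 0 < n) (a : 𝒮.presheaf.obj (op ⊤)) (ha : a ∈ 𝒮.deg ⊤ hY n)

include ha in
/-- an element of `𝒮(Y)_(a)` killed by all the maps to `𝒮L(V)_(u a)` is zero -/
theorem eq_zero_of_awayMap (hinj : Function.Injective (u.app ⊤).hom)
    (hcpt : IsCompact ((q ⁻¹ᵁ (⊤ : Y.Opens) : X.Opens) : Set X))
    (y : Away (𝒮.deg ⊤ hY) a)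
    (h : ∀ (V : X.Opens) (hV : IsAffineOpen V),
      Away.map (u.gradedAt ⊤ hY V hV (le_top' q V)) a y = 0) : y = 0 := by
  obtain ⟨m, b, hb, rfl⟩ := Away.mk_surjective (𝒜 := 𝒮.deg ⊤ hY) ha y
  have hloc : ∀ x : (q ⁻¹ᵁ (⊤ : Y.Opens) : X.Opens), ∃ (V : X.Opens) (_ : IsAffineOpen V) (k : ℕ), x.1 ∈ V ∧
      (u.appLE ⊤ V (le_top' q V)).hom a ^ k * (u.appLE ⊤ V (le_top' q V)).hom b = 0 := by
    intro x
    obtain ⟨_, ⟨V, hV : IsAffineOpen V, rfl⟩, hxV, -⟩ :=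
      X.isBasis_affineOpens.exists_subset_of_mem_open (show x.1 ∈ (⊤ : X.Opens) from trivial) (⊤ : X.Opens).2
    have hx := h V hV
    rw [Away.map_mk] at hx
    have hv := congrArg HomogeneousLocalization.val hx
    rw [Away.val_mk, HomogeneousLocalization.val_zero, Localization.mk_eq_mk',
      IsLocalization.mk'_eq_zero_iff] at hv
    obtain ⟨⟨_, k, rfl⟩, hk⟩ := hv
    exact ⟨V, hV, k, hxV, hk⟩
  choose V hV k hxV hk using hloc
  obtain ⟨T, hT⟩ := hcpt.elim_finite_subcover (fun x => ((V x : X.Opens) : Set X))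
    (fun x => (V x).isOpen) (fun y hy => Set.mem_iUnion.mpr ⟨⟨y, hy⟩, hxV ⟨y, hy⟩⟩)
  have h0 : a ^ (T.sup k) * b = 0 := by
    apply hinj
    rw [map_zero]
    apply sres_ext 𝒮L
    intro z hz
    obtain ⟨x, hxT, hzx⟩ := Set.mem_iUnion₂.mp (hT hz)
    refine ⟨V x, le_top' q (V x), hzx, ?_⟩
    rw [map_zero]
    change (u.appLE ⊤ (V x) (le_top' q (V x))).hom (a ^ (T.sup k) * b) = 0
    obtain ⟨l, hl⟩ := Nat.exists_eq_add_of_le (Finset.le_sup (f := k) hxT)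
    rw [map_mul, map_pow, hl, pow_add, mul_comm (_ ^ k x), mul_assoc, hk x, mul_zero]
  apply HomogeneousLocalization.val_injective
  rw [Away.val_mk, HomogeneousLocalization.val_zero, Localization.mk_eq_mk',
    IsLocalization.mk'_eq_zero_iff]
  exact ⟨⟨a ^ (T.sup k), _, rfl⟩, h0⟩

theorem appLE_congr' {A B : Scheme.{u}} {f g : A ⟶ B} (h : f = g) (U : B.Opens) (V : A.Opens)
    (e : V ≤ f ⁻¹ᵁ U) : f.appLE U V e = g.appLE U V (h ▸ e) := by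
  subst h; rfl

include hr in
/-- `O_P(D₊(a)) → O(r⁻¹ D₊(a))` is injective -/
theorem app_injective (hinj : Function.Injective (u.app ⊤).hom)
    (hcpt : IsCompact ((q ⁻¹ᵁ (⊤ : Y.Opens) : X.Opens) : Set X)) :
    Function.Injective (r.app ((lam 𝒮 p chart hY hn a ha) ''ᵁ ⊤)).hom := by
  set lm := lam 𝒮 p chart hY hn a ha with hlm
  rw [injective_iff_map_eq_zero]
  intro t ht
  have hiso1 : Function.Injective (lm.appIso ⊤).hom.hom :=
    (ConcreteCategory.bijective_of_isIso (lm.appIso ⊤).hom).1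
  have hiso2 : Function.Injective (Scheme.ΓSpecIso (CommRingCat.of (Away (𝒮.deg ⊤ hY) a))).hom.hom :=
    (ConcreteCategory.bijective_of_isIso (Scheme.ΓSpecIso _).hom).1
  apply hiso1
  apply hiso2
  rw [map_zero, map_zero]
  apply eq_zero_of_awayMap q 𝒮 𝒮L u hY a ha hinj hcpt
  intro V hV
  set φ := CommRingCat.ofHom (Away.map (u.gradedAt ⊤ hY V hV (le_top' q V)) a) with hφ
  have hsq : kap q 𝒮 𝒮L u pL chartL hY hn a ha V hV ≫ r = Spec.map φ ≫ lm :=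
    kap_r q 𝒮 𝒮L u p chart pL chartL r hr hY hn a ha V hV
  have e1 := Scheme.ΓSpecIso_naturality φ
  have hle1 : (⊤ : (Spec (CommRingCat.of (Away (𝒮L.deg V hV)
      ((u.gradedAt ⊤ hY V hV (le_top' q V)) a)))).Opens) ≤ (Spec.map φ ≫ lm) ⁻¹ᵁ (lm ''ᵁ ⊤) := by
    rw [Scheme.Hom.comp_preimage, Scheme.Hom.preimage_image_eq]; exact le_rfl
  have e2 : (lm.appIso ⊤).hom ≫ (Spec.map φ).appTop =
      (Spec.map φ ≫ lm).appLE (lm ''ᵁ ⊤) ⊤ hle1 := by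
    rw [Scheme.Hom.appIso_hom']
    have h3 := Scheme.Hom.appLE_comp_appLE (Spec.map φ) lm (lm ''ᵁ ⊤) ⊤ ⊤
      (lm.preimage_image_eq ⊤).ge le_rfl
    rw [← h3]
    congr 1
  have hle2 : (⊤ : (Spec (CommRingCat.of (Away (𝒮L.deg V hV)
      ((u.gradedAt ⊤ hY V hV (le_top' q V)) a)))).Opens) ≤
      (kap q 𝒮 𝒮L u pL chartL hY hn a ha V hV) ⁻¹ᵁ (r ⁻¹ᵁ (lm ''ᵁ ⊤)) := by
    rw [← Scheme.Hom.comp_preimage, hsq]; exact hle1
  have e3 : (Spec.map φ ≫ lm).appLE (lm ''ᵁ ⊤) ⊤ hle1 =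
      r.app (lm ''ᵁ ⊤) ≫ (kap q 𝒮 𝒮L u pL chartL hY hn a ha V hV).appLE _ ⊤ hle2 :=
    (appLE_congr' hsq.symm (lm ''ᵁ ⊤) ⊤ hle1).trans (Scheme.Hom.comp_appLE _ _ _ _ _)
  have key : (Scheme.ΓSpecIso _).hom.hom ((Spec.map φ).appTop.hom ((lm.appIso ⊤).hom.hom t)) = 0 := by
    have h1 : (Spec.map φ).appTop.hom ((lm.appIso ⊤).hom.hom t) =
        ((lm.appIso ⊤).hom ≫ (Spec.map φ).appTop).hom t := rfl
    rw [h1, e2, e3, CommRingCat.comp_apply, ht, map_zero, map_zero]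
  have h2 : φ.hom ((Scheme.ΓSpecIso _).hom.hom ((lm.appIso ⊤).hom.hom t)) =
      (Scheme.ΓSpecIso _).hom.hom ((Spec.map φ).appTop.hom ((lm.appIso ⊤).hom.hom t)) :=
    (congrArg (fun g => g.hom ((lm.appIso ⊤).hom.hom t)) e1).symm
  rw [← key, ← h2]
  rfl

include hr hY in
theorem isSchemeTheoreticallyDominant (hinj : Function.Injective (u.app ⊤).hom)
    (hcpt : IsCompact ((q ⁻¹ᵁ (⊤ : Y.Opens) : X.Opens) : Set X)) :
    IsSchemeTheoreticallyDominant r := by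
  rw [isSchemeTheoreticallyDominant_iff]
  refine Scheme.IdealSheafData.ext_of_iSup_eq_top
    (ι := Groth.Agent.H41.SymInvClosed.Idx 𝒮 hY)
    (fun i => ⟨(lam 𝒮 p chart hY i.2.1 i.1.2 i.2.2) ''ᵁ ⊤,
      (isAffineOpen_top _).image_of_isOpenImmersion _⟩) ?_ ?_
  · rw [eq_top_iff]
    intro x _
    obtain ⟨d, f, hd, hf, hxf, -⟩ :=
      Groth.Agent.H41.RelPMap6.exists_emb_basicOpen_le p chart ⊤ hY ⊤ x trivial trivial
    refine Opens.mem_iSup.mpr ⟨⟨(d, f), hd, hf⟩, ?_⟩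
    change x ∈ (lam 𝒮 p chart hY hd f hf) ''ᵁ ⊤
    rw [Scheme.Hom.image_top_eq_opensRange, opensRange_lam]
    exact hxf
  · intro i
    rw [eq_bot_iff.mpr ((Scheme.Hom.ideal_ker_le r _).trans
      ((RingHom.injective_iff_ker_eq_bot _).mp
        (app_injective q 𝒮 𝒮L u p chart pL chartL r hr hY i.2.1 i.1.2 i.2.2 hinj hcpt)).le)]
    simp

end Groth.Agent.H41.SymAmpleDom
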