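import Groth.Agent.H41.SymInvImm
import Groth.Agent.H41.AwayMapInj

/-!
# `r_{L,ψ}` everywhere defined and an open immersion, over an affine base (helper41)
-/

set_option autoImplicit false
universe u

namespace Groth.Agent.H41.SymInvOpen

open CategoryTheory CategoryTheory.Limits AlgebraicGeometry TopologicalSpace Opposite RelSpec
  HomogeneousLocalization
open Groth.Agent.H41.SymInvLocal Groth.Agent.H41.SymInvDom Groth.Agent.H41.SymInvAway
  Groth.Agent.H41.SymInvClosed Groth.Agent.H41.SymInvImm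

variable {Y X P PL : Scheme.{u}} (q : X ⟶ Y)
  (L : X.Modules) (hL : PicF.IsInvertible L) [L.IsQuasicoherent]
  (𝒮 : RelProj.QCGrAlg Y) (𝒮L : RelProj.QCGrAlg X) (j : L ⟶ 𝒮L.toModule) (hj : RelProj.IsGrSymAlg L 𝒮L j)
  (u : RelProj.QGrHom q 𝒮 𝒮L)
  (p : P ⟶ Y) (chart : ∀ (U : Y.Opens) (hU : IsAffineOpen U),
    (((p ⁻¹ᵁ U : P.Opens) : Scheme.{u}) ≅ Proj (𝒮.deg U hU)))
  (pL : PL ⟶ X) (chartL : ∀ (U : X.Opens) (hU : IsAffineOpen U),
    (((pL ⁻¹ᵁ U : PL.Opens) : Scheme.{u}) ≅ Proj (𝒮L.deg U hU)))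
  (hPL : RelProj.IsRelProj 𝒮L pL chartL)
  (r : ((RelProj.domQ u pL chartL : PL.Opens) : Scheme.{u}) ⟶ P)
  (hr : RelProj.IsProjQMapOn u p chart pL chartL (RelProj.domQ u pL chartL) r)
  (hY : IsAffineOpen (⊤ : Y.Opens))

include hL hj hPL hr in
theorem openImmersion_iff :
    (RelProj.domQ u pL chartL = ⊤ ∧ IsOpenImmersion r) ↔
      ∃ (ι : Type u) (n : ι → ℕ) (s : ι → 𝒮.presheaf.obj (op ⊤)) (XT : ι → X.Opens),
        (∀ a, 0 < n a ∧ s a ∈ 𝒮.deg ⊤ hY (n a)) ∧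
        (∀ a, XT a = (⨆ V : {V : X.affineOpens //
          ((𝒮L.deg V.1 V.2 (n a) : AddSubgroup (𝒮L.presheaf.obj (op (V.1 : X.Opens)))) : Set (𝒮L.presheaf.obj (op (V.1 : X.Opens)))) ⊆
            (Ideal.span {(u.appLE ⊤ (V.1 : X.Opens) (le_top.trans (Scheme.Hom.preimage_top q).ge)).hom (s a)} : Set (𝒮L.presheaf.obj (op (V.1 : X.Opens))))},
          (V.1.1 : X.Opens))) ∧
        (⨆ a, XT a) = ⊤ ∧ (∀ a, IsAffineOpen (XT a)) ∧
        (∀ (a : ι) (t : X.presheaf.obj (op (XT a))), ∃ (m : ℕ) (_ : 0 < m) (s' : 𝒮.presheaf.obj (op ⊤)) (_ : s' ∈ 𝒮.deg ⊤ hY (m * n a)),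
            (𝒮L.str.app (op (XT a))).hom t * ((u.appLE ⊤ (XT a) (le_top.trans (Scheme.Hom.preimage_top q).ge)).hom (s a)) ^ m =
              (u.appLE ⊤ (XT a) (le_top.trans (Scheme.Hom.preimage_top q).ge)).hom s') ∧
        (∀ (a : ι) (m : ℕ), 0 < m → ∀ s' ∈ 𝒮.deg ⊤ hY (m * n a),
            (u.appLE ⊤ (XT a) (le_top.trans (Scheme.Hom.preimage_top q).ge)).hom s' = 0 → ∃ (k : ℕ), 0 < k ∧ (s a) ^ k * s' = 0) := by
  constructor
  · rintro ⟨htop, himm⟩
    have := himm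
    have hZ : Set.range r ⊆ r.opensRange := le_rfl
    have hle : ∀ a : IdxLE 𝒮 p chart hY r.opensRange,
        (lam 𝒮 p chart hY a.2.1 a.1.2 a.2.2.1).opensRange ≤ r.opensRange := fun a => by
      rw [opensRange_lam]; exact a.2.2.2
    have haff : ∀ a : IdxLE 𝒮 p chart hY r.opensRange, IsAffineOpen (XT q 𝒮 𝒮L u a.1.1 a.1.2) := by
      intro a
      refine isAffineOpen_XT' q L hL 𝒮 𝒮L j hj u p chart pL chartL hPL r hr hY a.2.1 a.1.2 a.2.2.1 ?_
      exact (isAffineOpen_opensRange _).preimage_of_isOpenImmersion r (hle a)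
    let e := IsOpenImmersion.isoOfRangeEq r r.opensRange.ι (by rw [Scheme.Opens.range_ι]; rfl)
    have he : e.hom ≫ r.opensRange.ι = r := IsOpenImmersion.isoOfRangeEq_hom_fac _ _ _
    have hbij : ∀ a : IdxLE 𝒮 p chart hY r.opensRange, Function.Bijective
        (Away.map (u.gradedAt ⊤ hY (XT q 𝒮 𝒮L u a.1.1 a.1.2) (haff a) (le_top' q _)) a.1.2) := by
      intro a
      have hpb := isPullback_away q L hL 𝒮 𝒮L j hj u p chart pL chartL hPL r hr hY a.2.1 a.1.2 a.2.2.1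
        (XT q 𝒮 𝒮L u a.1.1 a.1.2) (haff a) rfl
      have hpb' := isPullback_of_factor hpb r.opensRange e.hom he
        (IsOpenImmersion.lift r.opensRange.ι (lam 𝒮 p chart hY a.2.1 a.1.2 a.2.2.1)
          (by rw [Scheme.Opens.range_ι]; exact hle a))
        (IsOpenImmersion.lift_fac _ _ _)
      have hiso : IsIso (Spec.map (CommRingCat.ofHom
          (Away.map (u.gradedAt ⊤ hY (XT q 𝒮 𝒮L u a.1.1 a.1.2) (haff a) (le_top' q _)) a.1.2))) :=
        hpb'.isIso_fst_of_isIso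
      exact isIso_SpecMap_iff.mp hiso
    refine ⟨IdxLE 𝒮 p chart hY r.opensRange, fun a => a.1.1, fun a => a.1.2,
      fun a => XT q 𝒮 𝒮L u a.1.1 a.1.2, fun a => ⟨a.2.1, a.2.2.1⟩, fun a => rfl,
      iSup_XT_idxLE_eq_top q L hL 𝒮 𝒮L j hj u p chart pL chartL hPL r hr hY htop _ hZ,
      haff, fun a t => ?_, fun a m _ s' hs' h0 => ?_⟩
    · exact iii_of_surjective_awayMap q L hL 𝒮 𝒮L j hj u p chart pL chartL hPL r hr hY a.2.1 a.1.2 a.2.2.1
        (XT q 𝒮 𝒮L u a.1.1 a.1.2) (haff a) rfl (hbij a).2 t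
    · exact Groth.Agent.H41.AwayMapInj.iv_of_injective_awayMap
        (u.gradedAt ⊤ hY (XT q 𝒮 𝒮L u a.1.1 a.1.2) (haff a) (le_top' q _)) a.2.2.1 (hbij a).1 m s' hs' h0
  · rintro ⟨ι, n, s, XT', h1, h2, hcov, haff, hiii, hiv⟩
    have hcov' : (⨆ a, XT q 𝒮 𝒮L u (n a) (s a)) = ⊤ := by
      rw [← hcov]
      exact iSup_congr fun a => (h2 a).symm
    refine ⟨domQ_eq_top_of_cover q L hL 𝒮 𝒮L j hj u pL chartL hPL hY n s h1 hcov', ?_⟩
    let W : P.Opens := ⨆ a, (lam 𝒮 p chart hY (h1 a).1 (s a) (h1 a).2).opensRange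
    have hrW : Set.range r ⊆ W := by
      rintro _ ⟨z, rfl⟩
      have hx : pL ((RelProj.domQ u pL chartL).ι z) ∈ (⨆ a, XT q 𝒮 𝒮L u (n a) (s a)) := by
        rw [hcov']; trivial
      obtain ⟨a, hxa⟩ := Opens.mem_iSup.mp hx
      exact Opens.mem_iSup.mpr ⟨a, apply_mem_opensRange_lam q L hL 𝒮 𝒮L j hj u p chart pL chartL hPL r hr hY
        (h1 a).1 (s a) (h1 a).2 z hxa⟩
    have hlamW : ∀ a, Set.range (lam 𝒮 p chart hY (h1 a).1 (s a) (h1 a).2) ⊆ Set.range W.ι := by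
      intro a
      rw [Scheme.Opens.range_ι]
      exact le_iSup (fun a => (lam 𝒮 p chart hY (h1 a).1 (s a) (h1 a).2).opensRange) a
    let r' : ((RelProj.domQ u pL chartL : PL.Opens) : Scheme.{u}) ⟶ (W : Scheme.{u}) :=
      IsOpenImmersion.lift W.ι r (by rw [Scheme.Opens.range_ι]; exact hrW)
    have hr' : r' ≫ W.ι = r := IsOpenImmersion.lift_fac _ _ _
    let lam' : ∀ a, Spec (CommRingCat.of (Away (𝒮.deg ⊤ hY) (s a))) ⟶ (W : Scheme.{u}) := fun a =>
      IsOpenImmersion.lift W.ι (lam 𝒮 p chart hY (h1 a).1 (s a) (h1 a).2) (hlamW a)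
    have hlam' : ∀ a, lam' a ≫ W.ι = lam 𝒮 p chart hY (h1 a).1 (s a) (h1 a).2 := fun a =>
      IsOpenImmersion.lift_fac _ _ _
    have : ∀ a, IsOpenImmersion (lam' a) := fun a => by
      have : IsOpenImmersion (lam' a ≫ W.ι) := by rw [hlam']; infer_instance
      exact IsOpenImmersion.of_comp _ W.ι
    have hcovW : ∀ x : (W : Scheme.{u}), ∃ a y, lam' a y = x := by
      intro x
      obtain ⟨a, hxa⟩ := Opens.mem_iSup.mp x.2
      obtain ⟨y, hy⟩ := hxa
      refine ⟨a, y, W.ι.isOpenEmbedding.injective ?_⟩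
      have : W.ι (lam' a y) = (lam' a ≫ W.ι) y := rfl
      rw [this, hlam']
      exact hy
    have hop : IsOpenImmersion r' := by
      refine (Groth.Agent.H41.LocalTarget.iff_of_isPullback_family r'
        (fun a => Spec.map (CommRingCat.ofHom
          (Away.map (u.gradedAt ⊤ hY (XT' a) (haff a) (le_top' q _)) (s a))))
        (fun a => kap q 𝒮 𝒮L u pL chartL hY (h1 a).1 (s a) (h1 a).2 (XT' a) (haff a))
        lam'
        (fun a => isPullback_of_factor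
          (isPullback_away q L hL 𝒮 𝒮L j hj u p chart pL chartL hPL r hr hY (h1 a).1 (s a) (h1 a).2
            (XT' a) (haff a) (h2 a)) W r' hr' (lam' a) (hlam' a))
        hcovW @IsOpenImmersion).mpr fun a => ?_
      have hbij : Function.Bijective
          (Away.map (u.gradedAt ⊤ hY (XT' a) (haff a) (le_top' q _)) (s a)) :=
        ⟨Groth.Agent.H41.AwayMapInj.injective_awayMap_of_iv
            (u.gradedAt ⊤ hY (XT' a) (haff a) (le_top' q _)) (h1 a).2
            (fun m hm s' hs' h0 => hiv a m hm s' hs' h0),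
          surjective_awayMap_of_iii q L hL 𝒮 𝒮L j hj u p chart pL chartL hPL r hr hY (h1 a).1 (s a) (h1 a).2
            (XT' a) (haff a) (h2 a) (hiii a)⟩
      have : IsIso (Spec.map (CommRingCat.ofHom
          (Away.map (u.gradedAt ⊤ hY (XT' a) (haff a) (le_top' q _)) (s a)))) :=
        isIso_SpecMap_iff.mpr hbij
      infer_instance
    rw [← hr']
    infer_instance

end Groth.Agent.H41.SymInvOpen
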