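import Groth.Agent.H41.SymSec4
import Groth.Agent.H41.SymInvOpen

/-!
# `r_{L,σ}` is an everywhere defined open immersion when the affine `X_τ` cover (helper41)

Over an affine base `Y`, with `u : 𝒮 → q_* 𝒮L` bijective on global sections and `q⁻¹(Y)` quasi-compact and
quasi-separated: if every point lies in an affine `X_τ` for a homogeneous global section `τ` of positive degree,
then `r` is everywhere defined and an open immersion.
-/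

set_option autoImplicit false
universe u

namespace Groth.Agent.H41.SymAmpleOpen

open CategoryTheory CategoryTheory.Limits AlgebraicGeometry TopologicalSpace Opposite RelSpec
  HomogeneousLocalization
open Groth.Agent.H41.SymSec Groth.Agent.H41.SymInvDom

variable {Y X P PL : Scheme.{u}} (q : X ⟶ Y)
  (L : X.Modules) (hL : PicF.IsInvertible L) [L.IsQuasicoherent]
  (𝒮 : RelProj.QCGrAlg Y) (𝒮L : RelProj.QCGrAlg X) (j : L ⟶ 𝒮L.toModule) (hj : RelProj.IsGrSymAlg L 𝒮L j)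
  (u : RelProj.QGrHom q 𝒮 𝒮L)
  (p : P ⟶ Y) (chart : ∀ (U : Y.Opens) (hU : IsAffineOpen U),
    (((p ⁻¹ᵁ U : P.Opens) : Scheme.{u}) ≅ Proj (𝒮.deg U hU)))
  (pL : PL ⟶ X) (chartL : ∀ (U : X.Opens) (hU : IsAffineOpen U),
    (((pL ⁻¹ᵁ U : PL.Opens) : Scheme.{u}) ≅ Proj (𝒮L.deg U hU)))
  (hPL : RelProj.IsRelProj 𝒮L pL chartL)
  (r : ((RelProj.domQ u pL chartL : PL.Opens) : Scheme.{u}) ⟶ P)
  (hr : RelProj.IsProjQMapOn u p chart pL chartL (RelProj.domQ u pL chartL) r)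
  (hY : IsAffineOpen (⊤ : Y.Opens))

theorem appLE_eq (V : X.Opens) (hle : V ≤ q ⁻¹ᵁ (⊤ : Y.Opens)) (a : 𝒮.presheaf.obj (op ⊤)) :
    (u.appLE ⊤ V hle).hom a = sres 𝒮L hle ((u.app ⊤).hom a) := rfl

theorem isHomog_app (a : 𝒮.presheaf.obj (op ⊤)) (d : ℕ) (ha : a ∈ 𝒮.deg ⊤ hY d) :
    IsHomog 𝒮L (q ⁻¹ᵁ (⊤ : Y.Opens)) ((u.app ⊤).hom a) d :=
  fun V hV hle => u.map_mem ⊤ hY V hV hle ha

/-- an element whose image is homogeneous of degree `D` is so itself, when `u` is injective on global sections -/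
theorem mem_deg_of_isHomog (hinj : Function.Injective (u.app ⊤).hom) (a : 𝒮.presheaf.obj (op ⊤)) (D : ℕ)
    (h : IsHomog 𝒮L (q ⁻¹ᵁ (⊤ : Y.Opens)) ((u.app ⊤).hom a) D) : a ∈ 𝒮.deg ⊤ hY D := by
  classical
  have hz : ∀ e : ℕ, e ≠ D → ((DirectSum.decompose (𝒮.deg ⊤ hY) a e : 𝒮.deg ⊤ hY e) :
      𝒮.presheaf.obj (op ⊤)) = 0 := by
    intro e he
    apply hinj
    rw [map_zero]
    apply sres_ext 𝒮L
    intro x hx
    obtain ⟨_, ⟨V, hV : IsAffineOpen V, rfl⟩, hxV, hVle⟩ :=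
      X.isBasis_affineOpens.exists_subset_of_mem_open hx (q ⁻¹ᵁ (⊤ : Y.Opens)).2
    have hVle' : V ≤ q ⁻¹ᵁ (⊤ : Y.Opens) := hVle
    refine ⟨V, hVle', hxV, ?_⟩
    rw [map_zero]
    have h1 := GradedRingHom.map_directSumDecompose (𝒮.deg ⊤ hY) (𝒮L.deg V hV)
      (u.gradedAt ⊤ hY V hV hVle') (x := a) (i := e)
    rw [RelProj.QGrHom.gradedAt_apply, RelProj.QGrHom.gradedAt_apply] at h1
    change (u.appLE ⊤ V hVle').hom _ = 0
    rw [h1]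
    exact DirectSum.decompose_of_mem_ne _ (h V hV hVle') (Ne.symm he)
  rw [← DirectSum.sum_support_decompose (𝒮.deg ⊤ hY) a]
  refine (𝒮.deg ⊤ hY D).sum_mem fun e _ => ?_
  by_cases he : e = D
  · subst he
    exact Subtype.prop _
  · rw [hz e he]
    exact (𝒮.deg ⊤ hY D).zero_mem

theorem XT_eq (n : ℕ) (a : 𝒮.presheaf.obj (op ⊤)) :
    Groth.Agent.H41.SymInvClosed.XT q 𝒮 𝒮L u n a =
      SymSec.XT 𝒮L (q ⁻¹ᵁ (⊤ : Y.Opens)) ((u.app ⊤).hom a) n := by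
  apply le_antisymm
  · refine iSup_le fun V => ?_
    exact le_iSup_of_le ⟨V.1, le_top.trans (Scheme.Hom.preimage_top q).ge, V.2⟩ le_rfl
  · refine iSup_le fun V => ?_
    obtain ⟨hle, hc⟩ := V.2
    exact le_iSup_of_le ⟨V.1, hc⟩ le_rfl

include hL hj hPL hr hY in
theorem openImmersion_of_cover (hbij : Function.Bijective (u.app ⊤).hom)
    (hcpt : IsCompact ((q ⁻¹ᵁ (⊤ : Y.Opens) : X.Opens) : Set X))
    (hqs : IsQuasiSeparated ((q ⁻¹ᵁ (⊤ : Y.Opens) : X.Opens) : Set X))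
    (hcov : ∀ x : X, ∃ (N : ℕ) (_ : 0 < N) (τ : 𝒮L.presheaf.obj (op (q ⁻¹ᵁ (⊤ : Y.Opens)))),
      IsHomog 𝒮L _ τ N ∧ x ∈ SymSec.XT 𝒮L _ τ N ∧ IsAffineOpen (SymSec.XT 𝒮L _ τ N)) :
    RelProj.domQ u pL chartL = ⊤ ∧ IsOpenImmersion r := by
  choose N hN τ hτh hxτ haff using hcov
  have hex : ∀ x : X, ∃ a : 𝒮.presheaf.obj (op ⊤), (u.app ⊤).hom a = τ x := fun x => hbij.2 (τ x)
  choose a ha using hex
  have hadeg : ∀ x, a x ∈ 𝒮.deg ⊤ hY (N x) := fun x =>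
    mem_deg_of_isHomog q 𝒮 𝒮L u hY hbij.1 (a x) (N x) (by rw [ha x]; exact hτh x)
  rw [Groth.Agent.H41.SymInvOpen.openImmersion_iff q L hL 𝒮 𝒮L j hj u p chart pL chartL hPL r hr hY]
  refine ⟨X, N, a, fun x => SymSec.XT 𝒮L _ (τ x) (N x), fun x => ⟨hN x, hadeg x⟩, fun x => ?_, ?_,
    haff, fun x t => ?_, fun x m hm s' hs' h0 => ?_⟩
  · change SymSec.XT 𝒮L _ (τ x) (N x) = _
    rw [← ha x]
    exact (XT_eq q 𝒮 𝒮L u (N x) (a x)).symm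
  · rw [eq_top_iff]
    intro x _
    exact Opens.mem_iSup.mpr ⟨x, hxτ x⟩
  · obtain ⟨m, hm, ρ, hρh, hρ⟩ := exists_extension_of_XT L 𝒮L j hj hL _ hcpt hqs (τ x) (N x) (hτh x) t
    obtain ⟨s', hs'⟩ := hbij.2 ρ
    refine ⟨m, hm, s', mem_deg_of_isHomog q 𝒮 𝒮L u hY hbij.1 s' _ (by rw [hs']; exact hρh), ?_⟩
    rw [appLE_eq, appLE_eq, hs', ha x]
    exact hρ.symm
  · rw [appLE_eq] at h0
    obtain ⟨k, hk⟩ := exists_pow_mul_eq_zero_of_XT L 𝒮L j hj hL _ hcpt (τ x) ((u.app ⊤).hom s') (N x)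
      (m * N x) (hτh x) (isHomog_app q 𝒮 𝒮L u hY s' _ hs') h0
    refine ⟨k + 1, Nat.succ_pos k, ?_⟩
    have h1 : (a x) ^ k * s' = 0 := by
      apply hbij.1
      rw [map_mul, map_pow, ha x, hk, map_zero]
    rw [pow_succ', mul_assoc, h1, mul_zero]

end Groth.Agent.H41.SymAmpleOpen
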