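import Groth.Agent.H41.SymBiprod
import Mathlib.RingTheory.IsTensorProduct

/-!
# `Sym_{R'}(R' ⊗_R M) = R' ⊗_R Sym_R M`, as a pushout square of commutative rings (helper41)

`C` is a ring under `R` which is a quotient of the symmetric algebra of `M`, `C'` a ring under `R'` which is the symmetric
algebra of `M'`, and `κ : M → M'` exhibits `M'` as the base change of `M` along `R → R'`.
-/

set_option autoImplicit false
universe u

namespace Groth.Agent.H41.SymBaseChange

open CategoryTheory CategoryTheory.Limits Groth.Agent.H41.SymRing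

variable {R R' C C' : Type u} [CommRing R] [CommRing R'] [CommRing C] [CommRing C']
  {M M' : Type u} [AddCommGroup M] [AddCommGroup M'] [Module R M] [Module R' M']
  [Algebra R R'] [Module R M'] [IsScalarTower R R' M']
  (κ : M →ₗ[R] M') (hκ : IsBaseChange R' κ)
  (sC : R →+* C) (sC' : R' →+* C') (jM : M →+ C) (jM' : M' →+ C')
  (hjM : ∀ r x, jM (r • x) = sC r * jM x) (hjM' : ∀ r x, jM' (r • x) = sC' r * jM' x)
  (bC : Function.Surjective (liftRing sC jM hjM)) (bC' : Function.Bijective (liftRing sC' jM' hjM'))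
  (ψ : C →+* C') (hψ1 : ψ.comp sC = sC'.comp (algebraMap R R'))
  (hψ2 : ∀ x, ψ (jM x) = jM' (κ x))

include hκ bC bC' hψ1 hψ2 in
theorem isPushout :
    IsPushout (CommRingCat.ofHom (algebraMap R R')) (CommRingCat.ofHom sC)
      (CommRingCat.ofHom sC') (CommRingCat.ofHom ψ) := by
  have w : CommRingCat.ofHom (algebraMap R R') ≫ CommRingCat.ofHom sC' =
      CommRingCat.ofHom sC ≫ CommRingCat.ofHom ψ := by
    refine CommRingCat.hom_ext ?_
    change sC'.comp (algebraMap R R') = ψ.comp sC
    rw [hψ1]
  have key : ∀ (T : Type u) [CommRing T] (a : R' →+* T) (b : C →+* T)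
      (_ : a.comp (algebraMap R R') = b.comp sC),
      ∃ c : C' →+* T, c.comp sC' = a ∧ c.comp ψ = b ∧
        ∀ c' : C' →+* T, c'.comp sC' = a → c'.comp ψ = b → c' = c := by
    intro T _ a b hab
    have hab' : ∀ r, a (algebraMap R R' r) = b (sC r) := fun r => RingHom.congr_fun hab r
    letI : Algebra R' T := a.toAlgebra
    letI : Algebra R T := (a.comp (algebraMap R R')).toAlgebra
    haveI : IsScalarTower R R' T := IsScalarTower.of_algebraMap_eq (fun r => rfl)
    let ℓ₀ : M →ₗ[R] T :=
      { toFun := fun x => b (jM x)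
        map_add' := fun x y => by rw [map_add, map_add]
        map_smul' := fun r x => by
          rw [RingHom.id_apply, Algebra.smul_def, hjM, map_mul, ← hab']
          rfl }
    let ℓ' : M' →ₗ[R'] T := hκ.lift ℓ₀
    have hℓ'κ : ∀ x, ℓ' (κ x) = b (jM x) := fun x => hκ.lift_eq ℓ₀ x
    have hℓ' : ∀ (r : R') (y : M'), ℓ'.toAddMonoidHom (r • y) = a r * ℓ'.toAddMonoidHom y := by
      intro r y
      change ℓ' (r • y) = a r * ℓ' y
      rw [map_smul, Algebra.smul_def]
      rfl
    let e : SymmetricAlgebra R' M' ≃+* C' := RingEquiv.ofBijective _ bC'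
    let c : C' →+* T := (liftRing a ℓ'.toAddMonoidHom hℓ').comp e.symm.toRingHom
    have hcs : ∀ r, c (sC' r) = a r := by
      intro r
      have : e.symm (sC' r) = algebraMap R' _ r := by
        rw [RingEquiv.symm_apply_eq]; exact (liftRing_algebraMap sC' jM' hjM' r).symm
      change liftRing a ℓ'.toAddMonoidHom hℓ' (e.symm (sC' r)) = _
      rw [this, liftRing_algebraMap]
    have hcj : ∀ y, c (jM' y) = ℓ' y := by
      intro y
      have : e.symm (jM' y) = SymmetricAlgebra.ι R' M' y := by
        rw [RingEquiv.symm_apply_eq]; exact (liftRing_ι sC' jM' hjM' y).symm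
      change liftRing a ℓ'.toAddMonoidHom hℓ' (e.symm (jM' y)) = _
      rw [this, liftRing_ι]
      rfl
    refine ⟨c, RingHom.ext hcs, ?_, ?_⟩
    · refine Groth.Agent.H41.SymBiprod.hom_ext_of_surjective sC jM hjM bC _ _ (fun r => ?_) (fun x => ?_)
      · change c (ψ (sC r)) = b (sC r)
        rw [show ψ (sC r) = sC' (algebraMap R R' r) from RingHom.congr_fun hψ1 r, hcs, hab']
      · change c (ψ (jM x)) = b (jM x)
        rw [hψ2, hcj, hℓ'κ]
    · intro c' hc's hc'ψ
      refine Groth.Agent.H41.SymBiprod.hom_ext_of_surjective sC' jM' hjM' bC'.2 _ _ (fun r => ?_) (fun y => ?_)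
      · rw [hcs]
        exact RingHom.congr_fun hc's r
      · refine hκ.inductionOn y (fun y => c' (jM' y) = c (jM' y)) ?_ ?_ ?_ ?_
        · rw [map_zero, map_zero, map_zero]
        · intro x
          rw [hcj, hℓ'κ, ← hψ2]
          exact RingHom.congr_fun hc'ψ (jM x)
        · intro r y hy
          rw [hjM', map_mul, map_mul, hy, hcs]
          exact congrArg (· * _) (RingHom.congr_fun hc's r)
        · intro y₁ y₂ h₁ h₂
          rw [map_add, map_add, map_add, h₁, h₂]
  refine ⟨⟨w⟩, ⟨PushoutCocone.IsColimit.mk _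
    (fun s => CommRingCat.ofHom (key s.pt s.inl.hom s.inr.hom
      (congrArg CommRingCat.Hom.hom s.condition)).choose) ?_ ?_ ?_⟩⟩
  · intro s
    refine CommRingCat.hom_ext ?_
    exact (key s.pt s.inl.hom s.inr.hom (congrArg CommRingCat.Hom.hom s.condition)).choose_spec.1
  · intro s
    refine CommRingCat.hom_ext ?_
    exact (key s.pt s.inl.hom s.inr.hom (congrArg CommRingCat.Hom.hom s.condition)).choose_spec.2.1
  · intro s m hm1 hm2
    refine CommRingCat.hom_ext ?_
    exact (key s.pt s.inl.hom s.inr.hom (congrArg CommRingCat.Hom.hom s.condition)).choose_spec.2.2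
      m.hom (congrArg CommRingCat.Hom.hom hm1) (congrArg CommRingCat.Hom.hom hm2)

end Groth.Agent.H41.SymBaseChange
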