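import Groth.Agent.H41.SymStruct

/-!
# Converse structure theorem: a quasi-coherent algebra that is a symmetric algebra over every affine open is the
symmetric algebra (helper41)

* `isIso_of_bijective_app`: a homomorphism of quasi-coherent algebras that is bijective over every affine open is an
  isomorphism.
* `isSymAlg_of_bijective`: if `liftApp E A j U : Sym_{Γ(S,U)} Γ(E,U) → A(U)` is bijective for every affine open `U`, then
  `RelSpec.IsSymAlg E A j`.
-/

set_option autoImplicit false
universe u

namespace Groth.Agent.H41.SymConverse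

open CategoryTheory CategoryTheory.Limits AlgebraicGeometry TopologicalSpace Opposite RelSpec
open Groth.Agent.H41.SymRing Groth.Agent.H41.SymSheaf Groth.Agent.H41.SymStruct

variable {S : Scheme.{u}}

theorem isIso_of_bijective_app {A B : QCAlg S} (θ : A ⟶ B)
    (h : ∀ (U : S.Opens) (_ : IsAffineOpen U), Function.Bijective (θ.hom.app (op U)).hom) : IsIso θ := by
  let φ : Groth.Agent.H18.algSheaf A ⟶ Groth.Agent.H18.algSheaf B := ⟨θ.hom⟩
  have hb : Opens.IsBasis (Set.range (fun V : S.affineOpens => V.1)) := by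
    have : Set.range (fun V : S.affineOpens => V.1) = S.affineOpens := Subtype.range_coe
    rw [this]
    exact S.isBasis_affineOpens
  have hφ : IsIso φ := by
    refine TopCat.Sheaf.isIso_iff_isIso_basis (B := fun V : S.affineOpens => V.1) hb ?_
    intro V
    change IsIso (θ.hom.app (op V.1))
    exact (ConcreteCategory.isIso_iff_bijective _).mpr (h V.1 V.2)
  have hθ : IsIso θ.hom := (TopCat.Sheaf.forget CommRingCat.{u} S.carrier).map_isIso φ
  refine ⟨⟨inv θ.hom, ?_⟩, ?_, ?_⟩
  · rw [← θ.comm, Category.assoc, IsIso.hom_inv_id, Category.comp_id]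
  · apply QCAlg.hom_ext
    change θ.hom ≫ inv θ.hom = 𝟙 _
    rw [IsIso.hom_inv_id]
  · apply QCAlg.hom_ext
    change inv θ.hom ≫ θ.hom = 𝟙 _
    rw [IsIso.inv_hom_id]

variable (E : S.Modules) [E.IsQuasicoherent] (A : QCAlg S) (j' : E ⟶ A.toModule)

/-- **Converse structure theorem.** -/
theorem isSymAlg_of_bijective
    (h : ∀ (U : S.Opens) (_ : IsAffineOpen U), Function.Bijective (liftApp E A j' U)) :
    IsSymAlg E A j' := by
  haveI : IsIso (lift E A j') := by
    refine isIso_of_bijective_app _ fun U hU => ?_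
    have hg := ConcreteCategory.bijective_of_isIso (gam E U hU)
    have : ((lift E A j').hom.app (op U)).hom = (liftApp E A j' U).comp (gam E U hU).hom :=
      RingHom.ext fun a => lift_app E A j' U hU a
    rw [this]
    exact (h U hU).comp hg
  intro B φ
  refine ⟨inv (lift E A j') ≫ lift E B φ, ?_, ?_⟩
  · change j' ≫ QCAlg.Hom.toModuleMap (inv (lift E A j') ≫ lift E B φ) = φ
    have h1 : j' = j E ≫ QCAlg.Hom.toModuleMap (lift E A j') := (j_lift E A j').symm
    have h2 : lift E A j' ≫ inv (lift E A j') ≫ lift E B φ = lift E B φ := IsIso.hom_inv_id_assoc _ _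
    calc j' ≫ QCAlg.Hom.toModuleMap (inv (lift E A j') ≫ lift E B φ)
        = (j E ≫ QCAlg.Hom.toModuleMap (lift E A j')) ≫
            QCAlg.Hom.toModuleMap (inv (lift E A j') ≫ lift E B φ) := congrArg (· ≫ _) h1
      _ = j E ≫ QCAlg.Hom.toModuleMap (lift E A j' ≫ inv (lift E A j') ≫ lift E B φ) := by
          rw [Category.assoc, ← toModuleMap_comp]
      _ = φ := by rw [h2, j_lift]
  · intro ψ hψ
    rw [IsIso.eq_inv_comp]
    refine lift_unique E B φ _ ?_
    rw [toModuleMap_comp, ← Category.assoc, j_lift, hψ]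

end Groth.Agent.H41.SymConverse
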