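import Groth.Agent.H41.SymStruct
import Mathlib.RingTheory.FiniteType

/-!
# Finiteness for symmetric algebras; `V(E) → S` is of finite type for `E` of finite type (helper41)
-/

set_option autoImplicit false
universe u

namespace Groth.Agent.H41.SymFT

open CategoryTheory CategoryTheory.Limits AlgebraicGeometry TopologicalSpace Opposite RelSpec
open Groth.Agent.H41.SymRing Groth.Agent.H41.SymSheaf Groth.Agent.H41.SymStruct

theorem adjoin_ι_eq_top {R M : Type*} [CommRing R] [AddCommGroup M] [Module R M] (T : Set M)
    (hT : Submodule.span R T = ⊤) :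
    Algebra.adjoin R (SymmetricAlgebra.ι R M '' T) = ⊤ := by
  have hι : ∀ x ∈ Submodule.span R T, SymmetricAlgebra.ι R M x ∈
      Algebra.adjoin R (SymmetricAlgebra.ι R M '' T) := by
    intro x hx
    induction hx using Submodule.span_induction with
    | mem y hy => exact Algebra.subset_adjoin ⟨y, hy, rfl⟩
    | zero => rw [map_zero]; exact Subalgebra.zero_mem _
    | add y z _ _ hy hz => rw [map_add]; exact Subalgebra.add_mem _ hy hz
    | smul a y _ hy => rw [map_smul]; exact Subalgebra.smul_mem _ hy a
  have key : ∀ z : SymmetricAlgebra R M, z ∈ Algebra.adjoin R (SymmetricAlgebra.ι R M '' T) := by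
    intro z
    induction z using SymmetricAlgebra.induction with
    | algebraMap r => exact Subalgebra.algebraMap_mem _ r
    | ι x => exact hι x (hT ▸ Submodule.mem_top)
    | mul a b ha hb => exact Subalgebra.mul_mem _ ha hb
    | add a b ha hb => exact Subalgebra.add_mem _ ha hb
  exact eq_top_iff.mpr fun z _ => key z

theorem finiteType_symmetricAlgebra (R M : Type*) [CommRing R] [AddCommGroup M] [Module R M]
    [Module.Finite R M] : Algebra.FiniteType R (SymmetricAlgebra R M) := by
  classical
  obtain ⟨T, hT⟩ := (Module.Finite.fg_top : (⊤ : Submodule R M).FG)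
  refine ⟨⟨T.image (SymmetricAlgebra.ι R M), ?_⟩⟩
  rw [Finset.coe_image]
  exact adjoin_ι_eq_top (T : Set M) hT

variable {S : Scheme.{u}}

/-- The structure morphism of a relative spectrum is locally of finite type as soon as the algebra is of finite type
over every affine open. -/
theorem locallyOfFiniteType_π (A : QCAlg S)
    (h : ∀ (U : S.Opens) (_ : IsAffineOpen U), (A.str.app (op U)).hom.FiniteType) :
    LocallyOfFiniteType A.π := by
  refine (IsZariskiLocalAtSource.iff_of_openCover (P := @LocallyOfFiniteType) A.glueData.cover).mpr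
    fun U => ?_
  change LocallyOfFiniteType (A.ι U.1 U.2 ≫ A.π)
  rw [A.ι_π]
  haveI : LocallyOfFiniteType (Spec.map (A.str.app (op U.1))) :=
    (HasRingHomProperty.Spec_iff (P := @LocallyOfFiniteType)).mpr (h U.1 U.2)
  infer_instance

theorem finiteType_str_of_isSymAlg (E : S.Modules) [E.IsQuasicoherent]
    [SheafOfModules.IsFiniteType (R := S.ringCatSheaf) E]
    (A : QCAlg S) (j' : E ⟶ A.toModule) (hA : IsSymAlg E A j') (U : S.Opens) (hU : IsAffineOpen U) :
    (A.str.app (op U)).hom.FiniteType := by
  haveI : Module.Finite Γ(S, U) Γ(E, U) := Groth.Agent.H44.finite_sections_of_isFiniteType E hU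
  have h1 : (A.str.app (op U)).hom =
      (liftApp E A j' U).comp (algebraMap Γ(S, U) (SymmetricAlgebra Γ(S, U) Γ(E, U))) := by
    refine RingHom.ext fun r => ?_
    exact (liftApp_algebraMap E A j' U r).symm
  rw [h1]
  refine RingHom.FiniteType.comp ?_ ?_
  · exact RingHom.FiniteType.of_surjective _ (bijective_liftApp E A j' hA U hU).2
  · have := finiteType_symmetricAlgebra Γ(S, U) Γ(E, U)
    exact this

end Groth.Agent.H41.SymFT
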