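import Groth.Agent.H41.SymInvDom2
import Groth.Agent.H41.LocalTarget

/-!
# The chart squares of `r_{L,ψ}` over `D₊(s)`, for `L` invertible over an affine base (helper41)

For `s ∈ 𝒮(Y)_n`, `n > 0`, with `X_t` (`t = ψ♭(s)`) affine, `V = X_t`: the square formed by
`Spec 𝒮L(V)_(t) → Spec 𝒮(Y)_(s)`, the standard charts and `r` is cartesian (`isPullback_away`).
-/

set_option autoImplicit false
universe u

namespace Groth.Agent.H41.SymInvAway

open CategoryTheory CategoryTheory.Limits AlgebraicGeometry TopologicalSpace Opposite RelSpec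
  HomogeneousLocalization
open Groth.Agent.H41.SymInvLocal Groth.Agent.H41.SymInvDom

variable {Y X P PL : Scheme.{u}} (q : X ⟶ Y)
  (L : X.Modules) (hL : PicF.IsInvertible L) [L.IsQuasicoherent]
  (𝒮 : RelProj.QCGrAlg Y) (𝒮L : RelProj.QCGrAlg X) (j : L ⟶ 𝒮L.toModule) (hj : RelProj.IsGrSymAlg L 𝒮L j)
  (u : RelProj.QGrHom q 𝒮 𝒮L)
  (p : P ⟶ Y) (chart : ∀ (U : Y.Opens) (hU : IsAffineOpen U),
    (((p ⁻¹ᵁ U : P.Opens) : Scheme.{u}) ≅ Proj (𝒮.deg U hU)))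
  (pL : PL ⟶ X) (chartL : ∀ (U : X.Opens) (hU : IsAffineOpen U),
    (((pL ⁻¹ᵁ U : PL.Opens) : Scheme.{u}) ≅ Proj (𝒮L.deg U hU)))
  (hPL : RelProj.IsRelProj 𝒮L pL chartL)
  (r : ((RelProj.domQ u pL chartL : PL.Opens) : Scheme.{u}) ⟶ P)
  (hr : RelProj.IsProjQMapOn u p chart pL chartL (RelProj.domQ u pL chartL) r)
  (hY : IsAffineOpen (⊤ : Y.Opens))
  {n : ℕ} (hn : 0 < n) (s : 𝒮.presheaf.obj (op ⊤)) (hs : s ∈ 𝒮.deg ⊤ hY n)
  (V : X.Opens) (hV : IsAffineOpen V)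
  (hXT : V = (⨆ V' : {V' : X.affineOpens //
      ((𝒮L.deg V'.1 V'.2 n : AddSubgroup (𝒮L.presheaf.obj (op (V'.1 : X.Opens)))) :
          Set (𝒮L.presheaf.obj (op (V'.1 : X.Opens)))) ⊆
        (Ideal.span {(u.appLE ⊤ (V'.1 : X.Opens) (le_top.trans (Scheme.Hom.preimage_top q).ge)).hom s} :
          Set (𝒮L.presheaf.obj (op (V'.1 : X.Opens))))},
      (V'.1.1 : X.Opens)))

include hL hj hPL hr hXT hn hs in
/-- Over `V = X_t`, `D₊(t)` is all of `Proj 𝒮L(V)`. -/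
theorem basicOpen_eq_top :
    Proj.basicOpen (𝒮L.deg V hV) (u.gradedAt ⊤ hY V hV (le_top' q V) s) = ⊤ := by
  rw [eq_top_iff]
  intro y _
  have hzV : (RelProj.emb pL chartL V hV) y ∈ pL ⁻¹ᵁ V := RelPMap2.emb_mem pL chartL V hV y
  have hz : (RelProj.emb pL chartL V hV) y ∈ pL ⁻¹ᵁ
      (⨆ V' : {V' : X.affineOpens //
      ((𝒮L.deg V'.1 V'.2 n : AddSubgroup (𝒮L.presheaf.obj (op (V'.1 : X.Opens)))) :
          Set (𝒮L.presheaf.obj (op (V'.1 : X.Opens)))) ⊆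
        (Ideal.span {(u.appLE ⊤ (V'.1 : X.Opens) (le_top.trans (Scheme.Hom.preimage_top q).ge)).hom s} :
          Set (𝒮L.presheaf.obj (op (V'.1 : X.Opens))))},
      (V'.1.1 : X.Opens)) := by
    rw [← hXT]; exact hzV
  rw [← preimage_basicOpen_eq q L hL 𝒮 𝒮L j hj u p chart pL chartL hPL r hr hY n hn s hs] at hz
  obtain ⟨z₀, hz₀, hz₀e⟩ := hz
  have hz₀' : r z₀ ∈ (RelProj.emb p chart ⊤ hY) ''ᵁ Proj.basicOpen (𝒮.deg ⊤ hY) s := hz₀
  have hx : (RelProj.domQ u pL chartL).ι z₀ ∈ pL ⁻¹ᵁ V := by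
    have : (RelProj.domQ u pL chartL).ι z₀ = (RelProj.emb pL chartL V hV) y := hz₀e
    rw [this]; exact hzV
  have h1 := (RelPMap4.apply_mem_emb_basicOpen_iff u p chart pL chartL hPL r hr ⊤ hY V hV
    (le_top' q V) hn s hs z₀ hx).mp hz₀'
  have h2 : (chartL V hV).hom ⟨(RelProj.domQ u pL chartL).ι z₀, hx⟩ = y := by
    have h3 : (⟨(RelProj.domQ u pL chartL).ι z₀, hx⟩ : (pL ⁻¹ᵁ V : PL.Opens)) =
        ⟨(RelProj.emb pL chartL V hV) y, hzV⟩ := Subtype.ext hz₀e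
    rw [h3, RelPMap2.chart_emb_apply]
  rw [h2] at h1
  exact h1

/-- The standard chart of `P` at `s`. -/
noncomputable def lam : Spec (CommRingCat.of (Away (𝒮.deg ⊤ hY) s)) ⟶ P :=
  Proj.awayι (𝒮.deg ⊤ hY) s hs hn ≫ RelProj.emb p chart ⊤ hY

instance : IsOpenImmersion (lam 𝒮 p chart hY hn s hs) := by
  unfold lam; infer_instance

theorem opensRange_lam : (lam 𝒮 p chart hY hn s hs).opensRange =
    (RelProj.emb p chart ⊤ hY) ''ᵁ Proj.basicOpen (𝒮.deg ⊤ hY) s := by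
  unfold lam
  rw [Scheme.Hom.opensRange_comp, Proj.opensRange_awayι]

/-- The standard chart of `G(u)` at `u s` over `V`. -/
noncomputable def kap : Spec (CommRingCat.of
    (Away (𝒮L.deg V hV) (u.gradedAt ⊤ hY V hV (le_top' q V) s))) ⟶
      ((RelProj.domQ u pL chartL : PL.Opens) : Scheme.{u}) :=
  IsOpenImmersion.lift (RelProj.domQ u pL chartL).ι
    (RelProj.awayEmb u pL chartL ⊤ hY V hV (le_top' q V) hn s hs)
    (RelProj.range_awayEmb_subset_domQ u pL chartL ⊤ hY V hV (le_top' q V) hn s hs)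

theorem kap_ι : kap q 𝒮 𝒮L u pL chartL hY hn s hs V hV ≫ (RelProj.domQ u pL chartL).ι =
    RelProj.awayEmb u pL chartL ⊤ hY V hV (le_top' q V) hn s hs :=
  IsOpenImmersion.lift_fac _ _ _

instance : IsOpenImmersion (kap q 𝒮 𝒮L u pL chartL hY hn s hs V hV) := by
  haveI : IsOpenImmersion (RelProj.awayEmb u pL chartL ⊤ hY V hV (le_top' q V) hn s hs) := by
    unfold RelProj.awayEmb; infer_instance
  haveI : IsOpenImmersion (kap q 𝒮 𝒮L u pL chartL hY hn s hs V hV ≫ (RelProj.domQ u pL chartL).ι) := by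
    rw [kap_ι]; infer_instance
  exact IsOpenImmersion.of_comp _ (RelProj.domQ u pL chartL).ι

include hr in
theorem kap_r : kap q 𝒮 𝒮L u pL chartL hY hn s hs V hV ≫ r =
    Spec.map (CommRingCat.ofHom (Away.map (u.gradedAt ⊤ hY V hV (le_top' q V)) s)) ≫
      lam 𝒮 p chart hY hn s hs :=
  hr ⊤ hY V hV (le_top' q V) n hn s hs
    (RelProj.range_awayEmb_subset_domQ u pL chartL ⊤ hY V hV (le_top' q V) hn s hs)

include hL hj hPL hr hXT in
theorem preimage_opensRange : r ⁻¹ᵁ (lam 𝒮 p chart hY hn s hs).opensRange =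
    (kap q 𝒮 𝒮L u pL chartL hY hn s hs V hV).opensRange := by
  apply (RelProj.domQ u pL chartL).ι.image_injective
  change (RelProj.domQ u pL chartL).ι ''ᵁ (r ⁻¹ᵁ (lam 𝒮 p chart hY hn s hs).opensRange) =
    (RelProj.domQ u pL chartL).ι ''ᵁ (kap q 𝒮 𝒮L u pL chartL hY hn s hs V hV).opensRange
  rw [opensRange_lam, preimage_basicOpen_eq q L hL 𝒮 𝒮L j hj u p chart pL chartL hPL r hr hY n hn s hs,
    ← hXT, ← Scheme.Hom.opensRange_comp]
  haveI : IsOpenImmersion (RelProj.awayEmb u pL chartL ⊤ hY V hV (le_top' q V) hn s hs) := by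
    unfold RelProj.awayEmb; infer_instance
  have hk : ∀ {A B : Scheme.{u}} (f g : A ⟶ B) [IsOpenImmersion f] [IsOpenImmersion g], f = g →
      f.opensRange = g.opensRange := by
    intro A B f g _ _ h; subst h; rfl
  rw [hk _ _ (kap_ι q 𝒮 𝒮L u pL chartL hY hn s hs V hV)]
  have hk2 : (RelProj.awayEmb u pL chartL ⊤ hY V hV (le_top' q V) hn s hs).opensRange =
      (RelProj.emb pL chartL V hV) ''ᵁ (Proj.awayι (𝒮L.deg V hV) (u.gradedAt ⊤ hY V hV (le_top' q V) s)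
        ((u.gradedAt ⊤ hY V hV (le_top' q V)).map_mem hs) hn).opensRange :=
    Scheme.Hom.opensRange_comp _ _
  rw [hk2, Proj.opensRange_awayι,
    basicOpen_eq_top q L hL 𝒮 𝒮L j hj u p chart pL chartL hPL r hr hY hn s hs V hV hXT,
    Scheme.Hom.image_top_eq_opensRange]
  unfold RelProj.emb
  rw [Scheme.Hom.opensRange_comp_of_isIso, Scheme.Opens.opensRange_ι]

include hL hj hPL hr hXT in
/-- The chart square of `r` over `D₊(s)` is cartesian. -/
theorem isPullback_away :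
    IsPullback (Spec.map (CommRingCat.ofHom (Away.map (u.gradedAt ⊤ hY V hV (le_top' q V)) s)))
      (kap q 𝒮 𝒮L u pL chartL hY hn s hs V hV) (lam 𝒮 p chart hY hn s hs) r :=
  IsOpenImmersion.isPullback _ _ _ _ (kap_r q 𝒮 𝒮L u p chart pL chartL r hr hY hn s hs V hV)
    (preimage_opensRange q L hL 𝒮 𝒮L j hj u p chart pL chartL hPL r hr hY hn s hs V hV hXT)

section beta

/-- `Γ(X,V) → 𝒮L(V)_(t)`, `c ↦ c/1`. -/
noncomputable def beta : Γ(X, V) →+* Away (𝒮L.deg V hV) (u.gradedAt ⊤ hY V hV (le_top' q V) s) :=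
  (fromZeroRingHom (𝒮L.deg V hV) (Submonoid.powers (u.gradedAt ⊤ hY V hV (le_top' q V) s))).comp
    (𝒮L.strZero V hV).hom

theorem val_beta (c : Γ(X, V)) : (beta q 𝒮 𝒮L u hY s V hV c).val =
    Localization.mk ((𝒮L.str.app (op V)).hom c) 1 := rfl

include hPL in
theorem isIso_toSpec [IsIso pL] :
    IsIso (Proj.toSpecZero (𝒮L.deg V hV) ≫ Spec.map (𝒮L.strZero V hV)) := by
  have key : pL ∣_ V = (chartL V hV).hom ≫
      (Proj.toSpecZero (𝒮L.deg V hV) ≫ Spec.map (𝒮L.strZero V hV)) ≫ hV.isoSpec.inv := by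
    rw [← cancel_mono V.ι, morphismRestrict_ι]
    simp only [Category.assoc]
    rw [IsAffineOpen.isoSpec_inv_ι]
    exact (hPL.chart_over V hV).symm
  have e : Proj.toSpecZero (𝒮L.deg V hV) ≫ Spec.map (𝒮L.strZero V hV) =
      (chartL V hV).inv ≫ pL ∣_ V ≫ hV.isoSpec.hom := by
    rw [key]
    simp
  rw [e]
  infer_instance

include hL hj hPL hr hXT hn hs in
theorem bijective_beta : Function.Bijective (beta q 𝒮 𝒮L u hY s V hV) := by
  haveI : IsIso pL := Groth.Agent.H41.SymInvIso.isIso_of_isInvertible L 𝒮L j hj hL pL chartL hPL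
  have h := isIso_SpecMap_iff (f := CommRingCat.ofHom (beta q 𝒮 𝒮L u hY s V hV))
  refine h.mp ?_
  have e : Spec.map (CommRingCat.ofHom (beta q 𝒮 𝒮L u hY s V hV)) =
      Proj.awayι (𝒮L.deg V hV) (u.gradedAt ⊤ hY V hV (le_top' q V) s)
        ((u.gradedAt ⊤ hY V hV (le_top' q V)).map_mem hs) hn ≫
      Proj.toSpecZero (𝒮L.deg V hV) ≫ Spec.map (𝒮L.strZero V hV) := by
    rw [← Category.assoc, Proj.awayι_toSpecZero, ← Spec.map_comp]
    rfl
  rw [e]
  haveI : IsIso (Proj.awayι (𝒮L.deg V hV) (u.gradedAt ⊤ hY V hV (le_top' q V) s)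
      ((u.gradedAt ⊤ hY V hV (le_top' q V)).map_mem hs) hn) :=
    isIso_of_isOpenImmersion_of_opensRange_eq_top _ (by
      rw [Proj.opensRange_awayι,
        basicOpen_eq_top q L hL 𝒮 𝒮L j hj u p chart pL chartL hPL r hr hY hn s hs V hV hXT])
  haveI := isIso_toSpec 𝒮L pL chartL hPL V hV
  infer_instance

include hL hj hPL hr hXT hn hs in
/-- Condition (iii) gives surjectivity of `𝒮(Y)_(s) → 𝒮L(V)_(t)`. -/
theorem surjective_awayMap_of_iii
    (hiii : ∀ t : Γ(X, V), ∃ (m : ℕ) (_ : 0 < m) (s' : 𝒮.presheaf.obj (op ⊤)) (_ : s' ∈ 𝒮.deg ⊤ hY (m * n)),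
      (𝒮L.str.app (op V)).hom t * ((u.appLE ⊤ V (le_top.trans (Scheme.Hom.preimage_top q).ge)).hom s) ^ m =
        (u.appLE ⊤ V (le_top.trans (Scheme.Hom.preimage_top q).ge)).hom s') :
    Function.Surjective (Away.map (u.gradedAt ⊤ hY V hV (le_top' q V)) s) := by
  intro y
  obtain ⟨t, rfl⟩ := (bijective_beta q L hL 𝒮 𝒮L j hj u p chart pL chartL hPL r hr hY hn s hs V hV hXT).2 y
  obtain ⟨m, -, s', hs', h⟩ := hiii t
  have hs'' : s' ∈ 𝒮.deg ⊤ hY (m • n) := by rwa [smul_eq_mul]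
  refine ⟨Away.mk (𝒮.deg ⊤ hY) hs m s' hs'', ?_⟩
  rw [Away.map_mk]
  apply HomogeneousLocalization.val_injective
  rw [Away.val_mk, val_beta, Localization.mk_eq_mk_iff, Localization.r_iff_exists]
  refine ⟨1, ?_⟩
  simp only [OneMemClass.coe_one, one_mul]
  rw [mul_comm]
  exact h.symm

include hL hj hPL hr hXT hn hs in
/-- Surjectivity of `𝒮(Y)_(s) → 𝒮L(V)_(t)` gives condition (iii). -/
theorem iii_of_surjective_awayMap
    (hsurj : Function.Surjective (Away.map (u.gradedAt ⊤ hY V hV (le_top' q V)) s)) (t : Γ(X, V)) :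
    ∃ (m : ℕ) (_ : 0 < m) (s' : 𝒮.presheaf.obj (op ⊤)) (_ : s' ∈ 𝒮.deg ⊤ hY (m * n)),
      (𝒮L.str.app (op V)).hom t * ((u.appLE ⊤ V (le_top.trans (Scheme.Hom.preimage_top q).ge)).hom s) ^ m =
        (u.appLE ⊤ V (le_top.trans (Scheme.Hom.preimage_top q).ge)).hom s' := by
  obtain ⟨x, hx⟩ := hsurj (beta q 𝒮 𝒮L u hY s V hV t)
  obtain ⟨m, s', hs', rfl⟩ := Away.mk_surjective (𝒜 := 𝒮.deg ⊤ hY) hs x
  rw [Away.map_mk] at hx
  have hv := congrArg HomogeneousLocalization.val hx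
  rw [Away.val_mk, val_beta, Localization.mk_eq_mk_iff, Localization.r_iff_exists] at hv
  obtain ⟨⟨_, k, rfl⟩, hk⟩ := hv
  simp only [OneMemClass.coe_one, one_mul] at hk
  have hsk : s ^ (k + 1) ∈ 𝒮.deg ⊤ hY ((k + 1) • n) := SetLike.pow_mem_graded (k + 1) hs
  have hmul := SetLike.mul_mem_graded (A := 𝒮.deg ⊤ hY) hsk hs'
  have e : (k + 1) • n + m • n = (m + k + 1) * n := by
    simp only [smul_eq_mul]; ring
  rw [e] at hmul
  refine ⟨m + k + 1, Nat.succ_pos _, s ^ (k + 1) * s', hmul, ?_⟩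
  change _ * (u.gradedAt ⊤ hY V hV (le_top' q V) s) ^ (m + k + 1) =
    u.gradedAt ⊤ hY V hV (le_top' q V) (s ^ (k + 1) * s')
  rw [map_mul, map_pow, pow_succ (u.gradedAt ⊤ hY V hV (le_top' q V) s) k, mul_assoc]
  have e2 : (u.gradedAt ⊤ hY V hV (le_top' q V) s) ^ k *
      ((u.gradedAt ⊤ hY V hV (le_top' q V) s) * (u.gradedAt ⊤ hY V hV (le_top' q V) s')) =
      (u.gradedAt ⊤ hY V hV (le_top' q V) s) *
        ((u.gradedAt ⊤ hY V hV (le_top' q V) s) ^ k * (u.gradedAt ⊤ hY V hV (le_top' q V) s')) := by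
    ring
  rw [e2, hk]
  ring

end beta

end Groth.Agent.H41.SymInvAway
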