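import Groth.Agent.H41.SymInvAway

/-!
# `r_{L,ψ}` everywhere defined and a closed immersion, over an affine base (helper41)
-/

set_option autoImplicit false
universe u

namespace Groth.Agent.H41.SymInvClosed

open CategoryTheory CategoryTheory.Limits AlgebraicGeometry TopologicalSpace Opposite RelSpec
  HomogeneousLocalization
open Groth.Agent.H41.SymInvLocal Groth.Agent.H41.SymInvDom Groth.Agent.H41.SymInvAway

/-- A ring map whose `Spec` is a closed immersion is surjective. -/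
theorem surjective_of_isClosedImmersion {R S : CommRingCat.{u}} (f : R ⟶ S)
    (hf : IsClosedImmersion (Spec.map f)) : Function.Surjective f.hom := by
  have h := (IsClosedImmersion.isAffine_surjective_of_isAffine (Spec.map f)).2
  have e : f = (Scheme.ΓSpecIso R).inv ≫ (Spec.map f).appTop ≫ (Scheme.ΓSpecIso S).hom := by
    rw [Scheme.ΓSpecIso_naturality, Iso.inv_hom_id_assoc]
  rw [e]
  exact ((ConcreteCategory.bijective_of_isIso (Scheme.ΓSpecIso S).hom).2.comp h).comp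
    (ConcreteCategory.bijective_of_isIso (Scheme.ΓSpecIso R).inv).2

variable {Y X P PL : Scheme.{u}} (q : X ⟶ Y)
  (L : X.Modules) (hL : PicF.IsInvertible L) [L.IsQuasicoherent]
  (𝒮 : RelProj.QCGrAlg Y) (𝒮L : RelProj.QCGrAlg X) (j : L ⟶ 𝒮L.toModule) (hj : RelProj.IsGrSymAlg L 𝒮L j)
  (u : RelProj.QGrHom q 𝒮 𝒮L)
  (p : P ⟶ Y) (chart : ∀ (U : Y.Opens) (hU : IsAffineOpen U),
    (((p ⁻¹ᵁ U : P.Opens) : Scheme.{u}) ≅ Proj (𝒮.deg U hU)))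
  (pL : PL ⟶ X) (chartL : ∀ (U : X.Opens) (hU : IsAffineOpen U),
    (((pL ⁻¹ᵁ U : PL.Opens) : Scheme.{u}) ≅ Proj (𝒮L.deg U hU)))
  (hPL : RelProj.IsRelProj 𝒮L pL chartL)
  (r : ((RelProj.domQ u pL chartL : PL.Opens) : Scheme.{u}) ⟶ P)
  (hr : RelProj.IsProjQMapOn u p chart pL chartL (RelProj.domQ u pL chartL) r)
  (hY : IsAffineOpen (⊤ : Y.Opens))

/-- The open `X_t`, `t = ψ♭(s)`, `s` of degree `n`. -/
def XT (n : ℕ) (s : 𝒮.presheaf.obj (op ⊤)) : X.Opens :=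
  ⨆ V : {V : X.affineOpens //
      ((𝒮L.deg V.1 V.2 n : AddSubgroup (𝒮L.presheaf.obj (op (V.1 : X.Opens)))) :
          Set (𝒮L.presheaf.obj (op (V.1 : X.Opens)))) ⊆
        (Ideal.span {(u.appLE ⊤ (V.1 : X.Opens) (le_top.trans (Scheme.Hom.preimage_top q).ge)).hom s} :
          Set (𝒮L.presheaf.obj (op (V.1 : X.Opens))))},
    (V.1.1 : X.Opens)

/-- The index type of all homogeneous elements of positive degree. -/
def Idx : Type u := {a : ℕ × 𝒮.presheaf.obj (op ⊤) // 0 < a.1 ∧ a.2 ∈ 𝒮.deg ⊤ hY a.1}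

include hL hj hPL in
theorem iSup_XT_eq_top (htop : RelProj.domQ u pL chartL = ⊤) :
    (⨆ a : Idx 𝒮 hY, XT q 𝒮 𝒮L u a.1.1 a.1.2) = ⊤ := by
  rw [eq_top_iff]
  intro x _
  obtain ⟨n, hn, s, hs, V, hV, hxV, hcont⟩ :=
    (domQ_eq_top_iff q L hL 𝒮 𝒮L j hj u pL chartL hPL hY).mp htop x
  exact Opens.mem_iSup.mpr ⟨⟨(n, s), hn, hs⟩, Opens.mem_iSup.mpr ⟨⟨⟨V, hV⟩, hcont⟩, hxV⟩⟩

include hL hj hPL in
/-- If the `X_{t_a}` cover `X`, then `r` is everywhere defined. -/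
theorem domQ_eq_top_of_cover {ι : Type u} (n : ι → ℕ) (s : ι → 𝒮.presheaf.obj (op ⊤))
    (h1 : ∀ a, 0 < n a ∧ s a ∈ 𝒮.deg ⊤ hY (n a))
    (hcov : (⨆ a, XT q 𝒮 𝒮L u (n a) (s a)) = ⊤) : RelProj.domQ u pL chartL = ⊤ := by
  refine (domQ_eq_top_iff q L hL 𝒮 𝒮L j hj u pL chartL hPL hY).mpr fun x => ?_
  have hx : x ∈ (⨆ a, XT q 𝒮 𝒮L u (n a) (s a)) := by rw [hcov]; trivial
  obtain ⟨a, hxa⟩ := Opens.mem_iSup.mp hx
  obtain ⟨⟨⟨V, hV⟩, hcont⟩, hxV⟩ := Opens.mem_iSup.mp hxa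
  exact ⟨n a, (h1 a).1, s a, (h1 a).2, V, hV, hxV, hcont⟩

include hL hj hPL hr in
/-- If `r` is an affine morphism, `X_t` is affine. -/
theorem isAffineOpen_XT [IsAffineHom r] {n : ℕ} (hn : 0 < n) (s : 𝒮.presheaf.obj (op ⊤))
    (hs : s ∈ 𝒮.deg ⊤ hY n) : IsAffineOpen (XT q 𝒮 𝒮L u n s) := by
  haveI : IsIso pL := Groth.Agent.H41.SymInvIso.isIso_of_isInvertible L 𝒮L j hj hL pL chartL hPL
  have h1 : IsAffineOpen (lam 𝒮 p chart hY hn s hs).opensRange := isAffineOpen_opensRange _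
  have h2 : IsAffineOpen (r ⁻¹ᵁ (lam 𝒮 p chart hY hn s hs).opensRange) := h1.preimage r
  have h3 := h2.image_of_isOpenImmersion (RelProj.domQ u pL chartL).ι
  rw [opensRange_lam, preimage_basicOpen_eq q L hL 𝒮 𝒮L j hj u p chart pL chartL hPL r hr hY n hn s hs] at h3
  have h4 := h3.image_of_isOpenImmersion pL
  have e : pL ''ᵁ (pL ⁻¹ᵁ (XT q 𝒮 𝒮L u n s)) = XT q 𝒮 𝒮L u n s := by
    rw [Scheme.Hom.image_preimage_eq_opensRange_inf, Scheme.Hom.opensRange_of_isIso, top_inf_eq]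
  rw [← e]
  exact h4

/-- The standard charts `lam` at a family `s_a` with `⨆ D₊(s_a) = ⊤` cover `P`. -/
theorem lam_cover {ι : Type u} (n : ι → ℕ) (s : ι → 𝒮.presheaf.obj (op ⊤))
    (h1 : ∀ a, 0 < n a ∧ s a ∈ 𝒮.deg ⊤ hY (n a))
    (hv : (⨆ a, Proj.basicOpen (𝒮.deg ⊤ hY) (s a)) = ⊤) (x : P) :
    ∃ a y, (lam 𝒮 p chart hY (h1 a).1 (s a) (h1 a).2) y = x := by
  have hx : x ∈ p ⁻¹ᵁ (⊤ : Y.Opens) := trivial
  have hy : (chart ⊤ hY).hom ⟨x, hx⟩ ∈ (⨆ a, Proj.basicOpen (𝒮.deg ⊤ hY) (s a)) := by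
    rw [hv]; trivial
  obtain ⟨a, hya⟩ := Opens.mem_iSup.mp hy
  rw [← Proj.opensRange_awayι (𝒮.deg ⊤ hY) (s a) (h1 a).2 (h1 a).1] at hya
  obtain ⟨w, hw⟩ := hya
  refine ⟨a, w, ?_⟩
  change (RelProj.emb p chart ⊤ hY) ((Proj.awayι (𝒮.deg ⊤ hY) (s a) (h1 a).2 (h1 a).1) w) = x
  rw [hw]
  exact RelPMap2.emb_chart_apply p chart ⊤ hY x hx

include hL hj hPL hr in
theorem closedImmersion_iff :
    (RelProj.domQ u pL chartL = ⊤ ∧ IsClosedImmersion r) ↔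
      ∃ (ι : Type u) (n : ι → ℕ) (s : ι → 𝒮.presheaf.obj (op ⊤)) (XT : ι → X.Opens),
        (∀ a, 0 < n a ∧ s a ∈ 𝒮.deg ⊤ hY (n a)) ∧
        (∀ a, XT a = (⨆ V : {V : X.affineOpens //
          ((𝒮L.deg V.1 V.2 (n a) : AddSubgroup (𝒮L.presheaf.obj (op (V.1 : X.Opens)))) : Set (𝒮L.presheaf.obj (op (V.1 : X.Opens)))) ⊆
            (Ideal.span {(u.appLE ⊤ (V.1 : X.Opens) (le_top.trans (Scheme.Hom.preimage_top q).ge)).hom (s a)} : Set (𝒮L.presheaf.obj (op (V.1 : X.Opens))))},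
          (V.1.1 : X.Opens))) ∧
        (⨆ a, XT a) = ⊤ ∧ (∀ a, IsAffineOpen (XT a)) ∧
        (∀ (a : ι) (t : X.presheaf.obj (op (XT a))), ∃ (m : ℕ) (_ : 0 < m) (s' : 𝒮.presheaf.obj (op ⊤)) (_ : s' ∈ 𝒮.deg ⊤ hY (m * n a)),
            (𝒮L.str.app (op (XT a))).hom t * ((u.appLE ⊤ (XT a) (le_top.trans (Scheme.Hom.preimage_top q).ge)).hom (s a)) ^ m =
              (u.appLE ⊤ (XT a) (le_top.trans (Scheme.Hom.preimage_top q).ge)).hom s') ∧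
        (⨆ a, Proj.basicOpen (𝒮.deg ⊤ hY) (s a)) = ⊤ := by
  constructor
  · rintro ⟨htop, hcl⟩
    haveI := hcl
    refine ⟨Idx 𝒮 hY, fun a => a.1.1, fun a => a.1.2, fun a => XT q 𝒮 𝒮L u a.1.1 a.1.2,
      fun a => a.2, fun a => rfl, iSup_XT_eq_top q L hL 𝒮 𝒮L j hj u pL chartL hPL hY htop,
      fun a => isAffineOpen_XT q L hL 𝒮 𝒮L j hj u p chart pL chartL hPL r hr hY a.2.1 a.1.2 a.2.2,
      fun a t => ?_, ?_⟩
    · have hV := isAffineOpen_XT q L hL 𝒮 𝒮L j hj u p chart pL chartL hPL r hr hY a.2.1 a.1.2 a.2.2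
      have hpb := isPullback_away q L hL 𝒮 𝒮L j hj u p chart pL chartL hPL r hr hY a.2.1 a.1.2 a.2.2
        (XT q 𝒮 𝒮L u a.1.1 a.1.2) hV rfl
      have hφ : IsClosedImmersion (Spec.map (CommRingCat.ofHom
          (Away.map (u.gradedAt ⊤ hY (XT q 𝒮 𝒮L u a.1.1 a.1.2) hV (le_top' q _)) a.1.2))) :=
        MorphismProperty.of_isPullback (P := @IsClosedImmersion) hpb.flip hcl
      exact iii_of_surjective_awayMap q L hL 𝒮 𝒮L j hj u p chart pL chartL hPL r hr hY a.2.1 a.1.2 a.2.2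
        (XT q 𝒮 𝒮L u a.1.1 a.1.2) hV rfl (surjective_of_isClosedImmersion _ hφ) t
    · rw [eq_top_iff]
      intro y _
      obtain ⟨e, g, he, hg, hgy⟩ := RelPMap4.exists_pos_homogeneous_notMem y
      exact Opens.mem_iSup.mpr ⟨⟨(e, g), he, hg⟩, (Proj.mem_basicOpen _ _ _).mpr hgy⟩
  · rintro ⟨ι, n, s, XT', h1, h2, hcov, haff, hiii, hv⟩
    have hcov' : (⨆ a, XT q 𝒮 𝒮L u (n a) (s a)) = ⊤ := by
      rw [← hcov]
      exact iSup_congr fun a => (h2 a).symm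
    refine ⟨domQ_eq_top_of_cover q L hL 𝒮 𝒮L j hj u pL chartL hPL hY n s h1 hcov', ?_⟩
    refine (Groth.Agent.H41.LocalTarget.iff_of_isPullback_family r
      (fun a => Spec.map (CommRingCat.ofHom
        (Away.map (u.gradedAt ⊤ hY (XT' a) (haff a) (le_top' q _)) (s a))))
      (fun a => kap q 𝒮 𝒮L u pL chartL hY (h1 a).1 (s a) (h1 a).2 (XT' a) (haff a))
      (fun a => lam 𝒮 p chart hY (h1 a).1 (s a) (h1 a).2)
      (fun a => isPullback_away q L hL 𝒮 𝒮L j hj u p chart pL chartL hPL r hr hY (h1 a).1 (s a) (h1 a).2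
        (XT' a) (haff a) (h2 a))
      (lam_cover 𝒮 p chart hY n s h1 hv) @IsClosedImmersion).mpr fun a => ?_
    exact IsClosedImmersion.spec_of_surjective _
      (surjective_awayMap_of_iii q L hL 𝒮 𝒮L j hj u p chart pL chartL hPL r hr hY (h1 a).1 (s a) (h1 a).2
        (XT' a) (haff a) (h2 a) (hiii a))

end Groth.Agent.H41.SymInvClosed
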