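import Groth.Agent.H41.SymInvLocal
import Groth.Agent.H41.SymInvIso
import Groth.Agent.H41.RelPMap4

/-!
# The open of definition of `r_{L,ψ}` over an affine base, for `L` invertible (helper41)
-/

set_option autoImplicit false
universe u

namespace Groth.Agent.H41.SymInvDom

open CategoryTheory CategoryTheory.Limits AlgebraicGeometry TopologicalSpace Opposite RelSpec
open Groth.Agent.H41.SymInvLocal

variable {Y X P PL : Scheme.{u}} (q : X ⟶ Y)
  (L : X.Modules) (hL : PicF.IsInvertible L) [L.IsQuasicoherent]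
  (𝒮 : RelProj.QCGrAlg Y) (𝒮L : RelProj.QCGrAlg X) (j : L ⟶ 𝒮L.toModule) (hj : RelProj.IsGrSymAlg L 𝒮L j)
  (u : RelProj.QGrHom q 𝒮 𝒮L)
  (p : P ⟶ Y) (chart : ∀ (U : Y.Opens) (hU : IsAffineOpen U),
    (((p ⁻¹ᵁ U : P.Opens) : Scheme.{u}) ≅ Proj (𝒮.deg U hU)))
  (pL : PL ⟶ X) (chartL : ∀ (U : X.Opens) (hU : IsAffineOpen U),
    (((pL ⁻¹ᵁ U : PL.Opens) : Scheme.{u}) ≅ Proj (𝒮L.deg U hU)))
  (hPL : RelProj.IsRelProj 𝒮L pL chartL)
  (hY : IsAffineOpen (⊤ : Y.Opens))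

/-- Every open of `X` lies over `⊤`. -/
theorem le_top' (V : X.Opens) : V ≤ q ⁻¹ᵁ (⊤ : Y.Opens) := le_top.trans (Scheme.Hom.preimage_top q).ge

/-- A point whose chart lies in `D₊(u s)`, `s` homogeneous of positive degree, is in `G(u)`. -/
theorem mem_domQ_of (V : X.Opens) (hV : IsAffineOpen V) (z : PL) (hz : z ∈ pL ⁻¹ᵁ V) {n : ℕ} (hn : 0 < n)
    (s : 𝒮.presheaf.obj (op ⊤)) (hs : s ∈ 𝒮.deg ⊤ hY n)
    (h : (chartL V hV).hom ⟨z, hz⟩ ∈
      Proj.basicOpen (𝒮L.deg V hV) ((u.appLE ⊤ V (le_top' q V)).hom s)) :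
    z ∈ RelProj.domQ u pL chartL := by
  apply RelPMap2.W_le_domQ u pL chartL ⊤ hY V hV (le_top' q V)
  rw [RelPMap2.mem_W_iff]
  exact ⟨hz, PMap.basicOpen_le (u.gradedAt ⊤ hY V hV (le_top' q V)) hs hn h⟩

include hj hL hPL in
/-- `G(ψ) = X` iff every point has a homogeneous `s` of positive degree with `ψ♭(s)` generating `L^n` nearby. -/
theorem domQ_eq_top_iff :
    RelProj.domQ u pL chartL = ⊤ ↔
      ∀ x : X, ∃ (n : ℕ) (_ : 0 < n) (s : 𝒮.presheaf.obj (op ⊤)) (_ : s ∈ 𝒮.deg ⊤ hY n)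
        (V : X.Opens) (hV : IsAffineOpen V), x ∈ V ∧
          ((𝒮L.deg V hV n : AddSubgroup (𝒮L.presheaf.obj (op V))) : Set (𝒮L.presheaf.obj (op V))) ⊆
            (Ideal.span {(u.appLE ⊤ V (le_top.trans (Scheme.Hom.preimage_top q).ge)).hom s} :
              Set (𝒮L.presheaf.obj (op V))) := by
  constructor
  · intro htop x
    haveI : IsIso pL := Groth.Agent.H41.SymInvIso.isIso_of_isInvertible L 𝒮L j hj hL pL chartL hPL
    have hzx : pL ((inv pL) x) = x := by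
      rw [← Scheme.Hom.comp_apply, IsIso.inv_hom_id]
      rfl
    set z := (inv pL) x with hzdef
    obtain ⟨_, ⟨V, hV : IsAffineOpen V, rfl⟩, hxV, -⟩ :=
      X.isBasis_affineOpens.exists_subset_of_mem_open (show x ∈ (⊤ : X.Opens) from trivial) (⊤ : X.Opens).2
    have hz : z ∈ pL ⁻¹ᵁ V := by
      change pL z ∈ V
      rw [hzx]
      exact hxV
    have hzW : z ∈ RelPMap2.W u pL chartL ⊤ hY V hV (le_top' q V) := by
      rw [← RelPMap2.domQ_inf_preimage u pL chartL hPL ⊤ hY V hV (le_top' q V), htop]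
      exact ⟨trivial, hz⟩
    obtain ⟨_, hy⟩ := (RelPMap2.mem_W_iff u pL chartL ⊤ hY V hV (le_top' q V) z).mp hzW
    obtain ⟨d, f, hd, hf, hyf⟩ := PMap.exists_homogeneous_of_mem _ _ hy
    obtain ⟨V'', hV'', hle, hzV'', hcont⟩ := exists_affine_deg_le_span L 𝒮L j hj hL pL chartL hPL V hV z hz d
      ((u.appLE ⊤ V (le_top' q V)).hom f) ((u.gradedAt ⊤ hY V hV (le_top' q V)).map_mem hf) hyf
    refine ⟨d, hd, f, hf, V'', hV'', ?_, ?_⟩
    · rw [← hzx]; exact hzV''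
    · have e : (𝒮L.presheaf.map (homOfLE hle).op).hom ((u.appLE ⊤ V (le_top' q V)).hom f) =
          (u.appLE ⊤ V'' (le_top.trans (Scheme.Hom.preimage_top q).ge)).hom f :=
        congrArg (fun k => CommRingCat.Hom.hom k f) (u.appLE_map (le_top' q V) hle)
      rw [← e]
      exact hcont
  · intro h
    rw [eq_top_iff]
    intro z _
    obtain ⟨n, hn, s, hs, V, hV, hxV, hcont⟩ := h (pL z)
    have hz : z ∈ pL ⁻¹ᵁ V := hxV
    exact mem_domQ_of q 𝒮 𝒮L u pL chartL hY V hV z hz hn s hs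
      (mem_basicOpen_of_deg_le_span L 𝒮L j hj V hV n _ hcont _)

end Groth.Agent.H41.SymInvDom
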