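import Groth.Agent.H41.SymInvDom

/-!
# `r_{L,ψ}⁻¹(D₊(f)) = X_t` over an affine base, for `L` invertible (helper41)
-/

set_option autoImplicit false
universe u

namespace Groth.Agent.H41.SymInvDom

open CategoryTheory CategoryTheory.Limits AlgebraicGeometry TopologicalSpace Opposite RelSpec
open Groth.Agent.H41.SymInvLocal

variable {Y X P PL : Scheme.{u}} (q : X ⟶ Y)
  (L : X.Modules) (hL : PicF.IsInvertible L) [L.IsQuasicoherent]
  (𝒮 : RelProj.QCGrAlg Y) (𝒮L : RelProj.QCGrAlg X) (j : L ⟶ 𝒮L.toModule) (hj : RelProj.IsGrSymAlg L 𝒮L j)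
  (u : RelProj.QGrHom q 𝒮 𝒮L)
  (p : P ⟶ Y) (chart : ∀ (U : Y.Opens) (hU : IsAffineOpen U),
    (((p ⁻¹ᵁ U : P.Opens) : Scheme.{u}) ≅ Proj (𝒮.deg U hU)))
  (pL : PL ⟶ X) (chartL : ∀ (U : X.Opens) (hU : IsAffineOpen U),
    (((pL ⁻¹ᵁ U : PL.Opens) : Scheme.{u}) ≅ Proj (𝒮L.deg U hU)))
  (hPL : RelProj.IsRelProj 𝒮L pL chartL)
  (r : ((RelProj.domQ u pL chartL : PL.Opens) : Scheme.{u}) ⟶ P)
  (hr : RelProj.IsProjQMapOn u p chart pL chartL (RelProj.domQ u pL chartL) r)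
  (hY : IsAffineOpen (⊤ : Y.Opens))

include hj hL hPL hr in
theorem preimage_basicOpen_eq (d : ℕ) (hd : 0 < d) (f : 𝒮.presheaf.obj (op ⊤)) (hf : f ∈ 𝒮.deg ⊤ hY d) :
    (RelProj.domQ u pL chartL).ι ''ᵁ (r ⁻¹ᵁ ((RelProj.emb p chart ⊤ hY) ''ᵁ Proj.basicOpen (𝒮.deg ⊤ hY) f)) =
      pL ⁻¹ᵁ
        (⨆ V : {V : X.affineOpens //
          ((𝒮L.deg V.1 V.2 d : AddSubgroup (𝒮L.presheaf.obj (op (V.1 : X.Opens)))) :
              Set (𝒮L.presheaf.obj (op (V.1 : X.Opens)))) ⊆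
            (Ideal.span {(u.appLE ⊤ (V.1 : X.Opens) (le_top.trans (Scheme.Hom.preimage_top q).ge)).hom f} :
              Set (𝒮L.presheaf.obj (op (V.1 : X.Opens))))},
          (V.1.1 : X.Opens)) := by
  ext z
  constructor
  · rintro ⟨z₀, hz₀, rfl⟩
    have hz₀' : r z₀ ∈ (RelProj.emb p chart ⊤ hY) ''ᵁ Proj.basicOpen (𝒮.deg ⊤ hY) f := hz₀
    obtain ⟨_, ⟨V, hV : IsAffineOpen V, rfl⟩, hxV, -⟩ :=
      X.isBasis_affineOpens.exists_subset_of_mem_open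
        (show pL ((RelProj.domQ u pL chartL).ι z₀) ∈ (⊤ : X.Opens) from trivial) (⊤ : X.Opens).2
    have hz : (RelProj.domQ u pL chartL).ι z₀ ∈ pL ⁻¹ᵁ V := hxV
    have hyf := (RelPMap4.apply_mem_emb_basicOpen_iff u p chart pL chartL hPL r hr ⊤ hY V hV
      (le_top' q V) hd f hf z₀ hz).mp hz₀'
    obtain ⟨V'', hV'', hle, hzV'', hcont⟩ := exists_affine_deg_le_span L 𝒮L j hj hL pL chartL hPL V hV
      ((RelProj.domQ u pL chartL).ι z₀) hz d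
      ((u.appLE ⊤ V (le_top' q V)).hom f) ((u.gradedAt ⊤ hY V hV (le_top' q V)).map_mem hf) hyf
    have e : (𝒮L.presheaf.map (homOfLE hle).op).hom ((u.appLE ⊤ V (le_top' q V)).hom f) =
        (u.appLE ⊤ V'' (le_top.trans (Scheme.Hom.preimage_top q).ge)).hom f :=
      congrArg (fun k => CommRingCat.Hom.hom k f) (u.appLE_map (le_top' q V) hle)
    rw [e] at hcont
    exact Opens.mem_iSup.mpr ⟨⟨⟨V'', hV''⟩, hcont⟩, hzV''⟩
  · intro hz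
    have hz' : pL z ∈ (⨆ V : {V : X.affineOpens //
          ((𝒮L.deg V.1 V.2 d : AddSubgroup (𝒮L.presheaf.obj (op (V.1 : X.Opens)))) :
              Set (𝒮L.presheaf.obj (op (V.1 : X.Opens)))) ⊆
            (Ideal.span {(u.appLE ⊤ (V.1 : X.Opens) (le_top.trans (Scheme.Hom.preimage_top q).ge)).hom f} :
              Set (𝒮L.presheaf.obj (op (V.1 : X.Opens))))},
          (V.1.1 : X.Opens)) := hz
    obtain ⟨⟨⟨V, hV⟩, hcont⟩, hzV⟩ := Opens.mem_iSup.mp hz'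
    have hzV' : z ∈ pL ⁻¹ᵁ V := hzV
    have hyf : (chartL V hV).hom ⟨z, hzV'⟩ ∈
        Proj.basicOpen (𝒮L.deg V hV) ((u.appLE ⊤ V (le_top' q V)).hom f) :=
      mem_basicOpen_of_deg_le_span L 𝒮L j hj V hV d _ hcont _
    have hzd : z ∈ RelProj.domQ u pL chartL :=
      mem_domQ_of q 𝒮 𝒮L u pL chartL hY V hV z hzV' hd f hf hyf
    refine ⟨⟨z, hzd⟩, ?_, rfl⟩
    exact (RelPMap4.apply_mem_emb_basicOpen_iff u p chart pL chartL hPL r hr ⊤ hY V hV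
      (le_top' q V) hd f hf ⟨z, hzd⟩ hzV').mpr hyf

end Groth.Agent.H41.SymInvDom
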