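import Groth.Agent.H41.VAId
import Groth.Agent.H41.SymInvIso

/-!
# On `Proj(Sym L)` for an invertible `L`, `O(1)` is the pullback of `L` — for ANY graded symmetric algebra (helper41)
-/

set_option autoImplicit false
universe u

open CategoryTheory CategoryTheory.Limits AlgebraicGeometry TopologicalSpace Opposite
open scoped HomogeneousIdeal

namespace Groth.Agent.H41.SymInvO1

open RelSpec Groth.Agent.H18 Groth.Agent.H18.PUP Groth.Agent.H41.RelTwistTriv

variable {X : Scheme.{u}} (L : X.Modules) [L.IsQuasicoherent]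
  (𝒮L : RelProj.QCGrAlg X) (jL : L ⟶ 𝒮L.toModule) (hjL : RelProj.IsGrSymAlg L 𝒮L jL)

include hjL in
/-- a basis of `L` over an affine open gives a degree one element vanishing nowhere on `Proj` -/
theorem j_notMem (U : X.Opens) (hU : IsAffineOpen U) (t : Γ(L, U)) (ht : IsBasisOn L U t)
    (z : ProjectiveSpectrum (𝒮L.deg U hU)) :
    ((jL.app U) t : 𝒮L.presheaf.obj (op U)) ∉ z.asHomogeneousIdeal := by
  have he : Function.Bijective (fun r : Γ(X, U) => r • t) := by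
    have := ht U le_rfl
    simpa only [mres_self] using this
  have htop := Groth.Agent.H41.PolyGrade.basicOpen_eq_top (𝒮L.deg U hU) (𝒮L.str.app (op U)).hom
    (𝒮L.str_mem U hU) (T := Groth.Agent.H41.SymInvertible.jSec L 𝒮L.toQCAlg jL U t) (hjL.2 U hU t)
    (Groth.Agent.H41.SymInvertible.exists_poly L 𝒮L.toQCAlg jL hjL.1 U hU t he)
  have hz : z ∈ Proj.basicOpen (𝒮L.deg U hU)
      (Groth.Agent.H41.SymInvertible.jSec L 𝒮L.toQCAlg jL U t) := by
    rw [htop]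
    trivial
  exact (Proj.mem_basicOpen (𝒮L.deg U hU)
    (Groth.Agent.H41.SymInvertible.jSec L 𝒮L.toQCAlg jL U t) z).mp hz

section bundle

variable {PL : Scheme.{u}} (pL : PL ⟶ X)
  (chart : ∀ (U : X.Opens) (hU : IsAffineOpen U),
    (((pL ⁻¹ᵁ U : PL.Opens) : Scheme.{u}) ≅ Proj (𝒮L.deg U hU)))
  (hP : RelProj.IsRelProj 𝒮L pL chart) (O1 : PL.Modules)
  (lam : ∀ (U : X.Opens) (hU : IsAffineOpen U),
    O1 ⟶ (Scheme.Modules.pushforward (RelProj.emb pL chart U hU)).obj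
      (GrTwist.twist (𝒮L.deg U hU) 1))
  (hO1 : RelProj.IsRelTwist 𝒮L pL chart 1 O1 lam)

/-- the canonical map `L ⟶ p_* O(1)` -/
noncomputable abbrev φ : L ⟶ (Scheme.Modules.pushforward pL).obj O1 :=
  CanonMap.phi 𝒮L pL chart hP 1 O1 lam hO1 1 VAId.h01 L jL hjL.2

include hP hO1 hjL in
/-- the adjoint `p^* L ⟶ O(1)` of the canonical map is an isomorphism when `L` is invertible -/
theorem isIso_adj (hL : PicF.IsInvertible L) :
    IsIso (((Scheme.Modules.pullbackPushforwardAdjunction pL).homEquiv L O1).symm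
      (φ L 𝒮L jL hjL pL chart hP O1 lam hO1)) := by
  set adj := Scheme.Modules.pullbackPushforwardAdjunction pL with hadj
  set ψ := (adj.homEquiv L O1).symm (φ L 𝒮L jL hjL pL chart hP O1 lam hO1) with hψ
  have hφψ : φ L 𝒮L jL hjL pL chart hP O1 lam hO1 =
      adj.unit.app L ≫ (Scheme.Modules.pushforward pL).map ψ := by
    have h1 := adj.homEquiv_unit (X := L) (Y := O1) (f := ψ)
    rw [← h1, hψ, Equiv.apply_symm_apply]
  refine IsoOfBases.isIso_of_local_bases ψ fun x => ?_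
  obtain ⟨U₀, t₀, hxU₀, ht₀⟩ := STL.exists_basis_of_isInvertible hL (pL x)
  obtain ⟨_, ⟨U, hU : IsAffineOpen U, rfl⟩, hxU, hUU₀⟩ :=
    X.isBasis_affineOpens.exists_subset_of_mem_open hxU₀ U₀.2
  have hUU₀' : U ≤ U₀ := hUU₀
  have ht : IsBasisOn L U (mres L hUU₀' t₀) := ht₀.mono hUU₀'
  set t := mres L hUU₀' t₀ with ht_def
  have hbP := Groth.Agent.H67.PullBasis.isBasisOn_pullSect pL L U t ht
  refine ⟨pL ⁻¹ᵁ U, OmegaSh.pullSect pL L U t, hxU, hbP, ?_⟩
  have hu : ψ.app _ (OmegaSh.pullSect pL L U t) =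
      (φ L 𝒮L jL hjL pL chart hP O1 lam hO1).app U t := by
    rw [hφψ]
    rfl
  rw [hu]
  obtain ⟨g, hg, hg1⟩ : ∃ g : 𝒮L.presheaf.obj (op U),
      g = ((jL.app U) t : 𝒮L.presheaf.obj (op U)) ∧ g ∈ 𝒮L.deg U hU 1 := ⟨_, rfl, hjL.2 U hU t⟩
  have hone_mem : (1 : 𝒮L.presheaf.obj (op U)) ∈ 𝒮L.deg U hU 0 :=
    SetLike.GradedOne.one_mem
  have hσ : (lam U hU).app (pL ⁻¹ᵁ U) ((φ L 𝒮L jL hjL pL chart hP O1 lam hO1).app U t) =
      GrTwistTriv.fracTw (𝒮L.deg U hU) hg1 hone_mem VAId.h01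
        ((RelProj.emb pL chart U hU) ⁻¹ᵁ (pL ⁻¹ᵁ U)) (CanonMap.one_notMem' _) := by
    apply GrTwistTriv.twist_sect_ext
    intro z
    refine (CanonMap.phi_val 𝒮L pL chart hP 1 O1 lam hO1 1 VAId.h01 L jL hjL.2
      U hU t z).trans ?_
    rw [← Localization.mk_one_eq_algebraMap]
    exact congrArg (fun a : 𝒮L.presheaf.obj (op U) =>
      (Localization.mk a 1 : GrTwist.Loc (𝒮L.deg U hU) z.1)) hg.symm
  intro V hV
  exact bijective_smul_of_lam_eq 𝒮L pL chart 1 O1 lam hO1 U hU hg1 hone_mem VAId.h01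
    (pL ⁻¹ᵁ U) le_rfl (fun z _ => hg ▸ j_notMem L 𝒮L jL hjL U hU t ht z) (CanonMap.one_notMem' _)
    ((φ L 𝒮L jL hjL pL chart hP O1 lam hO1).app U t) hσ V hV

include hP hO1 hjL in
theorem nonempty_iso (hL : PicF.IsInvertible L) :
    Nonempty ((Scheme.Modules.pullback pL).obj L ≅ O1) :=
  ⟨@asIso _ _ _ _ _ (isIso_adj L 𝒮L jL hjL pL chart hP O1 lam hO1 hL)⟩

end bundle

end Groth.Agent.H41.SymInvO1
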