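import Groth.Agent.H41.SymStruct
import Groth.Agent.H41.PolyGrade
import Groth.Agent.H8.FreeGen
import Groth.Prelude.Def_RelProj4

/-!
# The graded symmetric algebra of an invertible module is locally `O[T]` (helper41)
-/

set_option autoImplicit false
universe u

namespace Groth.Agent.H41.SymInvertible

open CategoryTheory CategoryTheory.Limits AlgebraicGeometry TopologicalSpace Opposite RelSpec
open Groth.Agent.H41.SymRing Groth.Agent.H41.SymSheaf Groth.Agent.H41.SymStruct

variable {X : Scheme.{u}} (L : X.Modules) [L.IsQuasicoherent]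
  (A : QCAlg X) (j : L ⟶ A.toModule) (hA : IsSymAlg L A j)
  (V : X.Opens) (hV : IsAffineOpen V) (e : Γ(L, V))
  (he : Function.Bijective (fun r : Γ(X, V) => r • e))

/-- The section `j(x)` of `A` over `V`, as an element of the ring `A(V)`. -/
noncomputable def jSec (x : Γ(L, V)) : A.presheaf.obj (op V) := (j.app V).hom x

omit [L.IsQuasicoherent] in
theorem jSec_smul (r : Γ(X, V)) (x : Γ(L, V)) :
    jSec L A j V (r • x) = (A.str.app (op V)).hom r * jSec L A j V x :=
  Scheme.Modules.Hom.app_smul j r x

theorem liftApp_ι' (x : Γ(L, V)) : liftApp L A j V (SymmetricAlgebra.ι _ _ x) = jSec L A j V x :=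
  liftApp_ι L A j V x

include hA hV he in
/-- Over an affine open on which `L` is free on `e`, every section of `Sym(L)` is a polynomial in `j(e)`. -/
theorem exists_poly (b : A.presheaf.obj (op V)) :
    ∃ (N : ℕ) (c : ℕ → Γ(X, V)),
      b = ∑ i ∈ Finset.range N, (A.str.app (op V)).hom (c i) * (jSec L A j V e) ^ i := by
  have key : ∀ b : A.presheaf.obj (op V),
      b ∈ (Polynomial.eval₂RingHom (A.str.app (op V)).hom (jSec L A j V e)).range := by
    intro b
    obtain ⟨z, rfl⟩ := (bijective_liftApp L A j hA V hV).2 b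
    induction z using SymmetricAlgebra.induction with
    | algebraMap r =>
      refine ⟨Polynomial.C r, ?_⟩
      rw [liftApp_algebraMap]
      exact Polynomial.eval₂_C _ _
    | ι x =>
      obtain ⟨r, rfl⟩ := he.2 x
      refine ⟨Polynomial.C r * Polynomial.X, ?_⟩
      rw [liftApp_ι']
      change Polynomial.eval₂ _ _ (Polynomial.C r * Polynomial.X) = jSec L A j V (r • e)
      rw [Polynomial.eval₂_mul, Polynomial.eval₂_C, Polynomial.eval₂_X, jSec_smul]
    | mul a b ha hb => rw [map_mul]; exact Subring.mul_mem _ ha hb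
    | add a b ha hb => rw [map_add]; exact Subring.add_mem _ ha hb
  obtain ⟨p, rfl⟩ := key b
  refine ⟨p.natDegree + 1, fun i => p.coeff i, ?_⟩
  exact Polynomial.eval₂_eq_sum_range _ _

omit [L.IsQuasicoherent] in
include he in
theorem exists_coord (x : Γ(L, V)) : ∃! r : Γ(X, V), r • e = x := by
  obtain ⟨r, hr⟩ := he.2 x
  exact ⟨r, hr, fun r' hr' => he.1 (hr'.trans hr.symm)⟩

/-- The coordinate of a section of `L` with respect to the free generator `e`. -/
noncomputable def coordFun (x : Γ(L, V)) : Γ(X, V) := (exists_coord L V e he x).choose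

omit [L.IsQuasicoherent] in
theorem coordFun_smul_self (x : Γ(L, V)) : coordFun L V e he x • e = x :=
  (exists_coord L V e he x).choose_spec.1

omit [L.IsQuasicoherent] in
theorem coordFun_eq {x : Γ(L, V)} {r : Γ(X, V)} (h : r • e = x) : coordFun L V e he x = r :=
  ((exists_coord L V e he x).choose_spec.2 r h).symm

/-- The coordinate, as an additive map. -/
noncomputable def coord : Γ(L, V) →+ Γ(X, V) where
  toFun := coordFun L V e he
  map_zero' := coordFun_eq L V e he (zero_smul _ _)
  map_add' x y := coordFun_eq L V e he (by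
    rw [add_smul, coordFun_smul_self, coordFun_smul_self])

omit [L.IsQuasicoherent] in
theorem coord_smul (r : Γ(X, V)) (x : Γ(L, V)) : coord L V e he (r • x) = r * coord L V e he x :=
  coordFun_eq L V e he (by
    change (r * coordFun L V e he x) • e = r • x
    rw [mul_smul, coordFun_smul_self])

omit [L.IsQuasicoherent] in
theorem coord_self : coord L V e he e = 1 := coordFun_eq L V e he (one_smul _ _)

include hA hV he in
/-- The retraction `Sym(L)(V) → O(V)`, `j(e) ↦ 1`. -/
theorem exists_retraction :
    ∃ ε : A.presheaf.obj (op V) →+* Γ(X, V),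
      (∀ r, ε ((A.str.app (op V)).hom r) = r) ∧ ε (jSec L A j V e) = 1 := by
  let φ : SymmetricAlgebra Γ(X, V) Γ(L, V) ≃+* A.presheaf.obj (op V) :=
    RingEquiv.ofBijective (liftApp L A j V) (bijective_liftApp L A j hA V hV)
  let ε₀ : SymmetricAlgebra Γ(X, V) Γ(L, V) →+* Γ(X, V) :=
    liftRing (RingHom.id _) (coord L V e he) (fun r x => coord_smul L V e he r x)
  refine ⟨ε₀.comp φ.symm.toRingHom, fun r => ?_, ?_⟩
  · have : φ.symm ((A.str.app (op V)).hom r) = algebraMap _ _ r := by
      rw [RingEquiv.symm_apply_eq]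
      exact (liftApp_algebraMap L A j V r).symm
    change ε₀ (φ.symm _) = r
    rw [this]
    exact liftRing_algebraMap _ _ _ r
  · have : φ.symm (jSec L A j V e) = SymmetricAlgebra.ι _ _ e := by
      rw [RingEquiv.symm_apply_eq]
      exact (liftApp_ι' L A j V e).symm
    change ε₀ (φ.symm _) = 1
    rw [this]
    exact (liftRing_ι _ _ _ e).trans (coord_self L V e he)

end Groth.Agent.H41.SymInvertible
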