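import Groth.Agent.H41.SymProjPullback

/-!
# The graded `ψ`-morphism `Sym(E) → 𝒮'` attached to a module map `ψ^*E → 𝒮'` of degree one (helper41)

For `ψ : Y' ⟶ Y`, `E` quasi-coherent on `Y` with graded symmetric algebra `𝒮`, and ANY quasi-coherent graded algebra `𝒮'`
on `Y'` with a module map `j' : ψ^*E ⟶ 𝒮'` landing in degree one over affine opens: the graded `ψ`-morphism
`uGr : 𝒮 → ψ_*𝒮'` with `u (j x) = j' (ψ^* x)`.  (Generalizes `SymProjPullback.uGr`, where `𝒮' = Sym(ψ^*E)`.)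
In particular (`uOfMap`): for a module map `s : ψ^*E ⟶ L` and `𝒮L = Sym(L)`.
-/

set_option autoImplicit false
universe u

namespace Groth.Agent.H41.SymLiftOver

open CategoryTheory CategoryTheory.Limits AlgebraicGeometry TopologicalSpace Opposite RelSpec TensorProduct
open Groth.Agent.H41.SymRing Groth.Agent.H41.SymSheaf Groth.Agent.H41.SymStruct Groth.Agent.H44
open Groth.Agent.H41.SymProjPullback

variable {Y Y' : Scheme.{u}} (ψ : Y' ⟶ Y) (E : Y.Modules) [E.IsQuasicoherent]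
  (𝒮 : RelProj.QCGrAlg Y) (jg : E ⟶ 𝒮.toModule) (hj : RelProj.IsGrSymAlg E 𝒮 jg)
  (𝒮' : RelProj.QCGrAlg Y') (jg' : (Scheme.Modules.pullback ψ).obj E ⟶ 𝒮'.toModule)
  (hj' : ∀ (U' : Y'.Opens) (hU' : IsAffineOpen U') (x : Γ((Scheme.Modules.pullback ψ).obj E, U')),
    (jg'.app U').hom x ∈ 𝒮'.deg U' hU' 1)

include hj' in
theorem uHom_map_mem (U : Y.Opens) (hU : IsAffineOpen U) (U' : Y'.Opens) (hU' : IsAffineOpen U')
    (hle : U' ≤ ψ ⁻¹ᵁ U) {d : ℕ} {x : 𝒮.presheaf.obj (op U)} (hx : x ∈ 𝒮.deg U hU d) :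
    (𝒮'.presheaf.map (homOfLE hle).op).hom
      (((uHom ψ E 𝒮.toQCAlg jg hj.1 𝒮'.toQCAlg jg').app U).hom x) ∈ 𝒮'.deg U' hU' d := by
  refine Groth.Agent.H41.GradedGen.map_mem_of_forall_mem_iSup (𝒮.deg U hU) (𝒮'.deg U' hU')
    ((uHom ψ E 𝒮.toQCAlg jg hj.1 𝒮'.toQCAlg jg').appLE U U' hle).hom ?_ hx
  intro a
  obtain ⟨y, rfl⟩ := (bijective_liftApp E 𝒮.toQCAlg jg hj.1 U hU).2 a
  induction y using SymmetricAlgebra.induction with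
  | algebraMap r =>
    rw [liftApp_algebraMap]
    refine AddSubgroup.mem_iSup_of_mem 0 ((Groth.Agent.H41.GradedGen.mem_T _ _ _).mpr
      ⟨𝒮.str_mem U hU r, ?_⟩)
    rw [uHom_appLE_str]
    exact 𝒮'.str_mem U' hU' _
  | ι x =>
    rw [liftApp_ι]
    refine AddSubgroup.mem_iSup_of_mem 1 ((Groth.Agent.H41.GradedGen.mem_T _ _ _).mpr
      ⟨hj.2 U hU x, ?_⟩)
    rw [uHom_appLE_j ψ E 𝒮.toQCAlg jg hj.1 𝒮'.toQCAlg jg' U hU]
    exact hj' U' hU' _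
  | mul a b ha hb =>
    rw [map_mul]
    exact Groth.Agent.H41.GradedGen.mul_mem_iSup _ _ _ ha hb
  | add a b ha hb =>
    rw [map_add]
    exact add_mem ha hb

/-- The graded `ψ`-morphism `Sym(E) → 𝒮'` extending `j'`. -/
noncomputable def uGr : RelProj.QGrHom ψ 𝒮 𝒮' :=
  { toQHom := uHom ψ E 𝒮.toQCAlg jg hj.1 𝒮'.toQCAlg jg'
    map_mem := fun U hU U' hU' hle _ _ hx => uHom_map_mem ψ E 𝒮 jg hj 𝒮' jg' hj' U hU U' hU' hle hx }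

theorem uGr_j (U : Y.Opens) (hU : IsAffineOpen U) (x : Γ(E, U)) :
    ((uGr ψ E 𝒮 jg hj 𝒮' jg' hj').app U).hom ((jg.app U).hom x) =
      (jg'.app (ψ ⁻¹ᵁ U)).hom (OmegaSh.pullSect ψ E U x) :=
  uHom_j ψ E 𝒮.toQCAlg jg hj.1 𝒮'.toQCAlg jg' U hU x

theorem uGr_appLE_j (U : Y.Opens) (hU : IsAffineOpen U) (U' : Y'.Opens) (hle : U' ≤ ψ ⁻¹ᵁ U) (x : Γ(E, U)) :
    ((uGr ψ E 𝒮 jg hj 𝒮' jg' hj').appLE U U' hle).hom ((jg.app U).hom x) =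
      (jg'.app U').hom (pullSectLE ψ E U U' hle x) :=
  uHom_appLE_j ψ E 𝒮.toQCAlg jg hj.1 𝒮'.toQCAlg jg' U hU U' hle x

theorem uGr_appLE_str (U : Y.Opens) (U' : Y'.Opens) (hle : U' ≤ ψ ⁻¹ᵁ U) (r : Γ(Y, U)) :
    ((uGr ψ E 𝒮 jg hj 𝒮' jg' hj').appLE U U' hle).hom ((𝒮.str.app (op U)).hom r) =
      (𝒮'.str.app (op U')).hom ((ψ.appLE U U' hle).hom r) :=
  uHom_appLE_str ψ E 𝒮.toQCAlg jg hj.1 𝒮'.toQCAlg jg' U U' hle r

end Groth.Agent.H41.SymLiftOver
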