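import Groth.Agent.H41.SymRing
import Mathlib.Algebra.Polynomial.Eval.Defs
import Mathlib.Algebra.Polynomial.AlgebraMap

/-!
# `Sym(M ⊕ R) = Sym(M)[X]` (helper41)

Instance-free form: `B0` is a symmetric algebra of `M` (through `s0`, `j0`), `Bh = B0[X]` through `ι : B0 → Bh` and `z`, and
`M'` is a biproduct of `M` and `R`; then `Bh` is a symmetric algebra of `M'` through `jh` with `jh ∘ inl = ι ∘ j0` and
`jh (inr r) = sh r * z`.
-/

set_option autoImplicit false
universe u

namespace Groth.Agent.H41.SymPoly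

open Groth.Agent.H41.SymRing

variable {R B0 Bh : Type u} [CommRing R] [CommRing B0] [CommRing Bh]
  {M M' : Type u} [AddCommGroup M] [AddCommGroup M'] [Module R M] [Module R M']
  (inl : M →+ M') (inr : R →+ M') (fst : M' →+ M) (snd : M' →+ R)
  (hinl : ∀ (r : R) x, inl (r • x) = r • inl x) (hinr : ∀ (r a : R), inr (r * a) = r • inr a)
  (h5 : ∀ p, inl (fst p) + inr (snd p) = p)
  (s0 : R →+* B0) (sh : R →+* Bh) (ι : B0 →+* Bh) (hι : ι.comp s0 = sh)
  (j0 : M →+ B0) (hj0 : ∀ r x, j0 (r • x) = s0 r * j0 x)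
  (b0 : Function.Bijective (liftRing s0 j0 hj0))
  (z : Bh) (bP : Function.Bijective (Polynomial.eval₂RingHom ι z))
  (jh : M' →+ Bh) (hjh : ∀ r x, jh (r • x) = sh r * jh x)
  (hjl : ∀ x, jh (inl x) = ι (j0 x)) (hjr : ∀ r, jh (inr r) = sh r * z)

include hinl hinr h5 hι b0 bP hjl hjr in
theorem bijective_liftRing : Function.Bijective (liftRing sh jh hjh) := by
  set lam := liftRing sh jh hjh with hlam
  let e0 : SymmetricAlgebra R M ≃+* B0 := RingEquiv.ofBijective _ b0
  let eP : Polynomial B0 ≃+* Bh := RingEquiv.ofBijective _ bP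
  have he0a : ∀ r, e0 (algebraMap R _ r) = s0 r := fun r => liftRing_algebraMap s0 j0 hj0 r
  have he0ι : ∀ x, e0 (SymmetricAlgebra.ι R M x) = j0 x := fun x => liftRing_ι s0 j0 hj0 x
  have hePC : ∀ b, eP (Polynomial.C b) = ι b := fun b => Polynomial.eval₂_C ι z
  have hePX : eP Polynomial.X = z := Polynomial.eval₂_X ι z
  -- the inverse
  let ν : SymmetricAlgebra R M →+* SymmetricAlgebra R M' :=
    liftRing (algebraMap R (SymmetricAlgebra R M'))
      ((SymmetricAlgebra.ι R M').toAddMonoidHom.comp inl) (fun r x => by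
        change SymmetricAlgebra.ι R M' (inl (r • x)) = algebraMap R _ r * SymmetricAlgebra.ι R M' (inl x)
        rw [hinl, map_smul, Algebra.smul_def])
  have hνa : ∀ r, ν (algebraMap R _ r) = algebraMap R _ r := fun r => liftRing_algebraMap _ _ _ r
  have hνι : ∀ x, ν (SymmetricAlgebra.ι R M x) = SymmetricAlgebra.ι R M' (inl x) :=
    fun x => liftRing_ι _ _ _ x
  let μ0 : B0 →+* SymmetricAlgebra R M' := ν.comp e0.symm.toRingHom
  have hμ0s : ∀ r, μ0 (s0 r) = algebraMap R _ r := by
    intro r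
    change ν (e0.symm (s0 r)) = _
    rw [← he0a, RingEquiv.symm_apply_apply, hνa]
  have hμ0j : ∀ x, μ0 (j0 x) = SymmetricAlgebra.ι R M' (inl x) := by
    intro x
    change ν (e0.symm (j0 x)) = _
    rw [← he0ι, RingEquiv.symm_apply_apply, hνι]
  let μ1 : Polynomial B0 →+* SymmetricAlgebra R M' :=
    Polynomial.eval₂RingHom μ0 (SymmetricAlgebra.ι R M' (inr 1))
  have hμ1C : ∀ b, μ1 (Polynomial.C b) = μ0 b := fun b => Polynomial.eval₂_C μ0 _
  have hμ1X : μ1 Polynomial.X = SymmetricAlgebra.ι R M' (inr 1) := Polynomial.eval₂_X μ0 _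
  let μ : Bh →+* SymmetricAlgebra R M' := μ1.comp eP.symm.toRingHom
  have hμι : ∀ b, μ (ι b) = μ0 b := by
    intro b
    change μ1 (eP.symm (ι b)) = _
    rw [← hePC, RingEquiv.symm_apply_apply, hμ1C]
  have hμz : μ z = SymmetricAlgebra.ι R M' (inr 1) := by
    change μ1 (eP.symm z) = _
    rw [← hePX, RingEquiv.symm_apply_apply, hμ1X]
  have hsh : ∀ r, sh r = ι (s0 r) := fun r => (RingHom.congr_fun hι r).symm
  -- `μ ∘ lam = id`
  have h1 : μ.comp lam = RingHom.id _ := by
    refine ringHom_ext (fun r => ?_) (fun p => ?_)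
    · change μ (lam (algebraMap R _ r)) = algebraMap R _ r
      rw [hlam, liftRing_algebraMap, hsh, hμι, hμ0s]
    · change μ (lam (SymmetricAlgebra.ι R M' p)) = SymmetricAlgebra.ι R M' p
      rw [hlam, liftRing_ι]
      conv_lhs => rw [← h5 p]
      rw [map_add, hjl, hjr, map_add, map_mul, hμι, hμ0j, hsh, hμι, hμ0s, hμz,
        ← Algebra.smul_def, ← map_smul, ← hinr, mul_one, ← map_add, h5]
  -- `lam ∘ μ0 = ι`
  have h2 : lam.comp μ0 = ι := by
    have : (lam.comp μ0).comp e0.toRingHom = ι.comp e0.toRingHom := by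
      refine ringHom_ext (fun r => ?_) (fun x => ?_)
      · change lam (μ0 (e0 (algebraMap R _ r))) = ι (e0 (algebraMap R _ r))
        rw [he0a, hμ0s, hlam, liftRing_algebraMap, hsh]
      · change lam (μ0 (e0 (SymmetricAlgebra.ι R M x))) = ι (e0 (SymmetricAlgebra.ι R M x))
        rw [he0ι, hμ0j, hlam, liftRing_ι, hjl]
    refine RingHom.ext fun b => ?_
    obtain ⟨w, rfl⟩ := e0.surjective b
    exact RingHom.congr_fun this w
  -- `lam ∘ μ = id`
  have h3 : lam.comp μ = RingHom.id _ := by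
    have : (lam.comp μ).comp eP.toRingHom = eP.toRingHom := by
      refine Polynomial.ringHom_ext (fun b => ?_) ?_
      · change lam (μ (eP (Polynomial.C b))) = eP (Polynomial.C b)
        rw [hePC, hμι]
        exact RingHom.congr_fun h2 b
      · change lam (μ (eP Polynomial.X)) = eP Polynomial.X
        rw [hePX, hμz, hlam, liftRing_ι, hjr, map_one, one_mul]
    refine RingHom.ext fun b => ?_
    obtain ⟨w, rfl⟩ := eP.surjective b
    exact RingHom.congr_fun this w
  exact ⟨Function.LeftInverse.injective (g := μ) (fun x => RingHom.congr_fun h1 x),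
    Function.RightInverse.surjective (g := μ) (fun x => RingHom.congr_fun h3 x)⟩

end Groth.Agent.H41.SymPoly
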