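import Groth.Agent.H41.SymConverse
import Groth.Agent.H41.SymPoly
import Groth.Agent.H41.SymBiprodSheaf
import Groth.Prelude.Def_RelSpec2

/-!
# `𝒮[z]` is the graded symmetric algebra of `E ⊕ O` (helper41)
-/

set_option autoImplicit false
universe u

namespace Groth.Agent.H41.SymPolySheaf

open CategoryTheory CategoryTheory.Limits AlgebraicGeometry TopologicalSpace Opposite RelSpec
open Groth.Agent.H41.SymRing Groth.Agent.H41.SymSheaf Groth.Agent.H41.SymStruct

variable {Y : Scheme.{u}}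

/-- The structure sheaf is a quasi-coherent module. -/
theorem isQuasicoherent_structureModule : (Coh.structureModule Y).IsQuasicoherent := by
  have h : (SheafOfModules.free (R := Y.ringCatSheaf) PUnit.{u+1}).IsQuasicoherent := inferInstance
  have e : SheafOfModules.unit Y.ringCatSheaf ≅ SheafOfModules.free (R := Y.ringCatSheaf) PUnit.{u+1} := by
    unfold SheafOfModules.free
    exact (Limits.coproductUniqueIso (fun _ : PUnit.{u+1} => SheafOfModules.unit Y.ringCatSheaf)).symm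
  exact (SheafOfModules.isQuasicoherent Y.ringCatSheaf).prop_of_iso e.symm h

variable (E : Y.Modules) [E.IsQuasicoherent]
  (𝒮 𝒮h : RelProj.QCGrAlg Y) (j : E ⟶ 𝒮.toModule) (hS : RelProj.IsGrSymAlg E 𝒮 j)
  (ι : 𝒮.toQCAlg ⟶ 𝒮h.toQCAlg) (z : 𝒮h.presheaf.obj (op ⊤)) (hz : RelCone.IsPolyOver 𝒮 𝒮h ι z)
  (k : Coh.structureModule Y ⟶ 𝒮h.toModule)
  (hk : ∀ U : Y.Opens, (k.app U) (1 : Γ(Y, U)) = RelCone.restrictTop 𝒮h z U)

/-- The map `E ⊕ O → 𝒮[z]`. -/
noncomputable abbrev J : E ⊞ Coh.structureModule Y ⟶ 𝒮h.toModule :=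
  biprod.desc (j ≫ RelSpec.QCAlg.Hom.toModuleMap ι) k

omit [E.IsQuasicoherent] in
theorem J_inl (U : Y.Opens) (x : Γ(E, U)) :
    ((J E 𝒮 𝒮h j ι k).app U).hom (((biprod.inl : E ⟶ E ⊞ Coh.structureModule Y).app U).hom x) =
      (ι.hom.app (op U)).hom ((j.app U).hom x) := by
  have : (biprod.inl : E ⟶ E ⊞ Coh.structureModule Y) ≫ J E 𝒮 𝒮h j ι k =
      j ≫ RelSpec.QCAlg.Hom.toModuleMap ι := biprod.inl_desc _ _
  exact congrArg (fun m => (Scheme.Modules.Hom.app m U).hom x) this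

omit [E.IsQuasicoherent] in
include hk in
theorem J_inr (U : Y.Opens) (r : Γ(Y, U)) :
    ((J E 𝒮 𝒮h j ι k).app U).hom
        (((biprod.inr : Coh.structureModule Y ⟶ E ⊞ Coh.structureModule Y).app U).hom r) =
      (𝒮h.str.app (op U)).hom r * RelCone.restrictTop 𝒮h z U := by
  have : (biprod.inr : Coh.structureModule Y ⟶ E ⊞ Coh.structureModule Y) ≫ J E 𝒮 𝒮h j ι k = k :=
    biprod.inr_desc _ _
  have h1 := congrArg (fun m : Coh.structureModule Y ⟶ 𝒮h.toModule =>
    (Scheme.Modules.Hom.app m U).hom (show Γ(Coh.structureModule Y, U) from r)) this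
  refine h1.trans ?_
  have h2 : (k.app U).hom (r • (1 : Γ(Y, U))) = r • (k.app U).hom (1 : Γ(Y, U)) :=
    Scheme.Modules.Hom.app_smul k r (1 : Γ(Y, U))
  have h3 : r • (1 : Γ(Y, U)) = r := mul_one r
  rw [h3] at h2
  rw [h2]
  have h4 : (k.app U).hom (1 : Γ(Y, U)) = RelCone.restrictTop 𝒮h z U := hk U
  rw [h4]
  rfl

omit [E.IsQuasicoherent] in
theorem total_apply (U : Y.Opens) (p : Γ(E ⊞ Coh.structureModule Y, U)) :
    ((biprod.inl : E ⟶ E ⊞ Coh.structureModule Y).app U).hom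
        (((biprod.fst : E ⊞ Coh.structureModule Y ⟶ E).app U).hom p) +
      ((biprod.inr : Coh.structureModule Y ⟶ E ⊞ Coh.structureModule Y).app U).hom
        (((biprod.snd : E ⊞ Coh.structureModule Y ⟶ Coh.structureModule Y).app U).hom p) = p :=
  congrArg (fun m => (Scheme.Modules.Hom.app m U).hom p)
    (biprod.total (X := E) (Y := Coh.structureModule Y))

include hS hz hk in
theorem bijective_liftApp_J (U : Y.Opens) (hU : IsAffineOpen U) :
    haveI := isQuasicoherent_structureModule (Y := Y)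
    haveI : (E ⊞ Coh.structureModule Y).IsQuasicoherent :=
      Groth.Agent.H12.QCohAbelian.isQuasicoherent_biprod E (Coh.structureModule Y)
    Function.Bijective (liftApp (E ⊞ Coh.structureModule Y) 𝒮h.toQCAlg (J E 𝒮 𝒮h j ι k) U) := by
  haveI := isQuasicoherent_structureModule (Y := Y)
  haveI : (E ⊞ Coh.structureModule Y).IsQuasicoherent :=
    Groth.Agent.H12.QCohAbelian.isQuasicoherent_biprod E (Coh.structureModule Y)
  exact Groth.Agent.H41.SymPoly.bijective_liftRing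
    (R := Γ(Y, U)) (B0 := 𝒮.presheaf.obj (op U)) (Bh := 𝒮h.presheaf.obj (op U))
    (M := Γ(E, U)) (M' := Γ(E ⊞ Coh.structureModule Y, U))
    ((biprod.inl : E ⟶ E ⊞ Coh.structureModule Y).app U).hom
    ((biprod.inr : Coh.structureModule Y ⟶ E ⊞ Coh.structureModule Y).app U).hom
    ((biprod.fst : E ⊞ Coh.structureModule Y ⟶ E).app U).hom
    ((biprod.snd : E ⊞ Coh.structureModule Y ⟶ Coh.structureModule Y).app U).hom
    (fun r x => Scheme.Modules.Hom.app_smul _ r x)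
    (fun r a => Scheme.Modules.Hom.app_smul
      (biprod.inr : Coh.structureModule Y ⟶ E ⊞ Coh.structureModule Y) r a)
    (total_apply E U)
    (𝒮.str.app (op U)).hom (𝒮h.str.app (op U)).hom (ι.hom.app (op U)).hom
    (congrArg CommRingCat.Hom.hom (NatTrans.congr_app ι.comm (op U)))
    ((j.app U).hom : Γ(E, U) →+ 𝒮.presheaf.obj (op U))
    (fun r x => Scheme.Modules.Hom.app_smul j r x)
    (bijective_liftApp E 𝒮.toQCAlg j hS.1 U hU)
    (RelCone.restrictTop 𝒮h z U) (hz.bij U hU)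
    (((J E 𝒮 𝒮h j ι k).app U).hom : Γ(E ⊞ Coh.structureModule Y, U) →+ 𝒮h.presheaf.obj (op U))
    (fun r x => Scheme.Modules.Hom.app_smul (J E 𝒮 𝒮h j ι k) r x)
    (J_inl E 𝒮 𝒮h j ι k U) (J_inr E 𝒮 𝒮h j ι z k hk U)

include hS hz hk in
theorem isGrSymAlg :
    RelProj.IsGrSymAlg (E ⊞ Coh.structureModule Y) 𝒮h (J E 𝒮 𝒮h j ι k) := by
  haveI := isQuasicoherent_structureModule (Y := Y)
  haveI : (E ⊞ Coh.structureModule Y).IsQuasicoherent :=
    Groth.Agent.H12.QCohAbelian.isQuasicoherent_biprod E (Coh.structureModule Y)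
  refine ⟨Groth.Agent.H41.SymConverse.isSymAlg_of_bijective _ _ _
    (fun U hU => bijective_liftApp_J E 𝒮 𝒮h j hS ι z hz k hk U hU), fun U hU x => ?_⟩
  have hx := total_apply E U x
  rw [← hx]
  have h1 : ((J E 𝒮 𝒮h j ι k).app U).hom
      (((biprod.inl : E ⟶ E ⊞ Coh.structureModule Y).app U).hom
        (((biprod.fst : E ⊞ Coh.structureModule Y ⟶ E).app U).hom x)) ∈ 𝒮h.deg U hU 1 := by
    rw [J_inl]
    exact hz.graded U hU 1 _ (hS.2 U hU _)
  have h2 : ((J E 𝒮 𝒮h j ι k).app U).hom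
      (((biprod.inr : Coh.structureModule Y ⟶ E ⊞ Coh.structureModule Y).app U).hom
        (((biprod.snd : E ⊞ Coh.structureModule Y ⟶ Coh.structureModule Y).app U).hom x)) ∈
          𝒮h.deg U hU 1 := by
    have := J_inr E 𝒮 𝒮h j ι z k hk U
      (((biprod.snd : E ⊞ Coh.structureModule Y ⟶ Coh.structureModule Y).app U).hom x)
    rw [this]
    have hm := SetLike.mul_mem_graded (𝒮h.str_mem U hU
      (((biprod.snd : E ⊞ Coh.structureModule Y ⟶ Coh.structureModule Y).app U).hom x)) (hz.deg_z U hU)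
    rwa [zero_add] at hm
  have hadd : ∀ a b : Γ(E ⊞ Coh.structureModule Y, U),
      (((J E 𝒮 𝒮h j ι k).app U).hom (a + b) : 𝒮h.presheaf.obj (op U)) =
        (((J E 𝒮 𝒮h j ι k).app U).hom a : 𝒮h.presheaf.obj (op U)) +
          (((J E 𝒮 𝒮h j ι k).app U).hom b : 𝒮h.presheaf.obj (op U)) :=
    fun a b => map_add ((J E 𝒮 𝒮h j ι k).app U).hom a b
  have := (𝒮h.deg U hU 1).add_mem h1 h2
  change (((J E 𝒮 𝒮h j ι k).app U).hom (_ + _) : 𝒮h.presheaf.obj (op U)) ∈ 𝒮h.deg U hU 1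
  rw [hadd]
  exact this

end Groth.Agent.H41.SymPolySheaf
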