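import Groth.Agent.H41.SymPullback
import Groth.Agent.H41.QHomOfAff
import Groth.Agent.H41.GradedGen
import Groth.Agent.H41.RelProjQMap

/-!
# `P(ψ^*E) = P(E) ×_Y Y'` (helper41)

For `ψ : Y' ⟶ Y`, `E` quasi-coherent on `Y`, `A = Sym(E)`, `B = Sym(ψ^*E)`: the `ψ`-morphism `u : A → ψ_*B` extending the
adjunction unit (`uHom`), its base change property (`isQBaseChange_uHom`), gradedness (`uGr`), and the cartesian square of
projective bundles (`exists_isPullback`).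
-/

set_option autoImplicit false
universe u

namespace Groth.Agent.H41.SymProjPullback

open CategoryTheory CategoryTheory.Limits AlgebraicGeometry TopologicalSpace Opposite RelSpec TensorProduct
open Groth.Agent.H41.SymRing Groth.Agent.H41.SymSheaf Groth.Agent.H41.SymStruct Groth.Agent.H44

variable {Y Y' : Scheme.{u}} (ψ : Y' ⟶ Y) (E : Y.Modules) [E.IsQuasicoherent]
  (A : QCAlg Y) (j : E ⟶ A.toModule) (hA : IsSymAlg E A j)
  (B : QCAlg Y') (j' : (Scheme.Modules.pullback ψ).obj E ⟶ B.toModule)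

/-- `Sym Γ(E,U) → B(ψ⁻¹U)`, extending `ψ♯` and `x ↦ j'(ψ^*x)`. -/
noncomputable def thetaApp (U : Y.Opens) :
    SymmetricAlgebra Γ(Y, U) Γ(E, U) →+* B.presheaf.obj (op (ψ ⁻¹ᵁ U)) :=
  liftRing ((B.str.app (op (ψ ⁻¹ᵁ U))).hom.comp (ψ.app U).hom)
    (((j'.app (ψ ⁻¹ᵁ U)).hom : Γ((Scheme.Modules.pullback ψ).obj E, ψ ⁻¹ᵁ U) →+ B.presheaf.obj (op (ψ ⁻¹ᵁ U))).comp
      ((OmegaSh.pullSect ψ E U).hom : Γ(E, U) →+ Γ((Scheme.Modules.pullback ψ).obj E, ψ ⁻¹ᵁ U)))
    (fun r x => by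
      have h := Scheme.Modules.Hom.app_smul j' ((ψ.app U).hom r) (OmegaSh.pullSect ψ E U x)
      rw [← OmegaSh.pullSect_smul] at h
      exact h)

omit [E.IsQuasicoherent] in
@[simp] theorem thetaApp_algebraMap (U : Y.Opens) (r : Γ(Y, U)) :
    thetaApp ψ E B j' U (algebraMap _ _ r) = (B.str.app (op (ψ ⁻¹ᵁ U))).hom ((ψ.app U).hom r) :=
  liftRing_algebraMap _ _ _ r

omit [E.IsQuasicoherent] in
@[simp] theorem thetaApp_ι (U : Y.Opens) (x : Γ(E, U)) :
    thetaApp ψ E B j' U (SymmetricAlgebra.ι _ _ x) = (j'.app (ψ ⁻¹ᵁ U)).hom (OmegaSh.pullSect ψ E U x) :=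
  liftRing_ι _ _ _ x

omit [E.IsQuasicoherent] in
theorem thetaApp_res {U V : Y.Opens} (i : V ⟶ U) :
    (B.presheaf.map (homOfLE (ψ.preimage_mono i.le)).op).hom.comp (thetaApp ψ E B j' U) =
      (thetaApp ψ E B j' V).comp (symRes E i) := by
  refine ringHom_ext (fun r => ?_) (fun x => ?_)
  · change (B.presheaf.map (homOfLE (ψ.preimage_mono i.le)).op).hom (thetaApp ψ E B j' U (algebraMap _ _ r)) =
      thetaApp ψ E B j' V (symRes E i (algebraMap _ _ r))
    rw [thetaApp_algebraMap, symRes_algebraMap, thetaApp_algebraMap, str_res]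
    congr 1
    exact (congrArg (fun k => CommRingCat.Hom.hom k r) (ψ.naturality i.op)).symm
  · change (B.presheaf.map (homOfLE (ψ.preimage_mono i.le)).op).hom
        (thetaApp ψ E B j' U (SymmetricAlgebra.ι _ _ x)) =
      thetaApp ψ E B j' V (symRes E i (SymmetricAlgebra.ι _ _ x))
    rw [thetaApp_ι, symRes_ι, thetaApp_ι]
    have h1 : (E.presheaf.map i.op).hom x = E.presheaf.map (homOfLE i.le).op x := rfl
    rw [h1, OmegaSh.pullSect_map ψ E i.le x]
    exact (hom_app_resLE j' (ψ.preimage_mono i.le) _).symm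

/-- The ring isomorphism `Sym Γ(E,U) ≃ A(U)` over an affine open. -/
noncomputable def symEquiv (U : Y.Opens) (hU : IsAffineOpen U) :
    SymmetricAlgebra Γ(Y, U) Γ(E, U) ≃+* A.presheaf.obj (op U) :=
  RingEquiv.ofBijective (liftApp E A j U) (bijective_liftApp E A j hA U hU)

theorem symEquiv_apply (U : Y.Opens) (hU : IsAffineOpen U) (y : SymmetricAlgebra Γ(Y, U) Γ(E, U)) :
    symEquiv E A j hA U hU y = liftApp E A j U y := rfl

/-- The maps `A(U) → B(ψ⁻¹U)` over the affine opens. -/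
noncomputable def etaApp (U : Y.Opens) (hU : IsAffineOpen U) :
    A.presheaf.obj (op U) →+* B.presheaf.obj (op (ψ ⁻¹ᵁ U)) :=
  (thetaApp ψ E B j' U).comp (symEquiv E A j hA U hU).symm.toRingHom

theorem etaApp_liftApp (U : Y.Opens) (hU : IsAffineOpen U) (y : SymmetricAlgebra Γ(Y, U) Γ(E, U)) :
    etaApp ψ E A j hA B j' U hU (liftApp E A j U y) = thetaApp ψ E B j' U y := by
  change thetaApp ψ E B j' U ((symEquiv E A j hA U hU).symm (symEquiv E A j hA U hU y)) = _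
  rw [RingEquiv.symm_apply_apply]

theorem etaApp_str (U : Y.Opens) (hU : IsAffineOpen U) (r : Γ(Y, U)) :
    etaApp ψ E A j hA B j' U hU ((A.str.app (op U)).hom r) =
      (B.str.app (op (ψ ⁻¹ᵁ U))).hom ((ψ.app U).hom r) := by
  rw [← liftApp_algebraMap E A j U r, etaApp_liftApp, thetaApp_algebraMap]

theorem etaApp_j (U : Y.Opens) (hU : IsAffineOpen U) (x : Γ(E, U)) :
    etaApp ψ E A j hA B j' U hU ((j.app U).hom x) =
      (j'.app (ψ ⁻¹ᵁ U)).hom (OmegaSh.pullSect ψ E U x) := by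
  rw [← liftApp_ι E A j U x, etaApp_liftApp, thetaApp_ι]

/-- The maps `etaApp` as a natural transformation on the affine Zariski site. -/
noncomputable def eta : (Scheme.AffineZariskiSite.toOpensFunctor Y).op ⋙ A.presheaf ⟶
    (Scheme.AffineZariskiSite.toOpensFunctor Y).op ⋙ (ψ.base _* B.presheaf) where
  app U := CommRingCat.ofHom (etaApp ψ E A j hA B j' U.unop.1 U.unop.2)
  naturality U V i := by
    refine CommRingCat.hom_ext (RingHom.ext fun a => ?_)
    obtain ⟨y, rfl⟩ := (bijective_liftApp E A j hA U.unop.1 U.unop.2).2 a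
    have h1 := RingHom.congr_fun
      (liftApp_res E A j ((Scheme.AffineZariskiSite.toOpensFunctor Y).map i.unop)) y
    have h2 := RingHom.congr_fun
      (thetaApp_res ψ E B j' ((Scheme.AffineZariskiSite.toOpensFunctor Y).map i.unop)) y
    change etaApp ψ E A j hA B j' V.unop.1 V.unop.2
        ((A.presheaf.map ((Scheme.AffineZariskiSite.toOpensFunctor Y).map i.unop).op).hom
          (liftApp E A j U.unop.1 y)) =
      (B.presheaf.map (homOfLE (ψ.preimage_mono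
        ((Scheme.AffineZariskiSite.toOpensFunctor Y).map i.unop).le)).op).hom
        (etaApp ψ E A j hA B j' U.unop.1 U.unop.2 (liftApp E A j U.unop.1 y))
    rw [etaApp_liftApp]
    refine Eq.trans ?_ h2.symm
    refine Eq.trans (congrArg _ h1) ?_
    exact etaApp_liftApp ψ E A j hA B j' V.unop.1 V.unop.2 _

theorem eta_str (U : Y.Opens) (hU : IsAffineOpen U) :
    A.str.app (op U) ≫ (eta ψ E A j hA B j').app (op ⟨U, hU⟩) =
      ψ.app U ≫ B.str.app (op (ψ ⁻¹ᵁ U)) := by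
  refine CommRingCat.hom_ext (RingHom.ext fun r => ?_)
  exact etaApp_str ψ E A j hA B j' U hU r

/-- The `ψ`-morphism `Sym(E) → Sym(ψ^*E)` extending the adjunction unit. -/
noncomputable def uHom : QHom ψ A B :=
  Groth.Agent.H41.QHomOfAff.ofAff ψ A B (eta ψ E A j hA B j') (eta_str ψ E A j hA B j')

theorem uHom_app (U : Y.Opens) (hU : IsAffineOpen U) (a : A.presheaf.obj (op U)) :
    ((uHom ψ E A j hA B j').app U).hom a = etaApp ψ E A j hA B j' U hU a :=
  congrArg (fun k => CommRingCat.Hom.hom k a)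
    (Groth.Agent.H41.QHomOfAff.ofAff_app ψ A B (eta ψ E A j hA B j') (eta_str ψ E A j hA B j') U hU)

theorem uHom_j (U : Y.Opens) (hU : IsAffineOpen U) (x : Γ(E, U)) :
    ((uHom ψ E A j hA B j').app U).hom ((j.app U).hom x) =
      (j'.app (ψ ⁻¹ᵁ U)).hom (OmegaSh.pullSect ψ E U x) := by
  rw [uHom_app ψ E A j hA B j' U hU, etaApp_j]

set_option maxRecDepth 8000 in
include hA in
/-- A `ψ`-morphism `Sym(E) → Sym(ψ^*E)` extending the adjunction unit over the affine opens is a base change. -/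
theorem isQBaseChange_of_affine (hB : IsSymAlg ((Scheme.Modules.pullback ψ).obj E) B j') (u : QHom ψ A B)
    (hu : ∀ (U : Y.Opens) (_ : IsAffineOpen U) (x : Γ(E, U)),
      (u.app U).hom ((j.app U).hom x) = (j'.app (ψ ⁻¹ᵁ U)).hom (OmegaSh.pullSect ψ E U x)) :
    IsQBaseChange u := by
  intro U hU U' hU' hle
  letI : Algebra Γ(Y, U) Γ(Y', U') := (ψ.appLE U U' hle).hom.toAlgebra
  letI : Module Γ(Y, U) Γ((Scheme.Modules.pullback ψ).obj E, U') :=
    Module.compHom _ (ψ.appLE U U' hle).hom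
  haveI : IsScalarTower Γ(Y, U) Γ(Y', U') Γ((Scheme.Modules.pullback ψ).obj E, U') :=
    IsScalarTower.of_algebraMap_smul (fun r x => rfl)
  let κ : Γ(E, U) →ₗ[Γ(Y, U)] Γ((Scheme.Modules.pullback ψ).obj E, U') :=
    { toFun := pullSectLE ψ E U U' hle
      map_add' := fun x y => Groth.Agent.H41.SymPullback.pullSectLE_add ψ E U U' hle x y
      map_smul' := fun r x => pullSectLE_smul ψ E U U' hle r x }
  have hκ : IsBaseChange Γ(Y', U') κ :=
    IsBaseChange.of_equiv (pullbackSectionsEquiv ψ E hU' hU hle).symm (fun x =>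
      (LinearEquiv.symm_apply_eq _).mpr (pullbackSectionsEquiv_pullSectLE ψ E hU' hU hle x).symm)
  have hψ1 : (u.appLE U U' hle).hom.comp (A.str.app (op U)).hom =
      (B.str.app (op U')).hom.comp (algebraMap Γ(Y, U) Γ(Y', U')) :=
    congrArg CommRingCat.Hom.hom (u.str_appLE U U' hle)
  have hψ2 : ∀ x : Γ(E, U), (u.appLE U U' hle).hom ((j.app U).hom x) = (j'.app U').hom (κ x) := by
    intro x
    change (B.presheaf.map (homOfLE hle).op).hom ((u.app U).hom ((j.app U).hom x)) = _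
    rw [hu U hU x]
    exact (hom_app_resLE j' hle _).symm
  exact Groth.Agent.H41.SymBaseChange.isPushout κ hκ (A.str.app (op U)).hom (B.str.app (op U')).hom
    ((j.app U).hom : Γ(E, U) →+ A.presheaf.obj (op U))
    ((j'.app U').hom : Γ((Scheme.Modules.pullback ψ).obj E, U') →+ B.presheaf.obj (op U'))
    (fun r x => Scheme.Modules.Hom.app_smul j r x) (fun r x => Scheme.Modules.Hom.app_smul j' r x)
    (bijective_liftApp E A j hA U hU).2 (bijective_liftApp _ B j' hB U' hU')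
    (u.appLE U U' hle).hom hψ1 hψ2

theorem isQBaseChange_uHom (hB : IsSymAlg ((Scheme.Modules.pullback ψ).obj E) B j') :
    IsQBaseChange (uHom ψ E A j hA B j') :=
  isQBaseChange_of_affine ψ E A j hA B j' hB _ (uHom_j ψ E A j hA B j')

theorem uHom_appLE_str (U : Y.Opens) (U' : Y'.Opens) (hle : U' ≤ ψ ⁻¹ᵁ U) (r : Γ(Y, U)) :
    ((uHom ψ E A j hA B j').appLE U U' hle).hom ((A.str.app (op U)).hom r) =
      (B.str.app (op U')).hom ((ψ.appLE U U' hle).hom r) :=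
  congrArg (fun k => CommRingCat.Hom.hom k r) ((uHom ψ E A j hA B j').str_appLE U U' hle)

theorem uHom_appLE_j (U : Y.Opens) (hU : IsAffineOpen U) (U' : Y'.Opens) (hle : U' ≤ ψ ⁻¹ᵁ U) (x : Γ(E, U)) :
    ((uHom ψ E A j hA B j').appLE U U' hle).hom ((j.app U).hom x) =
      (j'.app U').hom (pullSectLE ψ E U U' hle x) := by
  change (B.presheaf.map (homOfLE hle).op).hom (((uHom ψ E A j hA B j').app U).hom ((j.app U).hom x)) = _
  rw [uHom_j ψ E A j hA B j' U hU x]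
  exact (hom_app_resLE j' hle _).symm

section graded

variable (𝒮 : RelProj.QCGrAlg Y) (jg : E ⟶ 𝒮.toModule) (hj : RelProj.IsGrSymAlg E 𝒮 jg)
  (𝒮' : RelProj.QCGrAlg Y') (jg' : (Scheme.Modules.pullback ψ).obj E ⟶ 𝒮'.toModule)
  (hj' : RelProj.IsGrSymAlg ((Scheme.Modules.pullback ψ).obj E) 𝒮' jg')

include hj' in
theorem uHom_map_mem (U : Y.Opens) (hU : IsAffineOpen U) (U' : Y'.Opens) (hU' : IsAffineOpen U')
    (hle : U' ≤ ψ ⁻¹ᵁ U) {d : ℕ} {x : 𝒮.presheaf.obj (op U)} (hx : x ∈ 𝒮.deg U hU d) :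
    (𝒮'.presheaf.map (homOfLE hle).op).hom
      (((uHom ψ E 𝒮.toQCAlg jg hj.1 𝒮'.toQCAlg jg').app U).hom x) ∈ 𝒮'.deg U' hU' d := by
  refine Groth.Agent.H41.GradedGen.map_mem_of_forall_mem_iSup (𝒮.deg U hU) (𝒮'.deg U' hU')
    ((uHom ψ E 𝒮.toQCAlg jg hj.1 𝒮'.toQCAlg jg').appLE U U' hle).hom ?_ hx
  intro a
  obtain ⟨y, rfl⟩ := (bijective_liftApp E 𝒮.toQCAlg jg hj.1 U hU).2 a
  induction y using SymmetricAlgebra.induction with
  | algebraMap r =>
    rw [liftApp_algebraMap]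
    refine AddSubgroup.mem_iSup_of_mem 0 ((Groth.Agent.H41.GradedGen.mem_T _ _ _).mpr
      ⟨𝒮.str_mem U hU r, ?_⟩)
    rw [uHom_appLE_str]
    exact 𝒮'.str_mem U' hU' _
  | ι x =>
    rw [liftApp_ι]
    refine AddSubgroup.mem_iSup_of_mem 1 ((Groth.Agent.H41.GradedGen.mem_T _ _ _).mpr
      ⟨hj.2 U hU x, ?_⟩)
    rw [uHom_appLE_j ψ E 𝒮.toQCAlg jg hj.1 𝒮'.toQCAlg jg' U hU]
    exact hj'.2 U' hU' _
  | mul a b ha hb =>
    rw [map_mul]
    exact Groth.Agent.H41.GradedGen.mul_mem_iSup _ _ _ ha hb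
  | add a b ha hb =>
    rw [map_add]
    exact add_mem ha hb

/-- The graded `ψ`-morphism `Sym(E) → Sym(ψ^*E)` extending the adjunction unit. -/
noncomputable def uGr : RelProj.QGrHom ψ 𝒮 𝒮' :=
  { toQHom := uHom ψ E 𝒮.toQCAlg jg hj.1 𝒮'.toQCAlg jg'
    map_mem := fun U hU U' hU' hle _ _ hx => uHom_map_mem ψ E 𝒮 jg hj 𝒮' jg' hj' U hU U' hU' hle hx }

theorem isQBaseChange_uGr : IsQBaseChange (uGr ψ E 𝒮 jg hj 𝒮' jg' hj').toQHom :=
  isQBaseChange_uHom ψ E 𝒮.toQCAlg jg hj.1 𝒮'.toQCAlg jg' hj'.1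

include hj hj' in
/-- `P(ψ^*E) = P(E) ×_Y Y'`. -/
theorem exists_isPullback {P P' : Scheme.{u}} (p : P ⟶ Y)
    (chart : ∀ (U : Y.Opens) (hU : IsAffineOpen U), ((p ⁻¹ᵁ U : P.Opens) : Scheme.{u}) ≅ Proj (𝒮.deg U hU))
    (hP : RelProj.IsRelProj 𝒮 p chart) (p' : P' ⟶ Y')
    (chart' : ∀ (U' : Y'.Opens) (hU' : IsAffineOpen U'),
      ((p' ⁻¹ᵁ U' : P'.Opens) : Scheme.{u}) ≅ Proj (𝒮'.deg U' hU'))
    (hP' : RelProj.IsRelProj 𝒮' p' chart') :
    ∃ g : P' ⟶ P, IsPullback g p' p ψ := by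
  have hu := isQBaseChange_uGr ψ E 𝒮 jg hj 𝒮' jg' hj'
  obtain ⟨h, hh⟩ := Groth.Agent.H41.RelProjQMap.exists_isProjQMap ψ 𝒮 𝒮'
    (uGr ψ E 𝒮 jg hj 𝒮' jg' hj') hu p chart hP p' chart' hP'
  exact ⟨h, Groth.Agent.H41.RelProjQMap.isPullback_of_isProjQMap ψ 𝒮 𝒮'
    (uGr ψ E 𝒮 jg hj 𝒮' jg' hj') hu p chart hP p' chart' hP' h hh⟩

end graded

end Groth.Agent.H41.SymProjPullback
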