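import Groth.Agent.H41.SymBaseChange
import Groth.Agent.H41.SymStruct
import Groth.Agent.H41.RelSpecBaseChange
import Groth.Agent.H44.PullUnit

/-!
# `V(g^*E) = V(E) ×_S S'` (helper41)

For `g : S' ⟶ S`, `E` quasi-coherent on `S`, `A = Sym(E)`, `B = Sym(g^*E)` and `u : A → g_*B` the `g`-morphism extending the
adjunction unit: `u` is a base change (`isQBaseChange`), hence `Spec(B) = Spec(A) ×_S S'` (`isPullback`).
-/

set_option autoImplicit false
universe u

namespace Groth.Agent.H41.SymPullback

open CategoryTheory CategoryTheory.Limits AlgebraicGeometry TopologicalSpace Opposite RelSpec TensorProduct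
open Groth.Agent.H41.SymRing Groth.Agent.H41.SymSheaf Groth.Agent.H41.SymStruct Groth.Agent.H44

variable {S S' : Scheme.{u}} (g : S' ⟶ S) (E : S.Modules) [E.IsQuasicoherent]
  (A : QCAlg S) (j : E ⟶ A.toModule) (hA : IsSymAlg E A j)
  (B : QCAlg S') (j' : (Scheme.Modules.pullback g).obj E ⟶ B.toModule)
  (hB : IsSymAlg ((Scheme.Modules.pullback g).obj E) B j')
  (u : QHom g A B)
  (hu : ∀ (U : S.Opens) (x : Γ(E, U)),
      (u.app U).hom ((j.app U) x) =
        (j'.app (g ⁻¹ᵁ U)) (((Scheme.Modules.pullbackPushforwardAdjunction g).unit.app E).app U x))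

omit [E.IsQuasicoherent] in
theorem pullSectLE_add (U : S.Opens) (U' : S'.Opens) (hle : U' ≤ g ⁻¹ᵁ U) (x y : Γ(E, U)) :
    pullSectLE g E U U' hle (x + y) = pullSectLE g E U U' hle x + pullSectLE g E U U' hle y := by
  unfold pullSectLE
  have h1 : (OmegaSh.pullSect g E U) (x + y) =
      (OmegaSh.pullSect g E U) x + (OmegaSh.pullSect g E U) y :=
    map_add (OmegaSh.pullSect g E U).hom x y
  rw [h1]
  exact map_add (((Scheme.Modules.pullback g).obj E).presheaf.map (homOfLE hle).op).hom _ _

set_option maxRecDepth 8000 in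
include hA hB hu in
theorem isQBaseChange : IsQBaseChange u := by
  intro U hU U' hU' hle
  letI : Algebra Γ(S, U) Γ(S', U') := (g.appLE U U' hle).hom.toAlgebra
  letI : Module Γ(S, U) Γ((Scheme.Modules.pullback g).obj E, U') :=
    Module.compHom _ (g.appLE U U' hle).hom
  haveI : IsScalarTower Γ(S, U) Γ(S', U') Γ((Scheme.Modules.pullback g).obj E, U') :=
    IsScalarTower.of_algebraMap_smul (fun r x => rfl)
  let κ : Γ(E, U) →ₗ[Γ(S, U)] Γ((Scheme.Modules.pullback g).obj E, U') :=
    { toFun := pullSectLE g E U U' hle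
      map_add' := fun x y => by
        exact pullSectLE_add g E U U' hle x y
      map_smul' := fun r x => pullSectLE_smul g E U U' hle r x }
  have hκ : IsBaseChange Γ(S', U') κ :=
    IsBaseChange.of_equiv (pullbackSectionsEquiv g E hU' hU hle).symm (fun x =>
      (LinearEquiv.symm_apply_eq _).mpr (pullbackSectionsEquiv_pullSectLE g E hU' hU hle x).symm)
  have hψ1 : (u.appLE U U' hle).hom.comp (A.str.app (op U)).hom =
      (B.str.app (op U')).hom.comp (algebraMap Γ(S, U) Γ(S', U')) :=
    congrArg CommRingCat.Hom.hom (u.str_appLE U U' hle)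
  have hψ2 : ∀ x : Γ(E, U), (u.appLE U U' hle).hom ((j.app U).hom x) = (j'.app U').hom (κ x) := by
    intro x
    change (B.presheaf.map (homOfLE hle).op).hom ((u.app U).hom ((j.app U) x)) = _
    rw [hu U x]
    exact (hom_app_resLE j' hle _).symm
  exact Groth.Agent.H41.SymBaseChange.isPushout κ hκ (A.str.app (op U)).hom (B.str.app (op U')).hom
    ((j.app U).hom : Γ(E, U) →+ A.presheaf.obj (op U))
    ((j'.app U').hom : Γ((Scheme.Modules.pullback g).obj E, U') →+ B.presheaf.obj (op U'))
    (fun r x => Scheme.Modules.Hom.app_smul j r x) (fun r x => Scheme.Modules.Hom.app_smul j' r x)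
    (bijective_liftApp E A j hA U hU).2 (bijective_liftApp _ B j' hB U' hU')
    (u.appLE U U' hle).hom hψ1 hψ2

include hA hB hu in
/-- `V(g^*E) = V(E) ×_S S'`. -/
theorem isPullback (h : B.spec ⟶ A.spec) (hh : IsSpecQMap u h) : IsPullback h B.π A.π g :=
  Groth.Agent.H41.RelSpecBaseChange.isPullback_relSpec g A B u
    (isQBaseChange g E A j hA B j' hB u hu) h hh

end Groth.Agent.H41.SymPullback
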