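import Mathlib.LinearAlgebra.SymmetricAlgebra.Basic
import Mathlib.RingTheory.Localization.Away.Basic
import Mathlib.RingTheory.Localization.Module
import Mathlib.Algebra.Module.LocalizedModule.Basic

/-!
# Symmetric algebras along a change of rings (helper41)

* `symMap ρ m hm : SymmetricAlgebra R M →+* SymmetricAlgebra R' M'` for a ring hom `ρ : R →+* R'` and a
  `ρ`-semilinear additive map `m : M →+ M'`;  `ringHom_ext`, `symMap_id`, `symMap_comp`.
* `isLocalization_symMap`: if `R'` is the localization of `R` away from `r` and `M'` is the localization of `M`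
  at the powers of `r`, then `Sym_{R'} M'` is the localization of `Sym_R M` away from `r`.
-/

set_option autoImplicit false

namespace Groth.Agent.H41.SymRing

open SymmetricAlgebra

section basic

variable {R R' R'' : Type*} [CommRing R] [CommRing R'] [CommRing R'']
  {M M' M'' : Type*} [AddCommGroup M] [Module R M] [AddCommGroup M'] [Module R' M']
  [AddCommGroup M''] [Module R'' M'']

/-- Two ring homomorphisms out of a symmetric algebra agree if they agree on scalars and on generators. -/
theorem ringHom_ext {B : Type*} [Semiring B] {f g : SymmetricAlgebra R M →+* B}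
    (h1 : ∀ r, f (algebraMap R _ r) = g (algebraMap R _ r))
    (h2 : ∀ x, f (ι R M x) = g (ι R M x)) : f = g := by
  refine RingHom.ext fun x => ?_
  induction x using SymmetricAlgebra.induction with
  | algebraMap r => exact h1 r
  | ι x => exact h2 x
  | mul a b ha hb => rw [map_mul, map_mul, ha, hb]
  | add a b ha hb => rw [map_add, map_add, ha, hb]

/-- The ring homomorphism `Sym_R M → B` attached to a ring homomorphism `σ : R → B` and an additive map `ℓ : M → B` that is
semilinear along `σ`. -/
noncomputable def liftRing {B : Type*} [CommRing B] (σ : R →+* B) (ℓ : M →+ B)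
    (hℓ : ∀ r x, ℓ (r • x) = σ r * ℓ x) : SymmetricAlgebra R M →+* B :=
  letI : Algebra R B := σ.toAlgebra
  (SymmetricAlgebra.lift (R := R) (M := M) (A := B)
    { toFun := fun x => ℓ x
      map_add' := fun x y => map_add ℓ x y
      map_smul' := fun r x => by
        rw [RingHom.id_apply, Algebra.smul_def]
        exact hℓ r x }).toRingHom

@[simp] theorem liftRing_algebraMap {B : Type*} [CommRing B] (σ : R →+* B) (ℓ : M →+ B)
    (hℓ : ∀ r x, ℓ (r • x) = σ r * ℓ x) (r : R) :
    liftRing σ ℓ hℓ (algebraMap R _ r) = σ r := by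
  letI : Algebra R B := σ.toAlgebra
  exact AlgHom.commutes _ r

@[simp] theorem liftRing_ι {B : Type*} [CommRing B] (σ : R →+* B) (ℓ : M →+ B)
    (hℓ : ∀ r x, ℓ (r • x) = σ r * ℓ x) (x : M) :
    liftRing σ ℓ hℓ (ι R M x) = ℓ x := by
  letI : Algebra R B := σ.toAlgebra
  exact SymmetricAlgebra.lift_ι_apply _ x

/-- The ring homomorphism `Sym_R M → Sym_{R'} M'` induced by `ρ : R → R'` and a `ρ`-semilinear map `m : M → M'`. -/
noncomputable def symMap (ρ : R →+* R') (m : M →+ M') (hm : ∀ r x, m (r • x) = ρ r • m x) :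
    SymmetricAlgebra R M →+* SymmetricAlgebra R' M' :=
  liftRing ((algebraMap R' (SymmetricAlgebra R' M')).comp ρ)
    ((ι R' M').toAddMonoidHom.comp m) (fun r x => by
      change ι R' M' (m (r • x)) = algebraMap R' _ (ρ r) * ι R' M' (m x)
      rw [hm, map_smul, Algebra.smul_def])

@[simp] theorem symMap_algebraMap (ρ : R →+* R') (m : M →+ M') (hm : ∀ r x, m (r • x) = ρ r • m x) (r : R) :
    symMap ρ m hm (algebraMap R _ r) = algebraMap R' _ (ρ r) :=
  liftRing_algebraMap _ _ _ r

@[simp] theorem symMap_ι (ρ : R →+* R') (m : M →+ M') (hm : ∀ r x, m (r • x) = ρ r • m x) (x : M) :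
    symMap ρ m hm (ι R M x) = ι R' M' (m x) :=
  liftRing_ι _ _ _ x

theorem symMap_id : symMap (RingHom.id R) (AddMonoidHom.id M) (fun _ _ => rfl) = RingHom.id _ :=
  ringHom_ext (fun r => by simp) (fun x => by simp)

theorem symMap_comp (ρ : R →+* R') (m : M →+ M') (hm : ∀ r x, m (r • x) = ρ r • m x)
    (ρ' : R' →+* R'') (m' : M' →+ M'') (hm' : ∀ r x, m' (r • x) = ρ' r • m' x) :
    (symMap ρ' m' hm').comp (symMap ρ m hm) =
      symMap (ρ'.comp ρ) (m'.comp m) (fun r x => by
        change m' (m (r • x)) = ρ' (ρ r) • m' (m x)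
        rw [hm, hm']) :=
  ringHom_ext (fun r => by simp) (fun x => by simp)

theorem liftRing_comp_symMap {B : Type*} [CommRing B] (ρ : R →+* R') (m : M →+ M')
    (hm : ∀ r x, m (r • x) = ρ r • m x) (σ : R' →+* B) (ℓ : M' →+ B)
    (hℓ : ∀ r x, ℓ (r • x) = σ r * ℓ x) :
    (liftRing σ ℓ hℓ).comp (symMap ρ m hm) =
      liftRing (σ.comp ρ) (ℓ.comp m) (fun r x => by
        change ℓ (m (r • x)) = σ (ρ r) * ℓ (m x)
        rw [hm, hℓ]) :=
  ringHom_ext (fun r => by simp) (fun x => by simp)

theorem comp_liftRing {B C : Type*} [CommRing B] [CommRing C] (σ : R →+* B) (ℓ : M →+ B)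
    (hℓ : ∀ r x, ℓ (r • x) = σ r * ℓ x) (θ : B →+* C) :
    θ.comp (liftRing σ ℓ hℓ) =
      liftRing (θ.comp σ) (θ.toAddMonoidHom.comp ℓ) (fun r x => by
        change θ (ℓ (r • x)) = θ (σ r) * θ (ℓ x)
        rw [hℓ, map_mul]) :=
  ringHom_ext (fun r => by simp) (fun x => by simp)

end basic

section loc

variable {R R' : Type*} [CommRing R] [CommRing R'] [Algebra R R']
  {M M' : Type*} [AddCommGroup M] [Module R M] [AddCommGroup M'] [Module R' M'] [Module R M']
  [IsScalarTower R R' M']

theorem isUnit_algebraMap_end {N : Type*} [AddCommGroup N] [Module R N] [Module R' N] [IsScalarTower R R' N]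
    (s : R) (hs : IsUnit (algebraMap R R' s)) : IsUnit (algebraMap R (Module.End R N) s) := by
  obtain ⟨v, hv⟩ := hs
  have hact : ∀ t : N, s • t = (v : R') • t := fun t => by rw [hv, algebraMap_smul]
  rw [Module.End.isUnit_iff]
  refine ⟨fun a b hab => ?_, fun b => ⟨(↑v⁻¹ : R') • b, ?_⟩⟩
  · have h1 : s • a = s • b := hab
    rw [hact, hact] at h1
    have := congrArg (fun z => (↑v⁻¹ : R') • z) h1
    simpa [smul_smul] using this
  · change s • ((↑v⁻¹ : R') • b) = b
    rw [hact, smul_smul]
    simp

/-- The comparison map `Sym_R M → Sym_{R'} M'` for an `R`-algebra `R'` and an `R`-linear map `m : M → M'`. -/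
noncomputable def locMap (m : M →ₗ[R] M') : SymmetricAlgebra R M →+* SymmetricAlgebra R' M' :=
  symMap (algebraMap R R') m.toAddMonoidHom (fun a x => by
    change m (a • x) = algebraMap R R' a • m x
    rw [map_smul, algebraMap_smul])

@[simp] theorem locMap_algebraMap (m : M →ₗ[R] M') (a : R) :
    locMap m (algebraMap R _ a) = algebraMap R' (SymmetricAlgebra R' M') (algebraMap R R' a) :=
  symMap_algebraMap _ _ _ a

@[simp] theorem locMap_ι (m : M →ₗ[R] M') (x : M) : locMap m (ι R M x) = ι R' M' (m x) :=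
  symMap_ι _ _ _ x

variable (r : R) [IsLocalization.Away r R'] (m : M →ₗ[R] M') [IsLocalizedModule (Submonoid.powers r) m]

include r in
theorem isLocalization_locMap :
    letI := (locMap (R' := R') m).toAlgebra
    IsLocalization.Away (algebraMap R (SymmetricAlgebra R M) r) (SymmetricAlgebra R' M') := by
  letI := (locMap (R' := R') m).toAlgebra
  set A := SymmetricAlgebra R M
  set A' := SymmetricAlgebra R' M'
  set a : A := algebraMap R A r
  let L := Localization.Away a
  have hr : IsUnit (algebraMap R R' r) := IsLocalization.Away.algebraMap_isUnit r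
  have hu : IsUnit (locMap (R' := R') m a) := by
    rw [locMap_algebraMap]; exact hr.map _
  -- the map `L → A'`
  let φ : L →+* A' := IsLocalization.Away.lift a hu
  have hφ : ∀ x : A, φ (algebraMap A L x) = locMap m x := fun x => IsLocalization.Away.lift_eq a hu x
  -- `L` as an `R'`-algebra
  have huL : IsUnit (((algebraMap A L).comp (algebraMap R A)) r) :=
    IsLocalization.Away.algebraMap_isUnit a
  let σ : R' →+* L := IsLocalization.Away.lift r huL
  have hσ : ∀ x : R, σ (algebraMap R R' x) = algebraMap A L (algebraMap R A x) :=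
    fun x => IsLocalization.Away.lift_eq r huL x
  letI : Algebra R' L := σ.toAlgebra
  haveI : IsScalarTower R R' L := IsScalarTower.of_algebraMap_eq fun x => by
    rw [IsScalarTower.algebraMap_apply R A L]; exact (hσ x).symm
  -- the linear map `M' → L`
  let ℓ₀ : M →ₗ[R] L := (IsScalarTower.toAlgHom R A L).toLinearMap ∘ₗ ι R M
  have hunits : ∀ x : Submonoid.powers r, IsUnit (algebraMap R (Module.End R L) x) := by
    rintro ⟨_, n, rfl⟩
    exact isUnit_algebraMap_end (R' := R') _ (by rw [map_pow]; exact hr.pow n)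
  let ℓ₁ : M' →ₗ[R] L := IsLocalizedModule.lift (Submonoid.powers r) m ℓ₀ hunits
  have hℓ₁ : ∀ x : M, ℓ₁ (m x) = algebraMap A L (ι R M x) :=
    fun x => IsLocalizedModule.lift_apply (Submonoid.powers r) m ℓ₀ hunits x
  let ℓ₂ : M' →ₗ[R'] L := ℓ₁.extendScalarsOfIsLocalization (Submonoid.powers r) R'
  let ψ : A' →ₐ[R'] L := SymmetricAlgebra.lift ℓ₂
  have hψι : ∀ y : M', ψ (ι R' M' y) = ℓ₁ y := fun y => SymmetricAlgebra.lift_ι_apply ℓ₂ y
  -- `ψ ∘ locMap = algebraMap A L`
  have h1 : (ψ : A' →+* L).comp (locMap m) = algebraMap A L := by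
    refine ringHom_ext (fun x => ?_) (fun x => ?_)
    · change ψ (locMap m (algebraMap R A x)) = _
      rw [locMap_algebraMap, AlgHom.commutes]
      exact hσ x
    · change ψ (locMap m (ι R M x)) = _
      rw [locMap_ι, hψι, hℓ₁]
  -- `φ ∘ σ = algebraMap R' A'`
  have h2 : φ.comp σ = algebraMap R' A' := by
    refine IsLocalization.ringHom_ext (Submonoid.powers r) ?_
    refine RingHom.ext fun x => ?_
    change φ (σ (algebraMap R R' x)) = algebraMap R' A' (algebraMap R R' x)
    rw [hσ, hφ, locMap_algebraMap]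
  -- `φ ∘ ψ = id`
  have h3 : (φ.comp (ψ : A' →+* L)) = RingHom.id A' := by
    refine ringHom_ext (fun x => ?_) (fun y => ?_)
    · change φ (ψ (algebraMap R' A' x)) = algebraMap R' A' x
      rw [AlgHom.commutes]
      exact RingHom.congr_fun h2 x
    · change φ (ψ (ι R' M' y)) = ι R' M' y
      rw [hψι]
      obtain ⟨⟨x, ⟨_, n, rfl⟩⟩, hx⟩ := IsLocalizedModule.surj (Submonoid.powers r) m y
      have hx' : (algebraMap R R' r ^ n) • y = m x := by
        rw [← map_pow, algebraMap_smul]; exact hx
      have hu' : IsUnit (algebraMap R' A' (algebraMap R R' r ^ n)) := (hr.pow n).map _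
      refine hu'.mul_left_cancel ?_
      have e1 : algebraMap R' A' (algebraMap R R' r ^ n) * ι R' M' y = ι R' M' (m x) := by
        rw [← Algebra.smul_def, ← map_smul, hx']
      have e2 : algebraMap R' A' (algebraMap R R' r ^ n) * φ (ℓ₁ y) = ι R' M' (m x) := by
        have : σ (algebraMap R R' r ^ n) * ℓ₁ y = ℓ₁ (m x) := by
          have h := map_smul ℓ₂ (algebraMap R R' r ^ n) y
          rw [hx'] at h
          rw [show ℓ₁ (m x) = ℓ₂ (m x) from rfl, h, Algebra.smul_def]
          rfl
        rw [← RingHom.congr_fun h2 (algebraMap R R' r ^ n)]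
        change φ (σ _) * φ (ℓ₁ y) = _
        rw [← map_mul, this, hℓ₁, hφ, locMap_ι]
      rw [e1, e2]
  have h4 : ((ψ : A' →+* L).comp φ) = RingHom.id L := by
    refine IsLocalization.ringHom_ext (Submonoid.powers a) ?_
    refine RingHom.ext fun x => ?_
    change ψ (φ (algebraMap A L x)) = algebraMap A L x
    rw [hφ]
    exact RingHom.congr_fun h1 x
  let e : L ≃ₐ[A] A' :=
    { toFun := φ
      invFun := ψ
      left_inv := fun z => RingHom.congr_fun h4 z
      right_inv := fun z => RingHom.congr_fun h3 z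
      map_mul' := map_mul φ
      map_add' := map_add φ
      commutes' := fun x => hφ x }
  exact IsLocalization.isLocalization_of_algEquiv (Submonoid.powers a) e

end loc

end Groth.Agent.H41.SymRing
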