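import Groth.Agent.H41.SymInvLocal
import Groth.Agent.H8.QcqsPush
import Groth.Agent.H8.MeroGen
import Groth.Agent.H18.PUP.LocalBasis

/-!
# Sections of `Sym(L)` for an invertible `L`: standard elements over trivialising opens (helper41)

* `sres` : restriction of sections of `𝒮L`.
* `std V e c n = c · j(e)^n`.
* `exists_std`, `std_inj` : over an affine trivialising open every element of degree `n` is a unique `std`.
* `cond_basicOpen`, `le_basicOpen_of_cond` : for `τ` with `τ|V = c · j(e)^n`, the affine opens `W` with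
  `𝒮L(W)_n ⊆ (τ|W)` are (inside `V`) those contained in `D(c)`.
-/

set_option autoImplicit false
universe u

namespace Groth.Agent.H41.SymSec

open CategoryTheory CategoryTheory.Limits AlgebraicGeometry TopologicalSpace Opposite RelSpec
open Groth.Agent.H18 Groth.Agent.H18.PUP Groth.Agent.H44
open Groth.Agent.H41.SymInvertible Groth.Agent.H41.SymInvLocal
open Groth.Agent.H8

variable {X : Scheme.{u}} (L : X.Modules) [L.IsQuasicoherent]
  (𝒮L : RelProj.QCGrAlg X) (jL : L ⟶ 𝒮L.toModule) (hjL : RelProj.IsGrSymAlg L 𝒮L jL)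

/-- restriction of sections of `𝒮L` -/
noncomputable abbrev sres {U V : X.Opens} (h : V ≤ U) :
    𝒮L.presheaf.obj (op U) →+* 𝒮L.presheaf.obj (op V) :=
  (𝒮L.presheaf.map (homOfLE h).op).hom

theorem sres_sres {U V W : X.Opens} (h : V ≤ U) (h' : W ≤ V) (x : 𝒮L.presheaf.obj (op U)) :
    sres 𝒮L h' (sres 𝒮L h x) = sres 𝒮L (h'.trans h) x := by
  change ((𝒮L.presheaf.map (homOfLE h).op) ≫ (𝒮L.presheaf.map (homOfLE h').op)).hom x = _
  rw [← Functor.map_comp]
  rfl

theorem sres_self {U : X.Opens} (h : U ≤ U) (x : 𝒮L.presheaf.obj (op U)) : sres 𝒮L h x = x := by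
  have : (homOfLE h).op = 𝟙 (op U) := rfl
  change (𝒮L.presheaf.map (homOfLE h).op).hom x = x
  rw [this, CategoryTheory.Functor.map_id]
  rfl

theorem sres_str {U V : X.Opens} (h : V ≤ U) (c : Γ(X, U)) :
    sres 𝒮L h ((𝒮L.str.app (op U)).hom c) = (𝒮L.str.app (op V)).hom (rres X h c) :=
  Groth.Agent.H41.SymSheaf.str_res (A := 𝒮L.toQCAlg) (homOfLE h) c

/-- the standard element `c · j(e)^n` -/
noncomputable def std (V : X.Opens) (e : Γ(L, V)) (c : Γ(X, V)) (n : ℕ) : 𝒮L.presheaf.obj (op V) :=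
  (𝒮L.str.app (op V)).hom c * (jSec L 𝒮L.toQCAlg jL V e) ^ n

omit [L.IsQuasicoherent] in
theorem sres_std {V W : X.Opens} (h : W ≤ V) (e : Γ(L, V)) (c : Γ(X, V)) (n : ℕ) :
    sres 𝒮L h (std L 𝒮L jL V e c n) = std L 𝒮L jL W (mres L h e) (rres X h c) n := by
  unfold std
  rw [map_mul, map_pow, sres_str]
  congr 2
  exact jSec_res L 𝒮L jL h e

omit [L.IsQuasicoherent] in
theorem std_mul (V : X.Opens) (e : Γ(L, V)) (c c' : Γ(X, V)) (n n' : ℕ) :
    std L 𝒮L jL V e c n * std L 𝒮L jL V e c' n' = std L 𝒮L jL V e (c * c') (n + n') := by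
  unfold std
  rw [map_mul, pow_add]
  ring

omit [L.IsQuasicoherent] in
theorem std_pow (V : X.Opens) (e : Γ(L, V)) (c : Γ(X, V)) (n m : ℕ) :
    (std L 𝒮L jL V e c n) ^ m = std L 𝒮L jL V e (c ^ m) (n * m) := by
  unfold std
  rw [mul_pow, map_pow, pow_mul]

omit [L.IsQuasicoherent] in
theorem std_smul (V : X.Opens) (e : Γ(L, V)) (a c : Γ(X, V)) (n : ℕ) :
    std L 𝒮L jL V (a • e) c n = std L 𝒮L jL V e (c * a ^ n) n := by
  unfold std
  rw [jSec_smul, mul_pow, map_mul, map_pow]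
  ring

omit [L.IsQuasicoherent] in
theorem str_mul_std (V : X.Opens) (e : Γ(L, V)) (a c : Γ(X, V)) (n : ℕ) :
    (𝒮L.str.app (op V)).hom a * std L 𝒮L jL V e c n = std L 𝒮L jL V e (a * c) n := by
  unfold std
  rw [map_mul]
  ring

omit [L.IsQuasicoherent] in
theorem std_zero (V : X.Opens) (e : Γ(L, V)) (n : ℕ) : std L 𝒮L jL V e 0 n = 0 := by
  unfold std
  rw [map_zero, zero_mul]

omit [L.IsQuasicoherent] in
include hjL in
theorem std_mem (V : X.Opens) (hV : IsAffineOpen V) (e : Γ(L, V)) (c : Γ(X, V)) (n : ℕ) :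
    std L 𝒮L jL V e c n ∈ 𝒮L.deg V hV n := by
  have h1 := 𝒮L.str_mem V hV c
  have hT : jSec L 𝒮L.toQCAlg jL V e ∈ 𝒮L.deg V hV 1 := hjL.2 V hV e
  have h2 : (jSec L 𝒮L.toQCAlg jL V e) ^ n ∈ 𝒮L.deg V hV n := by
    have := SetLike.pow_mem_graded n hT
    rwa [smul_eq_mul, mul_one] at this
  have := SetLike.mul_mem_graded (A := 𝒮L.deg V hV) h1 h2
  rwa [zero_add] at this

include hjL in
theorem exists_std (V : X.Opens) (hV : IsAffineOpen V) (e : Γ(L, V)) (he : IsFreeGen L V e)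
    (n : ℕ) (b : 𝒮L.presheaf.obj (op V)) (hb : b ∈ 𝒮L.deg V hV n) :
    ∃ c : Γ(X, V), b = std L 𝒮L jL V e c n := by
  have he' : Function.Bijective (fun r : Γ(X, V) => r • e) := by
    have := he V le_rfl
    rwa [mres_self] at this
  exact exists_coeff L 𝒮L jL hjL V hV e he' n b hb

include hjL in
theorem std_inj (V : X.Opens) (hV : IsAffineOpen V) (e : Γ(L, V)) (he : IsFreeGen L V e)
    (n : ℕ) {c c' : Γ(X, V)} (h : std L 𝒮L jL V e c n = std L 𝒮L jL V e c' n) : c = c' := by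
  have he' : Function.Bijective (fun r : Γ(X, V) => r • e) := by
    have := he V le_rfl
    rwa [mres_self] at this
  obtain ⟨ε, hε1, hε2⟩ := exists_retraction L 𝒮L.toQCAlg jL hjL.1 V hV e he'
  have := congrArg ε h
  unfold std at this
  rwa [map_mul, map_mul, map_pow, hε1, hε1, hε2, one_pow, mul_one, mul_one] at this

include hjL in
theorem std_eq_zero (V : X.Opens) (hV : IsAffineOpen V) (e : Γ(L, V)) (he : IsFreeGen L V e)
    (n : ℕ) {c : Γ(X, V)} (h : std L 𝒮L jL V e c n = 0) : c = 0 :=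
  std_inj L 𝒮L jL hjL V hV e he n (h.trans (std_zero L 𝒮L jL V e n).symm)

include hjL in
/-- over `D(c)` the degree-`n` part lies in the ideal generated by `c · j(e)^n` -/
theorem cond_basicOpen (V : X.Opens) (hV : IsAffineOpen V) (e : Γ(L, V)) (he : IsFreeGen L V e)
    (c : Γ(X, V)) (n : ℕ) :
    ((𝒮L.deg (X.basicOpen c) (hV.basicOpen c) n : AddSubgroup (𝒮L.presheaf.obj (op (X.basicOpen c)))) :
        Set (𝒮L.presheaf.obj (op (X.basicOpen c)))) ⊆
      (Ideal.span {sres 𝒮L (X.basicOpen_le c) (std L 𝒮L jL V e c n)} :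
        Set (𝒮L.presheaf.obj (op (X.basicOpen c)))) := by
  intro b hb
  obtain ⟨c'', hc''⟩ := exists_std L 𝒮L jL hjL (X.basicOpen c) (hV.basicOpen c) _
    (he.res (X.basicOpen_le c)) n b hb
  have hunit : IsUnit (rres X (X.basicOpen_le c) c) := RingedSpace.isUnit_res_basicOpen _ c
  obtain ⟨v, hv⟩ := hunit
  rw [sres_std, SetLike.mem_coe, Ideal.mem_span_singleton']
  refine ⟨(𝒮L.str.app (op (X.basicOpen c))).hom (c'' * ((v⁻¹ : (Γ(X, X.basicOpen c))ˣ) : Γ(X, X.basicOpen c))), ?_⟩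
  rw [str_mul_std, hc'', ← hv, mul_assoc, Units.inv_mul, mul_one]

include hjL in
/-- an affine open `W` over which `𝒮L_n ⊆ (t)`, where `t` agrees with `c · j(e)^n` on `W ⊓ V`, meets `V` inside `D(c)` -/
theorem le_basicOpen_of_cond (V : X.Opens) (hV : IsAffineOpen V) (e : Γ(L, V)) (he : IsFreeGen L V e)
    (c : Γ(X, V)) (n : ℕ) (W : X.Opens) (hW : IsAffineOpen W) (t : 𝒮L.presheaf.obj (op W))
    (hcompat : ∀ (W' : X.Opens) (h1 : W' ≤ W) (h2 : W' ≤ V),
      sres 𝒮L h1 t = sres 𝒮L h2 (std L 𝒮L jL V e c n))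
    (hcond : ((𝒮L.deg W hW n : AddSubgroup (𝒮L.presheaf.obj (op W))) : Set (𝒮L.presheaf.obj (op W))) ⊆
      (Ideal.span {t} : Set (𝒮L.presheaf.obj (op W)))) :
    W ⊓ V ≤ X.basicOpen c := by
  rintro x ⟨hxW, hxV⟩
  obtain ⟨g, hgV, hxg⟩ := hW.exists_basicOpen_le ⟨x, hxV⟩ hxW
  have hV' : IsAffineOpen (X.basicOpen g) := hW.basicOpen g
  have hV'W : X.basicOpen g ≤ W := X.basicOpen_le g
  have he' : IsFreeGen L (X.basicOpen g) (mres L hgV e) := he.res hgV
  -- extend `g^N e` to `W`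
  obtain ⟨N, y, hy⟩ := exists_res_eq_pow_smul_of_qcqs L hW.isCompact hW.isQuasiSeparated g
    (mres L hgV e)
  have hjy : jSec L 𝒮L.toQCAlg jL W y ∈ 𝒮L.deg W hW 1 := hjL.2 W hW y
  have hjyn : (jSec L 𝒮L.toQCAlg jL W y) ^ n ∈ 𝒮L.deg W hW n := by
    have := SetLike.pow_mem_graded n hjy
    rwa [smul_eq_mul, mul_one] at this
  obtain ⟨b, hb⟩ := Ideal.mem_span_singleton'.mp (hcond hjyn)
  -- restrict to `D(g)`
  have hb' := congrArg (sres 𝒮L hV'W) hb
  rw [map_mul, map_pow, hcompat _ hV'W hgV, sres_std] at hb'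
  have hy' : L.presheaf.map (homOfLE hV'W).op y = (rres X hV'W g) ^ N • mres L hgV e := hy
  have hjy' : sres 𝒮L hV'W (jSec L 𝒮L.toQCAlg jL W y) =
      std L 𝒮L jL (X.basicOpen g) (mres L hgV e) ((rres X hV'W g) ^ N) 1 := by
    change (𝒮L.presheaf.map (homOfLE hV'W).op).hom _ = _
    rw [jSec_res L 𝒮L jL hV'W, hy', jSec_smul]
    unfold std
    rw [pow_one]
  -- write `b|` through its components: use the retraction
  have he'' : Function.Bijective (fun r : Γ(X, X.basicOpen g) => r • mres L hgV e) := by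
    have := he' (X.basicOpen g) le_rfl
    rwa [mres_self] at this
  obtain ⟨ε, hε1, hε2⟩ := exists_retraction L 𝒮L.toQCAlg jL hjL.1 (X.basicOpen g) hV' _ he''
  rw [hjy', std_pow] at hb'
  have hb'' := congrArg ε hb'
  unfold std at hb''
  simp only [map_mul, map_pow, hε1, hε2, one_pow, mul_one] at hb''
  have hgunit : IsUnit (((rres X hV'W g) ^ N) ^ n) :=
    ((RingedSpace.isUnit_res_basicOpen _ g).pow N).pow n
  have hcunit : IsUnit (rres X hgV c) := by
    rw [← hb''] at hgunit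
    exact isUnit_of_mul_isUnit_right hgunit
  have : X.basicOpen g ≤ X.basicOpen c := by
    have h1 : X.basicOpen (rres X hgV c) = X.basicOpen g ⊓ X.basicOpen c :=
      X.basicOpen_res c (homOfLE hgV).op
    have h2 : X.basicOpen (rres X hgV c) = X.basicOpen g := X.basicOpen_of_isUnit hcunit
    rw [h2] at h1
    exact inf_eq_left.mp h1.symm
  exact this hxg

end Groth.Agent.H41.SymSec
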