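import Groth.Agent.H41.SymSec1

/-!
# Sections of `Sym(L)` over an open: sheaf lemmas, homogeneity, the killing lemma (helper41)
-/

set_option autoImplicit false
universe u

namespace Groth.Agent.H41.SymSec

open CategoryTheory CategoryTheory.Limits AlgebraicGeometry TopologicalSpace Opposite RelSpec
open Groth.Agent.H18 Groth.Agent.H18.PUP Groth.Agent.H44
open Groth.Agent.H41.SymInvertible Groth.Agent.H41.SymInvLocal
open Groth.Agent.H8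

variable {X : Scheme.{u}} (L : X.Modules) [L.IsQuasicoherent]
  (𝒮L : RelProj.QCGrAlg X) (jL : L ⟶ 𝒮L.toModule) (hjL : RelProj.IsGrSymAlg L 𝒮L jL)

/-- `𝒮L` as a sheaf of rings -/
noncomputable abbrev shf : TopCat.Sheaf CommRingCat.{u} X.toTopCat := ⟨𝒮L.presheaf, 𝒮L.isSheaf⟩

/-- sections agreeing locally are equal -/
theorem sres_ext {U : X.Opens} (σ σ' : 𝒮L.presheaf.obj (op U))
    (h : ∀ x ∈ U, ∃ (W : X.Opens) (hW : W ≤ U), x ∈ W ∧ sres 𝒮L hW σ = sres 𝒮L hW σ') : σ = σ' := by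
  choose W hW hxW hres using h
  refine (shf 𝒮L).eq_of_locally_eq' (fun x : U => W x.1 x.2) U (fun x => homOfLE (hW x.1 x.2))
    (fun x hx => Opens.mem_iSup.mpr ⟨⟨x, hx⟩, hxW x hx⟩) σ σ' (fun x => hres x.1 x.2)

/-- gluing of sections -/
theorem exists_glue {ι : Type u} (V : ι → X.Opens) (U : X.Opens) (hV : ∀ i, V i ≤ U)
    (hcov : ∀ x ∈ U, ∃ i, x ∈ V i) (σ : ∀ i, 𝒮L.presheaf.obj (op (V i)))
    (hσ : ∀ i j, sres 𝒮L (inf_le_left : V i ⊓ V j ≤ V i) (σ i) =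
      sres 𝒮L (inf_le_right : V i ⊓ V j ≤ V j) (σ j)) :
    ∃ ρ : 𝒮L.presheaf.obj (op U), ∀ i, sres 𝒮L (hV i) ρ = σ i := by
  have hcompat : TopCat.Presheaf.IsCompatible (shf 𝒮L).1 V σ := fun i j => hσ i j
  obtain ⟨ρ, hρ, -⟩ := (shf 𝒮L).existsUnique_gluing' V U (fun i => homOfLE (hV i))
    (fun x hx => by
      obtain ⟨i, hi⟩ := hcov x hx
      exact Opens.mem_iSup.mpr ⟨i, hi⟩) σ hcompat
  exact ⟨ρ, hρ⟩

/-- `τ ∈ 𝒮L(X₀)` is homogeneous of degree `d`: it is so over every affine open of `X₀` -/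
def IsHomog (X₀ : X.Opens) (τ : 𝒮L.presheaf.obj (op X₀)) (d : ℕ) : Prop :=
  ∀ (V : X.Opens) (hV : IsAffineOpen V) (hle : V ≤ X₀), sres 𝒮L hle τ ∈ 𝒮L.deg V hV d

variable {𝒮L}

theorem IsHomog.res {X₀ X₁ : X.Opens} {τ : 𝒮L.presheaf.obj (op X₀)} {d : ℕ} (h : IsHomog 𝒮L X₀ τ d)
    (h10 : X₁ ≤ X₀) : IsHomog 𝒮L X₁ (sres 𝒮L h10 τ) d := by
  intro V hV hle
  rw [sres_sres]
  exact h V hV (hle.trans h10)

theorem IsHomog.mul {X₀ : X.Opens} {τ τ' : 𝒮L.presheaf.obj (op X₀)} {d d' : ℕ}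
    (h : IsHomog 𝒮L X₀ τ d) (h' : IsHomog 𝒮L X₀ τ' d') : IsHomog 𝒮L X₀ (τ * τ') (d + d') := by
  intro V hV hle
  rw [map_mul]
  exact SetLike.mul_mem_graded (A := 𝒮L.deg V hV) (h V hV hle) (h' V hV hle)

theorem IsHomog.pow {X₀ : X.Opens} {τ : 𝒮L.presheaf.obj (op X₀)} {d : ℕ}
    (h : IsHomog 𝒮L X₀ τ d) (m : ℕ) : IsHomog 𝒮L X₀ (τ ^ m) (m * d) := by
  intro V hV hle
  rw [map_pow]
  have := SetLike.pow_mem_graded m (h V hV hle)
  rwa [smul_eq_mul] at this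

theorem IsHomog.sub {X₀ : X.Opens} {τ τ' : 𝒮L.presheaf.obj (op X₀)} {d : ℕ}
    (h : IsHomog 𝒮L X₀ τ d) (h' : IsHomog 𝒮L X₀ τ' d) : IsHomog 𝒮L X₀ (τ - τ') d := by
  intro V hV hle
  rw [map_sub]
  exact (𝒮L.deg V hV d).sub_mem (h V hV hle) (h' V hV hle)

theorem IsHomog.cast {X₀ : X.Opens} {τ : 𝒮L.presheaf.obj (op X₀)} {d d' : ℕ}
    (h : IsHomog 𝒮L X₀ τ d) (hd : d = d') : IsHomog 𝒮L X₀ τ d' := hd ▸ h

variable (𝒮L)

/-- membership in a graded piece is local on an affine open -/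
theorem mem_deg_of_locally (V : X.Opens) (hV : IsAffineOpen V) (ρ : 𝒮L.presheaf.obj (op V)) (D : ℕ)
    (h : ∀ x ∈ V, ∃ (V' : X.Opens) (hV' : IsAffineOpen V') (hle : V' ≤ V), x ∈ V' ∧
      sres 𝒮L hle ρ ∈ 𝒮L.deg V' hV' D) : ρ ∈ 𝒮L.deg V hV D := by
  classical
  have hz : ∀ e : ℕ, e ≠ D → ((DirectSum.decompose (𝒮L.deg V hV) ρ e : 𝒮L.deg V hV e) :
      𝒮L.presheaf.obj (op V)) = 0 := by
    intro e he
    apply sres_ext 𝒮L
    intro x hx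
    obtain ⟨V', hV', hle, hxV', hmem⟩ := h x hx
    refine ⟨V', hle, hxV', ?_⟩
    rw [map_zero]
    have h1 := GradedRingHom.map_directSumDecompose (𝒮L.deg V hV) (𝒮L.deg V' hV') (𝒮L.res hV hV' hle) (x := ρ) (i := e)
    rw [RelProj.QCGrAlg.res_apply, RelProj.QCGrAlg.res_apply] at h1
    change (𝒮L.presheaf.map (homOfLE hle).op).hom _ = 0
    rw [h1, DirectSum.decompose_of_mem_ne _ hmem (Ne.symm he)]
  rw [← DirectSum.sum_support_decompose (𝒮L.deg V hV) ρ]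
  refine (𝒮L.deg V hV D).sum_mem fun e _ => ?_
  by_cases he : e = D
  · subst he
    exact Subtype.prop _
  · rw [hz e he]
    exact (𝒮L.deg V hV D).zero_mem

/-- homogeneity is local -/
theorem isHomog_of_locally (X₀ : X.Opens) (ρ : 𝒮L.presheaf.obj (op X₀)) (D : ℕ)
    (h : ∀ x ∈ X₀, ∃ (V : X.Opens) (hle : V ≤ X₀), x ∈ V ∧ IsHomog 𝒮L V (sres 𝒮L hle ρ) D) :
    IsHomog 𝒮L X₀ ρ D := by
  intro W hW hWle
  apply mem_deg_of_locally 𝒮L W hW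
  intro x hx
  obtain ⟨V, hle, hxV, hV⟩ := h x (hWle hx)
  obtain ⟨_, ⟨W', hW' : IsAffineOpen W', rfl⟩, hxW', hW'le⟩ :=
    X.isBasis_affineOpens.exists_subset_of_mem_open (show x ∈ W ⊓ V from ⟨hx, hxV⟩) (W ⊓ V).2
  have h1 : W' ≤ W := fun y hy => (hW'le hy).1
  have h2 : W' ≤ V := fun y hy => (hW'le hy).2
  refine ⟨W', hW', h1, hxW', ?_⟩
  have := hV W' hW' h2
  rwa [sres_sres, ← sres_sres 𝒮L hWle h1] at this

omit [L.IsQuasicoherent] in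
include hjL in
theorem isHomog_std (V : X.Opens) (e : Γ(L, V)) (c : Γ(X, V)) (n : ℕ) :
    IsHomog 𝒮L V (std L 𝒮L jL V e c n) n := by
  intro W hW hle
  rw [sres_std]
  exact std_mem L 𝒮L jL hjL W hW _ _ n

omit [L.IsQuasicoherent] in
/-- every point of an open has an affine trivialising neighbourhood inside it -/
theorem exists_triv (hL : PicF.IsInvertible L) (X₀ : X.Opens) (x : X) (hx : x ∈ X₀) :
    ∃ (V : X.Opens) (_ : IsAffineOpen V) (_ : V ≤ X₀) (e : Γ(L, V)), IsFreeGen L V e ∧ x ∈ V := by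
  obtain ⟨U₀, hxU₀, σ, hσ⟩ := exists_isFreeGen_of_isInvertible hL x
  obtain ⟨_, ⟨V, hV : IsAffineOpen V, rfl⟩, hxV, hVle⟩ :=
    X.isBasis_affineOpens.exists_subset_of_mem_open (show x ∈ X₀ ⊓ U₀ from ⟨hx, hxU₀⟩) (X₀ ⊓ U₀).2
  have h1 : V ≤ X₀ := fun y hy => (hVle hy).1
  have h2 : V ≤ U₀ := fun y hy => (hVle hy).2
  exact ⟨V, hV, h1, mres L h2 σ, hσ.res h2, hxV⟩

include hjL in
/-- **Killing lemma.** `X₀` quasi-compact, `τ, ρ` homogeneous over `X₀`; if `ρ` vanishes on every `D(c)`, where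
`τ|V = c · j(e)^d` over a trivialising affine `V`, then `τ^k ρ = 0` for some `k`. -/
theorem exists_pow_mul_eq_zero (hL : PicF.IsInvertible L) (X₀ : X.Opens) (hX₀ : IsCompact (X₀ : Set X))
    (τ ρ : 𝒮L.presheaf.obj (op X₀)) (d N : ℕ) (hτ : IsHomog 𝒮L X₀ τ d) (hρ : IsHomog 𝒮L X₀ ρ N)
    (hρ0 : ∀ (V : X.Opens) (_ : IsAffineOpen V) (hle : V ≤ X₀) (e : Γ(L, V)) (_ : IsFreeGen L V e)
      (c : Γ(X, V)), sres 𝒮L hle τ = std L 𝒮L jL V e c d →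
        sres 𝒮L ((X.basicOpen_le c).trans hle) ρ = 0) :
    ∃ k : ℕ, τ ^ k * ρ = 0 := by
  -- local exponents
  have hloc : ∀ x : X₀, ∃ (V : X.Opens) (hle : V ≤ X₀) (k : ℕ), x.1 ∈ V ∧
      ∀ k', k ≤ k' → sres 𝒮L hle (τ ^ k' * ρ) = 0 := by
    intro x
    obtain ⟨V, hV, hle, e, he, hxV⟩ := exists_triv L hL X₀ x.1 x.2
    obtain ⟨c, hc⟩ := exists_std L 𝒮L jL hjL V hV e he d _ (hτ V hV hle)
    obtain ⟨b, hb⟩ := exists_std L 𝒮L jL hjL V hV e he N _ (hρ V hV hle)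
    have h0 := hρ0 V hV hle e he c hc
    rw [← sres_sres 𝒮L hle (X.basicOpen_le c), hb, sres_std] at h0
    have hb0 : rres X (X.basicOpen_le c) b = 0 :=
      std_eq_zero L 𝒮L jL hjL _ (hV.basicOpen c) _ (he.res (X.basicOpen_le c)) N h0
    obtain ⟨k, hk⟩ := exists_pow_mul_eq_zero_of_res_basicOpen_eq_zero_of_isAffineOpen X hV b c hb0
    refine ⟨V, hle, k, hxV, fun k' hk' => ?_⟩
    rw [map_mul, map_pow, hc, hb, std_pow, std_mul]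
    have : c ^ k' * b = 0 := by
      obtain ⟨m, rfl⟩ := Nat.exists_eq_add_of_le hk'
      rw [pow_add, mul_comm (c ^ k), mul_assoc, hk, mul_zero]
    rw [this, std_zero]
  choose V hle k hxV hk using hloc
  obtain ⟨t, ht⟩ := hX₀.elim_finite_subcover (fun x : X₀ => ((V x : X.Opens) : Set X))
    (fun x => (V x).isOpen) (fun y hy => Set.mem_iUnion.mpr ⟨⟨y, hy⟩, hxV ⟨y, hy⟩⟩)
  refine ⟨t.sup k, ?_⟩
  apply sres_ext 𝒮L
  intro y hy
  obtain ⟨x, hxt, hyx⟩ := Set.mem_iUnion₂.mp (ht hy)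
  refine ⟨V x, hle x, hyx, ?_⟩
  rw [map_zero]
  exact hk x _ (Finset.le_sup hxt)

end Groth.Agent.H41.SymSec
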