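import Groth.Agent.H41.SymSec2

/-!
# Extension of sections of `Sym(L)` from `X_τ` (helper41)

`exists_extension` : `X₀` quasi-compact and quasi-separated, `τ ∈ 𝒮L(X₀)` homogeneous of degree `d`, `G = X_τ`;
for a function `t` on `G` some `t · τ^m` (`m > 0`) extends to a homogeneous section of degree `m d` over `X₀`.
-/

set_option autoImplicit false
universe u

namespace Groth.Agent.H41.SymSec

open CategoryTheory CategoryTheory.Limits AlgebraicGeometry TopologicalSpace Opposite RelSpec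
open Groth.Agent.H18 Groth.Agent.H18.PUP Groth.Agent.H44
open Groth.Agent.H41.SymInvertible Groth.Agent.H41.SymInvLocal
open Groth.Agent.H8

variable {X : Scheme.{u}} (L : X.Modules) [L.IsQuasicoherent]
  (𝒮L : RelProj.QCGrAlg X) (jL : L ⟶ 𝒮L.toModule) (hjL : RelProj.IsGrSymAlg L 𝒮L jL)

include hjL in
theorem exists_extension (hL : PicF.IsInvertible L) (X₀ : X.Opens) (hX₀ : IsCompact (X₀ : Set X))
    (hqs : IsQuasiSeparated (X₀ : Set X))
    (τ : 𝒮L.presheaf.obj (op X₀)) (d : ℕ) (hτ : IsHomog 𝒮L X₀ τ d)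
    (G : X.Opens) (hGle : G ≤ X₀)
    (hG : ∀ (V : X.Opens) (_ : IsAffineOpen V) (hle : V ≤ X₀) (e : Γ(L, V)) (_ : IsFreeGen L V e)
      (c : Γ(X, V)), sres 𝒮L hle τ = std L 𝒮L jL V e c d → G ⊓ V = X.basicOpen c)
    (t : Γ(X, G)) :
    ∃ (m : ℕ) (_ : 0 < m) (ρ : 𝒮L.presheaf.obj (op X₀)), IsHomog 𝒮L X₀ ρ (m * d) ∧
      sres 𝒮L hGle ρ = (𝒮L.str.app (op G)).hom t * (sres 𝒮L hGle τ) ^ m := by
  classical
  -- Step 1: local data
  have hloc : ∀ x : X₀, ∃ (V : X.Opens) (_ : IsAffineOpen V) (hle : V ≤ X₀) (e : Γ(L, V))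
      (_ : IsFreeGen L V e) (c : Γ(X, V)) (_ : sres 𝒮L hle τ = std L 𝒮L jL V e c d) (M : ℕ), x.1 ∈ V ∧
      ∀ m, M ≤ m → ∃ a : Γ(X, V), ∀ (W : X.Opens) (hWV : W ≤ V) (hWG : W ≤ G),
        rres X hWV a = (rres X hWV c) ^ m * rres X hWG t := by
    intro x
    obtain ⟨V, hV, hle, e, he, hxV⟩ := exists_triv L hL X₀ x.1 x.2
    obtain ⟨c, hc⟩ := exists_std L 𝒮L jL hjL V hV e he d _ (hτ V hV hle)
    have hGV : G ⊓ V = X.basicOpen c := hG V hV hle e he c hc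
    have hDG : X.basicOpen c ≤ G := hGV ▸ inf_le_left
    obtain ⟨n, y, hy⟩ := exists_eq_pow_mul_of_isAffineOpen X V hV c (rres X hDG t)
    have hy' : rres X (X.basicOpen_le c) y = (rres X (X.basicOpen_le c) c) ^ n * rres X hDG t := hy
    refine ⟨V, hV, hle, e, he, c, hc, n, hxV, fun m hm => ⟨c ^ (m - n) * y, fun W hWV hWG => ?_⟩⟩
    have hWD : W ≤ X.basicOpen c := by
      rw [← hGV]; exact le_inf hWG hWV
    have e1 : rres X hWV y = (rres X hWV c) ^ n * rres X hWG t := by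
      have := congrArg (rres X hWD) hy'
      rwa [map_mul, map_pow, PUP.rres_rres, PUP.rres_rres, PUP.rres_rres] at this
    rw [map_mul, map_pow, e1, ← mul_assoc, ← pow_add, Nat.sub_add_cancel hm]
  choose V hV hle e he c hc M hxV ha using hloc
  obtain ⟨T, hT⟩ := hX₀.elim_finite_subcover (fun x : X₀ => ((V x : X.Opens) : Set X))
    (fun x => (V x).isOpen) (fun y hy => Set.mem_iUnion.mpr ⟨⟨y, hy⟩, hxV ⟨y, hy⟩⟩)
  set m := T.sup M + 1 with hm
  have hmM : ∀ x ∈ T, M x ≤ m := fun x hx => (Finset.le_sup hx).trans (Nat.le_succ _)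
  -- the local candidates
  have hcand : ∀ x : T, ∃ a : Γ(X, V x.1), ∀ (W : X.Opens) (hWV : W ≤ V x.1) (hWG : W ≤ G),
      rres X hWV a = (rres X hWV (c x.1)) ^ m * rres X hWG t := fun x => ha x.1 m (hmM x.1 x.2)
  choose a haW using hcand
  let ρ : ∀ x : T, 𝒮L.presheaf.obj (op (V x.1)) := fun x => std L 𝒮L jL (V x.1) (e x.1) (a x) (d * m)
  have hρh : ∀ x : T, IsHomog 𝒮L (V x.1) (ρ x) (d * m) := fun x => isHomog_std L 𝒮L jL hjL _ _ _ _
  -- the candidates on opens inside `G`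
  have key : ∀ (x : T) (W : X.Opens) (hWV : W ≤ V x.1) (hWG : W ≤ G),
      sres 𝒮L hWV (ρ x) = (𝒮L.str.app (op W)).hom (rres X hWG t) *
        (sres 𝒮L (hWV.trans (hle x.1)) τ) ^ m := by
    intro x W hWV hWG
    change sres 𝒮L hWV (std L 𝒮L jL (V x.1) (e x.1) (a x) (d * m)) = _
    rw [sres_std, haW x W hWV hWG, ← sres_sres 𝒮L (hle x.1) hWV, hc x.1, sres_std, std_pow,
      str_mul_std, mul_comm]
  -- Step 3: overlaps
  have hov : ∀ x y : T, ∃ k : ℕ, ∀ k', k ≤ k' →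
      (sres 𝒮L ((inf_le_left : V x.1 ⊓ V y.1 ≤ V x.1).trans (hle x.1)) τ) ^ k' *
        sres 𝒮L (inf_le_left : V x.1 ⊓ V y.1 ≤ V x.1) (ρ x) =
      (sres 𝒮L ((inf_le_left : V x.1 ⊓ V y.1 ≤ V x.1).trans (hle x.1)) τ) ^ k' *
        sres 𝒮L (inf_le_right : V x.1 ⊓ V y.1 ≤ V y.1) (ρ y) := by
    intro x y
    have hcpt : IsCompact ((V x.1 ⊓ V y.1 : X.Opens) : Set X) :=
      hqs _ _ (fun z hz => hle x.1 hz) (V x.1).isOpen (hV x.1).isCompact
        (fun z hz => hle y.1 hz) (V y.1).isOpen (hV y.1).isCompact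
    have h10 : V x.1 ⊓ V y.1 ≤ X₀ := inf_le_left.trans (hle x.1)
    obtain ⟨k, hk⟩ := exists_pow_mul_eq_zero L 𝒮L jL hjL hL (V x.1 ⊓ V y.1) hcpt (sres 𝒮L h10 τ)
      (sres 𝒮L inf_le_left (ρ x) - sres 𝒮L inf_le_right (ρ y)) d (d * m) (hτ.res h10)
      (((hρh x).res inf_le_left).sub ((hρh y).res inf_le_right))
      (by
        intro V' hV' hle' e' he' c' hc'
        rw [sres_sres] at hc'
        have hGV' : G ⊓ V' = X.basicOpen c' := hG V' hV' (hle'.trans h10) e' he' c' hc'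
        have hDG : X.basicOpen c' ≤ G := hGV' ▸ inf_le_left
        rw [map_sub, sres_sres, sres_sres,
          key x _ (((X.basicOpen_le c').trans hle').trans inf_le_left) hDG,
          key y _ (((X.basicOpen_le c').trans hle').trans inf_le_right) hDG, sub_self])
    refine ⟨k, fun k' hk' => ?_⟩
    obtain ⟨l, rfl⟩ := Nat.exists_eq_add_of_le hk'
    have := congrArg (fun z => (sres 𝒮L h10 τ) ^ l * z) hk
    simp only [mul_zero, mul_sub] at this
    rw [sub_eq_zero] at this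
    rw [pow_add, mul_comm ((sres 𝒮L h10 τ) ^ k), mul_assoc, mul_assoc]
    exact this
  choose k hk using hov
  set K := (T.attach ×ˢ T.attach).sup (fun p => k p.1 p.2) with hK
  have hkK : ∀ x y : T, k x y ≤ K := fun x y =>
    Finset.le_sup (f := fun p : T × T => k p.1 p.2) (b := (x, y))
      (Finset.mem_product.mpr ⟨Finset.mem_attach _ x, Finset.mem_attach _ y⟩)
  -- Step 4: glue
  let σ : ∀ x : T, 𝒮L.presheaf.obj (op (V x.1)) := fun x => (sres 𝒮L (hle x.1) τ) ^ K * ρ x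
  obtain ⟨ρ', hρ'⟩ := exists_glue 𝒮L (fun x : T => V x.1) X₀ (fun x => hle x.1)
    (fun y hy => by
      obtain ⟨x, hxT, hyx⟩ := Set.mem_iUnion₂.mp (hT hy)
      exact ⟨⟨x, hxT⟩, hyx⟩) σ
    (by
      intro x y
      change sres 𝒮L _ ((sres 𝒮L (hle x.1) τ) ^ K * ρ x) = sres 𝒮L _ ((sres 𝒮L (hle y.1) τ) ^ K * ρ y)
      rw [map_mul, map_mul, map_pow, map_pow, sres_sres, sres_sres]
      exact hk x y K (hkK x y))
  have hσh : ∀ x : T, IsHomog 𝒮L (V x.1) (σ x) (K * d + d * m) := fun x =>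
    ((hτ.res (hle x.1)).pow K).mul (hρh x)
  refine ⟨K + m, by omega, ρ', ?_, ?_⟩
  · refine (isHomog_of_locally 𝒮L X₀ ρ' (K * d + d * m) ?_).cast (by ring)
    intro y hy
    obtain ⟨x, hxT, hyx⟩ := Set.mem_iUnion₂.mp (hT hy)
    refine ⟨V x, hle x, hyx, ?_⟩
    rw [hρ' ⟨x, hxT⟩]
    exact hσh ⟨x, hxT⟩
  · apply sres_ext 𝒮L
    intro y hy
    obtain ⟨x, hxT, hyx⟩ := Set.mem_iUnion₂.mp (hT (hGle hy))
    refine ⟨G ⊓ V x, inf_le_left, ⟨hy, hyx⟩, ?_⟩
    rw [sres_sres, ← sres_sres 𝒮L (hle x) (inf_le_right : G ⊓ V x ≤ V x), hρ' ⟨x, hxT⟩]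
    change sres 𝒮L _ ((sres 𝒮L (hle x) τ) ^ K * ρ ⟨x, hxT⟩) = _
    rw [map_mul, map_pow, sres_sres, key ⟨x, hxT⟩ _ inf_le_right inf_le_left, map_mul, map_pow,
      sres_sres, sres_str, pow_add]
    ring

end Groth.Agent.H41.SymSec
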