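import Groth.Agent.H41.SymSec3

/-!
# The open `X_τ` of a homogeneous section of `Sym(L)` (helper41)

`XT X₀ τ d` is the union of the affine opens `V ⊆ X₀` with `𝒮L(V)_d ⊆ (τ|V)`; over a trivialising affine open `V`
with `τ|V = c · j(e)^d` it is `D(c)`.
-/

set_option autoImplicit false
universe u

namespace Groth.Agent.H41.SymSec

open CategoryTheory CategoryTheory.Limits AlgebraicGeometry TopologicalSpace Opposite RelSpec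
open Groth.Agent.H18 Groth.Agent.H18.PUP Groth.Agent.H44
open Groth.Agent.H41.SymInvertible Groth.Agent.H41.SymInvLocal
open Groth.Agent.H8

variable {X : Scheme.{u}} (L : X.Modules) [L.IsQuasicoherent]
  (𝒮L : RelProj.QCGrAlg X) (jL : L ⟶ 𝒮L.toModule) (hjL : RelProj.IsGrSymAlg L 𝒮L jL)

/-- the condition `𝒮L(V)_d ⊆ (τ|V)` -/
def Cond (X₀ : X.Opens) (τ : 𝒮L.presheaf.obj (op X₀)) (d : ℕ) (V : X.affineOpens) : Prop :=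
  ∃ hle : (V.1 : X.Opens) ≤ X₀,
    ((𝒮L.deg V.1 V.2 d : AddSubgroup (𝒮L.presheaf.obj (op (V.1 : X.Opens)))) :
        Set (𝒮L.presheaf.obj (op (V.1 : X.Opens)))) ⊆
      (Ideal.span {sres 𝒮L hle τ} : Set (𝒮L.presheaf.obj (op (V.1 : X.Opens))))

/-- the open `X_τ` -/
def XT (X₀ : X.Opens) (τ : 𝒮L.presheaf.obj (op X₀)) (d : ℕ) : X.Opens :=
  ⨆ V : {V : X.affineOpens // Cond 𝒮L X₀ τ d V}, (V.1.1 : X.Opens)

theorem XT_le (X₀ : X.Opens) (τ : 𝒮L.presheaf.obj (op X₀)) (d : ℕ) : XT 𝒮L X₀ τ d ≤ X₀ :=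
  iSup_le fun V => V.2.1

include hjL in
theorem XT_inf_eq (X₀ : X.Opens) (τ : 𝒮L.presheaf.obj (op X₀)) (d : ℕ)
    (V : X.Opens) (hV : IsAffineOpen V) (hle : V ≤ X₀) (e : Γ(L, V)) (he : IsFreeGen L V e)
    (c : Γ(X, V)) (hc : sres 𝒮L hle τ = std L 𝒮L jL V e c d) :
    XT 𝒮L X₀ τ d ⊓ V = X.basicOpen c := by
  apply le_antisymm
  · rintro x ⟨hxT, hxV⟩
    obtain ⟨⟨⟨W, hW⟩, hWle, hcond⟩, hxW⟩ := Opens.mem_iSup.mp hxT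
    refine le_basicOpen_of_cond L 𝒮L jL hjL V hV e he c d W hW (sres 𝒮L hWle τ) ?_ hcond ⟨hxW, hxV⟩
    intro W' h1 h2
    rw [sres_sres, ← hc, sres_sres]
  · refine le_inf ?_ (X.basicOpen_le c)
    refine le_iSup_of_le ⟨⟨X.basicOpen c, hV.basicOpen c⟩, (X.basicOpen_le c).trans hle, ?_⟩ le_rfl
    have := cond_basicOpen L 𝒮L jL hjL V hV e he c d
    rwa [← hc, sres_sres] at this

include hjL in
/-- `X_τ` is compatible with restriction of `τ` to a smaller open -/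
theorem XT_res (hL : PicF.IsInvertible L) (X₀ X₁ : X.Opens) (h10 : X₁ ≤ X₀)
    (τ : 𝒮L.presheaf.obj (op X₀)) (d : ℕ) (hτ : IsHomog 𝒮L X₀ τ d) :
    XT 𝒮L X₁ (sres 𝒮L h10 τ) d = XT 𝒮L X₀ τ d ⊓ X₁ := by
  ext x
  constructor
  · intro hx
    obtain ⟨⟨⟨V, hV⟩, hle, hcond⟩, hxV⟩ := Opens.mem_iSup.mp hx
    refine ⟨Opens.mem_iSup.mpr ⟨⟨⟨V, hV⟩, hle.trans h10, ?_⟩, hxV⟩, hle hxV⟩
    rwa [sres_sres] at hcond
  · rintro ⟨hxT, hx1⟩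
    obtain ⟨V, hV, hle, e, he, hxV⟩ := exists_triv L hL X₁ x hx1
    obtain ⟨c, hc⟩ := exists_std L 𝒮L jL hjL V hV e he d _ (hτ V hV (hle.trans h10))
    have e1 := XT_inf_eq L 𝒮L jL hjL X₀ τ d V hV (hle.trans h10) e he c hc
    have e2 := XT_inf_eq L 𝒮L jL hjL X₁ (sres 𝒮L h10 τ) d V hV hle e he c (by rw [sres_sres]; exact hc)
    have : x ∈ XT 𝒮L X₀ τ d ⊓ V := ⟨hxT, hxV⟩
    rw [e1, ← e2] at this
    exact this.1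

include hjL in
/-- the killing lemma, for `X_τ` -/
theorem exists_pow_mul_eq_zero_of_XT (hL : PicF.IsInvertible L) (X₀ : X.Opens)
    (hX₀ : IsCompact (X₀ : Set X)) (τ ρ : 𝒮L.presheaf.obj (op X₀)) (d N : ℕ)
    (hτ : IsHomog 𝒮L X₀ τ d) (hρ : IsHomog 𝒮L X₀ ρ N)
    (hρ0 : sres 𝒮L (XT_le 𝒮L X₀ τ d) ρ = 0) : ∃ k : ℕ, τ ^ k * ρ = 0 := by
  refine exists_pow_mul_eq_zero L 𝒮L jL hjL hL X₀ hX₀ τ ρ d N hτ hρ ?_
  intro V hV hle e he c hc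
  have h1 : X.basicOpen c ≤ XT 𝒮L X₀ τ d := by
    rw [← XT_inf_eq L 𝒮L jL hjL X₀ τ d V hV hle e he c hc]
    exact inf_le_left
  rw [← sres_sres 𝒮L (XT_le 𝒮L X₀ τ d) h1, hρ0, map_zero]

include hjL in
/-- the extension lemma, for `X_τ` -/
theorem exists_extension_of_XT (hL : PicF.IsInvertible L) (X₀ : X.Opens)
    (hX₀ : IsCompact (X₀ : Set X)) (hqs : IsQuasiSeparated (X₀ : Set X))
    (τ : 𝒮L.presheaf.obj (op X₀)) (d : ℕ) (hτ : IsHomog 𝒮L X₀ τ d)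
    (t : Γ(X, XT 𝒮L X₀ τ d)) :
    ∃ (m : ℕ) (_ : 0 < m) (ρ : 𝒮L.presheaf.obj (op X₀)), IsHomog 𝒮L X₀ ρ (m * d) ∧
      sres 𝒮L (XT_le 𝒮L X₀ τ d) ρ =
        (𝒮L.str.app (op (XT 𝒮L X₀ τ d))).hom t * (sres 𝒮L (XT_le 𝒮L X₀ τ d) τ) ^ m :=
  exists_extension L 𝒮L jL hjL hL X₀ hX₀ hqs τ d hτ (XT 𝒮L X₀ τ d) (XT_le 𝒮L X₀ τ d)
    (fun V hV hle e he c hc => XT_inf_eq L 𝒮L jL hjL X₀ τ d V hV hle e he c hc) t

end Groth.Agent.H41.SymSec
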