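import Groth.Agent.H41.SymSec4
import Groth.Agent.H18.STL.Cocycle

/-!
# From sections of `L^{⊗N}` to homogeneous sections of `Sym(L)` (helper41)

`exists_of_tensorPow` : a global section `s` of `L^{⊗N}` gives a global section `τ` of `𝒮L`, homogeneous of degree `N`,
with `X_τ = X_s` (`CohB1.genLocus`).
-/

set_option autoImplicit false
universe u

namespace Groth.Agent.H41.SymSec

open CategoryTheory CategoryTheory.Limits AlgebraicGeometry TopologicalSpace Opposite RelSpec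
open Groth.Agent.H18 Groth.Agent.H18.PUP Groth.Agent.H18.STL Groth.Agent.H44
open Groth.Agent.H41.SymInvertible Groth.Agent.H41.SymInvLocal
open Groth.Agent.H8

variable {X : Scheme.{u}} (L : X.Modules) [L.IsQuasicoherent]
  (𝒮L : RelProj.QCGrAlg X) (jL : L ⟶ 𝒮L.toModule) (hjL : RelProj.IsGrSymAlg L 𝒮L jL)

omit [L.IsQuasicoherent] in
include hjL in
/-- a family of coordinates with the transition cocycle `c^N` glues to a homogeneous section of degree `N` -/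
theorem exists_of_coords (𝔘 : Cover X) (e : ∀ i, Γ(L, 𝔘.W i)) (c : 𝔘.Cocycle)
    (h : HasCocycle 𝔘 c L e) (N : ℕ) (a : ∀ i, Γ(X, 𝔘.W i))
    (ha : ∀ i j, rres X inf_le_left (a i) = rres X inf_le_right (a j) * (c i j) ^ N) :
    ∃ ρ : 𝒮L.presheaf.obj (op ⊤), IsHomog 𝒮L ⊤ ρ N ∧
      ∀ i, sres 𝒮L le_top ρ = std L 𝒮L jL (𝔘.W i) (e i) (a i) N := by
  obtain ⟨ρ, hρ⟩ := exists_glue 𝒮L 𝔘.W ⊤ (fun _ => le_top) (fun x _ => 𝔘.cov x)
    (fun i => std L 𝒮L jL (𝔘.W i) (e i) (a i) N) (by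
      intro i j
      rw [sres_std, sres_std, h.trans i j, std_smul, ha i j])
  refine ⟨ρ, ?_, hρ⟩
  apply isHomog_of_locally
  intro x _
  obtain ⟨i, hi⟩ := 𝔘.cov x
  refine ⟨𝔘.W i, le_top, hi, ?_⟩
  rw [hρ i]
  exact isHomog_std L 𝒮L jL hjL _ _ _ _

include hjL in
theorem exists_of_tensorPow (hL : PicF.IsInvertible L) (N : ℕ)
    (s : Coh.structureModule X ⟶ CohB1.tensorPow L N) :
    ∃ τ : 𝒮L.presheaf.obj (op ⊤), IsHomog 𝒮L ⊤ τ N ∧ XT 𝒮L ⊤ τ N = CohB1.genLocus _ s := by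
  have hloc : ∀ x : X, ∃ (V : X.Opens) (_ : IsAffineOpen V) (e : Γ(L, V)), IsFreeGen L V e ∧ x ∈ V := by
    intro x
    obtain ⟨V, hV, -, e, he, hxV⟩ := exists_triv L hL ⊤ x trivial
    exact ⟨V, hV, e, he, hxV⟩
  choose V hV e he hxV using hloc
  let 𝔘 : Cover X := ⟨X, V, fun x => ⟨x, hxV x⟩⟩
  have hβ : ∀ i : 𝔘.ι, IsBasisOn L (𝔘.W i) (e i) := fun i => he i
  have h := hasCocycle_cocycleOf 𝔘 hβ
  have hN := h.lpow N
  obtain ⟨τ, hτh, hτ⟩ := exists_of_coords L 𝒮L jL hjL 𝔘 e (cocycleOf 𝔘 hβ) h N (hN.coords s)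
    (fun i j => hN.coords_trans s i j)
  refine ⟨τ, hτh, ?_⟩
  ext x
  have e1 := XT_inf_eq L 𝒮L jL hjL ⊤ τ N (V x) (hV x) le_top (e x) (he x) _ (hτ x)
  have e2 := hN.genLocus_inf s x
  constructor
  · intro hx
    have : x ∈ XT 𝒮L ⊤ τ N ⊓ V x := ⟨hx, hxV x⟩
    rw [e1, ← e2] at this
    exact this.1
  · intro hx
    have : x ∈ CohB1.genLocus _ s ⊓ V x := ⟨hx, hxV x⟩
    rw [e2, ← e1] at this
    exact this.1

end Groth.Agent.H41.SymSec
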