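import Mathlib.RingTheory.GradedAlgebra.Basic
import Mathlib.Algebra.DirectSum.Decomposition
import Mathlib.AlgebraicGeometry.ProjectiveSpectrum.Basic

/-!
# The trivial grading of a commutative ring (everything in degree zero)
-/

set_option autoImplicit false
universe u

namespace Groth.Agent.H41.TrivGrading

variable (R : Type u) [CommRing R]

/-- The trivial grading: all of `R` in degree `0`. -/
def triv : ℕ → AddSubgroup R := fun n => if n = 0 then ⊤ else ⊥

variable {R}

theorem mem_triv_zero (r : R) : r ∈ triv R 0 := by
  simp [triv]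

theorem eq_zero_of_mem_triv {n : ℕ} (hn : n ≠ 0) {r : R} (hr : r ∈ triv R n) : r = 0 := by
  simpa [triv, hn] using hr

theorem eq_zero_of_mem_triv_succ {n : ℕ} {r : R} (hr : r ∈ triv R (n + 1)) : r = 0 :=
  eq_zero_of_mem_triv (Nat.succ_ne_zero n) hr

instance : SetLike.GradedMonoid (triv R) where
  one_mem := mem_triv_zero 1
  mul_mem := by
    intro i j a b ha hb
    by_cases hi : i = 0
    · by_cases hj : j = 0
      · subst hi; subst hj; exact mem_triv_zero _
      · rw [eq_zero_of_mem_triv hj hb, mul_zero]; exact zero_mem _
    · rw [eq_zero_of_mem_triv hi ha, zero_mul]; exact zero_mem _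

/-- The decomposition map. -/
noncomputable def dec : R →+ DirectSum ℕ (fun i => triv R i) where
  toFun r := DirectSum.of (fun i => triv R i) 0 ⟨r, mem_triv_zero r⟩
  map_zero' := by
    rw [← map_zero (DirectSum.of (fun i => triv R i) 0)]
    rfl
  map_add' a b := by
    rw [← map_add (DirectSum.of (fun i => triv R i) 0)]
    rfl

noncomputable instance : DirectSum.Decomposition (triv R) :=
  DirectSum.Decomposition.ofAddHom (triv R) dec
    (by
      ext r
      simp [dec])
    (by
      ext i ⟨r, hr⟩
      by_cases hi : i = 0
      · subst hi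
        simp [dec]
      · have : r = 0 := eq_zero_of_mem_triv hi hr
        subst this
        have h0 : (⟨0, hr⟩ : triv R i) = 0 := rfl
        simp [h0])

noncomputable instance : GradedRing (triv R) where

theorem irrelevant_eq_bot : (HomogeneousIdeal.irrelevant (triv R)).toIdeal = ⊥ := by
  classical
  rw [eq_bot_iff]
  intro r hr
  have h0 : (DirectSum.decompose (triv R) r 0 : R) = 0 := hr
  have h1 : (DirectSum.decompose (triv R) r 0 : R) = r := by
    rw [DirectSum.decompose_of_mem_same (triv R) (mem_triv_zero r)]
  rw [Ideal.mem_bot, ← h1, h0]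

end Groth.Agent.H41.TrivGrading
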