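import Groth.Agent.H41.RelTwistPullSurj
import Groth.Agent.H41.RelProjQMap
import Groth.Agent.H44.PullUnit

/-!
# Chart values of sections of `O_P(n)` and of functions on a relative Proj (helper41)

Tools for the base change isomorphism `h^* O_P(n) ≅ O_{P'}(n)`.
-/

set_option autoImplicit false
universe u

open CategoryTheory CategoryTheory.Limits AlgebraicGeometry TopologicalSpace Opposite
open scoped HomogeneousIdeal

namespace Groth.Agent.H41.TwistBC1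

open Groth.Agent.H18 Groth.Agent.H18.PUP Groth.Agent.H41.RelTwistTriv Groth.Agent.H41

/-- a refinement of `exists_basicOpen_le_affine_inter`: the common basic open can be found inside a given open -/
theorem exists_basicOpen_le_affine_inter' {X : Scheme.{u}} {U V : X.Opens} (hU : IsAffineOpen U)
    (hV : IsAffineOpen V) (O : X.Opens) (x : X) (hx : x ∈ U ⊓ V) (hxO : x ∈ O) :
    ∃ (f : Γ(X, U)) (g : Γ(X, V)), X.basicOpen f = X.basicOpen g ∧ x ∈ X.basicOpen f ∧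
      X.basicOpen f ≤ O := by
  obtain ⟨f, hf₁, hf₂⟩ := hU.exists_basicOpen_le (V := V ⊓ O) ⟨x, hx.2, hxO⟩ hx.1
  obtain ⟨g, hg₁, hg₂⟩ := hV.exists_basicOpen_le ⟨x, hf₂⟩ hx.2
  obtain ⟨f', hf'⟩ := hU.basicOpen_basicOpen_is_basicOpen f
    (X.presheaf.map (homOfLE (hf₁.trans inf_le_left) : _ ⟶ V).op g)
  replace hf' := (hf'.trans (RingedSpace.basicOpen_res _ _ _)).trans (inf_eq_right.mpr hg₁)
  exact ⟨f', g, hf', hf'.symm ▸ hg₂, hf'.symm ▸ (hg₁.trans (hf₁.trans inf_le_right))⟩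

section fv

variable {A σ : Type u} [CommRing A] [SetLike σ A] [AddSubgroupClass σ A] {𝒜 : ℕ → σ} [GradedRing 𝒜]
variable {P : Scheme.{u}}

/-- the value at `y` of the pullback of a function `c` on `P` along `f : Proj 𝒜 ⟶ P` -/
noncomputable def fv (f : Proj 𝒜 ⟶ P) (W : P.Opens) (c : Γ(P, W)) (y : ProjectiveSpectrum 𝒜)
    (hy : f.base y ∈ W) : GrTwist.Loc 𝒜 y :=
  (((f.app W c : Γ(Proj 𝒜, f ⁻¹ᵁ W)).1 ⟨y, hy⟩ : GrTwist.A0 𝒜 y)).val

theorem fv_congr {f g : Proj 𝒜 ⟶ P} (e : f = g) (W : P.Opens) (c : Γ(P, W))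
    (y : ProjectiveSpectrum 𝒜) (hy : f.base y ∈ W) (hy' : g.base y ∈ W) :
    fv f W c y hy = fv g W c y hy' := by
  subst e
  rfl

theorem fv_rres (f : Proj 𝒜 ⟶ P) {W W' : P.Opens} (hW : W' ≤ W) (c : Γ(P, W))
    (y : ProjectiveSpectrum 𝒜) (hy : f.base y ∈ W') :
    fv f W' (rres P hW c) y hy = fv f W c y (hW hy) := by
  unfold fv
  have h1 : f.app W' (rres P hW c) =
      (Proj 𝒜).presheaf.map (homOfLE (f.preimage_mono hW)).op (f.app W c) :=
    ConcreteCategory.congr_hom (f.naturality (homOfLE hW).op) c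
  rw [h1]
  rfl

end fv

section cv

variable {Y P : Scheme.{u}} (𝒮 : RelProj.QCGrAlg Y) (p : P ⟶ Y)
  (chart : ∀ (U : Y.Opens) (hU : IsAffineOpen U),
    (((p ⁻¹ᵁ U : P.Opens) : Scheme.{u}) ≅ Proj (𝒮.deg U hU)))
  (hP : RelProj.IsRelProj 𝒮 p chart)
  (n : ℤ) (L : P.Modules)
  (lam : ∀ (U : Y.Opens) (hU : IsAffineOpen U),
    L ⟶ (Scheme.Modules.pushforward (RelProj.emb p chart U hU)).obj (GrTwist.twist (𝒮.deg U hU) n))
  (hL : RelProj.IsRelTwist 𝒮 p chart n L lam)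

/-- the value at the chart point `y` of a section of `O_P(n)`, read in the chart over `U` -/
noncomputable def cv (U : Y.Opens) (hU : IsAffineOpen U) (W : P.Opens) (s : Γ(L, W))
    (y : ProjectiveSpectrum (𝒮.deg U hU)) (hy : (RelProj.emb p chart U hU).base y ∈ W) :
    GrTwist.Loc (𝒮.deg U hU) y :=
  GrTwist.val (V := RelProj.emb p chart U hU ⁻¹ᵁ W) ((lam U hU).app W s) ⟨y, hy⟩

theorem cv_mres (U : Y.Opens) (hU : IsAffineOpen U) {W W' : P.Opens} (hW : W' ≤ W) (s : Γ(L, W))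
    (y : ProjectiveSpectrum (𝒮.deg U hU)) (hy : (RelProj.emb p chart U hU).base y ∈ W') :
    cv 𝒮 p chart n L lam U hU W' (mres L hW s) y hy = cv 𝒮 p chart n L lam U hU W s y (hW hy) := by
  unfold cv
  rw [RelTwistTriv.app_mres]
  rfl

theorem cv_smul (U : Y.Opens) (hU : IsAffineOpen U) (W : P.Opens) (c : Γ(P, W)) (s : Γ(L, W))
    (y : ProjectiveSpectrum (𝒮.deg U hU)) (hy : (RelProj.emb p chart U hU).base y ∈ W) :
    cv 𝒮 p chart n L lam U hU W (c • s) y hy =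
      fv (RelProj.emb p chart U hU) W c y hy * cv 𝒮 p chart n L lam U hU W s y hy := by
  unfold cv fv
  rw [Scheme.Modules.Hom.app_smul]
  exact GrTwistTriv.twist_smul_val (𝒮.deg U hU) n (RelProj.emb p chart U hU ⁻¹ᵁ W)
    ((RelProj.emb p chart U hU).app W c) ((lam U hU).app W s) ⟨y, hy⟩

include hL in
/-- a section is determined by its chart values -/
theorem ext_cv (W : P.Opens) (s t : Γ(L, W))
    (h : ∀ x ∈ W, ∃ (U : Y.Opens) (hU : IsAffineOpen U), p.base x ∈ U ∧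
      ∀ (y : ProjectiveSpectrum (𝒮.deg U hU)) (hy : (RelProj.emb p chart U hU).base y ∈ W),
        cv 𝒮 p chart n L lam U hU W s y hy = cv 𝒮 p chart n L lam U hU W t y hy) : s = t := by
  refine modules_eq_of_locally_eq L s t fun x hx => ?_
  obtain ⟨U, hU, hxU, hval⟩ := h x hx
  refine ⟨W ⊓ p ⁻¹ᵁ U, inf_le_left, ⟨hx, hxU⟩, ?_⟩
  apply (hL.bijective U hU (W ⊓ p ⁻¹ᵁ U) inf_le_right).1
  apply GrTwistTriv.twist_sect_ext
  intro z
  have h1 := cv_mres 𝒮 p chart n L lam U hU (inf_le_left : W ⊓ p ⁻¹ᵁ U ≤ W) s z.1 z.2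
  have h2 := cv_mres 𝒮 p chart n L lam U hU (inf_le_left : W ⊓ p ⁻¹ᵁ U ≤ W) t z.1 z.2
  exact h1.trans ((hval z.1 z.2.1).trans h2.symm)

/-- irrelevance hypothesis for the restriction to an open which is basic -/
theorem irr_of_basic (U : Y.Opens) (hU : IsAffineOpen U) (V : Y.Opens) (hV : IsAffineOpen V)
    (i : V ≤ U) (hVr : ∃ r : Γ(Y, U), V = Y.basicOpen r) :
    (𝒮.deg V hV)₊ ≤ ((𝒮.deg U hU)₊).map (𝒮.res hU hV i) := by
  obtain ⟨r, rfl⟩ := hVr
  exact 𝒮.irrelevant_le_map U hU r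

include hP in
theorem emb_comap_mem' (U : Y.Opens) (hU : IsAffineOpen U) (V : Y.Opens) (hV : IsAffineOpen V)
    (i : V ≤ U) (hVr : ∃ r : Γ(Y, U), V = Y.basicOpen r) (W : P.Opens)
    (y : ProjectiveSpectrum (𝒮.deg V hV)) (hy : (RelProj.emb p chart V hV).base y ∈ W) :
    (RelProj.emb p chart U hU).base (ProjectiveSpectrum.comap (𝒮.res hU hV i)
      (irr_of_basic 𝒮 U hU V hV i hVr) y) ∈ W := by
  obtain ⟨r, rfl⟩ := hVr
  exact Groth.Agent.H77.RelTildeGlue.emb_comap_mem 𝒮 p chart hP U hU r W y hy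

include hP hL in
/-- change of chart to a basic open -/
theorem cv_basic (U : Y.Opens) (hU : IsAffineOpen U) (V : Y.Opens) (hV : IsAffineOpen V)
    (i : V ≤ U) (hVr : ∃ r : Γ(Y, U), V = Y.basicOpen r) (W : P.Opens) (s : Γ(L, W))
    (y : ProjectiveSpectrum (𝒮.deg V hV)) (hy : (RelProj.emb p chart V hV).base y ∈ W) :
    cv 𝒮 p chart n L lam V hV W s y hy =
      GrTwist.locMap (𝒮.res hU hV i) (irr_of_basic 𝒮 U hU V hV i hVr) y
        (cv 𝒮 p chart n L lam U hU W s _ (emb_comap_mem' 𝒮 p chart hP U hU V hV i hVr W y hy)) := by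
  obtain ⟨r, rfl⟩ := hVr
  exact hL.compat U hU r W s y hy _

include hP hL in
/-- chart value, over a basic open, of a section which reads as a fraction in the chart over `U` -/
theorem cv_frac_basic (U : Y.Opens) (hU : IsAffineOpen U) (V : Y.Opens) (hV : IsAffineOpen V)
    (i : V ≤ U) (hVr : ∃ r : Γ(Y, U), V = Y.basicOpen r) (W : P.Opens) (s : Γ(L, W))
    {k l : ℕ} {a b : 𝒮.presheaf.obj (op U)} (ha : a ∈ 𝒮.deg U hU k) (hb : b ∈ 𝒮.deg U hU l)
    (he : (k : ℤ) = l + n)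
    (hWb : ∀ x : ProjectiveSpectrum (𝒮.deg U hU), x ∈ (RelProj.emb p chart U hU) ⁻¹ᵁ W →
      b ∉ x.asHomogeneousIdeal)
    (hs : (lam U hU).app W s =
      GrTwistTriv.fracTw (𝒮.deg U hU) ha hb he ((RelProj.emb p chart U hU) ⁻¹ᵁ W) hWb)
    (y : ProjectiveSpectrum (𝒮.deg V hV)) (hy : (RelProj.emb p chart V hV).base y ∈ W) :
    ∃ hb' : 𝒮.res hU hV i b ∉ y.asHomogeneousIdeal,
      cv 𝒮 p chart n L lam V hV W s y hy = Localization.mk (𝒮.res hU hV i a) ⟨𝒮.res hU hV i b, hb'⟩ := by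
  have hy' := emb_comap_mem' 𝒮 p chart hP U hU V hV i hVr W y hy
  refine ⟨hWb _ hy', ?_⟩
  rw [cv_basic 𝒮 p chart hP n L lam hL U hU V hV i hVr W s y hy]
  have h1 : cv 𝒮 p chart n L lam U hU W s _ hy' = Localization.mk a ⟨b, hWb _ hy'⟩ := by
    unfold cv
    rw [hs]
    rfl
  rw [h1]
  exact GrTwist.locMap_mk _ _ _ _ _

end cv

end Groth.Agent.H41.TwistBC1
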