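import Groth.Agent.H41.TwistBC1

/-!
# Base change of the twisting sheaves: `h^* O_P(n) ≅ O_{P'}(n)` (helper41)

For a graded `ψ`-morphism `u : 𝒮 → 𝒮'` over `ψ : Y' ⟶ Y` with `Proj(u) = h : P' ⟶ P` everywhere defined and `𝒮` generated
in degree one, the pullback `h^* O_P(n)` is isomorphic to `O_{P'}(n)`.
-/

set_option autoImplicit false
universe u

open CategoryTheory CategoryTheory.Limits AlgebraicGeometry TopologicalSpace Opposite
open scoped HomogeneousIdeal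

namespace Groth.Agent.H41.TwistBC2

open Groth.Agent.H18 Groth.Agent.H18.PUP Groth.Agent.H41.RelTwistTriv Groth.Agent.H41
open Groth.Agent.H41.TwistBC1 Groth.Agent.H44

variable {Y Y' P P' : Scheme.{u}} (ψ : Y' ⟶ Y) (𝒮 : RelProj.QCGrAlg Y) (𝒮' : RelProj.QCGrAlg Y')
  (u : RelProj.QGrHom ψ 𝒮 𝒮')
  (hirr : ∀ (U : Y.Opens) (hU : IsAffineOpen U) (U' : Y'.Opens) (hU' : IsAffineOpen U')
    (hle : U' ≤ ψ ⁻¹ᵁ U),
    (𝒮'.deg U' hU')₊ ≤ ((𝒮.deg U hU)₊).map (u.gradedAt U hU U' hU' hle))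
  (p : P ⟶ Y)
  (chart : ∀ (U : Y.Opens) (hU : IsAffineOpen U),
    (((p ⁻¹ᵁ U : P.Opens) : Scheme.{u}) ≅ Proj (𝒮.deg U hU)))
  (hP : RelProj.IsRelProj 𝒮 p chart) (p' : P' ⟶ Y')
  (chart' : ∀ (U' : Y'.Opens) (hU' : IsAffineOpen U'),
    (((p' ⁻¹ᵁ U' : P'.Opens) : Scheme.{u}) ≅ Proj (𝒮'.deg U' hU')))
  (hP' : RelProj.IsRelProj 𝒮' p' chart')
  (h : P' ⟶ P) (hh : RelProjQMap.IsChartMap ψ 𝒮 𝒮' u hirr p chart p' chart' h)

include hh in
theorem emb_comp (U : Y.Opens) (hU : IsAffineOpen U) (U' : Y'.Opens) (hU' : IsAffineOpen U')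
    (hle : U' ≤ ψ ⁻¹ᵁ U) :
    RelProj.emb p' chart' U' hU' ≫ h =
      Proj.map (u.gradedAt U hU U' hU' hle) (hirr U hU U' hU' hle) ≫ RelProj.emb p chart U hU := by
  change ((chart' U' hU').inv ≫ (p' ⁻¹ᵁ U').ι) ≫ h = _
  rw [Category.assoc, hh U hU U' hU' hle, Iso.inv_hom_id_assoc]

include hh in
theorem emb_mem_iff (U : Y.Opens) (hU : IsAffineOpen U) (U' : Y'.Opens) (hU' : IsAffineOpen U')
    (hle : U' ≤ ψ ⁻¹ᵁ U) (D : P.Opens) (y' : ProjectiveSpectrum (𝒮'.deg U' hU')) :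
    (RelProj.emb p' chart' U' hU').base y' ∈ h ⁻¹ᵁ D ↔
      (RelProj.emb p chart U hU).base (ProjectiveSpectrum.comap (u.gradedAt U hU U' hU' hle)
        (hirr U hU U' hU' hle) y') ∈ D := by
  have e := emb_comp ψ 𝒮 𝒮' u hirr p chart p' chart' h hh U hU U' hU' hle
  have e' : (RelProj.emb p' chart' U' hU' ≫ h).base y' =
      (Proj.map (u.gradedAt U hU U' hU' hle) (hirr U hU U' hU' hle) ≫
        RelProj.emb p chart U hU).base y' := by rw [e]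
  exact (congrArg (· ∈ D) e').to_iff

include hh in
/-- the value of `h^♯ c` at a chart point is the image of the value of `c` -/
theorem fv_h (U : Y.Opens) (hU : IsAffineOpen U) (U' : Y'.Opens) (hU' : IsAffineOpen U')
    (hle : U' ≤ ψ ⁻¹ᵁ U) (D : P.Opens) (c : Γ(P, D)) (y' : ProjectiveSpectrum (𝒮'.deg U' hU'))
    (hy' : (RelProj.emb p' chart' U' hU').base y' ∈ h ⁻¹ᵁ D)
    (hy : (RelProj.emb p chart U hU).base (ProjectiveSpectrum.comap (u.gradedAt U hU U' hU' hle)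
        (hirr U hU U' hU' hle) y') ∈ D) :
    fv (RelProj.emb p' chart' U' hU') (h ⁻¹ᵁ D) (h.app D c) y' hy' =
      GrTwist.locMap (u.gradedAt U hU U' hU' hle) (hirr U hU U' hU' hle) y'
        (fv (RelProj.emb p chart U hU) D c _ hy) := by
  have e := emb_comp ψ 𝒮 𝒮' u hirr p chart p' chart' h hh U hU U' hU' hle
  have h1 : fv (RelProj.emb p' chart' U' hU') (h ⁻¹ᵁ D) (h.app D c) y' hy' =
      fv (RelProj.emb p' chart' U' hU' ≫ h) D c y' hy' := rfl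
  rw [h1, fv_congr e D c y' hy' hy]
  unfold fv
  change ((HomogeneousLocalization.localRingHom (u.gradedAt U hU U' hU' hle) _
    y'.asHomogeneousIdeal.toIdeal rfl _)).val = _
  rw [HomogeneousLocalization.val_localRingHom]
  rfl

section onechart

variable {Y P : Scheme.{u}} (𝒮 : RelProj.QCGrAlg Y) (p : P ⟶ Y)
  (chart : ∀ (U : Y.Opens) (hU : IsAffineOpen U),
    (((p ⁻¹ᵁ U : P.Opens) : Scheme.{u}) ≅ Proj (𝒮.deg U hU)))
  (n : ℤ) (L : P.Modules)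
  (lam : ∀ (U : Y.Opens) (hU : IsAffineOpen U),
    L ⟶ (Scheme.Modules.pushforward (RelProj.emb p chart U hU)).obj (GrTwist.twist (𝒮.deg U hU) n))
  (hL : RelProj.IsRelTwist 𝒮 p chart n L lam)
  (U : Y.Opens) (hU : IsAffineOpen U) (g : 𝒮.presheaf.obj (op U))

/-- the image in `P` of the basic open `D₊(g)` of the chart over `U` -/
noncomputable def DD : P.Opens := (RelProj.emb p chart U hU) ''ᵁ Proj.basicOpen (𝒮.deg U hU) g

theorem DD_le : DD 𝒮 p chart U hU g ≤ p ⁻¹ᵁ U := by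
  unfold DD
  rw [← opensRange_emb 𝒮 p chart U hU]
  exact Scheme.Hom.image_le_opensRange _ _

theorem mem_DD_iff (z : ProjectiveSpectrum (𝒮.deg U hU)) :
    (RelProj.emb p chart U hU).base z ∈ DD 𝒮 p chart U hU g ↔ g ∉ z.asHomogeneousIdeal := by
  constructor
  · rintro ⟨z', hz', e'⟩
    have : z' = z := (RelProj.emb p chart U hU).isOpenEmbedding.injective e'
    rw [← this]
    exact (Proj.mem_basicOpen _ _ _).mp hz'
  · intro hz
    exact ⟨z, (Proj.mem_basicOpen _ _ _).mpr hz, rfl⟩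

theorem pow_notMem (m : ℕ) (z : ProjectiveSpectrum (𝒮.deg U hU))
    (hz : z ∈ (RelProj.emb p chart U hU) ⁻¹ᵁ DD 𝒮 p chart U hU g) :
    g ^ m ∉ z.asHomogeneousIdeal := fun hm =>
  (mem_DD_iff 𝒮 p chart U hU g z).mp hz (z.isPrime.mem_of_pow_mem m hm)

theorem toNat_eq (n : ℤ) : ((n.toNat • 1 : ℕ) : ℤ) = ((-n).toNat • 1 : ℕ) + n := by
  simp only [smul_eq_mul, mul_one]
  omega

/-- `σ` reads as `g ^ n` in the chart over `U` -/
def IsStd (hg1 : g ∈ 𝒮.deg U hU 1) (σ : Γ(L, DD 𝒮 p chart U hU g)) : Prop :=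
  (lam U hU).app (DD 𝒮 p chart U hU g) σ =
    GrTwistTriv.fracTw (𝒮.deg U hU) (SetLike.pow_mem_graded n.toNat hg1)
      (SetLike.pow_mem_graded (-n).toNat hg1) (toNat_eq n)
      ((RelProj.emb p chart U hU) ⁻¹ᵁ DD 𝒮 p chart U hU g)
      (pow_notMem 𝒮 p chart U hU g _)

include hL in
theorem IsStd.cv_basic (hP : RelProj.IsRelProj 𝒮 p chart) {hg1 : g ∈ 𝒮.deg U hU 1}
    {σ : Γ(L, DD 𝒮 p chart U hU g)}
    (hσ : IsStd 𝒮 p chart n L lam U hU g hg1 σ) (V : Y.Opens) (hV : IsAffineOpen V)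
    (i : V ≤ U) (hVr : ∃ r : Γ(Y, U), V = Y.basicOpen r)
    (y : ProjectiveSpectrum (𝒮.deg V hV))
    (hy : (RelProj.emb p chart V hV).base y ∈ DD 𝒮 p chart U hU g) :
    ∃ hb' : 𝒮.res hU hV i (g ^ (-n).toNat) ∉ y.asHomogeneousIdeal,
      cv 𝒮 p chart n L lam V hV (DD 𝒮 p chart U hU g) σ y hy =
        Localization.mk (𝒮.res hU hV i (g ^ n.toNat)) ⟨𝒮.res hU hV i (g ^ (-n).toNat), hb'⟩ :=
  cv_frac_basic 𝒮 p chart hP n L lam hL U hU V hV i hVr (DD 𝒮 p chart U hU g) σ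
    (SetLike.pow_mem_graded n.toNat hg1) (SetLike.pow_mem_graded (-n).toNat hg1) (toNat_eq n)
    (pow_notMem 𝒮 p chart U hU g _) hσ y hy

include hL in
theorem exists_basis_section (hg1 : g ∈ 𝒮.deg U hU 1) :
    ∃ σ : Γ(L, DD 𝒮 p chart U hU g), IsBasisOn L (DD 𝒮 p chart U hU g) σ ∧
      IsStd 𝒮 p chart n L lam U hU g hg1 σ := by
  obtain ⟨σ, hσ⟩ := exists_section 𝒮 p chart n L lam hL U hU
    (SetLike.pow_mem_graded n.toNat hg1) (SetLike.pow_mem_graded (-n).toNat hg1) (toNat_eq n)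
    (DD 𝒮 p chart U hU g) (DD_le 𝒮 p chart U hU g) (pow_notMem 𝒮 p chart U hU g _)
  refine ⟨σ, fun V hV => ?_, hσ⟩
  exact bijective_smul_of_lam_eq 𝒮 p chart n L lam hL U hU
    (SetLike.pow_mem_graded n.toNat hg1) (SetLike.pow_mem_graded (-n).toNat hg1) (toNat_eq n)
    (DD 𝒮 p chart U hU g) (DD_le 𝒮 p chart U hU g) (pow_notMem 𝒮 p chart U hU g _)
    (pow_notMem 𝒮 p chart U hU g _) σ hσ V hV

end onechart

theorem mk_congr {R : Type*} [CommRing R] {S : Submonoid R} {a a' b b' : R} (hb : b ∈ S)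
    (hb' : b' ∈ S) (ha : a = a') (hbb : b = b') :
    Localization.mk a ⟨b, hb⟩ = Localization.mk a' ⟨b', hb'⟩ := by
  subst ha hbb
  rfl

section main

variable (hgen : 𝒮.IsGenDegOne) (n : ℤ) (L : P.Modules)
  (lam : ∀ (U : Y.Opens) (hU : IsAffineOpen U),
    L ⟶ (Scheme.Modules.pushforward (RelProj.emb p chart U hU)).obj (GrTwist.twist (𝒮.deg U hU) n))
  (hL : RelProj.IsRelTwist 𝒮 p chart n L lam) (L' : P'.Modules)
  (lam' : ∀ (U' : Y'.Opens) (hU' : IsAffineOpen U'),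
    L' ⟶ (Scheme.Modules.pushforward (RelProj.emb p' chart' U' hU')).obj
      (GrTwist.twist (𝒮'.deg U' hU') n))
  (hL' : RelProj.IsRelTwist 𝒮' p' chart' n L' lam')

/-- the index set of the cover: an affine pair and an element of degree one -/
structure Idx where
  U : Y.Opens
  hU : IsAffineOpen U
  U' : Y'.Opens
  hU' : IsAffineOpen U'
  hle : U' ≤ ψ ⁻¹ᵁ U
  e : 𝒮.presheaf.obj (op U)
  he : e ∈ 𝒮.deg U hU 1

variable {ψ 𝒮}

/-- the open of `P` -/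
noncomputable abbrev Idx.D (i : Idx ψ 𝒮) : P.Opens := DD 𝒮 p chart i.U i.hU i.e

/-- the image of the degree one element -/
noncomputable abbrev Idx.e' (i : Idx ψ 𝒮) : 𝒮'.presheaf.obj (op i.U') :=
  u.gradedAt i.U i.hU i.U' i.hU' i.hle i.e

theorem Idx.he' (i : Idx ψ 𝒮) : i.e' 𝒮' u ∈ 𝒮'.deg i.U' i.hU' 1 :=
  (u.gradedAt i.U i.hU i.U' i.hU' i.hle).map_mem i.he

/-- the open of `P'` -/
noncomputable abbrev Idx.W (i : Idx ψ 𝒮) : P'.Opens := DD 𝒮' p' chart' i.U' i.hU' (i.e' 𝒮' u)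

include hh in
theorem Idx.W_le (i : Idx ψ 𝒮) : i.W 𝒮' u p' chart' ≤ h ⁻¹ᵁ i.D p chart := by
  rintro _ ⟨z, hz, rfl⟩
  refine (emb_mem_iff ψ 𝒮 𝒮' u hirr p chart p' chart' h hh i.U i.hU i.U' i.hU' i.hle _ z).mpr ?_
  refine (mem_DD_iff 𝒮 p chart i.U i.hU i.e _).mpr ?_
  exact (Proj.mem_basicOpen _ _ _).mp hz

include hirr hgen in
theorem exists_idx (x : P') : ∃ i : Idx ψ 𝒮, x ∈ i.W 𝒮' u p' chart' := by
  obtain ⟨V, hV⟩ := Groth.Agent.H41.PairGlue.exists_pair ψ (p' x)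
  have hx : x ∈ (p' ⁻¹ᵁ V.1.2.1 : P'.Opens) := hV
  set z := (chart' V.1.2.1 V.1.2.2).hom ⟨x, hx⟩ with hz
  obtain ⟨g, hg1, hgx⟩ := Groth.Agent.H41.GenDegOne.exists_degOne_notMem (hgen V.1.1.1 V.1.1.2)
    (ProjectiveSpectrum.comap (u.gradedAt V.1.1.1 V.1.1.2 V.1.2.1 V.1.2.2 V.2)
      (hirr V.1.1.1 V.1.1.2 V.1.2.1 V.1.2.2 V.2) z)
  refine ⟨⟨V.1.1.1, V.1.1.2, V.1.2.1, V.1.2.2, V.2, g, hg1⟩, ?_⟩
  have h1 : (RelProj.emb p' chart' V.1.2.1 V.1.2.2).base z = x :=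
    RelPMap2.emb_chart_apply p' chart' V.1.2.1 V.1.2.2 x hx
  rw [← h1]
  exact (mem_DD_iff 𝒮' p' chart' V.1.2.1 V.1.2.2 _ z).mpr hgx

include hP hP' hh hL hL' in
/-- the transition functions of the standard sections of `O_{P'}(n)` are the pullbacks of those of `O_P(n)` -/
theorem key (i j : Idx ψ 𝒮) (σi : Γ(L, i.D p chart)) (σj : Γ(L, j.D p chart))
    (hσi : IsStd 𝒮 p chart n L lam i.U i.hU i.e i.he σi)
    (hσj : IsStd 𝒮 p chart n L lam j.U j.hU j.e j.he σj)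
    (γi : Γ(L', i.W 𝒮' u p' chart')) (γj : Γ(L', j.W 𝒮' u p' chart'))
    (hγi : IsStd 𝒮' p' chart' n L' lam' i.U' i.hU' (i.e' 𝒮' u) (i.he' 𝒮' u) γi)
    (hγj : IsStd 𝒮' p' chart' n L' lam' j.U' j.hU' (j.e' 𝒮' u) (j.he' 𝒮' u) γj)
    (c : Γ(P, i.D p chart ⊓ j.D p chart))
    (hc : c • mres L inf_le_left σi = mres L inf_le_right σj)
    (hW2 : i.W 𝒮' u p' chart' ⊓ j.W 𝒮' u p' chart' ≤ h ⁻¹ᵁ (i.D p chart ⊓ j.D p chart)) :
    mres L' inf_le_right γj = h.appLE _ _ hW2 c • mres L' inf_le_left γi := by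
  refine ext_cv 𝒮' p' chart' n L' lam' hL' _ _ _ fun x hx => ?_
  have hxi : p'.base x ∈ i.U' := DD_le 𝒮' p' chart' i.U' i.hU' _ hx.1
  have hxj : p'.base x ∈ j.U' := DD_le 𝒮' p' chart' j.U' j.hU' _ hx.2
  have hyi : ψ.base (p'.base x) ∈ i.U := i.hle hxi
  have hyj : ψ.base (p'.base x) ∈ j.U := j.hle hxj
  obtain ⟨f, g, hfg, hxf⟩ := exists_basicOpen_le_affine_inter i.hU j.hU (ψ.base (p'.base x))
    ⟨hyi, hyj⟩
  obtain ⟨f', g', hfg', hxf', hle'⟩ := exists_basicOpen_le_affine_inter' i.hU' j.hU'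
    (ψ ⁻¹ᵁ Y.basicOpen f) (p'.base x) ⟨hxi, hxj⟩ hxf
  have hV := i.hU.basicOpen f
  have hV' := i.hU'.basicOpen f'
  have iVi : Y.basicOpen f ≤ i.U := Y.basicOpen_le f
  have iVj : Y.basicOpen f ≤ j.U := hfg.le.trans (Y.basicOpen_le g)
  have iVi' : Y'.basicOpen f' ≤ i.U' := Y'.basicOpen_le f'
  have iVj' : Y'.basicOpen f' ≤ j.U' := hfg'.le.trans (Y'.basicOpen_le g')
  refine ⟨Y'.basicOpen f', hV', hxf', fun y' hy' => ?_⟩
  -- the image chart point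
  have hyD := (emb_mem_iff ψ 𝒮 𝒮' u hirr p chart p' chart' h hh (Y.basicOpen f) hV
    (Y'.basicOpen f') hV' hle' (i.D p chart ⊓ j.D p chart) y').mp (hW2 hy')
  -- the relation on `P`, valuewise
  have e1 := congrArg (fun s => cv 𝒮 p chart n L lam (Y.basicOpen f) hV
    (i.D p chart ⊓ j.D p chart) s _ hyD) hc
  simp only at e1
  rw [cv_smul, cv_mres, cv_mres] at e1
  obtain ⟨hbi, hvi⟩ := hσi.cv_basic 𝒮 p chart n L lam hL i.U i.hU i.e hP (Y.basicOpen f) hV iVi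
    ⟨f, rfl⟩ _ hyD.1
  obtain ⟨hbj, hvj⟩ := hσj.cv_basic 𝒮 p chart n L lam hL j.U j.hU j.e hP (Y.basicOpen f) hV iVj
    ⟨g, hfg⟩ _ hyD.2
  rw [hvi, hvj] at e1
  have e2 := congrArg (GrTwist.locMap (u.gradedAt (Y.basicOpen f) hV (Y'.basicOpen f') hV' hle')
    (hirr _ hV _ hV' hle') y') e1
  rw [map_mul, GrTwist.locMap_mk, GrTwist.locMap_mk] at e2
  -- the relation on `P'`, valuewise
  rw [cv_smul, cv_mres, cv_mres]
  obtain ⟨hbi', hvi'⟩ := hγi.cv_basic 𝒮' p' chart' n L' lam' hL' i.U' i.hU' _ hP'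
    (Y'.basicOpen f') hV' iVi' ⟨f', rfl⟩ y' hy'.1
  obtain ⟨hbj', hvj'⟩ := hγj.cv_basic 𝒮' p' chart' n L' lam' hL' j.U' j.hU' _ hP'
    (Y'.basicOpen f') hV' iVj' ⟨g', hfg'⟩ y' hy'.2
  rw [hvi', hvj']
  have hcc : fv (RelProj.emb p' chart' (Y'.basicOpen f') hV')
      (i.W 𝒮' u p' chart' ⊓ j.W 𝒮' u p' chart') (h.appLE _ _ hW2 c) y' hy' =
      GrTwist.locMap (u.gradedAt (Y.basicOpen f) hV (Y'.basicOpen f') hV' hle')
        (hirr _ hV _ hV' hle') y'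
        (fv (RelProj.emb p chart (Y.basicOpen f) hV) (i.D p chart ⊓ j.D p chart) c _ hyD) := by
    have h1 : h.appLE _ _ hW2 c = rres P' hW2 (h.app (i.D p chart ⊓ j.D p chart) c) := rfl
    rw [h1, fv_rres]
    exact fv_h ψ 𝒮 𝒮' u hirr p chart p' chart' h hh (Y.basicOpen f) hV (Y'.basicOpen f') hV' hle'
      _ c y' (hW2 hy') hyD
  rw [hcc]
  have hci : ∀ (m : ℕ), 𝒮'.res i.hU' hV' iVi' ((i.e' 𝒮' u) ^ m) =
      u.gradedAt (Y.basicOpen f) hV (Y'.basicOpen f') hV' hle' (𝒮.res i.hU hV iVi (i.e ^ m)) := by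
    intro m
    have h1 := DFunLike.congr_fun (RelProjQMap.gradedAt_comm ψ 𝒮 𝒮' u i.U i.hU i.U' i.hU' i.hle
      (Y.basicOpen f) hV (Y'.basicOpen f') hV' hle' iVi iVi') (i.e ^ m)
    rw [← map_pow]
    exact h1
  have hcj : ∀ (m : ℕ), 𝒮'.res j.hU' hV' iVj' ((j.e' 𝒮' u) ^ m) =
      u.gradedAt (Y.basicOpen f) hV (Y'.basicOpen f') hV' hle' (𝒮.res j.hU hV iVj (j.e ^ m)) := by
    intro m
    have h1 := DFunLike.congr_fun (RelProjQMap.gradedAt_comm ψ 𝒮 𝒮' u j.U j.hU j.U' j.hU' j.hle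
      (Y.basicOpen f) hV (Y'.basicOpen f') hV' hle' iVj iVj') (j.e ^ m)
    rw [← map_pow]
    exact h1
  refine (mk_congr _ _ (hcj _) (hcj _)).trans (e2.symm.trans ?_)
  congr 1
  exact (mk_congr _ _ (hci _) (hci _)).symm

include hP hP' hh hgen hL hL' in
/-- base change of the twisting sheaves: `h^* O_P(n) ≅ O_{P'}(n)` -/
theorem nonempty_pullback_iso : Nonempty ((Scheme.Modules.pullback h).obj L ≅ L') := by
  choose σ hσb hσs using fun i : Idx ψ 𝒮 =>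
    exists_basis_section 𝒮 p chart n L lam hL i.U i.hU i.e i.he
  choose γ hγb hγs using fun i : Idx ψ 𝒮 =>
    exists_basis_section 𝒮' p' chart' n L' lam' hL' i.U' i.hU' (i.e' 𝒮' u) (i.he' 𝒮' u)
  have hWle : ∀ i : Idx ψ 𝒮, i.W 𝒮' u p' chart' ≤ h ⁻¹ᵁ i.D p chart := fun i =>
    i.W_le 𝒮' u hirr p chart p' chart' h hh
  set t : ∀ i : Idx ψ 𝒮, Γ((Scheme.Modules.pullback h).obj L, i.W 𝒮' u p' chart') := fun i =>
    pullSectLE h L (i.D p chart) (i.W 𝒮' u p' chart') (hWle i) (σ i) with ht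
  have htb : ∀ i : Idx ψ 𝒮, IsBasisOn ((Scheme.Modules.pullback h).obj L) (i.W 𝒮' u p' chart') (t i) :=
    fun i => (Groth.Agent.H67.PullBasis.isBasisOn_pullSect h L _ (σ i) (hσb i)).mono (hWle i)
  have hcov : ∀ x : P', ∃ i : Idx ψ 𝒮, x ∈ i.W 𝒮' u p' chart' :=
    exists_idx 𝒮' u hirr p' chart' hgen
  have hcompat : ∀ (i j : Idx ψ 𝒮) (c' : Γ(P', i.W 𝒮' u p' chart' ⊓ j.W 𝒮' u p' chart')),
      mres ((Scheme.Modules.pullback h).obj L) inf_le_right (t j) =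
        c' • mres ((Scheme.Modules.pullback h).obj L) inf_le_left (t i) →
      mres L' inf_le_right (γ j) = c' • mres L' inf_le_left (γ i) := by
    intro i j c' hc'
    have hW2 : i.W 𝒮' u p' chart' ⊓ j.W 𝒮' u p' chart' ≤ h ⁻¹ᵁ (i.D p chart ⊓ j.D p chart) :=
      fun x hx => ⟨hWle i hx.1, hWle j hx.2⟩
    obtain ⟨c, hc⟩ : ∃ c : Γ(P, i.D p chart ⊓ j.D p chart),
        c • mres L inf_le_left (σ i) = mres L inf_le_right (σ j) :=
      ⟨_, (hσb i).coord_smul _ _⟩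
    have hkey := key 𝒮' u hirr p chart hP p' chart' hP' h hh n L lam hL L' lam' hL' i j
      (σ i) (σ j) (hσs i) (hσs j) (γ i) (γ j) (hγs i) (hγs j) c hc hW2
    have h1 : mres ((Scheme.Modules.pullback h).obj L) inf_le_left (t i) =
        pullSectLE h L (i.D p chart ⊓ j.D p chart) (i.W 𝒮' u p' chart' ⊓ j.W 𝒮' u p' chart') hW2
          (mres L inf_le_left (σ i)) := by
      rw [pullSectLE_of_res]
      exact pullSectLE_res h L _ _ _ _ _ _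
    have h2 : mres ((Scheme.Modules.pullback h).obj L) inf_le_right (t j) =
        pullSectLE h L (i.D p chart ⊓ j.D p chart) (i.W 𝒮' u p' chart' ⊓ j.W 𝒮' u p' chart') hW2
          (mres L inf_le_right (σ j)) := by
      rw [pullSectLE_of_res]
      exact pullSectLE_res h L _ _ _ _ _ _
    have h3 : mres ((Scheme.Modules.pullback h).obj L) inf_le_right (t j) =
        h.appLE _ _ hW2 c •
          mres ((Scheme.Modules.pullback h).obj L) inf_le_left (t i) := by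
      rw [h2, ← hc, pullSectLE_smul, ← h1]
    have h4 : c' = h.appLE _ _ hW2 c :=
      (htb i _ inf_le_left).1 (hc'.symm.trans h3)
    rw [h4]
    exact hkey
  have hΘ : ∀ i : Idx ψ 𝒮,
      (homOfLocalBasis (fun i : Idx ψ 𝒮 => i.W 𝒮' u p' chart') hcov t htb γ hcompat).app
        (i.W 𝒮' u p' chart') (t i) = γ i :=
    homOfLocalBasis_app (fun i : Idx ψ 𝒮 => i.W 𝒮' u p' chart') hcov t htb γ hcompat
  suffices hiso : IsIso (homOfLocalBasis (fun i : Idx ψ 𝒮 => i.W 𝒮' u p' chart') hcov t htb γ hcompat)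
    from ⟨asIso (homOfLocalBasis (fun i : Idx ψ 𝒮 => i.W 𝒮' u p' chart') hcov t htb γ hcompat)⟩
  refine IsoOfBases.isIso_of_local_bases _ fun x => ?_
  obtain ⟨i, hi⟩ := hcov x
  refine ⟨i.W 𝒮' u p' chart', t i, hi, htb i, ?_⟩
  rw [hΘ]
  exact hγb i

end main

end Groth.Agent.H41.TwistBC2
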