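import Groth.Agent.H41.TwistBC2
import Groth.Agent.H41.SymProjPullback
import Groth.Agent.H41.GrSymSheaf
import Groth.Agent.H41.RelTwistExists
import Groth.Agent.S8258

/-!
# The projective bundle and its `O(1)` under base change (helper41)
-/

set_option autoImplicit false
universe u

open CategoryTheory CategoryTheory.Limits AlgebraicGeometry TopologicalSpace Opposite
open scoped HomogeneousIdeal

namespace Groth.Agent.H41.VABaseChange

open Groth.Agent.H41.SymSheaf Groth.Agent.H41.SymStruct Groth.Agent.H41.GrSymSheaf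

/-- the graded symmetric algebra of a quasi-coherent module is generated in degree one -/
theorem isGenDegOne_of_isGrSymAlg {Y : Scheme.{u}} (E : Y.Modules) [E.IsQuasicoherent]
    (𝒮 : RelProj.QCGrAlg Y) (j : E ⟶ 𝒮.toModule) (hj : RelProj.IsGrSymAlg E 𝒮 j) :
    𝒮.IsGenDegOne := by
  intro U hU
  have key : ∀ y : SymmetricAlgebra Γ(Y, U) Γ(E, U), liftApp E 𝒮.toQCAlg j U y ∈
      Subring.closure ((𝒮.deg U hU 0 : Set (𝒮.presheaf.obj (op U))) ∪ (𝒮.deg U hU 1 : Set _)) := by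
    intro y
    induction y using SymmetricAlgebra.induction with
    | algebraMap r =>
      rw [liftApp_algebraMap]
      exact Subring.subset_closure (Or.inl (𝒮.str_mem U hU r))
    | ι x =>
      rw [liftApp_ι]
      exact Subring.subset_closure (Or.inr (hj.2 U hU x))
    | mul a b ha hb =>
      rw [map_mul]
      exact Subring.mul_mem _ ha hb
    | add a b ha hb =>
      rw [map_add]
      exact Subring.add_mem _ ha hb
  rw [eq_top_iff]
  intro a _
  obtain ⟨y, rfl⟩ := (bijective_liftApp E 𝒮.toQCAlg j hj.1 U hU).2 a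
  exact key y

/-- base change of a projective bundle with its `O(1)` -/
theorem exists_baseChange {Y Y' : Scheme.{u}} (ψ : Y' ⟶ Y) (E : Y.Modules) (hE : Coh.IsQCoh E)
    (𝒮 : RelProj.QCGrAlg Y) (j : E ⟶ 𝒮.toModule) (hj : RelProj.IsGrSymAlg E 𝒮 j)
    {P : Scheme.{u}} (p : P ⟶ Y)
    (chart : ∀ (U : Y.Opens) (hU : IsAffineOpen U),
      (((p ⁻¹ᵁ U : P.Opens) : Scheme.{u}) ≅ Proj (𝒮.deg U hU)))
    (hP : RelProj.IsRelProj 𝒮 p chart) (O1 : P.Modules)
    (lam : ∀ (U : Y.Opens) (hU : IsAffineOpen U),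
      O1 ⟶ (Scheme.Modules.pushforward (RelProj.emb p chart U hU)).obj
        (GrTwist.twist (𝒮.deg U hU) 1))
    (hO1 : RelProj.IsRelTwist 𝒮 p chart 1 O1 lam) :
    ∃ (E' : Y'.Modules) (_ : Coh.IsQCoh E') (𝒮' : RelProj.QCGrAlg Y') (j' : E' ⟶ 𝒮'.toModule)
      (_ : RelProj.IsGrSymAlg E' 𝒮' j') (P' : Scheme.{u}) (p' : P' ⟶ Y')
      (chart' : ∀ (U : Y'.Opens) (hU : IsAffineOpen U),
        (((p' ⁻¹ᵁ U : P'.Opens) : Scheme.{u}) ≅ Proj (𝒮'.deg U hU)))
      (_ : RelProj.IsRelProj 𝒮' p' chart') (O1' : P'.Modules)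
      (lam' : ∀ (U : Y'.Opens) (hU : IsAffineOpen U),
        O1' ⟶ (Scheme.Modules.pushforward (RelProj.emb p' chart' U hU)).obj
          (GrTwist.twist (𝒮'.deg U hU) 1))
      (_ : RelProj.IsRelTwist 𝒮' p' chart' 1 O1' lam') (h : P' ⟶ P),
      IsPullback h p' p ψ ∧ Nonempty ((Scheme.Modules.pullback h).obj O1 ≅ O1') := by
  haveI : E.IsQuasicoherent := hE
  haveI hE' : ((Scheme.Modules.pullback ψ).obj E).IsQuasicoherent := inferInstance
  obtain ⟨P', p', chart', hP'⟩ :=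
    Groth.Agent.S8258.result (grSymAlg ((Scheme.Modules.pullback ψ).obj E))
  have hj' := isGrSymAlg ((Scheme.Modules.pullback ψ).obj E)
  have hu := SymProjPullback.isQBaseChange_uGr ψ E 𝒮 j hj
    (grSymAlg ((Scheme.Modules.pullback ψ).obj E)) (SymSheaf.j _) hj'
  obtain ⟨h, hh⟩ := RelProjQMap.exists_isProjQMap ψ 𝒮 _
    (SymProjPullback.uGr ψ E 𝒮 j hj (grSymAlg ((Scheme.Modules.pullback ψ).obj E))
      (SymSheaf.j _) hj') hu p chart hP p' chart' hP'
  have hpb := RelProjQMap.isPullback_of_isProjQMap ψ 𝒮 _ _ hu p chart hP p' chart' hP' h hh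
  have hc := RelProjQMap.isChartMap_of_isProjQMap ψ 𝒮 _ _
    (RelProjQMap.irr_of_isQBaseChange ψ 𝒮 _ _ hu) p chart p' chart' h hh
  refine ⟨_, hE', _, _, hj', P', p', chart', hP', RelTwistExists.L _ p' chart' hP' 1,
    RelTwistExists.lam _ p' chart' hP' 1, RelTwistExists.isRelTwist _ p' chart' hP' 1, h, hpb, ?_⟩
  exact TwistBC2.nonempty_pullback_iso _ _ _ p chart hP p' chart' hP' h hc
    (isGenDegOne_of_isGrSymAlg E 𝒮 j hj) 1 O1 lam hO1 _ _
    (RelTwistExists.isRelTwist _ p' chart' hP' 1)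

end Groth.Agent.H41.VABaseChange
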