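import Groth.Agent.H41.ProjBiprod
import Groth.Agent.H41.CoprodModIso
import Groth.Agent.H41.GrSymLift
import Groth.Agent.H41.RelTwistPullSurj
import Groth.Agent.H41.RelTwistExists
import Groth.Agent.S8258
import Groth.Agent.S8262

/-!
# Relative very ampleness on a disjoint union (helper41)
-/

set_option autoImplicit false
universe u

open CategoryTheory CategoryTheory.Limits AlgebraicGeometry TopologicalSpace Opposite
open scoped HomogeneousIdeal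

namespace Groth.Agent.H41.VACoprod

open RelSpec Groth.Agent.H41.SymSheaf Groth.Agent.H41.GrSymSheaf Groth.Agent.H41.GrSymLift

/-- composing with an immersion preserves relative very ampleness -/
theorem isRelVeryAmple_comp_immersion {X Y Z : Scheme.{u}} (f : X ⟶ Y) (L : X.Modules)
    (h : RelProj.IsRelVeryAmple f L) (k : Z ⟶ X) [IsImmersion k] :
    RelProj.IsRelVeryAmple (k ≫ f) ((Scheme.Modules.pullback k).obj L) := by
  obtain ⟨E, hE, 𝒮, j, hj, P, p, chart, hP, O1, lam, hO1, i, hi, hip, ⟨e⟩⟩ := h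
  haveI := hi
  refine ⟨E, hE, 𝒮, j, hj, P, p, chart, hP, O1, lam, hO1, k ≫ i, inferInstance, ?_, ⟨?_⟩⟩
  · rw [Category.assoc, hip]
  · exact (Scheme.Modules.pullback k).mapIso e ≪≫ (Scheme.Modules.pullbackComp k i).app O1

section irr

variable {Y : Scheme.{u}} {𝒜 ℬ : RelProj.QCGrAlg Y} (φ : 𝒜.toQCAlg ⟶ ℬ.toQCAlg)
  (hφ : RelProj.IsGradedHom φ)

/-- a graded homomorphism which is surjective over the affine opens satisfies the condition on irrelevant ideals -/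
theorem irr_of_surjective
    (hs : ∀ (U : Y.Opens) (_ : IsAffineOpen U), Function.Surjective (φ.hom.app (op U)).hom)
    (U : Y.Opens) (hU : IsAffineOpen U) :
    (ℬ.deg U hU)₊ ≤ ((𝒜.deg U hU)₊).map (RelProj.gradedHomAt φ hφ U hU) := by
  rw [HomogeneousIdeal.irrelevant_le]
  intro i hi b hb
  obtain ⟨a, ha, rfl⟩ := ProjGen.gradedRingHom_surjective_on_pieces
    (RelProj.gradedHomAt φ hφ U hU) (hs U hU) i b hb
  exact Ideal.mem_map_of_mem _ (HomogeneousIdeal.mem_irrelevant_of_mem _ hi ha)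

end irr

/-- `P(E) ⨿ P(E') ⟶ P(E ⊕ E')` with the pullbacks of `O(1)` -/
theorem exists_biprod_embedding {Y : Scheme.{u}} (E E' : Y.Modules) (hE : Coh.IsQCoh E)
    (hE' : Coh.IsQCoh E')
    (𝒮 : RelProj.QCGrAlg Y) (j : E ⟶ 𝒮.toModule) (hj : RelProj.IsGrSymAlg E 𝒮 j)
    (𝒮' : RelProj.QCGrAlg Y) (j' : E' ⟶ 𝒮'.toModule) (hj' : RelProj.IsGrSymAlg E' 𝒮' j')
    {P P' : Scheme.{u}} (p : P ⟶ Y) (p' : P' ⟶ Y)
    (chart : ∀ (U : Y.Opens) (hU : IsAffineOpen U),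
      (((p ⁻¹ᵁ U : P.Opens) : Scheme.{u}) ≅ Proj (𝒮.deg U hU)))
    (chart' : ∀ (U : Y.Opens) (hU : IsAffineOpen U),
      (((p' ⁻¹ᵁ U : P'.Opens) : Scheme.{u}) ≅ Proj (𝒮'.deg U hU)))
    (hP : RelProj.IsRelProj 𝒮 p chart) (hP' : RelProj.IsRelProj 𝒮' p' chart')
    (O1 : P.Modules)
    (lam : ∀ (U : Y.Opens) (hU : IsAffineOpen U),
      O1 ⟶ (Scheme.Modules.pushforward (RelProj.emb p chart U hU)).obj
        (GrTwist.twist (𝒮.deg U hU) 1))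
    (hO1 : RelProj.IsRelTwist 𝒮 p chart 1 O1 lam)
    (O1' : P'.Modules)
    (lam' : ∀ (U : Y.Opens) (hU : IsAffineOpen U),
      O1' ⟶ (Scheme.Modules.pushforward (RelProj.emb p' chart' U hU)).obj
        (GrTwist.twist (𝒮'.deg U hU) 1))
    (hO1' : RelProj.IsRelTwist 𝒮' p' chart' 1 O1' lam') :
    ∃ (F : Y.Modules) (_ : Coh.IsQCoh F) (𝒯 : RelProj.QCGrAlg Y) (jT : F ⟶ 𝒯.toModule)
      (_ : RelProj.IsGrSymAlg F 𝒯 jT) (PT : Scheme.{u}) (pT : PT ⟶ Y)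
      (chartT : ∀ (U : Y.Opens) (hU : IsAffineOpen U),
        (((pT ⁻¹ᵁ U : PT.Opens) : Scheme.{u}) ≅ Proj (𝒯.deg U hU)))
      (_ : RelProj.IsRelProj 𝒯 pT chartT) (O1T : PT.Modules)
      (lamT : ∀ (U : Y.Opens) (hU : IsAffineOpen U),
        O1T ⟶ (Scheme.Modules.pushforward (RelProj.emb pT chartT U hU)).obj
          (GrTwist.twist (𝒯.deg U hU) 1))
      (_ : RelProj.IsRelTwist 𝒯 pT chartT 1 O1T lamT) (k : P ⟶ PT) (k' : P' ⟶ PT),
      k ≫ pT = p ∧ k' ≫ pT = p' ∧ IsClosedImmersion (coprod.desc k k') ∧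
        Nonempty ((Scheme.Modules.pullback k).obj O1T ≅ O1) ∧
        Nonempty ((Scheme.Modules.pullback k').obj O1T ≅ O1') := by
  haveI : E.IsQuasicoherent := hE
  haveI : E'.IsQuasicoherent := hE'
  haveI hF : (E ⊞ E').IsQuasicoherent := Groth.Agent.H12.QCohAbelian.isQuasicoherent_biprod E E'
  obtain ⟨PT, pT, chartT, hPT⟩ := Groth.Agent.S8258.result (grSymAlg (E ⊞ E'))
  have hjT := isGrSymAlg (E ⊞ E')
  -- the two projections
  have hφ : ∀ (U : Y.Opens) (hU : IsAffineOpen U) (x : Γ(E ⊞ E', U)),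
      ((biprod.fst ≫ j : E ⊞ E' ⟶ 𝒮.toModule).app U) x ∈ 𝒮.deg U hU 1 :=
    fun U hU x => hj.2 U hU _
  have hφ' : ∀ (U : Y.Opens) (hU : IsAffineOpen U) (x : Γ(E ⊞ E', U)),
      ((biprod.snd ≫ j' : E ⊞ E' ⟶ 𝒮'.toModule).app U) x ∈ 𝒮'.deg U hU 1 :=
    fun U hU x => hj'.2 U hU _
  have hπ := isGradedHom_glift (E ⊞ E') 𝒮 (biprod.fst ≫ j) hφ
  have hπ' := isGradedHom_glift (E ⊞ E') 𝒮' (biprod.snd ≫ j') hφ'
  have hjπ := j_glift (E ⊞ E') 𝒮 (biprod.fst ≫ j)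
  have hjπ' := j_glift (E ⊞ E') 𝒮' (biprod.snd ≫ j')
  have hirr := irr_of_surjective (glift (E ⊞ E') 𝒮 (biprod.fst ≫ j)) hπ
    (ProjBiprod.surjective_πE E E' 𝒮 (grSymAlg (E ⊞ E')) j hj (SymSheaf.j (E ⊞ E')) _ hjπ)
  have hirr' := irr_of_surjective (glift (E ⊞ E') 𝒮' (biprod.snd ≫ j')) hπ'
    (ProjBiprod.surjective_πF E E' 𝒮' (grSymAlg (E ⊞ E')) j' hj' (SymSheaf.j (E ⊞ E')) _ hjπ')
  obtain ⟨⟨k, hk, -⟩, hcomp⟩ := Groth.Agent.S8262.result (glift (E ⊞ E') 𝒮 (biprod.fst ≫ j)) hπ hirr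
    pT p chartT chart hPT hP
  obtain ⟨⟨k', hk', -⟩, hcomp'⟩ := Groth.Agent.S8262.result (glift (E ⊞ E') 𝒮' (biprod.snd ≫ j'))
    hπ' hirr' pT p' chartT chart' hPT hP'
  refine ⟨E ⊞ E', hF, grSymAlg (E ⊞ E'), SymSheaf.j (E ⊞ E'), hjT, PT, pT, chartT, hPT,
    RelTwistExists.L _ pT chartT hPT 1, RelTwistExists.lam _ pT chartT hPT 1,
    RelTwistExists.isRelTwist _ pT chartT hPT 1, k, k', hcomp k hk, hcomp' k' hk', ?_, ?_, ?_⟩
  · exact ProjBiprod.isClosedImmersion_desc E E' 𝒮 𝒮' (grSymAlg (E ⊞ E')) j hj j' hj'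
      (SymSheaf.j (E ⊞ E')) hjT _ hπ hjπ _ hπ' hjπ' hirr hirr' pT p p' chartT chart chart'
      hPT hP hP' k hk k' hk'
  · exact RelTwistPullSurj.nonempty_pullback_iso _ hπ (isGenDegOne (E ⊞ E')) hirr pT p chartT chart
      hPT hP k hk 1 _ _ (RelTwistExists.isRelTwist _ pT chartT hPT 1) O1 lam hO1
  · exact RelTwistPullSurj.nonempty_pullback_iso _ hπ' (isGenDegOne (E ⊞ E')) hirr' pT p' chartT
      chart' hPT hP' k' hk' 1 _ _ (RelTwistExists.isRelTwist _ pT chartT hPT 1) O1' lam' hO1'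

end Groth.Agent.H41.VACoprod
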