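import Groth.Agent.H41.DegProj
import Groth.Agent.H41.GrSymLift
import Groth.Agent.H41.GenDegOne
import Groth.Agent.H41.RelTwistPullSurj
import Groth.Agent.H41.RelTwistExists
import Groth.Agent.H12.AlgGen
import Groth.Agent.S8258
import Groth.Agent.S8262
import Groth.Agent.S8292

/-!
# An immersion into `Proj 𝒮`, `𝒮` generated in degree one, makes the pullback of `O(1)` very ample (helper41)

`Sym(𝒮) → 𝒮` extending the projection of `𝒮` onto `𝒮_1` induces a closed immersion `Proj 𝒮 → P(𝒮)` under which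
`O(1)` pulls back to `O(1)`.
-/

set_option autoImplicit false
universe u

open CategoryTheory CategoryTheory.Limits AlgebraicGeometry TopologicalSpace Opposite
open scoped HomogeneousIdeal

namespace Groth.Agent.H41.VAGenDegOne

open RelSpec Groth.Agent.H41.SymSheaf Groth.Agent.H41.GrSymSheaf Groth.Agent.H41.GrSymLift

variable {Y : Scheme.{u}} (𝒮 : RelProj.QCGrAlg Y)

instance isQuasicoherent_toModule : 𝒮.toModule.IsQuasicoherent :=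
  Groth.Agent.H12.AlgGen.isQuasicoherent_toModule 𝒮.toQCAlg

/-- the projection onto the degree one part -/
noncomputable abbrev u : 𝒮.toModule ⟶ 𝒮.toModule := DegProj.proj 𝒮 1

theorem u_mem (U : Y.Opens) (hU : IsAffineOpen U) (x : Γ(𝒮.toModule, U)) :
    ((u 𝒮).app U) x ∈ 𝒮.deg U hU 1 := by
  rw [DegProj.proj_app 𝒮 1 U hU]
  exact DegProj.projFun_mem 𝒮 1 ⟨U, hU⟩ x

theorem u_of_mem (U : Y.Opens) (hU : IsAffineOpen U) (s : 𝒮.presheaf.obj (op U))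
    (hs : s ∈ 𝒮.deg U hU 1) : ((u 𝒮).app U) s = s := by
  rw [DegProj.proj_app 𝒮 1 U hU]
  exact DegProj.projFun_of_mem 𝒮 1 ⟨U, hU⟩ hs

/-- the graded symmetric algebra of `𝒮` as a module -/
noncomputable abbrev T : RelProj.QCGrAlg Y := grSymAlg 𝒮.toModule

/-- `Sym(𝒮) ⟶ 𝒮` -/
noncomputable abbrev ubar : (T 𝒮).toQCAlg ⟶ 𝒮.toQCAlg := glift 𝒮.toModule 𝒮 (u 𝒮)

theorem hubar : RelProj.IsGradedHom (ubar 𝒮) :=
  isGradedHom_glift 𝒮.toModule 𝒮 (u 𝒮) (u_mem 𝒮)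

theorem hirr (hgen : 𝒮.IsGenDegOne) (U : Y.Opens) (hU : IsAffineOpen U) :
    (𝒮.deg U hU)₊ ≤ (((T 𝒮).deg U hU)₊).map (RelProj.gradedHomAt (ubar 𝒮) (hubar 𝒮) U hU) := by
  rw [HomogeneousIdeal.irrelevant_le]
  intro i hi b hb
  change b ∈ Ideal.map (RelProj.gradedHomAt (ubar 𝒮) (hubar 𝒮) U hU) (((T 𝒮).deg U hU)₊).toIdeal
  have hb' : b ∈ 𝒮.deg U hU i := hb
  have h1 : b ∈ ((𝒮.deg U hU)₊).toIdeal := HomogeneousIdeal.mem_irrelevant_of_mem _ hi hb'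
  have h2 := GenDegOne.irrelevant_le_span_degOne (hgen U hU) h1
  refine (Ideal.span_le.mpr ?_) h2
  intro s hs
  have hs' : s ∈ 𝒮.deg U hU 1 := hs
  have h3 : RelProj.gradedHomAt (ubar 𝒮) (hubar 𝒮) U hU (jU 𝒮.toModule U hU s) = s := by
    change ((ubar 𝒮).hom.app (op U)).hom (jU 𝒮.toModule U hU s) = s
    rw [glift_jU]
    exact u_of_mem 𝒮 U hU s hs'
  rw [← h3]
  exact Ideal.mem_map_of_mem _
    (HomogeneousIdeal.mem_irrelevant_of_mem _ one_pos (jU_mem_deg 𝒮.toModule U hU s))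

theorem isRelVeryAmple {X P : Scheme.{u}} (q : X ⟶ Y) (L : X.Modules)
    (h𝒮 : 𝒮.IsGenDegOne) (p : P ⟶ Y)
    (chart : ∀ (U : Y.Opens) (hU : IsAffineOpen U),
      ((p ⁻¹ᵁ U : P.Opens) : Scheme.{u}) ≅ Proj (𝒮.deg U hU))
    (hP : RelProj.IsRelProj 𝒮 p chart) (O1 : P.Modules)
    (lam : ∀ (U : Y.Opens) (hU : IsAffineOpen U),
      O1 ⟶ (Scheme.Modules.pushforward (RelProj.emb p chart U hU)).obj
        (GrTwist.twist (𝒮.deg U hU) 1))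
    (hO1 : RelProj.IsRelTwist 𝒮 p chart 1 O1 lam) (i : X ⟶ P) [IsImmersion i] (hi : i ≫ p = q)
    (e : L ≅ (Scheme.Modules.pullback i).obj O1) : RelProj.IsRelVeryAmple q L := by
  obtain ⟨PT, pT, chartT, hPT⟩ := Groth.Agent.S8258.result (T 𝒮)
  obtain ⟨⟨h, hh, -⟩, hcomp⟩ := Groth.Agent.S8262.result (ubar 𝒮) (hubar 𝒮) (hirr 𝒮 h𝒮)
    pT p chartT chart hPT hP
  have hcl : IsClosedImmersion h :=
    Groth.Agent.S8292.result 𝒮 (T 𝒮) h𝒮 𝒮.toModule (isQuasicoherent_toModule 𝒮) (u 𝒮) (u_mem 𝒮)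
      (fun U hU s hs => ⟨s, u_of_mem 𝒮 U hU s hs⟩) (j 𝒮.toModule) (isGrSymAlg 𝒮.toModule)
      (ubar 𝒮) (hubar 𝒮) (j_glift 𝒮.toModule 𝒮 (u 𝒮)) (hirr 𝒮 h𝒮) pT p chartT chart hPT hP h hh
  obtain ⟨τ⟩ := RelTwistPullSurj.nonempty_pullback_iso (ubar 𝒮) (hubar 𝒮)
    (isGenDegOne 𝒮.toModule) (hirr 𝒮 h𝒮) pT p chartT chart hPT hP h hh 1
    (RelTwistExists.L (T 𝒮) pT chartT hPT 1) (RelTwistExists.lam (T 𝒮) pT chartT hPT 1)
    (RelTwistExists.isRelTwist (T 𝒮) pT chartT hPT 1) O1 lam hO1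
  refine ⟨𝒮.toModule, isQuasicoherent_toModule 𝒮, T 𝒮, j 𝒮.toModule, isGrSymAlg 𝒮.toModule,
    PT, pT, chartT, hPT, RelTwistExists.L (T 𝒮) pT chartT hPT 1,
    RelTwistExists.lam (T 𝒮) pT chartT hPT 1, RelTwistExists.isRelTwist (T 𝒮) pT chartT hPT 1,
    i ≫ h, inferInstance, ?_, ⟨?_⟩⟩
  · rw [Category.assoc, hcomp h hh, hi]
  · exact e ≪≫ (Scheme.Modules.pullback i).mapIso τ.symm ≪≫
      (Scheme.Modules.pullbackComp i h).app _

end Groth.Agent.H41.VAGenDegOne
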