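import Groth.Agent.H41.CanonMap
import Groth.Agent.H41.GrSymSheaf
import Groth.Agent.H41.GenDegOne
import Groth.Agent.H41.IsoOfBases
import Groth.Agent.H41.RelTwistExists
import Groth.Agent.H67.PullBasis
import Groth.Agent.H18.STL.Invertible
import Groth.Agent.H18.STL.QuasiAffine
import Groth.Agent.S8258
import Groth.Agent.S12143

/-!
# On the projective bundle of an invertible module `L`, `O(1)` is the pullback of `L` (helper41)
-/

set_option autoImplicit false
universe u

open CategoryTheory CategoryTheory.Limits AlgebraicGeometry TopologicalSpace Opposite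
open scoped HomogeneousIdeal

namespace Groth.Agent.H41.VAId

open RelSpec Groth.Agent.H18 Groth.Agent.H18.PUP Groth.Agent.H41.SymSheaf Groth.Agent.H41.GrSymSheaf
  Groth.Agent.H41.SymGrading Groth.Agent.H41.RelTwistTriv

variable {Y : Scheme.{u}} (L : Y.Modules) [L.IsQuasicoherent]

theorem exists_eq_jU (U : Y.Opens) (hU : IsAffineOpen U) (x : (symAlg L).presheaf.obj (op U))
    (hx : x ∈ deg L U hU 1) : ∃ e : Γ(L, U), x = jU L U hU e := by
  have h1 := (mem_deg L U hU).mp hx
  unfold symDeg at h1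
  rw [pow_one] at h1
  obtain ⟨e, he⟩ := h1
  refine ⟨e, ?_⟩
  apply gam_injective L U hU
  rw [gam_jU, he]

/-- a basis of `L` over an affine open gives a degree one element vanishing nowhere on `Proj` -/
theorem jU_notMem (U : Y.Opens) (hU : IsAffineOpen U) (t : Γ(L, U)) (ht : IsBasisOn L U t)
    (z : ProjectiveSpectrum ((grSymAlg L).deg U hU)) :
    jU L U hU t ∉ z.asHomogeneousIdeal := by
  intro hz
  apply z.not_irrelevant_le
  intro x hx
  have h1 := GenDegOne.irrelevant_le_span_degOne (isGenDegOne L U hU) hx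
  refine (Ideal.span_le.mpr ?_) h1
  intro s hs
  obtain ⟨e, rfl⟩ := exists_eq_jU L U hU s hs
  obtain ⟨a, ha⟩ := (ht U le_rfl).2 e
  simp only [mres_self] at ha
  rw [← ha, jU_smul]
  exact Ideal.mul_mem_left _ _ hz

section bundle

variable {PL : Scheme.{u}} (pL : PL ⟶ Y)
  (chart : ∀ (U : Y.Opens) (hU : IsAffineOpen U),
    (((pL ⁻¹ᵁ U : PL.Opens) : Scheme.{u}) ≅ Proj ((grSymAlg L).deg U hU)))
  (hP : RelProj.IsRelProj (grSymAlg L) pL chart) (O1 : PL.Modules)
  (lam : ∀ (U : Y.Opens) (hU : IsAffineOpen U),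
    O1 ⟶ (Scheme.Modules.pushforward (RelProj.emb pL chart U hU)).obj
      (GrTwist.twist ((grSymAlg L).deg U hU) 1))
  (hO1 : RelProj.IsRelTwist (grSymAlg L) pL chart 1 O1 lam)

theorem h01 : ((1 : ℕ) : ℤ) = ((0 : ℕ) : ℤ) + 1 := by simp

/-- the canonical map `L ⟶ p_* O(1)` -/
noncomputable abbrev φ : L ⟶ (Scheme.Modules.pushforward pL).obj O1 :=
  CanonMap.phi (grSymAlg L) pL chart hP 1 O1 lam hO1 1 h01 L (j L) (isGrSymAlg L).2

include hP hO1 in
/-- the adjoint `p^* L ⟶ O(1)` of the canonical map is an isomorphism when `L` is invertible -/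
theorem isIso_adj (hL : PicF.IsInvertible L) :
    IsIso (((Scheme.Modules.pullbackPushforwardAdjunction pL).homEquiv L O1).symm
      (φ L pL chart hP O1 lam hO1)) := by
  set adj := Scheme.Modules.pullbackPushforwardAdjunction pL with hadj
  set ψ := (adj.homEquiv L O1).symm (φ L pL chart hP O1 lam hO1) with hψ
  have hφψ : φ L pL chart hP O1 lam hO1 =
      adj.unit.app L ≫ (Scheme.Modules.pushforward pL).map ψ := by
    have h1 := adj.homEquiv_unit (X := L) (Y := O1) (f := ψ)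
    rw [← h1, hψ, Equiv.apply_symm_apply]
  refine IsoOfBases.isIso_of_local_bases ψ fun x => ?_
  obtain ⟨U₀, t₀, hxU₀, ht₀⟩ := STL.exists_basis_of_isInvertible hL (pL x)
  obtain ⟨_, ⟨U, hU : IsAffineOpen U, rfl⟩, hxU, hUU₀⟩ :=
    Y.isBasis_affineOpens.exists_subset_of_mem_open hxU₀ U₀.2
  have hUU₀' : U ≤ U₀ := hUU₀
  have ht : IsBasisOn L U (mres L hUU₀' t₀) := ht₀.mono hUU₀'
  set t := mres L hUU₀' t₀ with ht_def
  have hbP := Groth.Agent.H67.PullBasis.isBasisOn_pullSect pL L U t ht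
  refine ⟨pL ⁻¹ᵁ U, OmegaSh.pullSect pL L U t, hxU, hbP, ?_⟩
  have hu : ψ.app _ (OmegaSh.pullSect pL L U t) = (φ L pL chart hP O1 lam hO1).app U t := by
    rw [hφψ]
    rfl
  rw [hu]
  obtain ⟨g, hg, hg1⟩ : ∃ g : (grSymAlg L).presheaf.obj (op U),
      g = jU L U hU t ∧ g ∈ (grSymAlg L).deg U hU 1 := ⟨_, rfl, jU_mem_deg L U hU t⟩
  have hone_mem : (1 : (grSymAlg L).presheaf.obj (op U)) ∈ (grSymAlg L).deg U hU 0 :=
    SetLike.GradedOne.one_mem
  have hσ : (lam U hU).app (pL ⁻¹ᵁ U) ((φ L pL chart hP O1 lam hO1).app U t) =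
      GrTwistTriv.fracTw ((grSymAlg L).deg U hU) hg1 hone_mem h01
        ((RelProj.emb pL chart U hU) ⁻¹ᵁ (pL ⁻¹ᵁ U)) (CanonMap.one_notMem' _) := by
    apply GrTwistTriv.twist_sect_ext
    intro z
    refine (CanonMap.phi_val (grSymAlg L) pL chart hP 1 O1 lam hO1 1 h01 L (j L) (isGrSymAlg L).2
      U hU t z).trans ?_
    rw [← Localization.mk_one_eq_algebraMap]
    have : ((j L).app U) t = g := (j_app_affine L U hU t).trans hg.symm
    exact congrArg (fun a : (grSymAlg L).presheaf.obj (op U) =>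
      (Localization.mk a 1 : GrTwist.Loc ((grSymAlg L).deg U hU) z.1)) this
  intro V hV
  exact bijective_smul_of_lam_eq (grSymAlg L) pL chart 1 O1 lam hO1 U hU hg1 hone_mem h01
    (pL ⁻¹ᵁ U) le_rfl (fun z _ => hg ▸ jU_notMem L U hU t ht z) (CanonMap.one_notMem' _)
    ((φ L pL chart hP O1 lam hO1).app U t) hσ V hV

end bundle

/-- An invertible module on `Y` is very ample relative to the identity. -/
theorem isRelVeryAmple_id (Y : Scheme.{u}) (L : Y.Modules) (hL : PicF.IsInvertible L) :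
    RelProj.IsRelVeryAmple (𝟙 Y) L := by
  haveI hLq : L.IsQuasicoherent := STL.isQuasicoherent_of_isInvertible hL
  obtain ⟨PL, pL, chart, hP⟩ := Groth.Agent.S8258.result (grSymAlg L)
  haveI : IsIso pL :=
    Groth.Agent.S12143.result L hL hLq (grSymAlg L) (j L) (isGrSymAlg L) pL chart hP
  have hiso := isIso_adj L pL chart hP (RelTwistExists.L (grSymAlg L) pL chart hP 1)
    (RelTwistExists.lam (grSymAlg L) pL chart hP 1)
    (RelTwistExists.isRelTwist (grSymAlg L) pL chart hP 1) hL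
  refine ⟨L, hLq, grSymAlg L, j L, isGrSymAlg L, PL, pL, chart, hP,
    RelTwistExists.L (grSymAlg L) pL chart hP 1, RelTwistExists.lam (grSymAlg L) pL chart hP 1,
    RelTwistExists.isRelTwist (grSymAlg L) pL chart hP 1, inv pL, inferInstance,
    IsIso.inv_hom_id pL, ⟨?_⟩⟩
  exact (Scheme.Modules.pullbackId Y).symm.app L ≪≫
    (Scheme.Modules.pullbackCongr (IsIso.inv_hom_id pL)).symm.app L ≪≫
    (Scheme.Modules.pullbackComp (inv pL) pL).symm.app L ≪≫
    (Scheme.Modules.pullback (inv pL)).mapIso (@asIso _ _ _ _ _ hiso)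

end Groth.Agent.H41.VAId
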