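import Groth.Agent.H41.IrrLocal
import Groth.Agent.H41.SymInvO1
import Groth.Agent.H41.VABaseChange
import Groth.Agent.H41.VAGenDegOne
import Groth.Agent.H41.RelPMap2
import Groth.Agent.S12143

/-!
# `r_{L,ψ}` an immersion and `𝒜` generated in degree one: `L` is very ample (library form of S12691) (helper41)
-/

set_option autoImplicit false
universe u
open CategoryTheory CategoryTheory.Limits AlgebraicGeometry TopologicalSpace Opposite
open scoped HomogeneousIdeal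
noncomputable section

namespace Groth.Agent.H41.VAOfImm

theorem isRelVeryAmple_of_immersion {X Y P PL : Scheme.{u}} (f : X ⟶ Y) [QuasiCompact f]
    (L : X.Modules) (hL : PicF.IsInvertible L) (hLq : Coh.IsQCoh L)
    (𝒮L : RelProj.QCGrAlg X) (jL : L ⟶ 𝒮L.toModule) (hjL : RelProj.IsGrSymAlg L 𝒮L jL)
    (pL : PL ⟶ X) (chartL : ∀ (U : X.Opens) (hU : IsAffineOpen U), (((pL ⁻¹ᵁ U : PL.Opens) : Scheme.{u}) ≅ Proj (𝒮L.deg U hU)))
    (hPL : RelProj.IsRelProj 𝒮L pL chartL)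
    (𝒜 : RelProj.QCGrAlg Y) (h1 : 𝒜.IsGenDegOne)
    (u : RelProj.QGrHom f 𝒜 𝒮L)
    (hsurj : ∀ x : X, ∃ (U : Y.Opens) (hU : IsAffineOpen U) (e : 𝒜.presheaf.obj (op U)) (_ : e ∈ 𝒜.deg U hU 1)
        (V : X.Opens) (hV : IsAffineOpen V) (hVU : V ≤ f ⁻¹ᵁ U), x ∈ V ∧
          ((𝒮L.deg V hV 1 : AddSubgroup (𝒮L.presheaf.obj (op V))) : Set (𝒮L.presheaf.obj (op V))) ⊆
            (Ideal.span {(u.appLE U V hVU).hom e} : Set (𝒮L.presheaf.obj (op V))))
    (p : P ⟶ Y) (chart : ∀ (U : Y.Opens) (hU : IsAffineOpen U), (((p ⁻¹ᵁ U : P.Opens) : Scheme.{u}) ≅ Proj (𝒜.deg U hU)))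
    (hP : RelProj.IsRelProj 𝒜 p chart)
    (r : ((RelProj.domQ u pL chartL : PL.Opens) : Scheme.{u}) ⟶ P)
    (hr : RelProj.IsProjQMapOn u p chart pL chartL (RelProj.domQ u pL chartL) r)
    (himm : IsImmersion r) :
    RelProj.IsRelVeryAmple f L := by
  haveI : L.IsQuasicoherent := hLq
  have hgenL : 𝒮L.IsGenDegOne :=
    Groth.Agent.H41.VABaseChange.isGenDegOne_of_isGrSymAlg L 𝒮L jL hjL
  have hirr := Groth.Agent.H41.IrrLocal.irr_of_local f 𝒜 𝒮L u hsurj hgenL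
  have hdom : RelProj.domQ u pL chartL = ⊤ :=
    Groth.Agent.H41.RelProjQMap.domQ_eq_top f 𝒜 𝒮L u hirr pL chartL
  haveI : IsIso pL := Groth.Agent.S12143.result L hL hLq 𝒮L jL hjL pL chartL hPL
  haveI hι : IsIso (RelProj.domQ u pL chartL).ι :=
    isIso_of_isOpenImmersion_of_opensRange_eq_top _ (by rw [Scheme.Opens.opensRange_ι, hdom])
  obtain ⟨h, hh_def⟩ : ∃ h : PL ⟶ P, h = inv (RelProj.domQ u pL chartL).ι ≫ r := ⟨_, rfl⟩
  have hproj : RelProj.IsProjQMap u p chart pL chartL h := by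
    refine ⟨hdom, ?_⟩
    intro U hU U' hU' hle d hd a ha
    have hW := RelProj.range_awayEmb_subset_domQ u pL chartL U hU U' hU' hle hd a ha
    have := hr U hU U' hU' hle d hd a ha hW
    rw [← this, hh_def, ← Category.assoc]
    congr 1
    rw [IsIso.comp_inv_eq, IsOpenImmersion.lift_fac]
  have hchart := Groth.Agent.H41.RelProjQMap.isChartMap_of_isProjQMap f 𝒜 𝒮L u hirr p chart
    pL chartL h hproj
  obtain ⟨τ⟩ := Groth.Agent.H41.TwistBC2.nonempty_pullback_iso 𝒮L u hirr p chart hP pL chartL hPL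
    h hchart h1 1
    (Groth.Agent.H41.RelTwistExists.L 𝒜 p chart hP 1)
    (Groth.Agent.H41.RelTwistExists.lam 𝒜 p chart hP 1)
    (Groth.Agent.H41.RelTwistExists.isRelTwist 𝒜 p chart hP 1)
    (Groth.Agent.H41.RelTwistExists.L 𝒮L pL chartL hPL 1)
    (Groth.Agent.H41.RelTwistExists.lam 𝒮L pL chartL hPL 1)
    (Groth.Agent.H41.RelTwistExists.isRelTwist 𝒮L pL chartL hPL 1)
  obtain ⟨κ⟩ := Groth.Agent.H41.SymInvO1.nonempty_iso L 𝒮L jL hjL pL chartL hPL
    (Groth.Agent.H41.RelTwistExists.L 𝒮L pL chartL hPL 1)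
    (Groth.Agent.H41.RelTwistExists.lam 𝒮L pL chartL hPL 1)
    (Groth.Agent.H41.RelTwistExists.isRelTwist 𝒮L pL chartL hPL 1) hL
  haveI : IsImmersion h := by
    rw [hh_def]
    infer_instance
  have hi : (inv pL ≫ h) ≫ p = f := by
    have := Groth.Agent.H41.RelPMap2.comp_p u p chart hP pL chartL hPL r hr
    rw [hh_def, Category.assoc, Category.assoc, this, IsIso.inv_hom_id_assoc,
      IsIso.inv_hom_id_assoc]
  refine Groth.Agent.H41.VAGenDegOne.isRelVeryAmple 𝒜 f L h1 p chart hP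
    (Groth.Agent.H41.RelTwistExists.L 𝒜 p chart hP 1)
    (Groth.Agent.H41.RelTwistExists.lam 𝒜 p chart hP 1)
    (Groth.Agent.H41.RelTwistExists.isRelTwist 𝒜 p chart hP 1) (inv pL ≫ h) hi ?_
  exact (Scheme.Modules.pullbackId X).symm.app L ≪≫
    (Scheme.Modules.pullbackCongr (IsIso.inv_hom_id pL)).symm.app L ≪≫
    (Scheme.Modules.pullbackComp (inv pL) pL).symm.app L ≪≫
    (Scheme.Modules.pullback (inv pL)).mapIso (κ ≪≫ τ.symm) ≪≫
    (Scheme.Modules.pullbackComp (inv pL) h).app _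



end Groth.Agent.H41.VAOfImm
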